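import Mathlib.AlgebraicGeometry.FunctionField
import Mathlib.AlgebraicGeometry.ResidueField
import Mathlib.AlgebraicGeometry.Morphisms.QuasiFinite
import Mathlib.AlgebraicGeometry.Morphisms.Finite
import Mathlib.AlgebraicGeometry.Morphisms.Flat
import Groth.Agent.Lib.RelDiv.Rank
import Mathlib.RingTheory.Algebraic.Integral

/-!
Finite dominant morphisms of integral schemes: injectivity on sections, residue fields of the generic
points as fraction fields, degree and flatness over principal charts.
-/

noncomputable section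
set_option autoImplicit false
set_option linter.style.haveILetI false
universe u

open CategoryTheory AlgebraicGeometry TopologicalSpace Opposite
open scoped nonZeroDivisors

namespace Groth.Agent.Lib.CurveFF.Dominant

variable {C Y : Scheme.{u}} [IsIntegral C] (f : C ⟶ Y)

theorem dim_le_zero_of_closed [IsFinite f] (hη : IsClosed ({f (genericPoint C)} : Set Y)) :
    topologicalKrullDim C ≤ 0 := by
  have hall : ∀ x : C, f x = f (genericPoint C) := fun x =>
    hη.closure_subset ((specializes_iff_mem_closure.1
      ((genericPoint_specializes x).map f.continuous)))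
  have hd := f.isDiscrete_preimage_singleton (f (genericPoint C))
  have hu : f ⁻¹' {f (genericPoint C)} = Set.univ := Set.eq_univ_of_forall hall
  rw [hu] at hd
  have : DiscreteTopology C := isDiscrete_univ_iff.1 hd
  exact topologicalKrullDim_zero_of_discreteTopology C

variable {f}

theorem app_injective [IsIntegral Y] (hη : f (genericPoint C) = genericPoint Y) (U : Y.Opens) :
    Function.Injective (f.app U).hom := by
  refine (injective_iff_map_eq_zero _).2 fun r hr => ?_
  by_contra h0
  have hne : Y.basicOpen r ≠ ⊥ := fun h => h0 ((basicOpen_eq_bot_iff r).1 h)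
  have hmem : f (genericPoint C) ∈ Y.basicOpen r := by
    rw [hη]
    exact ((genericPoint_spec Y).mem_open_set_iff (Y.basicOpen r).2).2
      (by simpa using Opens.ne_bot_iff_nonempty _ |>.1 hne)
  have h2 : genericPoint C ∈ f ⁻¹ᵁ Y.basicOpen r := hmem
  rw [Scheme.preimage_basicOpen, show f.app U r = 0 from hr, Scheme.basicOpen_zero] at h2
  exact h2.elim

theorem isFractionRing_residue {X : Scheme.{u}} {U : X.Opens} (hU : IsAffineOpen U) [IsDomain Γ(X, U)]
    (x : X) (hx : x ∈ U) (hinj : Function.Injective (X.evaluation U x hx).hom) :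
    letI := (X.evaluation U x hx).hom.toAlgebra
    IsFractionRing Γ(X, U) (X.residueField x) := by
  letI := (X.evaluation U x hx).hom.toAlgebra
  letI := TopCat.Presheaf.algebra_section_stalk X.presheaf (⟨x, hx⟩ : U)
  have := hU.isLocalization_stalk ⟨x, hx⟩
  haveI : FaithfulSMul Γ(X, U) (X.residueField x) :=
    (faithfulSMul_iff_algebraMap_injective _ _).2 hinj
  refine IsFractionRing.of_field _ _ fun z => ?_
  obtain ⟨s, rfl⟩ := X.residue_surjective x z
  obtain ⟨⟨a, b⟩, hab⟩ := IsLocalization.surj
    (hU.primeIdealOf ⟨x, hx⟩).asIdeal.primeCompl s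
  refine ⟨a, b, ?_⟩
  have hb : IsUnit ((X.residue x).hom (algebraMap Γ(X, U) (X.presheaf.stalk x) b)) :=
    (IsLocalization.map_units _ b).map _
  rw [eq_div_iff]
  · have h := congrArg (X.residue x).hom hab
    rw [map_mul] at h
    exact h
  · exact hb.ne_zero

theorem evaluation_generic_injective {V : C.Opens} [Nonempty V] (hV : genericPoint C ∈ V) :
    Function.Injective (C.evaluation V (genericPoint C) hV).hom := by
  let _ : Field (C.presheaf.stalk (genericPoint C)) := inferInstanceAs (Field C.functionField)
  exact (C.residue (genericPoint C)).hom.injective.comp (Scheme.germToFunctionField_injective C V)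

theorem genericPoint_mem {U : Y.Opens} [IsIntegral Y] [Nonempty U]
    (hη : f (genericPoint C) = genericPoint Y) : genericPoint C ∈ f ⁻¹ᵁ U := by
  show f (genericPoint C) ∈ U
  rw [hη]
  exact ((genericPoint_spec Y).mem_open_set_iff U.2).2 (by simpa using ‹Nonempty U›)

variable [IsIntegral Y] [IsFinite f]

theorem flat_app (hη : f (genericPoint C) = genericPoint Y) {U : Y.Opens} (hU : IsAffineOpen U)
    [Nonempty U] [IsPrincipalIdealRing Γ(Y, U)] :
    letI := (f.app U).hom.toAlgebra
    Module.Finite Γ(Y, U) Γ(C, f ⁻¹ᵁ U) ∧ Module.Free Γ(Y, U) Γ(C, f ⁻¹ᵁ U) ∧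
      (f.app U).hom.Flat ∧ Module.finrank Γ(Y, U) Γ(C, f ⁻¹ᵁ U) = f.residueDegree (genericPoint C) := by
  letI := (f.app U).hom.toAlgebra
  have hx : f (genericPoint C) ∈ U := genericPoint_mem hη
  have hxV : genericPoint C ∈ f ⁻¹ᵁ U := hx
  have : Nonempty (f ⁻¹ᵁ U : C.Opens) := ⟨⟨_, hxV⟩⟩
  have : Module.Finite Γ(Y, U) Γ(C, f ⁻¹ᵁ U) := RingHom.finite_algebraMap.mp (f.finite_app U hU)
  haveI : FaithfulSMul Γ(Y, U) Γ(C, f ⁻¹ᵁ U) :=
    (faithfulSMul_iff_algebraMap_injective _ _).2 (app_injective hη U)
  have : Module.Free Γ(Y, U) Γ(C, f ⁻¹ᵁ U) := Module.free_of_finite_type_torsion_free'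
  refine ⟨inferInstance, this, RingHom.flat_algebraMap_iff.2 inferInstance, ?_⟩
  letI := (f.residueFieldMap (genericPoint C)).hom.toAlgebra
  letI := (Y.evaluation U (f (genericPoint C)) hx).hom.toAlgebra
  letI := (C.evaluation (f ⁻¹ᵁ U) (genericPoint C) hxV).hom.toAlgebra
  letI : Algebra Γ(Y, U) (C.residueField (genericPoint C)) :=
    ((algebraMap Γ(C, f ⁻¹ᵁ U) (C.residueField (genericPoint C))).comp
      (algebraMap Γ(Y, U) Γ(C, f ⁻¹ᵁ U))).toAlgebra
  haveI : IsScalarTower Γ(Y, U) Γ(C, f ⁻¹ᵁ U) (C.residueField (genericPoint C)) :=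
    IsScalarTower.of_algebraMap_eq fun _ => rfl
  haveI : IsScalarTower Γ(Y, U) (Y.residueField (f (genericPoint C)))
      (C.residueField (genericPoint C)) :=
    IsScalarTower.of_algebraMap_eq fun r => (Scheme.evaluation_naturality_apply f (genericPoint C) hx r).symm
  have hinjC := evaluation_generic_injective (C := C) hxV
  haveI := isFractionRing_residue (hU.preimage f) (genericPoint C) hxV hinjC
  haveI := isFractionRing_residue hU (f (genericPoint C)) hx (fun a b h => app_injective hη U (hinjC (by
    have := congrArg (f.residueFieldMap (genericPoint C)).hom h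
    simpa only [Scheme.evaluation_naturality_apply] using this)))
  exact (IsFractionRing.finrank_eq Γ(Y, U) (Y.residueField (f (genericPoint C))) Γ(C, f ⁻¹ᵁ U)
    (C.residueField (genericPoint C))).symm

/-- A finite dominant morphism to a scheme covered by principal affine charts is flat. -/
theorem flat_of_charts {ι : Type} (U : ι → Y.Opens) (hcov : iSup U = ⊤)
    (hU : ∀ i, IsAffineOpen (U i)) (hne : ∀ i, Nonempty (U i))
    (hP : ∀ i, IsPrincipalIdealRing Γ(Y, U i))
    (hη : f (genericPoint C) = genericPoint Y) : Flat f := by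
  haveI := HasRingHomProperty.instIsZariskiLocalAtTarget (P := @Flat.{u})
  refine (IsZariskiLocalAtTarget.iff_of_iSup_eq_top (P := @Flat.{u}) U hcov).2 fun i => ?_
  have : IsAffine (U i).toScheme := hU i
  have : IsAffine (f ⁻¹ᵁ U i).toScheme := (hU i).preimage f
  have key : ∀ W, W = U i → (f.app W).hom.Flat := by
    rintro W rfl
    have := hne i
    have := hP i
    exact (flat_app hη (hU i)).2.2.1
  refine (HasRingHomProperty.iff_of_isAffine (P := @Flat.{u})).2 ?_
  rw [morphismRestrict_appTop]
  exact RingHom.Flat.comp (key _ (Scheme.Opens.ι_image_top _))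
    (RingHom.Flat.of_bijective (ConcreteCategory.bijective_of_isIso _))

/-- The rank of a finite dominant morphism on a principal chart is the generic degree. -/
theorem finrank_eq [Flat f] {U : Y.Opens} (hU : IsAffineOpen U) [Nonempty U]
    [IsPrincipalIdealRing Γ(Y, U)] (hη : f (genericPoint C) = genericPoint Y) {y : Y} (hy : y ∈ U) :
    f.finrank y = f.residueDegree (genericPoint C) := by
  letI := (f.app U).hom.toAlgebra
  obtain ⟨h1, h2, -, h4⟩ := flat_app hη hU
  rw [RelDiv.Rank.finrank_eq_rankAtStalk f hU y hy, Module.rankAtStalk_eq_finrank_of_free]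
  simpa using h4

end Groth.Agent.Lib.CurveFF.Dominant
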