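import Groth.Prelude.Def_CurvBase
import Groth.Agent.H34.HyperEll.Main
import Groth.Agent.Lib.CurveFF.Dominant
import Groth.Agent.Lib.ProjSpace.Dim
import Groth.Agent.Lib.SmoothCurve.Curve

/-!
Double covers of the projective line: chart equations and the function field.
-/

noncomputable section
set_option autoImplicit false
set_option linter.style.haveILetI false
universe u

open CategoryTheory AlgebraicGeometry TopologicalSpace
open Groth.Agent.H34.HyperEll Groth.Agent.H34.SplitP1
open Groth.Agent.Lib.TensorMod.Dual (rf)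
open Groth.Agent.Lib.Curves.PolePoint (cst res_cst)

namespace Groth.Agent.Lib.CurveFF.DoubleCover

attribute [local instance] Curv2.stalkAlgebra

variable {k : Type u} [Field k] {C : Scheme.{u}} [C.Over (Spec (CommRingCat.of k))] [IsIntegral C]
  (f : C ⟶ P1 k) (hf : f ≫ CohB1.ProjSpace.toSpec 1 k = C ↘ Spec (CommRingCat.of k)) [IsFinite f]

set_option maxHeartbeats 400000

omit [IsIntegral C] [C.Over (Spec (CommRingCat.of k))] in
theorem nonempty_U (a : Fin 2) : Nonempty (U k a) :=
  ⟨⟨_, U01_le k a (zeroPoint_mem_U01 (k := k))⟩⟩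

theorem isPrincipal_U (a : Fin 2) : IsPrincipalIdealRing Γ(P1 k, U k a) :=
  IsPrincipalIdealRing.of_surjective (φ k a) (φ_bijective k a).2

theorem generic_eq (hdim : topologicalKrullDim C = 1) :
    f (genericPoint C) = genericPoint (P1 k) := by
  have hP : topologicalKrullDim (P1 k) = 1 := by
    rw [ProjSpace.Dim.topologicalKrullDim_projSpace 1 k, ringKrullDim_eq_zero_of_field]
    simp
  by_contra h
  have h' := Dominant.dim_le_zero_of_closed f
    ((SmoothCurve.Curve.eq_genericPoint_or_isClosed hP _).resolve_left h)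
  rw [hdim] at h'
  exact absurd h' (by decide)

variable (hη : f (genericPoint C) = genericPoint (P1 k))
include hη

theorem flat : Flat f :=
  Dominant.flat_of_charts (Y := P1 k) (U k) (iSup_U (k := k))
    (fun a => ProjSpace.Basic.isAffineOpen_basicOpen_X (R := k) a) nonempty_U isPrincipal_U hη

theorem finrank_eq [Flat f] (y : P1 k) : f.finrank y = f.residueDegree (genericPoint C) := by
  obtain ⟨i, hi⟩ := Opens.mem_iSup.1 ((iSup_U (k := k)).ge (trivial : y ∈ (⊤ : (P1 k).Opens)))
  have := nonempty_U (k := k) i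
  have := isPrincipal_U (k := k) i
  exact Dominant.finrank_eq (Y := P1 k) (ProjSpace.Basic.isAffineOpen_basicOpen_X (R := k) i) hη hi

theorem generic_mem (a : Fin 2) : genericPoint C ∈ V f a :=
  have := nonempty_U (k := k) a
  Dominant.genericPoint_mem hη

omit hη in
/-- The coordinate of the first chart as a rational function. -/
def coord (a : Fin 2) (h : genericPoint C ∈ V f a) : C.functionField :=
  (C.presheaf.germ (V f a) (genericPoint C) h).hom (chartHom f a Polynomial.X)

omit hη [IsFinite f] in
include hf in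
theorem germ_chartHom (a : Fin 2) (h : genericPoint C ∈ V f a) (p : Polynomial k) :
    (C.presheaf.germ (V f a) (genericPoint C) h).hom (chartHom f a p) =
      Polynomial.aeval (coord f a h) p := by
  have : ((C.presheaf.germ (V f a) (genericPoint C) h).hom).comp (chartHom f a) =
      (Polynomial.aeval (R := k) (coord f a h)).toRingHom := by
    refine Polynomial.ringHom_ext (fun c => ?_) ?_
    · refine Eq.trans ?_ (Polynomial.aeval_C (coord f a h) c).symm
      rw [RingHom.comp_apply, chartHom_C f hf]
      exact C.presheaf.germ_res_apply (homOfLE le_top) (genericPoint C) h _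
    · exact (Polynomial.aeval_X (coord f a h)).symm
  exact RingHom.congr_fun this p

include hf in
theorem adjoin_eq_top [Flat f] {y : Γ(C, V f 0)} (hy : Function.Bijective fun p : Polynomial k × Polynomial k =>
      chartHom f 0 p.1 + chartHom f 0 p.2 * y) :
    IntermediateField.adjoin k ({coord f 0 (generic_mem f hη 0),
      (C.presheaf.germ (V f 0) (genericPoint C) (generic_mem f hη 0)).hom y} : Set C.functionField) = ⊤ := by
  set h := generic_mem f hη 0
  set E := IntermediateField.adjoin k ({coord f 0 h,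
      (C.presheaf.germ (V f 0) (genericPoint C) h).hom y} : Set C.functionField)
  have : Nonempty (V f 0 : C.Opens) := ⟨⟨_, h⟩⟩
  have ht : coord f 0 h ∈ E := IntermediateField.subset_adjoin k _ (Set.mem_insert _ _)
  have hy' : (C.presheaf.germ (V f 0) (genericPoint C) h).hom y ∈ E :=
    IntermediateField.subset_adjoin k _ (Set.mem_insert_of_mem _ rfl)
  have hp : ∀ p : Polynomial k, Polynomial.aeval (coord f 0 h) p ∈ E := fun p =>
    aeval_mem E ht p
  have hB : ∀ b : Γ(C, V f 0), (C.presheaf.germ (V f 0) (genericPoint C) h).hom b ∈ E := fun b => by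
    obtain ⟨⟨p, q⟩, rfl⟩ := hy.2 b
    simp only [map_add, map_mul, germ_chartHom f hf]
    exact add_mem (hp _) (mul_mem (hp _) hy')
  refine eq_top_iff.2 fun z _ => ?_
  have := functionField_isFractionRing_of_isAffineOpen C (V f 0) (isAffineOpen_V f 0)
  obtain ⟨a, b, -, rfl⟩ := IsFractionRing.div_surjective (A := Γ(C, V f 0)) z
  exact div_mem (hB a) (hB b)
where
  aeval_mem {K : Type u} [Field K] [Algebra k K] (E : IntermediateField k K) {t : K} (ht : t ∈ E)
      (p : Polynomial k) : Polynomial.aeval t p ∈ E := by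
    rw [show t = E.val ⟨t, ht⟩ from rfl, Polynomial.aeval_algHom_apply]
    exact SetLike.coe_mem _

omit hη in
include hf in
/-- The residue field of the image of the generic point is the field of rational functions in the
coordinate. -/
theorem degree_transfer (h : genericPoint C ∈ V f 0) :
    letI := (f.residueFieldMap (genericPoint C)).hom.toAlgebra
    Module.finrank (IntermediateField.adjoin k ({coord f 0 h} : Set C.functionField)) C.functionField =
        f.residueDegree (genericPoint C) ∧
      (Algebra.IsSeparable ((P1 k).residueField (f (genericPoint C))) (C.residueField (genericPoint C)) ↔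
        Algebra.IsSeparable (IntermediateField.adjoin k ({coord f 0 h} : Set C.functionField)) C.functionField) := by
  letI := (f.residueFieldMap (genericPoint C)).hom.toAlgebra
  let E := IntermediateField.adjoin k ({coord f 0 h} : Set C.functionField)
  let _ : Field (C.presheaf.stalk (genericPoint C)) := inferInstanceAs (Field C.functionField)
  have hres : Function.Bijective (C.residue (genericPoint C)).hom :=
    ⟨(C.residue (genericPoint C)).hom.injective, C.residue_surjective _⟩
  let e : C.functionField ≃+* C.residueField (genericPoint C) := RingEquiv.ofBijective _ hres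
  let ψ : (P1 k).residueField (f (genericPoint C)) →+* C.functionField :=
    e.symm.toRingHom.comp (f.residueFieldMap (genericPoint C)).hom
  let j : Polynomial k →+* (P1 k).residueField (f (genericPoint C)) :=
    ((P1 k).evaluation (U k 0) (f (genericPoint C)) h).hom.comp (φ k 0)
  have hψj : ∀ p, ψ (j p) = Polynomial.aeval (coord f 0 h) p := fun p => by
    apply e.injective
    simp only [ψ, j, RingHom.comp_apply, RingEquiv.toRingHom_eq_coe, RingHom.coe_coe,
      RingEquiv.apply_symm_apply]
    refine (Scheme.evaluation_naturality_apply f (genericPoint C) h (φ k 0 p)).trans ?_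
    rw [← germ_chartHom f hf 0 h p]
    rfl
  have hjsurj : ∀ z, ∃ p q, z = j p / j q := fun z => by
    obtain ⟨s, rfl⟩ := (P1 k).residue_surjective _ z
    have hU : IsAffineOpen (U k 0) := ProjSpace.Basic.isAffineOpen_basicOpen_X (R := k) 0
    letI := TopCat.Presheaf.algebra_section_stalk (P1 k).presheaf (⟨f (genericPoint C), h⟩ : U k 0)
    have := hU.isLocalization_stalk ⟨f (genericPoint C), h⟩
    obtain ⟨⟨a, b⟩, hab⟩ := IsLocalization.surj
      (hU.primeIdealOf ⟨f (genericPoint C), h⟩).asIdeal.primeCompl s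
    obtain ⟨p, rfl⟩ := (φ_bijective k 0).2 a
    obtain ⟨q, hq⟩ := (φ_bijective k 0).2 b.1
    refine ⟨p, q, ?_⟩
    have hb : IsUnit (((P1 k).residue (f (genericPoint C))).hom
        (algebraMap _ ((P1 k).presheaf.stalk (f (genericPoint C))) b.1)) :=
      (IsLocalization.map_units _ b).map _
    rw [eq_div_iff]
    · have h' := congrArg ((P1 k).residue (f (genericPoint C))).hom hab
      rw [map_mul, ← hq] at h'
      exact h'
    · rw [← hq] at hb
      exact hb.ne_zero
  have hmem : ∀ z, ψ z ∈ E := fun z => by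
    obtain ⟨p, q, rfl⟩ := hjsurj z
    rw [map_div₀, hψj, hψj]
    exact IntermediateField.mem_adjoin_simple_iff k _ |>.2 ⟨p, q, rfl⟩
  have hsur : Function.Surjective (ψ.codRestrict E hmem) := fun x => by
    obtain ⟨p, q, hpq⟩ := (IntermediateField.mem_adjoin_simple_iff k _).1 x.2
    exact ⟨j p / j q, Subtype.ext (by
      change ψ (j p / j q) = _
      rw [map_div₀, hψj, hψj, hpq])⟩
  let e1 : (P1 k).residueField (f (genericPoint C)) ≃+* E :=
    RingEquiv.ofBijective (ψ.codRestrict E hmem) ⟨RingHom.injective _, hsur⟩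
  have hcomm : RingHom.comp (algebraMap E C.functionField) ↑e1 =
      RingHom.comp (↑e.symm) (algebraMap ((P1 k).residueField (f (genericPoint C)))
        (C.residueField (genericPoint C))) := RingHom.ext fun _ => rfl
  exact ⟨(Algebra.finrank_eq_of_equiv_equiv e1 e.symm hcomm).symm,
    Algebra.IsSeparable.iff_of_equiv_equiv e1 e.symm hcomm⟩

omit hη in
variable [Flat f] in
include hf in
/-- The equation of a double cover in the first chart. -/
theorem main (hrk : ∀ y, f.finrank y = 2) (g : ℕ) (hg1 : 1 ≤ g) (hg : Curv2.genus k C = g)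
    (hic : IsIntegrallyClosed Γ(C, V f 1)) :
    ∃ (y : Γ(C, V f 0)) (p q : Polynomial k),
      (Function.Bijective fun r : Polynomial k × Polynomial k => chartHom f 0 r.1 + chartHom f 0 r.2 * y) ∧
      y ^ 2 + chartHom f 0 q * y = chartHom f 0 p ∧
      2 * g + 1 ≤ max (2 * q.natDegree) p.natDegree ∧ max (2 * q.natDegree) p.natDegree ≤ 2 * g + 2 ∧
      ((2 : k) ≠ 0 → ∃ (y' : Γ(C, V f 0)) (p' : Polynomial k),
        (Function.Bijective fun r : Polynomial k × Polynomial k => chartHom f 0 r.1 + chartHom f 0 r.2 * y') ∧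
        y' ^ 2 = chartHom f 0 p' ∧ 2 * g + 1 ≤ p'.natDegree ∧ p'.natDegree ≤ 2 * g + 2) := by
  let A0 := (chartHom f 0).toAlgebra
  let A1 := (chartHom f 1).toAlgebra
  let ι := (f.app (U01 k)).hom
  have G := glue f hrk
  obtain ⟨y0, hy0⟩ := exists_y f hrk 0
  obtain ⟨y1, hy1⟩ := exists_y f hrk 1
  obtain ⟨c, e, l, hc, hY⟩ := exists_transition G hy0 hy1
  let z0 := chartHom f 0 0 + chartHom f 0 (Polynomial.C c) * y0
  have hz0 := bijective_shear (chartHom f 0) hy0 0 (Polynomial.C c)
    (Polynomial.isUnit_C.2 (isUnit_iff_ne_zero.2 hc))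
  have hr0 : ∀ p, rHom f 0 (chartHom f 0 p) = ι ((data k).φ0 p) := rHom_chartHom f 0
  have hr1 : ∀ p, rHom f 1 (chartHom f 1 p) = ι ((data k).φ1 p) := rHom_chartHom f 1
  have hYz : rHom f 1 y1 = ι l + ι ((data k).up (-e)) * rHom f 0 z0 := by
    simp only [z0, map_add, map_mul, map_zero, hr0] at hY ⊢
    rw [hY]; ring
  have hge := genus_eq f hf hrk hz0 hy1 hYz
  rw [hg] at hge
  obtain ⟨a, b, hab⟩ := exists_decomp (data k) (z := -e) (by omega) l
  have hw0 := bijective_shear (chartHom f 0) hz0 a 1 isUnit_one
  have hw1 := bijective_shear (chartHom f 1) hy1 (-b) 1 isUnit_one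
  let w0 := chartHom f 0 a + chartHom f 0 1 * z0
  let w1 := chartHom f 1 (-b) + chartHom f 1 1 * y1
  have hW : rHom f 1 w1 = ι ((data k).up (-e)) * rHom f 0 w0 := by
    simp only [w0, w1, map_add, map_mul, map_one, map_neg, hr0, hr1, hab] at hYz ⊢
    linear_combination hYz
  have : Nonempty (V f 1) := by
    obtain ⟨x, hx⟩ := nonempty_V01 f hrk
    exact ⟨⟨x, hx.2⟩⟩
  obtain ⟨p, q, hrel, hlo, hhi⟩ := exists_equation G hw0 hw1 hW (by omega)
  refine ⟨w0, p, q, hw0, ?_, by omega, by omega, fun h2 => ?_⟩
  · exact sub_eq_zero.1 hrel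
  -- complete the square
  obtain ⟨n, rfl⟩ : ∃ n : ℕ, e = (n : ℤ) := ⟨e.toNat, by omega⟩
  let s := Polynomial.C (2 : k)⁻¹ * q
  have hs : s.natDegree ≤ n := (Polynomial.natDegree_C_mul_le _ _).trans (by omega)
  have hv0 := bijective_shear (chartHom f 0) hw0 s 1 isUnit_one
  have hv1 := bijective_shear (chartHom f 1) hw1 (Polynomial.reflect n s) 1 isUnit_one
  let v0 := chartHom f 0 s + chartHom f 0 1 * w0
  let v1 := chartHom f 1 (Polynomial.reflect n s) + chartHom f 1 1 * w1
  have hrefl : (data k).φ1 (Polynomial.reflect n s) = (data k).up (-(n : ℤ)) * (data k).φ0 s := by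
    rw [← (data k).φ1_reflect s hs, mul_comm, mul_assoc, ← (data k).up_add, add_neg_cancel,
      (data k).up_zero, mul_one]
  have hV : rHom f 1 v1 = ι ((data k).up (-(n : ℤ))) * rHom f 0 v0 := by
    simp only [v0, v1, map_add, map_mul, map_one, hr0, hr1, hrefl, hW]
    ring
  obtain ⟨p', q', hrel', hlo', hhi'⟩ := exists_equation G hv0 hv1 hV (by omega)
  have hsq : v0 ^ 2 = chartHom f 0 (p + s ^ 2) := by
    have hq : q = 2 * s := by
      change q = 2 * (Polynomial.C (2 : k)⁻¹ * q)
      rw [← mul_assoc, show (2 : Polynomial k) = Polynomial.C 2 from (Polynomial.C_ofNat 2).symm,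
        ← Polynomial.C_mul, mul_inv_cancel₀ h2, Polynomial.C_1, one_mul]
    have hr : w0 ^ 2 + chartHom f 0 q * w0 - chartHom f 0 p = 0 := hrel
    rw [hq] at hr
    simp only [v0, map_add, map_pow, map_mul, map_one, map_ofNat] at hr ⊢
    linear_combination hr
  have hz := @hv0.1 (p', -q') (p + s ^ 2, 0) (by
    have hr : v0 ^ 2 + chartHom f 0 q' * v0 - chartHom f 0 p' = 0 := hrel'
    rw [hsq] at hr
    simp only [v0, z0, w0, map_neg, map_zero, map_one] at hr ⊢
    linear_combination -hr)
  obtain ⟨h1, h3⟩ := Prod.mk.inj hz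
  obtain rfl : q' = 0 := neg_eq_zero.1 h3
  simp only [Polynomial.natDegree_zero, mul_zero] at hlo' hhi'
  refine ⟨v0, p', hv0, ?_, by omega, by omega⟩
  rw [hsq, ← h1]

end Groth.Agent.Lib.CurveFF.DoubleCover
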