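import Groth.Prelude.Def_CurvBase
import Groth.Agent.Lib.CurveFF.DoubleCover
import Groth.Agent.Lib.FunFld.Gen.Existence
import Groth.Agent.Lib.FunFld.Place
import Groth.Agent.Lib.SchLoc.Allied
import Groth.Agent.Lib.DvrCrit.Abstract
import Groth.Agent.Lib.Curves.FiniteToP1
import Mathlib.RingTheory.Valuation.Discrete.IsDiscreteValuationRing

/-!
Curves and their function fields: the function field of a proper regular curve is a function field
of one variable and closed points are its places.
-/

noncomputable section
set_option autoImplicit false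
set_option linter.style.haveILetI false
universe u

open CategoryTheory AlgebraicGeometry TopologicalSpace

namespace Groth.Agent.Lib.CurveFF

attribute [local instance] Curv2.stalkAlgebra Curv2.resAlgebra

/-- An integral curve whose closed points have discrete valuation rings as local rings. -/
structure CurveHyp (X : Scheme.{u}) [IsIntegral X] : Prop where
  dim : topologicalKrullDim X = 1
  dvr : ∀ x : X, IsClosed ({x} : Set X) → IsDiscreteValuationRing (X.presheaf.stalk x)

variable {k : Type u} [Field k] {X : Scheme.{u}} [X.Over (Spec (CommRingCat.of k))] [IsIntegral X]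

theorem algebraMap_const (x : X) (a : k) :
    algebraMap (X.presheaf.stalk x) X.functionField (algebraMap k (X.presheaf.stalk x) a) =
      algebraMap k X.functionField a :=
  haveI : Nonempty (⊤ : X.Opens) := ⟨⟨x, trivial⟩⟩
  Scheme.algebraMap_germ_eq_germToFunctionField (X := X) (U := ⊤) (x := x) trivial _

theorem fromSpecStalk_over (x : X) :
    X.fromSpecStalk x ≫ (X ↘ Spec (CommRingCat.of k)) =
      Spec.map (CommRingCat.ofHom (algebraMap k (X.presheaf.stalk x))) := by
  rw [SmoothCurve.Curve.fromSpecStalk_comp]
  rfl

theorem transcendental_coord (f : X ⟶ H34.SplitP1.P1 k) [IsFinite f]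
    (hf : f ≫ CohB1.ProjSpace.toSpec 1 k = X ↘ Spec (CommRingCat.of k))
    (hη : f (genericPoint X) = genericPoint (H34.SplitP1.P1 k))
    (h : genericPoint X ∈ H34.HyperEll.V f 0) :
    Transcendental k (DoubleCover.coord f 0 h) := by
  rw [transcendental_iff_injective]
  intro p q hpq
  rw [← DoubleCover.germ_chartHom f hf 0 h, ← DoubleCover.germ_chartHom f hf 0 h] at hpq
  have : Nonempty (H34.HyperEll.V f 0 : X.Opens) := ⟨⟨_, h⟩⟩
  exact (H34.SplitP1.φ_bijective k 0).1
    (Dominant.app_injective (Y := H34.SplitP1.P1 k) hη _ (Scheme.germToFunctionField_injective X _ hpq))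

/-- The function field of a proper curve is finitely generated of transcendence degree one. -/
theorem isFF [IsProper (X ↘ Spec (CommRingCat.of k))] (hdim : topologicalKrullDim X = 1) :
    FunFld.Gen.Bound.IsFF k X.functionField := by
  obtain ⟨f, hfin, hf⟩ := Curves.FiniteToP1.exists_isFinite_toP1 (k := k) (X := X) hdim.le
  have hη := DoubleCover.generic_eq f hdim
  have h := DoubleCover.generic_mem f hη 0
  refine ⟨_, transcendental_coord f hf hη h, ?_⟩
  apply FiniteDimensional.of_finrank_pos
  rw [(DoubleCover.degree_transfer f hf h).1]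
  have := DoubleCover.nonempty_U (k := k) 0
  have := DoubleCover.isPrincipal_U (k := k) 0
  obtain ⟨h1, h2, -, h4⟩ := Dominant.flat_app (Y := H34.SplitP1.P1 k) hη
    (U := H34.SplitP1.U k 0) (ProjSpace.Basic.isAffineOpen_basicOpen_X (R := k) 0)
  rw [← h4]
  have : Nonempty (f ⁻¹ᵁ H34.SplitP1.U k 0 : X.Opens) := ⟨⟨_, h⟩⟩
  letI := (f.app (H34.SplitP1.U k 0)).hom.toAlgebra
  exact Module.finrank_pos

variable (k) in
/-- The place attached to a point with discrete valuation ring. -/
def placeAt (x : X) [IsDiscreteValuationRing (X.presheaf.stalk x)] :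
    _root_.FunFld.Place k X.functionField :=
  ⟨(IsDiscreteValuationRing.maximalIdeal (X.presheaf.stalk x)).valuation X.functionField,
    fun c => by rw [← algebraMap_const x c]; exact IsDedekindDomain.HeightOneSpectrum.valuation_le_one _ _,
    IsDedekindDomain.HeightOneSpectrum.valuation_surjective _ _⟩

theorem val_placeAt_le_one_iff {x : X} [IsDiscreteValuationRing (X.presheaf.stalk x)]
    {g : X.functionField} :
    (placeAt k x).1 g ≤ 1 ↔ ∃ a, algebraMap (X.presheaf.stalk x) X.functionField a = g :=
  ⟨fun h => IsDiscreteValuationRing.exists_lift_of_le_one h,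
    fun ⟨a, ha⟩ => ha ▸ IsDedekindDomain.HeightOneSpectrum.valuation_le_one _ _⟩

theorem mem_O_placeAt {x : X} [IsDiscreteValuationRing (X.presheaf.stalk x)] {g : X.functionField} :
    g ∈ (placeAt k x).O ↔ ∃ a, algebraMap (X.presheaf.stalk x) X.functionField a = g :=
  val_placeAt_le_one_iff

/-- The closed points. -/
abbrev CPt (X : Scheme.{u}) : Type u := {x : X // IsClosed ({x} : Set X)}

variable (k) in
/-- The place attached to a closed point. -/
def placeOf (h : CurveHyp X) (x : CPt X) : _root_.FunFld.Place k X.functionField :=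
  haveI := h.dvr x.1 x.2
  placeAt k x.1

theorem mem_O_placeOf (h : CurveHyp X) (x : CPt X) {g : X.functionField} :
    g ∈ (placeOf k h x).O ↔ g ∈ (algebraMap (X.presheaf.stalk x.1) X.functionField).range := by
  haveI := h.dvr x.1 x.2
  exact mem_O_placeAt

theorem placeOf_injective [IsSeparated (X ↘ Spec (CommRingCat.of k))] (h : CurveHyp X) :
    Function.Injective (placeOf k h) := fun x y hxy => by
  haveI : X.IsSeparated :=
    ⟨by rw [← Limits.terminal.comp_from (X ↘ Spec (CommRingCat.of k))]; infer_instance⟩
  have hr : (algebraMap (X.presheaf.stalk x.1) X.functionField).range =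
      (algebraMap (X.presheaf.stalk y.1) X.functionField).range :=
    SetLike.ext fun g => by rw [← mem_O_placeOf (k := k) h, hxy, mem_O_placeOf]
  exact Subtype.ext (((SchLoc.specializes_of_range_le hr.le).antisymm
    (SchLoc.specializes_of_range_le hr.ge)).eq.symm)

theorem placeOf_surjective [IsProper (X ↘ Spec (CommRingCat.of k))] (h : CurveHyp X) :
    Function.Surjective (placeOf k h) := fun P => by
  let c := X ↘ Spec (CommRingCat.of k)
  obtain ⟨l, hlc, hlK⟩ := DvrCrit.existence_apply (f := c)
    (DvrCrit.existence_of_universallyClosed c) (A := P.O) (K := X.functionField)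
    (X.fromSpecStalk (genericPoint X)) (Spec.map (CommRingCat.ofHom (algebraMap k P.O))) (by
      rw [fromSpecStalk_over, ← Spec.map_comp]
      rfl)
  let Φ := Scheme.stalkClosedPointTo l
  have hΦl : Spec.map Φ ≫ X.fromSpecStalk _ = l := Scheme.Spec_stalkClosedPointTo_fromSpecStalk l
  let x0 := l (IsLocalRing.closedPoint (P.O : Type u))
  have hΦ : Φ ≫ CommRingCat.ofHom (algebraMap P.O X.functionField) =
      CommRingCat.ofHom (algebraMap (X.presheaf.stalk x0) X.functionField) := by
    apply Spec.map_injective
    rw [← cancel_mono (X.fromSpecStalk x0), Spec.map_comp, Category.assoc]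
    exact ((congrArg (Spec.map (CommRingCat.ofHom (algebraMap P.O X.functionField)) ≫ ·) hΦl).trans
      hlK).trans (SchLoc.specMap_algebraMap_fromSpecStalk _).symm
  have hle : ∀ g ∈ (algebraMap (X.presheaf.stalk x0) X.functionField).range, g ∈ P.O := by
    rintro g ⟨a, rfl⟩
    have := ConcreteCategory.congr_hom hΦ a
    simp only [CommRingCat.comp_apply] at this
    exact this ▸ (Φ.hom a).2
  have hx : IsClosed ({x0} : Set X) := by
    refine (SmoothCurve.Curve.eq_genericPoint_or_isClosed h.dim x0).resolve_left fun e => ?_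
    obtain ⟨g, hg⟩ := P.2.2 (WithZero.exp 1)
    have hmem : g ∈ (algebraMap (X.presheaf.stalk x0) X.functionField).range := by
      rw [e]
      exact ⟨g, by simp [RingHom.algebraMap_toAlgebra]⟩
    have h1 : P.1 g ≤ 1 := hle g hmem
    rw [hg] at h1
    exact absurd h1 (not_le.2 (WithZero.exp_lt_exp.2 zero_lt_one))
  refine ⟨⟨x0, hx⟩, FunFld.Place.place_eq_of_O_le fun g hg => hle g ?_⟩
  exact (mem_O_placeOf h ⟨x0, hx⟩).1 hg

/-- Closed points are places. -/
def placeEquiv [IsProper (X ↘ Spec (CommRingCat.of k))] (h : CurveHyp X) :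
    CPt X ≃ _root_.FunFld.Place k X.functionField :=
  Equiv.ofBijective (placeOf k h) ⟨placeOf_injective h, placeOf_surjective h⟩

/-- The degree of a place is the degree of the residue field of the point. -/
theorem deg_placeOf (h : CurveHyp X) (x : CPt X) :
    (placeOf k h x).deg = Module.finrank k (X.residueField x.1) := by
  haveI := h.dvr x.1 x.2
  let O := (placeOf k h x).O
  let g : X.presheaf.stalk x.1 →+* O :=
    (algebraMap (X.presheaf.stalk x.1) X.functionField).codRestrict O fun a =>
      (mem_O_placeOf h x).2 ⟨a, rfl⟩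
  let e : X.presheaf.stalk x.1 ≃+* O := RingEquiv.ofBijective g
    ⟨fun a b hab => IsFractionRing.injective _ X.functionField (congrArg Subtype.val hab),
      fun z => by
        obtain ⟨a, ha⟩ := (mem_O_placeOf h x).1 z.2
        exact ⟨a, Subtype.ext ha⟩⟩
  let E : X.residueField x.1 ≃ₐ[k] IsLocalRing.ResidueField O :=
    { IsLocalRing.ResidueField.mapEquiv e with
      commutes' := fun c => congrArg (IsLocalRing.residue O) (Subtype.ext (algebraMap_const x.1 c)) }
  exact E.toLinearEquiv.finrank_eq.symm

end Groth.Agent.Lib.CurveFF
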