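import Groth.Agent.Lib.Curves.GlobalSections
import Groth.Agent.Lib.GrpSch.SmoothReduced
import Groth.Agent.H2.Rigid.H0

/-! Constant global functions on smooth proper geometrically connected varieties. -/

set_option autoImplicit false
universe u

open CategoryTheory Limits AlgebraicGeometry Opposite

namespace Groth.Agent.Lib.CurveFF

theorem finrank_h0_eq_one (k : Type u) [Field k] (X : Scheme.{u}) [X.Over (Spec (CommRingCat.of k))]
    [Nonempty X] [IsProper (X ↘ Spec (CommRingCat.of k))] [Smooth (X ↘ Spec (CommRingCat.of k))]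
    [GeometricallyConnected (X ↘ Spec (CommRingCat.of k))] :
    Module.finrank k (Coh.HH X (Coh.structureModule X) 0) = 1 := by
  let c := X ↘ Spec (CommRingCat.of k)
  have : GeometricallyReduced c := ⟨fun K _ y P p q h => by
    have : Smooth q := MorphismProperty.of_isPullback h ‹Smooth c›
    exact GrpSch.isReduced_of_smooth_field q⟩
  have hsurj : Function.Surjective c.appTop.hom :=
    (H2.Rigid.H0.of_geometrically c).isPullback (pt := 𝟙 _) (p₁ := 𝟙 X) (p₂ := c)
      (IsPullback.of_horiz_isIso ⟨by simp⟩)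
  letI := Curves.GlobalSections.secModule k (Coh.structureModule X)
  rw [(Curves.GlobalSections.h0Linear k (Coh.structureModule X)).finrank_eq]
  letI : Algebra k Γ(X, ⊤) := RingHom.toAlgebra (S := Γ(X, ⊤)) (Coh.toGlobal c)
  have hs : Function.Surjective (algebraMap k Γ(X, ⊤)) :=
    hsurj.comp (Scheme.ΓSpecIso (CommRingCat.of k)).commRingCatIsoToRingEquiv.symm.surjective
  haveI : Nonempty (⊤ : X.Opens) := ⟨⟨Classical.arbitrary X, trivial⟩⟩
  exact (Module.finrank_self k ▸ (AlgEquiv.ofBijective (Algebra.ofId k Γ(X, ⊤))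
    ⟨(algebraMap k Γ(X, ⊤)).injective, hs⟩).toLinearEquiv.finrank_eq).symm

end Groth.Agent.Lib.CurveFF
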