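import Groth.Agent.Lib.FunFld.Riemann
import Groth.Agent.Lib.FunFld.Existence

/-! Strong approximation in a function field. -/

noncomputable section
set_option autoImplicit false
universe u v

namespace Groth.Agent.Lib.CurveFF

variable {k : Type u} {K : Type v} [Field k] [Field K] [Algebra k K]

open FunFld.Riemann in
/-- A repartition is congruent to a rational function away from any one place. -/
theorem exists_approx (hK : _root_.FunFld.IsFunctionField k K) (Q : _root_.FunFld.Place k K)
    {a : _root_.FunFld.Place k K → K} (ha : a ∈ _root_.FunFld.adele k K) :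
    ∃ f : K, ∀ P, P ≠ Q → P.1 (a P - f) ≤ 1 := by
  classical
  obtain ⟨N, hN⟩ := exists_bound_delta_eq hK
  let D : _root_.FunFld.Divisor k K := Finsupp.single Q (max N 0)
  have hD : N ≤ D.deg := by
    rw [FunFld.Degree.deg_single]
    have h1 : (1 : ℤ) ≤ Q.deg := by exact_mod_cast FunFld.Existence.deg_pos hK Q
    nlinarith [le_max_left N 0, le_max_right N 0]
  rw [adele_eq_of_delta_eq hK (hN D hD)] at ha
  obtain ⟨d, hd, _, ⟨f, rfl⟩, hdf⟩ := Submodule.mem_sup.1 ha
  refine ⟨f, fun P hP => ?_⟩
  have h := hd P
  rw [show D P = 0 from Finsupp.single_eq_of_ne hP, WithZero.exp_zero] at h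
  have : a P - f = d P := by rw [← hdf]; simp [_root_.FunFld.diag]
  rwa [this]

end Groth.Agent.Lib.CurveFF
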