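import Groth.Agent.Lib.CurveFF.Hyp
import Groth.Agent.Lib.CurveFF.Strong
import Groth.Agent.H34.HyperEll.Cokernel
import Groth.Agent.Lib.TensorMod.QCohInv

/-!
The genus of a proper regular curve is the genus of its function field.
-/

noncomputable section
set_option autoImplicit false
set_option linter.style.haveILetI false
universe u

open CategoryTheory AlgebraicGeometry TopologicalSpace Opposite
open Groth.Agent.Lib.Curves.MVModule (secModuleOn resₗ)
open Groth.Agent.Lib.Curves.PolePoint (cst res_cst)

namespace Groth.Agent.Lib.CurveFF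

attribute [local instance] Curv2.stalkAlgebra

variable {k : Type u} [Field k] {X : Scheme.{u}} [X.Over (Spec (CommRingCat.of k))] [IsIntegral X]

theorem germ_cst {W : X.Opens} (hW : genericPoint X ∈ W) (a : k) :
    (X.presheaf.germ W (genericPoint X) hW).hom (cst k W a) = algebraMap k X.functionField a :=
  X.presheaf.germ_res_apply (homOfLE le_top) (genericPoint X) hW _

variable (k) in
/-- Sections of the structure sheaf as rational functions. -/
def toK (W : X.Opens) (hW : genericPoint X ∈ W) :
    letI := secModuleOn k (Coh.structureModule X) W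
    Γ(Coh.structureModule X, W) →ₗ[k] X.functionField :=
  letI := secModuleOn k (Coh.structureModule X) W
  { toFun := fun s => (X.presheaf.germ W (genericPoint X) hW).hom s
    map_add' := fun s t => map_add (X.presheaf.germ W (genericPoint X) hW).hom s t
    map_smul' := fun a s => by
      rw [RingHom.id_apply, Algebra.smul_def, ← germ_cst hW a]
      exact map_mul (X.presheaf.germ W (genericPoint X) hW).hom (cst k W a) s }

theorem toK_res {W V : X.Opens} (hle : V ≤ W) (hW : genericPoint X ∈ W) (hV : genericPoint X ∈ V)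
    (s : Γ(Coh.structureModule X, W)) :
    letI := secModuleOn k (Coh.structureModule X) W
    letI := secModuleOn k (Coh.structureModule X) V
    toK k V hV (resₗ (k := k) (Coh.structureModule X) hle s) = toK k W hW s :=
  X.presheaf.germ_res_apply (homOfLE hle) (genericPoint X) hV (s : Γ(X, W))

theorem toK_injective {W : X.Opens} (hW : genericPoint X ∈ W) :
    letI := secModuleOn k (Coh.structureModule X) W
    Function.Injective (toK k W hW) :=
  germ_injective_of_isIntegral X (genericPoint X) hW

omit [X.Over (Spec (CommRingCat.of k))] in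
/-- Rational functions regular on an open are sections over it. -/
theorem exists_section (W : X.Opens) (hW : genericPoint X ∈ W) (b : X.functionField)
    (h : ∀ y ∈ W, b ∈ (algebraMap (X.presheaf.stalk y) X.functionField).range) :
    ∃ s : Γ(X, W), X.presheaf.germ W (genericPoint X) hW s = b := by
  choose t ht using fun y : W => h y.1 y.2
  choose U hyU sU hsU using fun y : W => X.presheaf.exists_germ_eq (t y)
  let U' : W → X.Opens := fun y => U y ⊓ W
  let sU' : ∀ y, Γ(X, U' y) := fun y => X.presheaf.map (homOfLE inf_le_left).op (sU y)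
  have hη : ∀ y, genericPoint X ∈ U' y := fun y =>
    ⟨(genericPoint_specializes y.1).mem_open (U y).2 (hyU y), hW⟩
  have hb : ∀ y, X.presheaf.germ (U' y) (genericPoint X) (hη y) (sU' y) = b := fun y => by
    refine (X.presheaf.germ_res_apply (homOfLE inf_le_left) (genericPoint X) (hη y) (sU y)).trans ?_
    haveI : Nonempty (U y) := ⟨⟨_, (hη y).1⟩⟩
    rw [← ht y, ← hsU y]
    exact (Scheme.algebraMap_germ_eq_germToFunctionField (X := X) (hyU y) (sU y)).symm
  have hcov : W ≤ iSup U' := fun y hy => Opens.mem_iSup.2 ⟨⟨y, hy⟩, hyU ⟨y, hy⟩, hy⟩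
  have hcompat : X.presheaf.IsCompatible U' sU' := fun i j => by
    have hij : genericPoint X ∈ U' i ⊓ U' j := ⟨hη i, hη j⟩
    apply germ_injective_of_isIntegral X (U := U' i ⊓ U' j) (genericPoint X) hij
    exact (X.presheaf.germ_res_apply _ _ hij _).trans ((hb i).trans
      ((hb j).symm.trans (X.presheaf.germ_res_apply _ _ hij _).symm))
  obtain ⟨s, hs, -⟩ :=
    X.sheaf.existsUnique_gluing' U' W (fun y => homOfLE inf_le_right) hcov sU' hcompat
  refine ⟨s, ?_⟩
  let y : W := ⟨genericPoint X, hW⟩
  rw [← hb y, ← hs y]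
  exact (X.presheaf.germ_res_apply (homOfLE inf_le_right) (genericPoint X) (hη y) s).symm

theorem val_le_one_of_section (h : CurveHyp X) {W : X.Opens} (hW : genericPoint X ∈ W) (x : CPt X)
    (hx : x.1 ∈ W) (s : Γ(X, W)) :
    (placeOf k h x).1 ((X.presheaf.germ W (genericPoint X) hW).hom s) ≤ 1 := by
  haveI := h.dvr x.1 x.2
  haveI : Nonempty W := ⟨⟨x.1, hx⟩⟩
  exact (val_placeAt_le_one_iff).2 ⟨X.presheaf.germ W x.1 hx s,
    Scheme.algebraMap_germ_eq_germToFunctionField (X := X) hx s⟩

theorem exists_section_of_val (h : CurveHyp X) {W : X.Opens} (hW : genericPoint X ∈ W)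
    (g : X.functionField) (hg : ∀ x : CPt X, x.1 ∈ W → (placeOf k h x).1 g ≤ 1) :
    ∃ s : Γ(X, W), (X.presheaf.germ W (genericPoint X) hW).hom s = g := by
  refine exists_section W hW g fun y hy => ?_
  rcases SmoothCurve.Curve.eq_genericPoint_or_isClosed h.dim y with rfl | hc
  · exact ⟨g, by simp [RingHom.algebraMap_toAlgebra]⟩
  · exact (mem_O_placeOf h ⟨y, hc⟩).1 (hg ⟨y, hc⟩ hy)

variable [IsProper (X ↘ Spec (CommRingCat.of k))]

open FunFld.Riemann in
open Classical in
/-- The genus from a cover by two affines with nonempty complements. -/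
theorem genus_eq_of_cover (h : CurveHyp X)
    (hK : _root_.FunFld.IsFunctionField k X.functionField) {U V : X.Opens} (hUV : U ⊔ V = ⊤)
    (hU : IsAffineOpen U) (hV : IsAffineOpen V) (hηU : genericPoint X ∈ U)
    (hηV : genericPoint X ∈ V) (xU xV : CPt X) (hxU : xU.1 ∉ U) (hxV : xV.1 ∉ V) :
    Curv2.genus k X = _root_.FunFld.genus k X.functionField := by
  let F := Coh.structureModule X
  haveI : F.IsQuasicoherent := TensorMod.QCohInv.isQCoh_structureModule X
  letI := secModuleOn k F U
  letI := secModuleOn k F V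
  letI := secModuleOn k F (U ⊓ V)
  have hη : genericPoint X ∈ U ⊓ V := ⟨hηU, hηV⟩
  haveI := Curves.GlobalSections.noetherianSpace_of_proper k X
  let Pl := _root_.FunFld.Place k X.functionField
  let sig : Set Pl := placeOf k h '' {x | x.1 ∉ U}
  have hsig : sig.Finite := by
    refine Set.Finite.image _ ?_
    have hfin : ((U : Set X)ᶜ).Finite :=
      SmoothCurve.Curve.finite_of_isClosed h.dim U.2.isClosed_compl (fun hc => hc hηU)
    exact hfin.preimage Subtype.val_injective.injOn
  have hmem : ∀ x : CPt X, placeOf k h x ∈ sig ↔ x.1 ∉ U := fun x =>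
    (placeOf_injective h).mem_set_image
  have hcov : ∀ x : CPt X, x.1 ∉ U → x.1 ∈ V := fun x hx => by
    have : x.1 ∈ U ⊔ V := hUV ▸ trivial
    exact this.resolve_left hx
  let ind : X.functionField →ₗ[k] (Pl → X.functionField) :=
    LinearMap.pi fun P => if P ∈ sig then LinearMap.id else 0
  have hind : ∀ g P, ind g P = if P ∈ sig then g else 0 := fun g P => by
    simp only [ind, LinearMap.pi_apply]; split_ifs <;> rfl
  have hindad : ∀ g, ind g ∈ _root_.FunFld.adele k X.functionField := fun g => by
    refine Filter.mem_cofinite.mpr (hsig.subset fun P hP => ?_)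
    by_contra hn
    exact hP (by show P.1 (ind g P) ≤ 1; rw [hind, if_neg hn, map_zero]; exact zero_le')
  let Φ : Γ(F, U ⊓ V) →ₗ[k]
      (↥(_root_.FunFld.adele k X.functionField) ⧸ _root_.FunFld.ADK (0 : _root_.FunFld.Divisor k X.functionField)) :=
    (Submodule.mkQ _).comp ((ind.codRestrict _ hindad).comp (toK k (U ⊓ V) hη))
  have hAD : ∀ d : Pl → X.functionField,
      d ∈ _root_.FunFld.AD (0 : _root_.FunFld.Divisor k X.functionField) ↔ ∀ P : Pl, P.1 (d P) ≤ 1 :=
    fun d => by simp [_root_.FunFld.AD, Pl]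
  have hdiag : ∀ f P, _root_.FunFld.diag k X.functionField f P = f := fun f P => rfl
  have hΦ : ∀ s, Φ s = Submodule.Quotient.mk
      (⟨ind (toK k (U ⊓ V) hη s), hindad _⟩ : ↥(_root_.FunFld.adele k X.functionField)) := fun s => rfl
  have hker : ∀ s, Φ s = 0 ↔ ∃ f, ∀ P : Pl, P.1 (ind (toK k (U ⊓ V) hη s) P - f) ≤ 1 := fun s => by
    rw [hΦ, Submodule.Quotient.mk_eq_zero, _root_.FunFld.ADK, Submodule.mem_comap,
      Submodule.subtype_apply]
    constructor
    · intro hs
      obtain ⟨d, hd, _, ⟨f, rfl⟩, hdf⟩ := Submodule.mem_sup.1 hs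
      refine ⟨f, fun P => ?_⟩
      have hdf' : d + _root_.FunFld.diag k X.functionField f = ind (toK k (U ⊓ V) hη s) := hdf
      rw [← hdf', Pi.add_apply, hdiag, add_sub_cancel_right]
      exact (hAD d).1 hd P
    · rintro ⟨f, hf⟩
      refine Submodule.mem_sup.2 ⟨ind (toK k (U ⊓ V) hη s) - _root_.FunFld.diag k X.functionField f,
        (hAD _).2 fun P => ?_, _, ⟨f, rfl⟩, sub_add_cancel _ _⟩
      rw [Pi.sub_apply, hdiag]
      exact hf P
  have hsurj : Function.Surjective Φ := fun z => by
    obtain ⟨⟨a, ha⟩, rfl⟩ := Submodule.mkQ_surjective _ z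
    obtain ⟨f, hf⟩ := exists_approx hK (placeOf k h xU) ha
    have hb : (fun P => if P ∈ sig then a P - f else 0) ∈ _root_.FunFld.adele k X.functionField := by
      refine Filter.mem_cofinite.mpr (hsig.subset fun P hP => ?_)
      by_contra hn
      exact hP (by show P.1 (if P ∈ sig then a P - f else 0) ≤ 1; rw [if_neg hn, map_zero]; exact zero_le')
    obtain ⟨g, hg⟩ := exists_approx hK (placeOf k h xV) hb
    obtain ⟨s, hs⟩ := exists_section_of_val h (W := U ⊓ V) hη g fun x hx => by
      have hne : placeOf k h x ≠ placeOf k h xV := fun e => hxV (by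
        rw [← placeOf_injective h e]; exact hx.2)
      have := hg _ hne
      rw [if_neg (fun hc => (hmem x).1 hc hx.1), zero_sub, Valuation.map_neg] at this
      exact this
    refine ⟨s, (hΦ s).trans ?_⟩
    have hs' : toK k (U ⊓ V) hη s = g := hs
    rw [Submodule.mkQ_apply, Submodule.Quotient.eq, _root_.FunFld.ADK, Submodule.mem_comap,
      Submodule.subtype_apply]
    show ind (toK k (U ⊓ V) hη s) - a ∈ _
    rw [hs']
    refine Submodule.mem_sup.2 ⟨ind g - a + _root_.FunFld.diag k X.functionField f,
      (hAD _).2 fun P => ?_, _, ⟨-f, rfl⟩, by rw [map_neg]; abel⟩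
    rw [Pi.add_apply, Pi.sub_apply, hind, hdiag]
    by_cases hP : P ∈ sig
    · rw [if_pos hP]
      obtain ⟨x, hx, rfl⟩ := hP
      have hne : placeOf k h x ≠ placeOf k h xV := fun e => hxV (by
        rw [← placeOf_injective h e]; exact hcov x hx)
      have := hg _ hne
      rw [if_pos ((hmem x).2 hx)] at this
      rw [← Valuation.map_neg]
      convert this using 2
      ring
    · rw [if_neg hP]
      have hne : P ≠ placeOf k h xU := fun e => hP (e ▸ (hmem xU).2 hxU)
      have := hf P hne
      rw [← Valuation.map_neg]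
      convert this using 2
      ring
  have hkerEq : LinearMap.range (resₗ (k := k) F (inf_le_left : U ⊓ V ≤ U)) ⊔
      LinearMap.range (resₗ (k := k) F (inf_le_right : U ⊓ V ≤ V)) = LinearMap.ker Φ := by
    refine le_antisymm (sup_le ?_ ?_) fun s hs => ?_
    · rintro _ ⟨u, rfl⟩
      refine LinearMap.mem_ker.2 ((hker _).2 ⟨toK k U hηU u, fun P => ?_⟩)
      rw [toK_res inf_le_left hηU hη, hind]
      split_ifs with hP
      · simp
      · obtain ⟨x, rfl⟩ := placeOf_surjective h P
        rw [zero_sub, Valuation.map_neg]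
        exact val_le_one_of_section h hηU x (not_not.1 fun hn => hP ((hmem x).2 hn)) u
    · rintro _ ⟨v, rfl⟩
      refine LinearMap.mem_ker.2 ((hker _).2 ⟨0, fun P => ?_⟩)
      rw [toK_res inf_le_right hηV hη, hind, sub_zero]
      split_ifs with hP
      · obtain ⟨x, hx, rfl⟩ := hP
        exact val_le_one_of_section h hηV x (hcov x hx) v
      · rw [map_zero]; exact zero_le'
    · obtain ⟨f, hf⟩ := (hker s).1 (LinearMap.mem_ker.1 hs)
      obtain ⟨u, hu⟩ := exists_section_of_val h hηU f fun x hx => by
        have := hf (placeOf k h x)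
        rwa [hind, if_neg (fun hc => (hmem x).1 hc hx), zero_sub, Valuation.map_neg] at this
      obtain ⟨v, hv⟩ := exists_section_of_val h hηV (toK k (U ⊓ V) hη s - f) fun x hx => by
        by_cases hxU' : x.1 ∈ U
        · have h1 := val_le_one_of_section (k := k) h hη x ⟨hxU', hx⟩ s
          have h2 := val_le_one_of_section (k := k) h hηU x hxU' u
          rw [hu] at h2
          exact ((placeOf k h x).1.map_sub _ _).trans (max_le h1 h2)
        · have := hf (placeOf k h x)
          rwa [hind, if_pos ((hmem x).2 hxU')] at this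
      refine Submodule.mem_sup.2 ⟨_, ⟨u, rfl⟩, _, ⟨v, rfl⟩, toK_injective (k := k) hη ?_⟩
      exact ((map_add _ _ _).trans (congrArg₂ (· + ·) ((toK_res inf_le_left hηU hη u).trans hu)
        ((toK_res inf_le_right hηV hη v).trans hv))).trans (add_sub_cancel _ _)
  have h1 := H34.HyperEll.finrank_H1 (k := k) F hUV hU hV
  rw [hkerEq, (Φ.quotKerEquivOfSurjective hsurj).finrank_eq] at h1
  have h2 := (finrank_adele_quot hK (0 : _root_.FunFld.Divisor k X.functionField)).2
  rw [delta_zero hK, sub_zero] at h2
  exact h1.trans (by exact_mod_cast h2)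

omit [IsProper (X ↘ Spec (CommRingCat.of k))] in
theorem exists_notMem_U (i : Fin 2) : ∃ y : H34.SplitP1.P1 k, y ∉ H34.SplitP1.U k i := by
  by_contra hc
  push Not at hc
  open H34.SplitP1 in
  have key : ∀ j : Fin 2, (∀ y : P1 k, y ∈ U k i) → j ≠ i → False := fun j hall hj => by
    have hb : (P1 k).basicOpen (φ k j Polynomial.X) = U k j := by
      rw [basicOpen_φ_X_eq_U01]
      refine le_antisymm (U01_le k j) ?_
      fin_cases i <;> fin_cases j <;> simp at hj <;> exact fun y hy => by
        first | exact ⟨hall y, hy⟩ | exact ⟨hy, hall y⟩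
    have hu : IsUnit (φ k j Polynomial.X) := by
      refine (P1 k).toRingedSpace.isUnit_of_isUnit_germ _ _ fun y hy => ?_
      exact ((P1 k).mem_basicOpen _ y hy).1 (hb.ge hy)
    let e := RingEquiv.ofBijective (φ k j) (φ_bijective k j)
    exact Polynomial.not_isUnit_X ((MulEquiv.isUnit_map e).1 hu)
  fin_cases i
  · exact key 1 hc (by decide)
  · exact key 0 hc (by decide)

/-- The genus of a proper regular curve with constant global functions is that of its function field. -/
theorem genus_eq (h : CurveHyp X)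
    (h0 : Module.finrank k (Coh.HH X (Coh.structureModule X) 0) = 1) :
    Curv2.genus k X = _root_.FunFld.genus k X.functionField := by
  have hK := isFunctionField (k := k) h h0
  obtain ⟨f, hfin, hf⟩ := Curves.FiniteToP1.exists_isFinite_toP1 (k := k) (X := X) h.dim.le
  have hη := DoubleCover.generic_eq f h.dim
  have hmem := DoubleCover.generic_mem f hη
  have hsurj : Function.Surjective f := fun y => by
    have hcl : IsClosed (Set.range f) := f.isClosedMap.isClosed_range
    exact hcl.closure_subset_iff.2 (Set.singleton_subset_iff.2 ⟨_, hη⟩)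
      ((genericPoint_spec (H34.SplitP1.P1 k)).symm ▸ Set.mem_univ y : y ∈ closure {genericPoint (H34.SplitP1.P1 k)})
  have hpt : ∀ i, ∃ x : CPt X, x.1 ∉ H34.HyperEll.V f i := fun i => by
    obtain ⟨y, hy⟩ := exists_notMem_U (k := k) i
    obtain ⟨x, rfl⟩ := hsurj y
    refine ⟨⟨x, (SmoothCurve.Curve.eq_genericPoint_or_isClosed h.dim x).resolve_left ?_⟩, hy⟩
    rintro rfl
    exact hy (hmem i)
  obtain ⟨x0, hx0⟩ := hpt 0
  obtain ⟨x1, hx1⟩ := hpt 1
  exact genus_eq_of_cover h hK (H34.HyperEll.sup_V f)
    (IsAffineHom.isAffine_preimage (f := f) (H34.SplitP1.U k 0)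
      (ProjSpace.Basic.isAffineOpen_basicOpen_X (R := k) 0))
    (IsAffineHom.isAffine_preimage (f := f) (H34.SplitP1.U k 1)
      (ProjSpace.Basic.isAffineOpen_basicOpen_X (R := k) 1)) (hmem 0) (hmem 1) x0 x1 hx0 hx1

end Groth.Agent.Lib.CurveFF
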