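import Groth.Agent.Lib.CurveFF.Basic
import Groth.Agent.Lib.Curves.GlobalSections
import Groth.Agent.Lib.CurveBundle.SmoothField
import Groth.Prelude.Def_Pi1
import Mathlib.RingTheory.DiscreteValuationRing.TFAE
import Mathlib.RingTheory.RegularLocalRing.Defs

/-!
Sources of the curve hypothesis and constants of the function field.
-/

noncomputable section
set_option autoImplicit false
set_option linter.style.haveILetI false
universe u

open CategoryTheory AlgebraicGeometry TopologicalSpace Opposite

namespace Groth.Agent.Lib.CurveFF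

attribute [local instance] Curv2.stalkAlgebra

variable (k : Type u) [Field k] {X : Scheme.{u}} [X.Over (Spec (CommRingCat.of k))] [IsIntegral X]

omit [X.Over (Spec (CommRingCat.of k))] in
theorem krullDim_stalk_le (hdim : topologicalKrullDim X = 1) (x : X) :
    ringKrullDim (X.presheaf.stalk x) ≤ 1 := by
  rw [ringKrullDim_stalk_eq_coheight]
  exact (SmoothCurve.Stalk.coheight_le_topologicalKrullDim x).trans hdim.le

omit [X.Over (Spec (CommRingCat.of k))] in
theorem not_isField_closed (hdim : topologicalKrullDim X = 1) {x : X} (hx : IsClosed ({x} : Set X)) :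
    ¬ IsField (X.presheaf.stalk x) :=
  SmoothCurve.Stalk.not_isField_stalk
    (SmoothCurve.Stalk.ne_genericPoint_of_isClosed (by rw [hdim]; exact one_ne_zero) hx)

variable [LocallyOfFiniteType (X ↘ Spec (CommRingCat.of k))]

include k in
theorem noetherian_stalk (x : X) : IsNoetherianRing (X.presheaf.stalk x) :=
  haveI : IsLocallyNoetherian X :=
    LocallyOfFiniteType.isLocallyNoetherian (X ↘ Spec (CommRingCat.of k))
  inferInstance

include k in
theorem curveHyp_of_isNormalScheme (hdim : topologicalKrullDim X = 1) (hn : Pi1.IsNormalScheme X) :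
    CurveHyp X := ⟨hdim, fun x hx => by
  have := noetherian_stalk k x
  have := (hn x).2
  have hnf := not_isField_closed hdim hx
  have h1 : Ring.KrullDimLE 1 (X.presheaf.stalk x) :=
    Ring.krullDimLE_iff.2 (krullDim_stalk_le hdim x)
  have huniq : IsIntegrallyClosed (X.presheaf.stalk x) ∧
      ∃! P : Ideal (X.presheaf.stalk x), P ≠ ⊥ ∧ P.IsPrime :=
    ⟨inferInstance, IsLocalRing.maximalIdeal (X.presheaf.stalk x),
      ⟨IsLocalRing.isField_iff_maximalIdeal_eq.not.1 hnf,
        (IsLocalRing.maximalIdeal.isMaximal (X.presheaf.stalk x)).isPrime⟩,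
      fun P hP => IsLocalRing.eq_maximalIdeal
        (Ring.krullDimLE_one_iff_of_isPrime_bot.1 h1 P hP.1 hP.2)⟩
  exact ((IsDiscreteValuationRing.TFAE (X.presheaf.stalk x) hnf).out 0 3).2 huniq⟩

include k in
theorem curveHyp_of_regular (hdim : topologicalKrullDim X = 1)
    (hr : ∀ x : X, IsRegularLocalRing (X.presheaf.stalk x)) : CurveHyp X := ⟨hdim, fun x hx => by
  have := noetherian_stalk k x
  have hnf := not_isField_closed hdim hx
  refine ((IsDiscreteValuationRing.TFAE (X.presheaf.stalk x) hnf).out 0 4).2 ?_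
  have hfg : (IsLocalRing.maximalIdeal (X.presheaf.stalk x)).FG := IsNoetherian.noetherian _
  obtain ⟨s, hs, hspan⟩ := Submodule.FG.exists_span_finset_card_eq_spanFinrank hfg
  have hle : s.card ≤ 1 := by
    have h := (hr x).spanFinrank_maximalIdeal
    have h' := krullDim_stalk_le hdim x
    rw [← h] at h'
    rw [hs]
    exact_mod_cast h'
  obtain ⟨a, ha⟩ := Finset.card_le_one_iff_subset_singleton.1 hle
  rcases Finset.subset_singleton_iff.1 ha with rfl | rfl
  · exact ⟨⟨0, by rw [← hspan]; simp⟩⟩
  · exact ⟨⟨a, by rw [← hspan]; simp⟩⟩⟩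

omit [LocallyOfFiniteType (X ↘ Spec (CommRingCat.of k))] in
theorem curveHyp_of_smooth [Smooth (X ↘ Spec (CommRingCat.of k))]
    (hdim : topologicalKrullDim X = 1) : CurveHyp X := ⟨hdim, fun x hx => by
  have := (CurveBundle.SmoothField.closed_stalk k hdim.le hx).2
  exact { not_a_field' := IsLocalRing.isField_iff_maximalIdeal_eq.not.1 (not_isField_closed hdim hx) }⟩

variable {k}

omit [X.Over (Spec (CommRingCat.of k))] [LocallyOfFiniteType (X ↘ Spec (CommRingCat.of k))] in
/-- Rational functions regular at every point are global sections. -/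
theorem exists_global (b : X.functionField)
    (h : ∀ y, b ∈ (algebraMap (X.presheaf.stalk y) X.functionField).range) :
    ∃ s : Γ(X, ⊤), X.presheaf.germ ⊤ (genericPoint X) trivial s = b := by
  choose t ht using h
  choose U hyU sU hsU using fun y => X.presheaf.exists_germ_eq (t y)
  have hη : ∀ y, genericPoint X ∈ U y := fun y => (genericPoint_specializes y).mem_open (U y).2 (hyU y)
  have hb : ∀ y, X.presheaf.germ (U y) (genericPoint X) (hη y) (sU y) = b := fun y => by
    haveI : Nonempty (U y) := ⟨⟨_, hη y⟩⟩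
    rw [← ht y, ← hsU y]
    exact (Scheme.algebraMap_germ_eq_germToFunctionField (X := X) (hyU y) (sU y)).symm
  have hcov : ⊤ ≤ iSup U := fun y _ => Opens.mem_iSup.2 ⟨y, hyU y⟩
  have hcompat : X.presheaf.IsCompatible U sU := fun i j => by
    have hij : genericPoint X ∈ U i ⊓ U j := ⟨hη i, hη j⟩
    apply germ_injective_of_isIntegral X (U := U i ⊓ U j) (genericPoint X) hij
    exact (X.presheaf.germ_res_apply _ _ hij _).trans ((hb i).trans
      ((hb j).symm.trans (X.presheaf.germ_res_apply _ _ hij _).symm))
  obtain ⟨s, hs, -⟩ := X.sheaf.existsUnique_gluing' U ⊤ (fun y => homOfLE le_top) hcov sU hcompat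
  obtain ⟨y⟩ : Nonempty X := inferInstance
  refine ⟨s, ?_⟩
  rw [← hb y, ← hs y]
  exact (X.presheaf.germ_res_apply (homOfLE le_top) (genericPoint X) (hη y) s).symm

/-- Constant global functions give algebraically closed constants in the function field. -/
theorem isFunctionField [IsProper (X ↘ Spec (CommRingCat.of k))] (h : CurveHyp X)
    (h0 : Module.finrank k (Coh.HH X (Coh.structureModule X) 0) = 1) :
    _root_.FunFld.IsFunctionField k X.functionField := by
  refine ⟨isFF h.dim, fun y hy => ?_⟩
  have hreg : ∀ x : X, y ∈ (algebraMap (X.presheaf.stalk x) X.functionField).range := fun x => by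
    rcases SmoothCurve.Curve.eq_genericPoint_or_isClosed h.dim x with rfl | hx
    · exact ⟨y, by simp [RingHom.algebraMap_toAlgebra]⟩
    · have := h.dvr x hx
      haveI : IsScalarTower k (X.presheaf.stalk x) X.functionField :=
        .of_algebraMap_eq fun c => (algebraMap_const x c).symm
      exact IsIntegrallyClosed.isIntegral_iff.1 (IsIntegral.tower_top hy.isIntegral)
  obtain ⟨s, rfl⟩ := exists_global y hreg
  letI := Curves.GlobalSections.secModule k (Coh.structureModule X)
  rw [(Curves.GlobalSections.h0Linear k (Coh.structureModule X)).finrank_eq] at h0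
  letI : Algebra k Γ(X, ⊤) :=
    RingHom.toAlgebra (S := Γ(X, ⊤)) (Coh.toGlobal (X ↘ Spec (CommRingCat.of k)))
  obtain ⟨c, hc⟩ := (finrank_eq_one_iff_of_nonzero' (1 : Γ(X, ⊤)) one_ne_zero).1 h0 s
  refine ⟨c, ?_⟩
  refine Eq.trans ?_ (congrArg (X.presheaf.germ ⊤ (genericPoint X) trivial).hom hc)
  exact congrArg (X.presheaf.germ ⊤ (genericPoint X) trivial).hom
    (mul_one (algebraMap k Γ(X, ⊤) c)).symm

end Groth.Agent.Lib.CurveFF
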