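import Groth.Agent.Lib.FunFld.Ext
import Groth.Agent.Lib.FunFld.Riemann
import Groth.Agent.Lib.FunFld.Rational
import Groth.Agent.Lib.FunFld.SmallGenus
import Groth.Agent.H81.FunFldSub

/-!
Involutions of a function field over an algebraically closed field of characteristic not two:
the genus of the fixed field and the number of fixed places.
-/

noncomputable section
set_option autoImplicit false
set_option linter.style.haveILetI false
universe u v

open IntermediateField
open Groth.Agent.Lib.FunFld Groth.Agent.Lib.FunFld.Degree Groth.Agent.Lib.FunFld.Riemann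
  Groth.Agent.Lib.FunFld.Place

namespace Groth.Agent.Lib.CurveFF.InvolFF

variable {k : Type u} {K : Type v} [Field k] [Field K] [Algebra k K] (σ : K ≃ₐ[k] K)

local notation "Pl" => _root_.FunFld.Place k K

/-- The fixed field. -/
def fixedF : IntermediateField k K where
  carrier := {z | σ z = z}
  add_mem' {a b} (ha : σ a = a) (hb : σ b = b) := by
    show σ (a + b) = a + b
    rw [map_add, ha, hb]
  mul_mem' {a b} (ha : σ a = a) (hb : σ b = b) := by
    show σ (a * b) = a * b
    rw [map_mul, ha, hb]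
  algebraMap_mem' c := σ.commutes c
  inv_mem' a (ha : σ a = a) := by
    show σ a⁻¹ = a⁻¹
    rw [map_inv₀, ha]

theorem mem_fixedF {z : K} : z ∈ fixedF σ ↔ σ z = z := Iff.rfl

/-- Data of an involution. -/
structure Invol : Prop where
  invol : ∀ z, σ (σ z) = z
  ne_id : ∃ z, σ z ≠ z
  two_ne : (2 : k) ≠ 0

variable {σ}

theorem two_ne' (hσ : Invol σ) : (2 : K) ≠ 0 := by
  rw [← map_ofNat (algebraMap k K) 2]
  exact fun h => hσ.two_ne ((map_eq_zero _).1 h)

theorem exists_anti (hσ : Invol σ) : ∃ y : K, y ≠ 0 ∧ σ y = -y := by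
  obtain ⟨z, hz⟩ := hσ.ne_id
  refine ⟨z - σ z, sub_ne_zero.2 (Ne.symm hz), ?_⟩
  rw [map_sub, hσ.invol, neg_sub]

theorem exists_decomp (hσ : Invol σ) {y : K} (hy : y ≠ 0) (hσy : σ y = -y) (z : K) :
    ∃ α β : K, α ∈ fixedF σ ∧ β ∈ fixedF σ ∧ z = α + β * y ∧ 2 * α = z + σ z ∧
      2 * (β * y) = z - σ z := by
  have h2 := two_ne' hσ
  refine ⟨(z + σ z) / 2, (z - σ z) / (2 * y), ?_, ?_, ?_, ?_, ?_⟩
  · show σ _ = _
    rw [map_div₀, map_add, hσ.invol, map_ofNat, add_comm]
  · show σ _ = _
    rw [map_div₀, map_sub, hσ.invol, map_mul, map_ofNat, hσy, mul_neg, div_neg, ← neg_div, neg_sub]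
  · field_simp
    ring
  · field_simp
  · field_simp

theorem finrank_two (hσ : Invol σ) :
    Module.finrank (fixedF σ) K = 2 := by
  obtain ⟨y, hy, hσy⟩ := exists_anti hσ
  have hli : LinearIndependent (fixedF σ) ![(1 : K), y] := by
    rw [LinearIndependent.pair_iff]
    intro s t hst
    rw [Algebra.smul_def, Algebra.smul_def, mul_one] at hst
    change (s : K) + (t : K) * y = 0 at hst
    have h' := congrArg σ hst
    rw [map_add, map_mul, mem_fixedF σ |>.1 s.2, mem_fixedF σ |>.1 t.2, hσy, map_zero] at h'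
    have h2 := two_ne' hσ
    have hs : (s : K) = 0 := mul_left_cancel₀ h2 (by linear_combination hst + h')
    have ht : (t : K) = 0 := by
      rw [hs, zero_add] at hst
      exact (mul_eq_zero.1 hst).resolve_right hy
    exact ⟨Subtype.ext hs, Subtype.ext ht⟩
  have hsp : ⊤ ≤ Submodule.span (fixedF σ) (Set.range ![(1 : K), y]) := by
    intro z _
    obtain ⟨α, β, hα, hβ, rfl, -, -⟩ := exists_decomp hσ hy hσy z
    refine add_mem ?_ ?_
    · have : α = (⟨α, hα⟩ : fixedF σ) • (1 : K) := by rw [Algebra.smul_def, mul_one]; rfl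
      rw [this]
      exact Submodule.smul_mem _ _ (Submodule.subset_span ⟨0, rfl⟩)
    · exact Submodule.smul_mem _ (⟨β, hβ⟩ : fixedF σ) (Submodule.subset_span ⟨1, rfl⟩)
  rw [Module.finrank_eq_card_basis (Module.Basis.mk hli hsp), Fintype.card_fin]

theorem finiteDimensional (hσ : Invol σ) : FiniteDimensional (fixedF σ) K :=
  Module.finite_of_finrank_eq_succ (finrank_two hσ)

theorem exists_transcendental (hσ : Invol σ) (hK : _root_.FunFld.IsFunctionField k K) :
    ∃ x ∈ fixedF σ, Transcendental k x := by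
  by_contra hne
  push Not at hne
  have hbot : ∀ x ∈ fixedF σ, x ∈ Set.range (algebraMap k K) := fun x hx => hK.2 x (by
    by_contra h
    exact hne x hx h)
  obtain ⟨t, ht⟩ := Riemann.exists_transcendental hK
  have h1 : t + σ t ∈ fixedF σ := by
    show σ _ = _
    rw [map_add, hσ.invol, add_comm]
  have h2 : t * σ t ∈ fixedF σ := by
    show σ _ = _
    rw [map_mul, hσ.invol, mul_comm]
  obtain ⟨b, hb⟩ := hbot _ h1
  obtain ⟨c, hc⟩ := hbot _ h2
  refine ht ⟨Polynomial.X ^ 2 - Polynomial.C b * Polynomial.X + Polynomial.C c,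
    fun h0 => ?_, ?_⟩
  · have := congrArg (fun p => Polynomial.coeff p 2) h0
    simp at this
  · simp only [map_add, map_sub, map_mul, map_pow, Polynomial.aeval_X, Polynomial.aeval_C, hb, hc]
    ring

theorem isFunctionField (hσ : Invol σ) (hK : _root_.FunFld.IsFunctionField k K) :
    _root_.FunFld.IsFunctionField k (fixedF σ) :=
  (H81.FunFldSub.finiteDimensional_over hK _ (exists_transcendental hσ hK)).2

/-- A place is fixed by the involution. -/
def IsFix (σ : K ≃ₐ[k] K) (Q : Pl) : Prop := ∀ z, Q.1 (σ z) = Q.1 z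

variable [IsAlgClosed k]

/-- The conjugate place. -/
theorem exists_conj (σ : K ≃ₐ[k] K) (Q : Pl) : ∃ Q' : Pl, ∀ z, Q'.1 z = Q.1 (σ z) :=
  ⟨⟨Q.1.comap (σ.toAlgHom.toRingHom), fun c => by
      change Q.1 (σ (algebraMap k K c)) ≤ 1
      rw [σ.commutes]
      exact Q.2.1 c,
    fun w => by
      obtain ⟨x, hx⟩ := Q.2.2 w
      exact ⟨σ.symm x, by
        change Q.1 (σ (σ.symm x)) = w
        rw [σ.apply_symm_apply, hx]⟩⟩, fun _ => rfl⟩

theorem isOverWith_conj {σ : K ≃ₐ[k] K} {Q Q' : Pl} (h' : ∀ z, Q'.1 z = Q.1 (σ z))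
    {P : _root_.FunFld.Place k (fixedF σ)} {e : ℕ} (he : _root_.FunFld.IsOverWith Q P e) :
    _root_.FunFld.IsOverWith Q' P e := fun x => by
  rw [h']
  exact (congrArg Q.1 (show σ (x : K) = x from x.2)).trans (he x)

/-- Above a place of the fixed field. -/
theorem over_cases (hσ : Invol σ) (hK : _root_.FunFld.IsFunctionField k K)
    {Q Q' : Pl} {P : _root_.FunFld.Place k (fixedF σ)} {e e' : ℕ}
    (he : _root_.FunFld.IsOverWith Q P e) (he' : _root_.FunFld.IsOverWith Q' P e') :
    1 ≤ e ∧ e ≤ 2 ∧ (e = 2 → Q' = Q) := by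
  classical
  haveI := finiteDimensional hσ
  have hE := isFunctionField hσ hK
  obtain ⟨hfin, hsum⟩ := Ext.sum_ramIdx_mul_deg (K' := K) hE P
  rw [finrank_two hσ, FunFld.Rational.deg_eq_one hE, mul_one] at hsum
  have hQ : Q ∈ hfin.toFinset := hfin.mem_toFinset.2 ⟨e, he⟩
  have hQ' : Q' ∈ hfin.toFinset := hfin.mem_toFinset.2 ⟨e', he'⟩
  have hterm : ∀ R ∈ hfin.toFinset,
      _root_.FunFld.ramIdx R P * R.deg = _root_.FunFld.ramIdx R P := fun R _ => by
    rw [FunFld.Rational.deg_eq_one hK R, mul_one]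
  rw [Finset.sum_congr rfl hterm] at hsum
  have h1 := Finset.single_le_sum (f := fun R => _root_.FunFld.ramIdx R P) (fun R _ => Nat.zero_le _) hQ
  rw [hsum, Ext.ramIdx_eq he] at h1
  refine ⟨Ext.pos_of_isOverWith he, h1, fun h2 => by_contra fun hne => ?_⟩
  have h3 := Finset.sum_le_sum_of_subset (f := fun R => _root_.FunFld.ramIdx R P)
    (show {Q, Q'} ⊆ hfin.toFinset by
      intro R hR
      rcases Finset.mem_insert.1 hR with rfl | hR
      · exact hQ
      · rw [Finset.mem_singleton.1 hR]; exact hQ')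
  rw [Finset.sum_pair (Ne.symm hne), hsum, Ext.ramIdx_eq he, Ext.ramIdx_eq he', h2] at h3
  have := Ext.pos_of_isOverWith he'
  omega

theorem two_mul_ord {y : K} (hy : y ≠ 0) {a : fixedF σ} (ha : (a : K) = y ^ 2) {Q : Pl}
    {P : _root_.FunFld.Place k (fixedF σ)} {e : ℕ} (he : _root_.FunFld.IsOverWith Q P e) :
    2 * Q.ord y = (e : ℤ) * P.ord a := by
  have h := Ext.ord_map he a
  rw [show algebraMap (fixedF σ) K a = y ^ 2 from ha, FunFld.Place.ord_pow] at h
  exact_mod_cast h

/-- A place over an even place is moved. -/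
theorem not_isFix_of_even (hσ : Invol σ) (hK : _root_.FunFld.IsFunctionField k K)
    {y : K} (hy : y ≠ 0) (hσy : σ y = -y) {a : fixedF σ} (ha : (a : K) = y ^ 2) {Q : Pl}
    {P : _root_.FunFld.Place k (fixedF σ)} {e : ℕ} (he : _root_.FunFld.IsOverWith Q P e)
    (hev : 2 ∣ P.ord a) : ¬ IsFix σ Q := by
  intro hfix
  haveI := finiteDimensional hσ
  have hE := isFunctionField hσ hK
  obtain ⟨m, hm⟩ := hev
  have ha0 : a ≠ 0 := fun h => by
    rw [h] at ha
    exact pow_ne_zero 2 hy ha.symm
  obtain ⟨b, hb⟩ := FunFld.Place.exists_val_eq_exp P m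
  have hb0 : b ≠ 0 := fun h => by
    rw [h, map_zero] at hb
    exact WithZero.exp_ne_zero hb.symm
  set u : fixedF σ := a * b ^ 2 with hu
  have hu1 : P.1 u = 1 := by
    rw [hu, map_mul, map_pow, hb, FunFld.Place.val_eq_exp P ha0, ← WithZero.exp_nsmul,
      ← WithZero.exp_add, ← WithZero.exp_zero]
    congr 1
    rw [nsmul_eq_mul]
    push_cast
    omega
  let U : P.O := ⟨u, hu1.le⟩
  have hfinres := FunFld.Existence.finiteDimensional_residueField hE P
  haveI : Algebra.IsIntegral k (IsLocalRing.ResidueField P.O) :=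
    @Algebra.IsIntegral.of_finite k (IsLocalRing.ResidueField P.O) _ _ _ hfinres
  obtain ⟨c, hc⟩ := (IsAlgClosed.algebraMap_bijective_of_isIntegral (k := k)
    (K := IsLocalRing.ResidueField P.O)).2 (IsLocalRing.residue P.O U)
  have hdiff : P.1 (u - algebraMap k (fixedF σ) c) < 1 := by
    have h0 : IsLocalRing.residue P.O (U - algebraMap k P.O c) = 0 := by
      rw [map_sub, ← FunFld.Place.algebraMap_residue, hc, sub_self]
    exact (FunFld.Place.res_eq_zero_iff P _).1 h0
  have hc0 : c ≠ 0 := fun h => by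
    rw [h, map_zero, sub_zero, hu1] at hdiff
    exact lt_irrefl _ hdiff
  obtain ⟨r, hr⟩ := IsAlgClosed.exists_pow_nat_eq c (zero_lt_two (α := ℕ))
  have hr0 : r ≠ 0 := fun h => hc0 (by rw [← hr, h, zero_pow two_ne_zero])
  set w : K := (b : K) * y with hw
  have hprod : (w - algebraMap k K r) * (w + algebraMap k K r) =
      algebraMap (fixedF σ) K (u - algebraMap k (fixedF σ) c) := by
    rw [map_sub, ← IsScalarTower.algebraMap_apply, ← hr, map_pow, hw]
    show _ = ((a * b ^ 2 : fixedF σ) : K) - _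
    push_cast
    rw [ha]
    ring
  have hlt : Q.1 ((w - algebraMap k K r) * (w + algebraMap k K r)) < 1 := by
    rw [hprod, he]
    exact pow_lt_one₀ zero_le hdiff (Ext.pos_of_isOverWith he).ne'
  have hsw : σ w = -w := by rw [hw, map_mul, mem_fixedF σ |>.1 b.2, hσy, mul_neg]
  have heq : Q.1 (w + algebraMap k K r) = Q.1 (w - algebraMap k K r) := by
    rw [← hfix (w + algebraMap k K r), map_add, hsw, σ.commutes, ← Valuation.map_neg]
    congr 1
    ring
  rw [map_mul, heq] at hlt
  have hlt1 : Q.1 (w - algebraMap k K r) < 1 := by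
    by_contra hge
    push Not at hge
    exact absurd hlt (not_lt.2 (one_le_mul hge hge))
  have h2r : Q.1 (algebraMap k K (2 * r)) < 1 := by
    rw [show algebraMap k K (2 * r) = (w + algebraMap k K r) - (w - algebraMap k K r) by
      rw [map_mul, map_ofNat]; ring]
    exact Q.1.map_sub_lt (heq ▸ hlt1) hlt1
  rw [FunFld.Place.val_algebraMap Q (mul_ne_zero hσ.two_ne hr0)] at h2r
  exact lt_irrefl _ h2r

/-- A place over an odd place is fixed. -/
theorem isFix_of_odd (hσ : Invol σ) (hK : _root_.FunFld.IsFunctionField k K)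
    {y : K} (hy : y ≠ 0) {a : fixedF σ} (ha : (a : K) = y ^ 2) {Q : Pl}
    {P : _root_.FunFld.Place k (fixedF σ)} {e : ℕ} (he : _root_.FunFld.IsOverWith Q P e)
    (hodd : ¬ 2 ∣ P.ord a) : IsFix σ Q := by
  have hp := two_mul_ord hy ha he
  obtain ⟨h1, h2, h3⟩ := over_cases hσ hK he he
  have he2 : e = 2 := by
    by_contra hne
    obtain rfl : e = 1 := by omega
    exact hodd ⟨Q.ord y, by omega⟩
  obtain ⟨Q', hQ'⟩ := exists_conj σ Q
  obtain ⟨-, -, h⟩ := over_cases hσ hK he (isOverWith_conj hQ' he)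
  intro z
  rw [← hQ' z, h he2]

/-- The halved divisor. -/
def halfDiv {σ : K ≃ₐ[k] K} (a : fixedF σ) : _root_.FunFld.Divisor k (fixedF σ) :=
  Finsupp.mapRange (· / 2) rfl (_root_.FunFld.div k a)

theorem exists_decomp_L (hσ : Invol σ) (hK : _root_.FunFld.IsFunctionField k K)
    {y : K} (hy : y ≠ 0) (hσy : σ y = -y) {a : fixedF σ} (ha : (a : K) = y ^ 2)
    (D : _root_.FunFld.Divisor k (fixedF σ)) :
    _root_.FunFld.ell (_root_.FunFld.conorm K D) =
      _root_.FunFld.ell D + _root_.FunFld.ell (D + halfDiv a) := by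
  haveI := finiteDimensional hσ
  have hE := isFunctionField hσ hK
  have hM : ∀ P, (D + halfDiv a) P = D P + P.ord a / 2 := fun P => by
    rw [Finsupp.add_apply, halfDiv, Finsupp.mapRange_apply, Degree.div_apply hE]
  have hinv : ∀ z, z ∈ _root_.FunFld.L (_root_.FunFld.conorm K D) →
      σ z ∈ _root_.FunFld.L (_root_.FunFld.conorm K D) := by
    intro z hz Q
    obtain ⟨Q', hQ'⟩ := exists_conj σ Q
    obtain ⟨P, e, -, he⟩ := Ext.exists_place_below hE Q
    have h := hz Q'
    rw [Ext.conorm_apply hE D (isOverWith_conj hQ' he), ← Ext.conorm_apply hE D he, hQ'] at h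
    exact h
  have hα : ∀ α : fixedF σ, (α : K) ∈ _root_.FunFld.L (_root_.FunFld.conorm K D) ↔
      α ∈ _root_.FunFld.L D := by
    intro α
    rcases eq_or_ne α 0 with rfl | h0
    · simp
    rw [mem_L_iff_ord, mem_L_iff_ord,
      or_iff_right (show ¬ ((α : K) = 0) from fun h => h0 (Subtype.ext h)), or_iff_right h0]
    refine ⟨fun h P => ?_, fun h Q => ?_⟩
    · obtain ⟨Q, e, he⟩ := Ext.exists_over (K' := K) hE P
      have h1 := h Q
      rw [Ext.conorm_apply hE D he, show (α : K) = algebraMap (fixedF σ) K α from rfl,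
        Ext.ord_map he, ← mul_neg] at h1
      exact le_of_mul_le_mul_left h1 (by exact_mod_cast Ext.pos_of_isOverWith he)
    · obtain ⟨P, e, -, he⟩ := Ext.exists_place_below hE Q
      rw [Ext.conorm_apply hE D he, show (α : K) = algebraMap (fixedF σ) K α from rfl,
        Ext.ord_map he, ← mul_neg]
      exact mul_le_mul_of_nonneg_left (h P) (by positivity)
  have hβ : ∀ β : fixedF σ, (β : K) * y ∈ _root_.FunFld.L (_root_.FunFld.conorm K D) ↔
      β ∈ _root_.FunFld.L (D + halfDiv a) := by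
    intro β
    rcases eq_or_ne β 0 with rfl | h0
    · simp
    have h0' : (β : K) ≠ 0 := fun h => h0 (Subtype.ext h)
    rw [mem_L_iff_ord, mem_L_iff_ord, or_iff_right (mul_ne_zero h0' hy), or_iff_right h0]
    have key : ∀ {Q : Pl} {P : _root_.FunFld.Place k (fixedF σ)} {e : ℕ},
        _root_.FunFld.IsOverWith Q P e →
        (-_root_.FunFld.conorm K D Q ≤ Q.ord ((β : K) * y) ↔ -(D + halfDiv a) P ≤ P.ord β) := by
      intro Q P e he
      have hp := two_mul_ord hy ha he
      have he0 : (0 : ℤ) < e := by exact_mod_cast Ext.pos_of_isOverWith he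
      rw [Ext.conorm_apply hE D he, FunFld.Place.ord_mul Q h0' hy,
        show (β : K) = algebraMap (fixedF σ) K β from rfl, Ext.ord_map he, hM]
      constructor
      · intro h
        have h' : (e : ℤ) * (-(2 * D P) - P.ord a) ≤ (e : ℤ) * (2 * P.ord β) := by linarith
        have := le_of_mul_le_mul_left h' he0
        omega
      · intro h
        have h' : -(2 * D P) - P.ord a ≤ 2 * P.ord β := by omega
        have := mul_le_mul_of_nonneg_left h' he0.le
        linarith
    refine ⟨fun h P => ?_, fun h Q => ?_⟩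
    · obtain ⟨Q, e, he⟩ := Ext.exists_over (K' := K) hE P
      exact (key he).1 (h Q)
    · obtain ⟨P, e, -, he⟩ := Ext.exists_place_below hE Q
      exact (key he).2 (h P)
  let f : _root_.FunFld.L D × _root_.FunFld.L (D + halfDiv a) →ₗ[k]
      _root_.FunFld.L (_root_.FunFld.conorm K D) :=
    { toFun := fun p => ⟨((p.1 : fixedF σ) : K) + ((p.2 : fixedF σ) : K) * y,
        add_mem ((hα _).2 p.1.2) ((hβ _).2 p.2.2)⟩
      map_add' := fun p q => Subtype.ext (by
        simp only [Prod.fst_add, Prod.snd_add, Submodule.coe_add, IntermediateField.coe_add]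
        ring)
      map_smul' := fun c p => Subtype.ext (by
        simp only [Prod.smul_fst, Prod.smul_snd, Submodule.coe_smul, IntermediateField.coe_smul,
          RingHom.id_apply, smul_add, smul_mul_assoc]) }
  have hbij : Function.Bijective f := by
    constructor
    · rw [injective_iff_map_eq_zero]
      rintro ⟨α, β⟩ h
      have h' : ((α : fixedF σ) : K) + ((β : fixedF σ) : K) * y = 0 := congrArg Subtype.val h
      have h'' := congrArg σ h'
      rw [map_add, map_mul, mem_fixedF σ |>.1 (α : fixedF σ).2, mem_fixedF σ |>.1 (β : fixedF σ).2,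
        hσy, map_zero] at h''
      have hα0 : ((α : fixedF σ) : K) = 0 :=
        mul_left_cancel₀ (two_ne' hσ) (by linear_combination h' + h'')
      rw [hα0, zero_add] at h'
      have hβ0 := (mul_eq_zero.1 h').resolve_right hy
      exact Prod.ext (Subtype.ext (Subtype.ext hα0)) (Subtype.ext (Subtype.ext hβ0))
    · rintro ⟨z, hz⟩
      obtain ⟨α, β, hα', hβ', hz', h2a, h2b⟩ := exists_decomp hσ hy hσy z
      have hsm : ∀ v : K, 2 * v ∈ _root_.FunFld.L (_root_.FunFld.conorm K D) →
          v ∈ _root_.FunFld.L (_root_.FunFld.conorm K D) := fun v hv => by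
        have := Submodule.smul_mem _ (2⁻¹ : k) hv
        rwa [Algebra.smul_def, map_inv₀, map_ofNat, inv_mul_cancel_left₀ (two_ne' hσ)] at this
      have ha' := hsm α (h2a ▸ add_mem hz (hinv z hz))
      have hb' := hsm (β * y) (h2b ▸ sub_mem hz (hinv z hz))
      exact ⟨(⟨⟨α, hα'⟩, (hα _).1 ha'⟩, ⟨⟨β, hβ'⟩, (hβ _).1 hb'⟩), Subtype.ext hz'.symm⟩
  haveI := Degree.finiteDimensional_L hE D
  haveI := Degree.finiteDimensional_L hE (D + halfDiv a)
  rw [_root_.FunFld.ell, ← (LinearEquiv.ofBijective f hbij).finrank_eq, Module.finrank_prod]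
  rfl

/-- The Hurwitz formula for an involution. -/
theorem genus_eq (hσ : Invol σ) (hK : _root_.FunFld.IsFunctionField k K) :
    {Q : Pl | IsFix σ Q}.Finite ∧
      2 * (_root_.FunFld.genus k K : ℤ) - 2 =
        4 * (_root_.FunFld.genus k (fixedF σ) : ℤ) - 4 + Nat.card {Q : Pl // IsFix σ Q} := by
  classical
  haveI := finiteDimensional hσ
  have hE := isFunctionField hσ hK
  obtain ⟨y, hy, hσy⟩ := exists_anti hσ
  let a : fixedF σ := ⟨y ^ 2, by show σ _ = _; rw [map_pow, hσy, neg_sq]⟩
  have ha : (a : K) = y ^ 2 := rfl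
  set A := _root_.FunFld.div k a with hA
  have hAP : ∀ P, A P = P.ord a := fun P => Degree.div_apply hE a P
  let S := A.support.filter fun P => ¬ 2 ∣ A P
  -- odd places and fixed places
  have hbelow : ∀ Q : Pl, IsFix σ Q → ∃ P ∈ S, _root_.FunFld.IsOver Q P := by
    intro Q hQ
    obtain ⟨P, e, -, he⟩ := Ext.exists_place_below hE Q
    have hodd : ¬ 2 ∣ P.ord a := fun h => not_isFix_of_even hσ hK hy hσy ha he h hQ
    refine ⟨P, Finset.mem_filter.2 ⟨Finsupp.mem_support_iff.2 ?_, by rw [hAP]; exact hodd⟩, e, he⟩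
    rw [hAP]
    exact fun h => hodd (h ▸ dvd_zero _)
  choose below hbS hbQ using hbelow
  let F : {Q : Pl // IsFix σ Q} → S := fun Q => ⟨below Q.1 Q.2, hbS Q.1 Q.2⟩
  have hF : Function.Bijective F := by
    constructor
    · rintro ⟨Q, hQ⟩ ⟨Q', hQ'⟩ h
      have hP : below Q hQ = below Q' hQ' := congrArg Subtype.val h
      obtain ⟨e, he⟩ := hbQ Q hQ
      obtain ⟨e', he'⟩ := hbQ Q' hQ'
      rw [← hP] at he'
      have hodd : ¬ 2 ∣ (below Q hQ).ord a := by
        rw [← hAP]
        exact (Finset.mem_filter.1 (hbS Q hQ)).2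
      have hp := two_mul_ord hy ha he
      obtain ⟨h1, h2, h3⟩ := over_cases hσ hK he he'
      refine Subtype.ext (h3 ?_).symm
      by_contra hne
      obtain rfl : e = 1 := by omega
      exact hodd ⟨Q.ord y, by omega⟩
    · rintro ⟨P, hP⟩
      obtain ⟨Q, e, he⟩ := Ext.exists_over (K' := K) hE P
      have hodd : ¬ 2 ∣ P.ord a := by
        rw [← hAP]
        exact (Finset.mem_filter.1 hP).2
      have hfix := isFix_of_odd hσ hK hy ha he hodd
      exact ⟨⟨Q, hfix⟩, Subtype.ext (Ext.isOver_unique (hbQ Q hfix) ⟨e, he⟩)⟩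
  haveI : Finite {Q : Pl // IsFix σ Q} := Finite.of_injective F hF.1
  refine ⟨Set.finite_coe_iff.1 (show Finite {Q : Pl // IsFix σ Q} from inferInstance), ?_⟩
  rw [Nat.card_eq_of_bijective F hF, Nat.card_eq_fintype_card, Fintype.card_coe]
  -- the degree of the halved divisor
  have hdM : 2 * (halfDiv a).deg + S.card = 0 := by
    have h0 : A.deg = 0 := Degree.deg_div hE a
    have hd1 : ∀ P : _root_.FunFld.Place k (fixedF σ), (P.deg : ℤ) = 1 := fun P => by
      rw [FunFld.Rational.deg_eq_one hE P]; rfl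
    rw [_root_.FunFld.Divisor.deg, Finsupp.sum] at h0
    rw [halfDiv, ← hA, _root_.FunFld.Divisor.deg, Finsupp.sum_mapRange_index (fun P => zero_mul _),
      Finsupp.sum, Finset.mul_sum]
    have hcard : (S.card : ℤ) = ∑ P ∈ A.support, A P % 2 := by
      rw [Finset.card_filter, Nat.cast_sum]
      refine Finset.sum_congr rfl fun P _ => ?_
      split_ifs with h
      · omega
      · omega
    rw [hcard, ← Finset.sum_add_distrib, ← h0]
    refine Finset.sum_congr rfl fun P _ => ?_
    rw [hd1, mul_one, mul_one]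
    omega
  -- large degree
  obtain ⟨N, hN⟩ := Riemann.exists_bound_delta_eq hE
  obtain ⟨N', hN'⟩ := Riemann.exists_bound_delta_eq hK
  obtain ⟨P₀⟩ := Riemann.nonempty_place hE
  obtain ⟨n, hn1, hn2, hn3⟩ : ∃ n : ℤ, N ≤ n ∧ N ≤ n + (halfDiv a).deg ∧ N' ≤ 2 * n :=
    ⟨max (max N (N - (halfDiv a).deg)) (max N' 0), by omega, by omega, by omega⟩
  let D : _root_.FunFld.Divisor k (fixedF σ) := Finsupp.single P₀ n
  have hDd : D.deg = n := by
    rw [Degree.deg_single, FunFld.Rational.deg_eq_one hE P₀]; simp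
  have hc : (_root_.FunFld.conorm K D).deg = 2 * n := by
    rw [Ext.deg_conorm hE, finrank_two hσ, hDd]; rfl
  have e1 := hN D (by omega)
  have e2 := hN (D + halfDiv a) (by rw [Degree.deg_add]; omega)
  have e3 := hN' (_root_.FunFld.conorm K D) (by omega)
  have e4 := exists_decomp_L hσ hK hy hσy ha D
  simp only [Riemann.delta, Degree.deg_add, hDd, hc] at e1 e2 e3
  omega

end Groth.Agent.Lib.CurveFF.InvolFF
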