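import Groth.Agent.Lib.CurveFF.FieldExt
import Groth.Agent.Lib.CurveFF.InvolutionFF
import Groth.Agent.Lib.CurveFF.Hyp

/-!
Morphisms of curves act on function fields: faithfulness and fixed points of involutions.
-/

noncomputable section
set_option autoImplicit false
set_option linter.style.haveILetI false
universe u

open CategoryTheory AlgebraicGeometry TopologicalSpace
open Groth.Agent.Lib.FunFld

namespace Groth.Agent.Lib.CurveFF.AutoMap

attribute [local instance] Curv2.stalkAlgebra

variable {X Y Z : Scheme.{u}} [IsIntegral X] [IsIntegral Y] [IsIntegral Z]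

theorem fromSpecStalk_kMap (f : X ⟶ Y) (e : f (genericPoint X) = genericPoint Y) :
    X.fromSpecStalk (genericPoint X) ≫ f =
      Spec.map (CommRingCat.ofHom (FieldExt.kMap f e)) ≫ Y.fromSpecStalk (genericPoint Y) := by
  rw [show CommRingCat.ofHom (FieldExt.kMap f e) =
    Y.presheaf.stalkSpecializes (specializes_of_eq e) ≫ f.stalkMap (genericPoint X) from rfl,
    Spec.map_comp, Category.assoc, Scheme.SpecMap_stalkSpecializes_fromSpecStalk,
    Scheme.SpecMap_stalkMap_fromSpecStalk]

/-- A morphism is determined by its action on function fields. -/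
theorem ext_of_kMap [Y.IsSeparated] {f g : X ⟶ Y} (ef : f (genericPoint X) = genericPoint Y)
    (eg : g (genericPoint X) = genericPoint Y)
    (h : ∀ z, FieldExt.kMap f ef z = FieldExt.kMap g eg z) : f = g := by
  haveI : IsDominant (X.fromSpecStalk (genericPoint X)) := by
    refine ⟨?_⟩
    rw [DenseRange, Scheme.range_fromSpecStalk]
    exact Dense.mono (Set.singleton_subset_iff.2 (specializes_refl (genericPoint X)))
      (dense_iff_closure_eq.2 (genericPoint_spec X).def)
  refine ext_of_isDominant (X.fromSpecStalk (genericPoint X)) ?_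
  rw [fromSpecStalk_kMap f ef, fromSpecStalk_kMap g eg, RingHom.ext h]

theorem kMap_comp (f : X ⟶ Y) (g : Y ⟶ Z) (ef : f (genericPoint X) = genericPoint Y)
    (eg : g (genericPoint Y) = genericPoint Z) (efg : (f ≫ g) (genericPoint X) = genericPoint Z)
    (z : Z.functionField) :
    FieldExt.kMap (f ≫ g) efg z = FieldExt.kMap f ef (FieldExt.kMap g eg z) := by
  obtain ⟨U, hU, s, rfl⟩ := Z.presheaf.exists_germ_eq z
  have hY : genericPoint Y ∈ g ⁻¹ᵁ U := show g (genericPoint Y) ∈ U by rw [eg]; exact hU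
  have hX : genericPoint X ∈ f ⁻¹ᵁ (g ⁻¹ᵁ U) :=
    show f (genericPoint X) ∈ g ⁻¹ᵁ U by rw [ef]; exact hY
  rw [FieldExt.kMap_germ g eg U hU hY, FieldExt.kMap_germ f ef _ hY hX,
    FieldExt.kMap_germ (f ≫ g) efg U hU hX]
  rfl

theorem kMap_id (e : (𝟙 X : X ⟶ X) (genericPoint X) = genericPoint X) (z : X.functionField) :
    FieldExt.kMap (𝟙 X) e z = z := by
  obtain ⟨U, hU, s, rfl⟩ := X.presheaf.exists_germ_eq z
  exact FieldExt.kMap_germ (𝟙 X) e U hU hU s

theorem kMap_congr {f g : X ⟶ Y} (h : f = g) (ef : f (genericPoint X) = genericPoint Y)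
    (eg : g (genericPoint X) = genericPoint Y) (z : Y.functionField) :
    FieldExt.kMap f ef z = FieldExt.kMap g eg z := by
  subst h; rfl

variable {k : Type u} [Field k] [X.Over (Spec (CommRingCat.of k))] [Y.Over (Spec (CommRingCat.of k))]

theorem kMap_const (f : X ⟶ Y)
    (hf : f ≫ (Y ↘ Spec (CommRingCat.of k)) = X ↘ Spec (CommRingCat.of k))
    (e : f (genericPoint X) = genericPoint Y) (c : k) :
    FieldExt.kMap f e (algebraMap k Y.functionField c) = algebraMap k X.functionField c := by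
  have h1 : f.app ⊤ (Coh.toGlobal (Y ↘ Spec (CommRingCat.of k)) c) =
      Coh.toGlobal (X ↘ Spec (CommRingCat.of k)) c := by
    rw [← hf]
    rfl
  refine (FieldExt.kMap_germ f e ⊤ trivial trivial (Coh.toGlobal (Y ↘ Spec (CommRingCat.of k)) c)).trans ?_
  exact congrArg (X.presheaf.germ (f ⁻¹ᵁ ⊤) (genericPoint X) trivial) h1

theorem genericPoint_fixed {σ : X ⟶ X} (h : σ ≫ σ = 𝟙 X) :
    σ (genericPoint X) = genericPoint X := by
  have hinv : ∀ x, σ (σ x) = x := fun x => by rw [← Scheme.Hom.comp_apply, h]; rfl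
  have h1 := (genericPoint_specializes (σ (genericPoint X))).map σ.continuous
  rw [hinv] at h1
  exact (h1.antisymm (genericPoint_specializes _)).eq

/-- The field automorphism of an involution. -/
def autAlg (σ : X ⟶ X) (hσ : σ ≫ (X ↘ Spec (CommRingCat.of k)) = X ↘ Spec (CommRingCat.of k))
    (h : σ ≫ σ = 𝟙 X) : X.functionField ≃ₐ[k] X.functionField :=
  AlgEquiv.ofBijective
    { FieldExt.kMap σ (genericPoint_fixed h) with
      commutes' := kMap_const σ hσ (genericPoint_fixed h) }
    (Function.Involutive.bijective fun z =>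
      (kMap_comp σ σ (genericPoint_fixed h) (genericPoint_fixed h)
        (by rw [h]; rfl) z).symm.trans ((kMap_congr h _ rfl z).trans (kMap_id rfl z)))

theorem autAlg_apply (σ : X ⟶ X)
    (hσ : σ ≫ (X ↘ Spec (CommRingCat.of k)) = X ↘ Spec (CommRingCat.of k))
    (h : σ ≫ σ = 𝟙 X) (z : X.functionField) :
    autAlg σ hσ h z = FieldExt.kMap σ (genericPoint_fixed h) z := rfl

theorem autAlg_autAlg (σ : X ⟶ X)
    (hσ : σ ≫ (X ↘ Spec (CommRingCat.of k)) = X ↘ Spec (CommRingCat.of k))
    (h : σ ≫ σ = 𝟙 X) (z : X.functionField) : autAlg σ hσ h (autAlg σ hσ h z) = z :=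
  (kMap_comp σ σ (genericPoint_fixed h) (genericPoint_fixed h)
    (by rw [h]; rfl) z).symm.trans ((kMap_congr h _ rfl z).trans (kMap_id rfl z))

theorem invol (σ : X ⟶ X) (hσ : σ ≫ (X ↘ Spec (CommRingCat.of k)) = X ↘ Spec (CommRingCat.of k))
    (h : σ ≫ σ = 𝟙 X) [X.IsSeparated] (hne : σ ≠ 𝟙 X) (h2 : (2 : k) ≠ 0) :
    InvolFF.Invol (autAlg σ hσ h) where
  invol := autAlg_autAlg σ hσ h
  ne_id := by
    by_contra hc
    push Not at hc
    exact hne (ext_of_kMap (genericPoint_fixed h) rfl fun z => (hc z).trans (kMap_id rfl z).symm)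
  two_ne := h2

variable [IsProper (X ↘ Spec (CommRingCat.of k))] (hX : CurveHyp X) (σ : X ⟶ X)
  (hσ : σ ≫ (X ↘ Spec (CommRingCat.of k)) = X ↘ Spec (CommRingCat.of k)) (h : σ ≫ σ = 𝟙 X)

include h in
theorem isClosed_image (x : CPt X) : IsClosed ({σ x.1} : Set X) := by
  have hinv : ∀ x, σ (σ x) = x := fun x => by rw [← Scheme.Hom.comp_apply, h]; rfl
  have : ({σ x.1} : Set X) = σ ⁻¹' {x.1} := by
    ext y
    simp only [Set.mem_singleton_iff, Set.mem_preimage]
    exact ⟨fun e => by rw [e, hinv], fun e => by rw [← e, hinv]⟩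
  rw [this]
  exact x.2.preimage σ.continuous

theorem placeOf_image (x : CPt X) (z : X.functionField) :
    (placeOf k hX ⟨σ x.1, isClosed_image σ h x⟩).1 z = (placeOf k hX x).1 (autAlg σ hσ h z) := by
  obtain ⟨Q', hQ'⟩ : ∃ Q' : _root_.FunFld.Place k X.functionField,
      ∀ w, Q'.1 w = (placeOf k hX x).1 (autAlg σ hσ h w) :=
    ⟨⟨(placeOf k hX x).1.comap (autAlg σ hσ h).toAlgHom.toRingHom, fun c => by
        change (placeOf k hX x).1 (autAlg σ hσ h (algebraMap k _ c)) ≤ 1
        rw [AlgEquiv.commutes]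
        exact (placeOf k hX x).2.1 c,
      fun w => by
        obtain ⟨a, ha⟩ := (placeOf k hX x).2.2 w
        exact ⟨autAlg σ hσ h a, by
          change (placeOf k hX x).1 (autAlg σ hσ h (autAlg σ hσ h a)) = w
          rw [autAlg_autAlg, ha]⟩⟩, fun _ => rfl⟩
  have heq : placeOf k hX ⟨σ x.1, isClosed_image σ h x⟩ = Q' := by
    refine FunFld.Place.place_eq_of_O_le fun g hg => ?_
    obtain ⟨a, rfl⟩ := (mem_O_placeOf hX _).1 hg
    show Q'.1 _ ≤ 1
    rw [hQ', autAlg_apply, FieldExt.kMap_algebraMap]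
    exact (mem_O_placeOf hX x).2 ⟨_, rfl⟩
  rw [heq, hQ']

include hσ in
/-- Fixed points are fixed places. -/
theorem isFix_iff (x : CPt X) :
    InvolFF.IsFix (autAlg σ hσ h) (placeOf k hX x) ↔ σ x.1 = x.1 := by
  haveI : IsSeparated (X ↘ Spec (CommRingCat.of k)) := inferInstance
  constructor
  · intro hf
    have : placeOf k hX ⟨σ x.1, isClosed_image σ h x⟩ = placeOf k hX x :=
      Subtype.ext (Valuation.ext fun z => (placeOf_image hX σ hσ h x z).trans (hf z))
    exact congrArg Subtype.val (placeOf_injective hX this)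
  · intro he z
    rw [← placeOf_image hX σ hσ h x z]
    exact congrArg (fun y => (placeOf k hX y).1 z) (Subtype.ext he)

include hX hσ in
theorem natCard_fixed :
    Nat.card {x : X // IsClosed ({x} : Set X) ∧ σ x = x} =
      Nat.card {Q : _root_.FunFld.Place k X.functionField //
        InvolFF.IsFix (autAlg σ hσ h) Q} := by
  refine Nat.card_congr (Equiv.trans
    { toFun := fun x => (⟨⟨x.1, x.2.1⟩, x.2.2⟩ : {y : CPt X // σ y.1 = y.1})
      invFun := fun y => ⟨y.1.1, y.1.2, y.2⟩
      left_inv := fun _ => rfl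
      right_inv := fun _ => rfl } ((placeEquiv (k := k) hX).subtypeEquiv fun x =>
        (isFix_iff hX σ hσ h x).symm))

end Groth.Agent.Lib.CurveFF.AutoMap
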