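import Groth.Agent.Lib.CurveFF.KaehlerRank
import Mathlib.RingTheory.Smooth.Basic
import Mathlib.FieldTheory.Separable

/-!
Double covers of the line by smooth curves of positive genus are separable.
-/

noncomputable section
set_option autoImplicit false
set_option linter.style.haveILetI false
universe u

open CategoryTheory AlgebraicGeometry TopologicalSpace
open Groth.Agent.H34.HyperEll Groth.Agent.H34.SplitP1
open Groth.Agent.Lib.Curves.PolePoint (cst)

namespace Groth.Agent.Lib.CurveFF

attribute [local instance] Curv2.stalkAlgebra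

theorem isSeparable_of_quadratic {E K : Type u} [Field E] [Field K] [Algebra E K] {y : K}
    (htop : IntermediateField.adjoin E ({y} : Set K) = ⊤) (hrk : Module.finrank E K = 2) {a b : E}
    (hrel : y ^ 2 + algebraMap E K a * y = algebraMap E K b) (h : a ≠ 0 ∨ (2 : E) ≠ 0) :
    Algebra.IsSeparable E K := by
  have : FiniteDimensional E K := Module.finite_of_finrank_pos (by omega)
  let P : Polynomial E := Polynomial.X ^ 2 + Polynomial.C a * Polynomial.X - Polynomial.C b
  have hy : IsIntegral E y := IsIntegral.of_finite E y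
  have hdeg : (minpoly E y).natDegree = 2 := by
    rw [← IntermediateField.adjoin.finrank hy, htop, IntermediateField.finrank_top', hrk]
  have hP : P.Monic := by
    unfold P
    monicity!
  have hPdeg : P.natDegree = 2 := by
    unfold P
    compute_degree!
  have hmin : P = minpoly E y := Polynomial.eq_of_monic_of_dvd_of_natDegree_le (minpoly.monic hy) hP
    (minpoly.dvd E y (by simp [P, hrel])) (by omega)
  have hder : Polynomial.derivative P ≠ 0 := fun h0 => by
    have e0 := congrArg (fun Q : Polynomial E => Q.coeff 0) h0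
    have e1 := congrArg (fun Q : Polynomial E => Q.coeff 1) h0
    simp [P] at e0 e1
    rcases h with h | h
    · exact h e0
    · exact h (one_add_one_eq_two.symm.trans e1)
  have hs : IsSeparable E y :=
    (Polynomial.separable_iff_derivative_ne_zero (minpoly.irreducible hy)).2 (hmin ▸ hder)
  have hsep := (IntermediateField.isSeparable_adjoin_simple_iff_isSeparable E K).2 hs
  rw [htop] at hsep
  exact AlgEquiv.Algebra.isSeparable IntermediateField.topEquiv

variable {k : Type u} [Field k] {C : Scheme.{u}} [C.Over (Spec (CommRingCat.of k))] [IsIntegral C]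
  [Smooth (C ↘ Spec (CommRingCat.of k))]

omit [IsIntegral C] in
theorem smooth_cst {W : C.Opens} (hW : IsAffineOpen W) :
    letI : Algebra k Γ(C, W) := (cst k W).toAlgebra
    Algebra.Smooth k Γ(C, W) := by
  letI : Algebra k Γ(C, W) := (cst k W).toAlgebra
  have h := HasRingHomProperty.appLE @Smooth (C ↘ Spec (CommRingCat.of k)) inferInstance
    ⟨⊤, isAffineOpen_top _⟩ ⟨W, hW⟩ le_top
  exact RingHom.Smooth.respectsIso.2 _
    (Scheme.ΓSpecIso (CommRingCat.of k)).commRingCatIsoToRingEquiv.symm h

variable (f : C ⟶ P1 k) (hf : f ≫ CohB1.ProjSpace.toSpec 1 k = C ↘ Spec (CommRingCat.of k))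
  [IsFinite f] [Flat f]

set_option maxHeartbeats 400000

include hf in
omit [Flat f] [IsFinite f] [Smooth (C ↘ Spec (CommRingCat.of k))] in
theorem aeval_chart (a : Fin 2) (p : Polynomial k) :
    letI : Algebra k Γ(C, V f a) := (cst k (V f a)).toAlgebra
    chartHom f a p = Polynomial.aeval (chartHom f a Polynomial.X) p := by
  letI : Algebra k Γ(C, V f a) := (cst k (V f a)).toAlgebra
  have : chartHom f a = (Polynomial.aeval (R := k) (chartHom f a Polynomial.X)).toRingHom := by
    refine Polynomial.ringHom_ext (fun c => ?_) (Polynomial.aeval_X _).symm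
    exact (chartHom_C f hf a c).trans (Polynomial.aeval_C _ c).symm
  exact RingHom.congr_fun this p

include hf in
/-- A double cover of the line by a smooth curve of positive genus is separable. -/
theorem isSeparable_double [CompactSpace C] [LocallyOfFiniteType (C ↘ Spec (CommRingCat.of k))]
    (hdim : topologicalKrullDim C = 1) (hη : f (genericPoint C) = genericPoint (P1 k))
    (hrk : ∀ y, f.finrank y = 2) (g : ℕ) (hg1 : 1 ≤ g) (hg : Curv2.genus k C = g) :
    Algebra.IsSeparable
      (IntermediateField.adjoin k ({DoubleCover.coord f 0 (DoubleCover.generic_mem f hη 0)} : Set C.functionField))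
      C.functionField := by
  have hN : Pi1.IsNormalScheme C := fun x => by
    have := CurveBundle.SmoothField.isPrincipal_stalk k hdim x
    exact ⟨inferInstance, inferInstance⟩
  have hm := DoubleCover.generic_mem f hη
  haveI : Nonempty (V f 0 : C.Opens) := ⟨⟨_, hm 0⟩⟩
  haveI : Nonempty (V f 1 : C.Opens) := ⟨⟨_, hm 1⟩⟩
  have hic := TorsorSch.RatSection.isIntegrallyClosed_of_isNormalScheme hN (isAffineOpen_V f 1)
  let A0 := (chartHom f 0).toAlgebra
  let A1 := (chartHom f 1).toAlgebra
  let ι := (f.app (U01 k)).hom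
  have G := glue f hrk
  obtain ⟨y0, hy0⟩ := exists_y f hrk 0
  obtain ⟨y1, hy1⟩ := exists_y f hrk 1
  obtain ⟨c, e, l, hc, hY⟩ := exists_transition G hy0 hy1
  let z0 := chartHom f 0 0 + chartHom f 0 (Polynomial.C c) * y0
  have hz0 := bijective_shear (chartHom f 0) hy0 0 (Polynomial.C c)
    (Polynomial.isUnit_C.2 (isUnit_iff_ne_zero.2 hc))
  have hr0 : ∀ p, rHom f 0 (chartHom f 0 p) = ι ((data k).φ0 p) := rHom_chartHom f 0
  have hr1 : ∀ p, rHom f 1 (chartHom f 1 p) = ι ((data k).φ1 p) := rHom_chartHom f 1
  have hYz : rHom f 1 y1 = ι l + ι ((data k).up (-e)) * rHom f 0 z0 := by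
    simp only [z0, map_add, map_mul, map_zero, hr0] at hY ⊢
    rw [hY]; ring
  have hge := Groth.Agent.H34.HyperEll.genus_eq f hf hrk hz0 hy1 hYz
  rw [hg] at hge
  obtain ⟨a, b, hab⟩ := exists_decomp (data k) (z := -e) (by omega) l
  have hw0 := bijective_shear (chartHom f 0) hz0 a 1 isUnit_one
  have hw1 := bijective_shear (chartHom f 1) hy1 (-b) 1 isUnit_one
  let w0 := chartHom f 0 a + chartHom f 0 1 * z0
  let w1 := chartHom f 1 (-b) + chartHom f 1 1 * y1
  have hW : rHom f 1 w1 = ι ((data k).up (-e)) * rHom f 0 w0 := by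
    simp only [w0, w1, map_add, map_mul, map_one, map_neg, hr0, hr1, hab] at hYz ⊢
    linear_combination hYz
  obtain ⟨p, q, hrel, hlo, hhi⟩ := exists_equation G hw0 hw1 hW (by omega)
  have hrel' : w0 ^ 2 + chartHom f 0 q * w0 = chartHom f 0 p := sub_eq_zero.1 hrel
  let γ := (C.presheaf.germ (V f 0) (genericPoint C) (hm 0)).hom
  let t := DoubleCover.coord f 0 (hm 0)
  let E := IntermediateField.adjoin k ({t} : Set C.functionField)
  have hdegE : Module.finrank E C.functionField = 2 :=
    (DoubleCover.degree_transfer f hf (hm 0)).1.trans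
      ((DoubleCover.finrank_eq f hη (genericPoint (P1 k))).symm.trans (hrk _))
  have htopE : IntermediateField.adjoin E ({γ w0} : Set C.functionField) = ⊤ := by
    apply IntermediateField.restrictScalars_injective k
    rw [IntermediateField.restrictScalars_top, IntermediateField.adjoin_adjoin_left,
      Set.singleton_union]
    exact DoubleCover.adjoin_eq_top f hf hη hw0
  have hmemE : ∀ r : Polynomial k, Polynomial.aeval t r ∈ E := fun r =>
    DoubleCover.adjoin_eq_top.aeval_mem E (IntermediateField.mem_adjoin_simple_self k t) r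
  by_cases hcase : q ≠ 0 ∨ (2 : k) ≠ 0
  · refine isSeparable_of_quadratic (y := γ w0) htopE hdegE (a := ⟨_, hmemE q⟩) (b := ⟨_, hmemE p⟩) ?_ ?_
    · have := congrArg γ hrel'
      simp only [γ, map_add, map_mul, map_pow, DoubleCover.germ_chartHom f hf] at this
      exact this
    · rcases hcase with h | h
      · refine Or.inl fun h0 => h ?_
        have h0' : Polynomial.aeval t q = 0 := congrArg Subtype.val h0
        rw [← DoubleCover.germ_chartHom f hf 0 (hm 0)] at h0'
        have h1 : chartHom f 0 q = 0 :=
          germ_injective_of_isIntegral C (genericPoint C) (hm 0) (h0'.trans (map_zero _).symm)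
        exact (Prod.mk.inj (hw0.1 (a₁ := (q, 0)) (a₂ := (0, 0)) (by simp [h1]))).1
      · refine Or.inr fun h0 => h ?_
        have : algebraMap k E 2 = 0 := by rw [map_ofNat]; exact h0
        exact (algebraMap k E).injective (this.trans (map_zero _).symm)
  · exfalso
    push Not at hcase
    obtain ⟨rfl, h2⟩ := hcase
    simp only [Polynomial.natDegree_zero, mul_zero, Nat.cast_zero, map_zero, zero_mul, add_zero] at hlo hhi hrel'
    obtain ⟨n, rfl⟩ : ∃ n : ℕ, e = (n : ℤ) := ⟨e.toNat, by omega⟩
    have hpdeg : p.natDegree ≤ 2 * n := by omega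
    haveI : CharP k 2 := CharTwo.of_one_ne_zero_of_two_eq_zero one_ne_zero h2
    let p1 := Polynomial.reflect (2 * n) p
    have hw1sq : w1 ^ 2 = chartHom f 1 p1 := by
      refine rHom_injective f hrk 1 ?_
      have e1 := congrArg (rHom f 0) hrel'
      rw [map_pow, hr0] at e1
      rw [map_pow, hW, mul_pow, e1, hr1, ← map_pow, ← map_mul]
      congr 1
      rw [← (data k).φ1_reflect p hpdeg, mul_comm ((data k).φ1 _), ← mul_assoc, pow_two,
        ← (data k).up_add, ← (data k).up_add, show -(n : ℤ) + -n + ((2 * n : ℕ) : ℤ) = 0 by omega,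
        (data k).up_zero, one_mul]
    have key : ∀ (j : Fin 2) (w : Γ(C, V f j)) (r : Polynomial k),
        (Function.Bijective fun v : Polynomial k × Polynomial k => chartHom f j v.1 + chartHom f j v.2 * w) →
        w ^ 2 = chartHom f j r →
        (Polynomial.derivative r).natDegree = 0 ∧ Polynomial.derivative r ≠ 0 := by
      intro j w r hbij hr
      letI : Algebra k Γ(C, V f j) := (cst k (V f j)).toAlgebra
      haveI : Nonempty (V f j : C.Opens) := ⟨⟨_, hm j⟩⟩
      haveI : CharP Γ(C, V f j) 2 := charP_of_injective_algebraMap (algebraMap k Γ(C, V f j)).injective 2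
      have := smooth_cst (k := k) (isAffineOpen_V f j)
      haveI : Module.Projective Γ(C, V f j) (Ω[Γ(C, V f j)⁄k]) := inferInstance
      haveI : Module.IsTorsionFree Γ(C, V f j) (Ω[Γ(C, V f j)⁄k]) := inferInstance
      have hbij' : Function.Bijective fun v : Polynomial k × Polynomial k =>
          Polynomial.aeval (chartHom f j Polynomial.X) v.1 +
            Polynomial.aeval (chartHom f j Polynomial.X) v.2 * w := by
        convert hbij using 2 with v
        rw [aeval_chart f hf j v.1, aeval_chart f hf j v.2]
      have hr' : w ^ 2 = Polynomial.aeval (chartHom f j Polynomial.X) r := hr.trans (aeval_chart f hf j r)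
      exact ⟨SqRoot.derivative_natDegree_eq_zero hbij' hr',
        derivative_ne_zero k hdim (isAffineOpen_V f j) (hm j) hbij' hr'⟩
    obtain ⟨hd, hne⟩ := key 0 w0 p hw0 hrel'
    obtain ⟨hd1, -⟩ := key 1 w1 p1 hw1 hw1sq
    have hc0 : p.coeff 1 ≠ 0 := fun h0 => hne (by
      rw [Polynomial.eq_C_of_natDegree_eq_zero hd, Polynomial.coeff_derivative, h0]
      simp)
    refine hc0 ?_
    have h3 : (Polynomial.derivative p1).coeff (2 * n - 2) = 0 :=
      Polynomial.coeff_eq_zero_of_natDegree_lt (by omega)
    rw [Polynomial.coeff_derivative, show 2 * n - 2 + 1 = 2 * n - 1 by omega, Polynomial.coeff_reflect,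
      Polynomial.revAt_le (by omega), show 2 * n - (2 * n - 1) = 1 by omega] at h3
    have h4 : ((2 * n - 2 : ℕ) : k) = 0 := by
      rw [show 2 * n - 2 = 2 * (n - 1) by omega, Nat.cast_mul]
      simp [h2]
    simpa [h4] using h3

end Groth.Agent.Lib.CurveFF
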