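import Groth.Agent.Lib.FunFld.Weil
import Groth.Agent.Lib.FunFld.Rational

/-! A degree two divisor with two sections gives a quadratic subfield of rational functions. -/

set_option autoImplicit false
universe u v

open IntermediateField
open Groth.Agent.Lib.FunFld.Degree Groth.Agent.Lib.FunFld.Riemann Groth.Agent.Lib.FunFld.Bound
  Groth.Agent.Lib.FunFld.Rational

namespace Groth.Agent.Lib.CurveFF.Pencil

variable {k : Type u} {K : Type v} [Field k] [Field K] [Algebra k K]

theorem exists_quadratic (hK : _root_.FunFld.IsFunctionField k K)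
    (hg : 1 ≤ _root_.FunFld.genus k K) {D : _root_.FunFld.Divisor k K} (hD : D.deg = 2)
    (hl : 2 ≤ _root_.FunFld.ell D) :
    ∃ t : K, Transcendental k t ∧ Module.finrank (adjoin k ({t} : Set K)) K = 2 := by
  obtain ⟨a, ha0, ha⟩ := exists_ne_zero_of_ell_pos (D := D) (by omega)
  set D' := D + _root_.FunFld.div k a
  have hD'0 : 0 ≤ D' := by
    rcases (mem_L_iff_div hK).1 ha with h | h
    · exact absurd h ha0
    · rwa [add_comm] at h
  have hD' : D'.deg = 2 := by rw [deg_add, deg_div hK, add_zero, hD]
  have hl' : 2 ≤ _root_.FunFld.ell D' := by rw [ell_add_div hK D ha0]; exact hl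
  obtain ⟨t, ht, htk⟩ : ∃ t, t ∈ _root_.FunFld.L D' ∧ t ∉ Set.range (algebraMap k K) := by
    by_contra hc
    push Not at hc
    have hsub : _root_.FunFld.L D' ≤ LinearMap.range (Algebra.linearMap k K) := fun x hx => hc x hx
    have h1 := Submodule.finrank_mono hsub
    rw [LinearMap.finrank_range_of_inj (f := Algebra.linearMap k K) (algebraMap k K).injective,
      Module.finrank_self] at h1
    change _root_.FunFld.ell D' ≤ 1 at h1
    omega
  have htr := transcendental_of_not_mem_range hK htk
  refine ⟨t, htr, ?_⟩
  have hle : poleDiv (k := k) t ≤ D' := fun P => by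
    rw [poleDiv_apply hK]
    refine max_le ?_ (hD'0 P)
    rcases mem_L_iff_ord.1 ht with h | h
    · exact absurd ⟨0, by rw [h, map_zero]⟩ htk
    · linarith [h P]
  have h2 := deg_mono hle
  rw [hD', deg_poleDiv hK htr] at h2
  have := finiteDimensional_adjoin_transcendental hK htr
  have hpos : 0 < Module.finrank (adjoin k ({t} : Set K)) K := Module.finrank_pos
  have hne : Module.finrank (adjoin k ({t} : Set K)) K ≠ 1 := fun h1 => by
    have := genus_eq_zero_of_adjoin_eq_top hK (adjoin_eq_top_of_deg_poleDiv hK htr (by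
      rw [deg_poleDiv hK htr, h1]; rfl))
    omega
  omega

end Groth.Agent.Lib.CurveFF.Pencil
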