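import Groth.Agent.Lib.CurveFF.Morphism
import Groth.Agent.Lib.CurveFF.Pencil
import Groth.Agent.Lib.CurveFF.DoubleSep
import Groth.Agent.H34.EtaleAt

/-!
A degree two divisor class with a pencil gives a separable double cover of the line.
-/

noncomputable section
set_option autoImplicit false
set_option linter.style.haveILetI false
universe u

open CategoryTheory AlgebraicGeometry TopologicalSpace
open Groth.Agent.H34.SplitP1 (P1)

namespace Groth.Agent.Lib.CurveFF

attribute [local instance] Curv2.stalkAlgebra

theorem bijective_residue {X : Scheme.{u}} {x : X} (h : IsField (X.presheaf.stalk x)) :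
    Function.Bijective (X.residue x).hom := by
  letI := h.toField
  exact ⟨(X.residue x).hom.injective, X.residue_surjective x⟩

/-- A finite morphism of integral schemes with separable generic extension is étale near the generic
point. -/
theorem exists_etale_generic {X Y : Scheme.{u}} [IsIntegral X] [IsIntegral Y] [IsLocallyNoetherian Y]
    (f : X ⟶ Y) [IsFinite f] (hη : f (genericPoint X) = genericPoint Y)
    (hsep : letI := (f.residueFieldMap (genericPoint X)).hom.toAlgebra
      Algebra.IsSeparable (Y.residueField (f (genericPoint X))) (X.residueField (genericPoint X))) :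
    ∃ V : X.Opens, (V : Set X).Nonempty ∧ Etale (V.ι ≫ f) := by
  letI := (f.residueFieldMap (genericPoint X)).hom.toAlgebra
  haveI : Module.Finite (Y.residueField (f (genericPoint X))) (X.residueField (genericPoint X)) := by
    obtain ⟨_, ⟨U, hU, rfl⟩, hxU, -⟩ := Y.isBasis_affineOpens.exists_subset_of_mem_open
      (Set.mem_univ (f (genericPoint X))) isOpen_univ
    replace hU : IsAffineOpen U := hU
    letI := (f.app U).hom.toAlgebra
    haveI : Nonempty U := ⟨⟨_, hxU⟩⟩
    haveI : Nonempty (f ⁻¹ᵁ U : X.Opens) := ⟨⟨_, hxU⟩⟩
    haveI : Module.Finite Γ(Y, U) Γ(X, f ⁻¹ᵁ U) := RingHom.finite_algebraMap.mp (f.finite_app U hU)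
    letI := (Y.evaluation U (f (genericPoint X)) hxU).hom.toAlgebra
    letI := (X.evaluation (f ⁻¹ᵁ U) (genericPoint X) hxU).hom.toAlgebra
    letI : Algebra Γ(Y, U) (X.residueField (genericPoint X)) :=
      ((algebraMap Γ(X, f ⁻¹ᵁ U) (X.residueField (genericPoint X))).comp
        (algebraMap Γ(Y, U) Γ(X, f ⁻¹ᵁ U))).toAlgebra
    haveI : IsScalarTower Γ(Y, U) Γ(X, f ⁻¹ᵁ U) (X.residueField (genericPoint X)) :=
      IsScalarTower.of_algebraMap_eq fun _ => rfl
    haveI : IsScalarTower Γ(Y, U) (Y.residueField (f (genericPoint X)))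
        (X.residueField (genericPoint X)) :=
      IsScalarTower.of_algebraMap_eq fun r =>
        (Scheme.evaluation_naturality_apply f (genericPoint X) hxU r).symm
    haveI := Dominant.isFractionRing_residue (hU.preimage f) (genericPoint X) hxU
      (Dominant.evaluation_generic_injective (C := X) (V := f ⁻¹ᵁ U) hxU)
    have hinjC := Dominant.evaluation_generic_injective (C := X) (V := f ⁻¹ᵁ U) hxU
    haveI := Dominant.isFractionRing_residue hU (f (genericPoint X)) hxU
      (fun a b h => Dominant.app_injective hη U (hinjC (by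
        have := congrArg (f.residueFieldMap (genericPoint X)).hom h
        simpa only [Scheme.evaluation_naturality_apply] using this)))
    apply Module.finite_of_finrank_pos
    rw [IsFractionRing.finrank_eq Γ(Y, U) (Y.residueField (f (genericPoint X))) Γ(X, f ⁻¹ᵁ U)
      (X.residueField (genericPoint X))]
    haveI : FaithfulSMul Γ(Y, U) Γ(X, f ⁻¹ᵁ U) :=
      (faithfulSMul_iff_algebraMap_injective _ _).2 (Dominant.app_injective hη U)
    exact Module.finrank_pos
  haveI : Algebra.EssFiniteType (Y.residueField (f (genericPoint X)))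
      (X.residueField (genericPoint X)) := inferInstance
  have het : Algebra.FormallyEtale (Y.residueField (f (genericPoint X)))
      (X.residueField (genericPoint X)) := Algebra.FormallyEtale.of_isSeparable _ _
  have hX := bijective_residue (X := X) (x := genericPoint X) (Field.toIsField X.functionField)
  have hY : Function.Bijective (Y.residue (f (genericPoint X))).hom := bijective_residue (by
    rw [hη]; exact Field.toIsField Y.functionField)
  have hsm : (f.residueFieldMap (genericPoint X)).hom.FormallySmooth :=
    RingHom.formallySmooth_algebraMap.2 inferInstance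
  have hun : (f.residueFieldMap (genericPoint X)).hom.FormallyUnramified :=
    RingHom.formallyUnramified_algebraMap.2 inferInstance
  let eY := RingEquiv.ofBijective _ hY
  let eX := RingEquiv.ofBijective _ hX
  have hcomp : (f.stalkMap (genericPoint X)).hom =
      eX.symm.toRingHom.comp ((f.residueFieldMap (genericPoint X)).hom.comp eY.toRingHom) := by
    refine RingHom.ext fun z => eX.injective ?_
    simp only [RingHom.comp_apply, RingEquiv.toRingHom_eq_coe, RingHom.coe_coe,
      RingEquiv.apply_symm_apply]
    exact (ConcreteCategory.congr_hom (Scheme.residue_residueFieldMap f (genericPoint X)) z).symm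
  haveI := H34.EtaleAt.locallyOfFinitePresentation f
  obtain ⟨W, hW, hWet⟩ := H34.EtaleAt.exists_etale_nhd f (genericPoint X)
    (hcomp ▸ RingHom.FormallySmooth.respectsIso.1 _ _ (RingHom.FormallySmooth.respectsIso.2 _ _ hsm))
    (hcomp ▸ RingHom.FormallyUnramified.respectsIso.1 _ _
      (RingHom.FormallyUnramified.respectsIso.2 _ _ hun))
  exact ⟨W, ⟨_, hW⟩, hWet⟩

variable {k : Type u} [Field k] {X : Scheme.{u}} [X.Over (Spec (CommRingCat.of k))] [IsIntegral X]
  [IsProper (X ↘ Spec (CommRingCat.of k))] [Smooth (X ↘ Spec (CommRingCat.of k))]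

/-- A smooth curve of positive genus with a degree two pencil is a separable double cover. -/
theorem exists_double_cover (hdim : topologicalKrullDim X = 1)
    (h0 : Module.finrank k (Coh.HH X (Coh.structureModule X) 0) = 1) (hg : 1 ≤ Curv2.genus k X)
    (hD : ∃ D : _root_.FunFld.Divisor k X.functionField, D.deg = 2 ∧ 2 ≤ _root_.FunFld.ell D) :
    ∃ f : X ⟶ P1 k, f ≫ CohB1.ProjSpace.toSpec 1 k = X ↘ Spec (CommRingCat.of k) ∧ IsFinite f ∧
      Flat f ∧ (∀ y, f.finrank y = 2) ∧ f.residueDegree (genericPoint X) = 2 ∧
      f (genericPoint X) = genericPoint (P1 k) ∧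
      letI := (f.residueFieldMap (genericPoint X)).hom.toAlgebra
      Algebra.IsSeparable ((P1 k).residueField (f (genericPoint X))) (X.residueField (genericPoint X)) := by
  have h := curveHyp_of_smooth k hdim
  have hK := isFunctionField (k := k) h h0
  obtain ⟨D, hDd, hDl⟩ := hD
  obtain ⟨t, ht, hrk⟩ := Pencil.exists_quadratic hK (by rw [← genus_eq h h0]; exact hg) hDd hDl
  obtain ⟨f, hf, hfin, hη, hm, hcoord⟩ := exists_toP1 h ht
  haveI : Flat f := DoubleCover.flat f hη
  obtain ⟨hd, hs⟩ := DoubleCover.degree_transfer f hf hm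
  have hdeg : f.residueDegree (genericPoint X) = 2 := by rw [← hd, hcoord]; exact hrk
  have hfr : ∀ y, f.finrank y = 2 := fun y => (DoubleCover.finrank_eq f hη y).trans hdeg
  haveI := Curves.GlobalSections.noetherianSpace_of_proper k X
  exact ⟨f, hf, hfin, ‹_›, hfr, hdeg, hη,
    hs.2 (isSeparable_double f hf hdim hη hfr _ hg rfl)⟩

end Groth.Agent.Lib.CurveFF
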