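import Groth.Agent.Lib.CurveFF.AutoMap
import Groth.Agent.Lib.CurveFF.DoublePencil
import Groth.Agent.H81.DoubleCover
import Groth.Agent.Lib.DblCovInv.Scheme
import Groth.Agent.Lib.Curves.GlobalSections

/-!
Deck involutions of double covers of the line.
-/

noncomputable section
set_option autoImplicit false
set_option linter.style.haveILetI false
universe u v

open CategoryTheory AlgebraicGeometry TopologicalSpace IntermediateField
open Groth.Agent.H34.SplitP1 Groth.Agent.H34.HyperEll
open Groth.Agent.Lib.FunFld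

namespace Groth.Agent.Lib.CurveFF.DoubleInvol

attribute [local instance] Curv2.stalkAlgebra

section Field

variable {k : Type u} [Field k] {K : Type v} [Field K] [Algebra k K]

theorem fix_adjoin (φ : K →ₐ[k] K) {x : K} (hx : φ x = x) {z : K}
    (hz : z ∈ adjoin k ({x} : Set K)) : φ z = z := by
  obtain ⟨r, s, rfl⟩ := (mem_adjoin_simple_iff k z).1 hz
  rw [map_div₀, ← Polynomial.aeval_algHom_apply, ← Polynomial.aeval_algHom_apply, hx]

/-- Two nontrivial endomorphisms of a quadratic extension agree. -/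
theorem eq_of_quadratic {x : K} (h2 : Module.finrank (adjoin k ({x} : Set K)) K = 2)
    (φ ψ : K →ₐ[k] K) (hφ : φ x = x) (hψ : ψ x = x) (hφ1 : ∃ z, φ z ≠ z) (hψ1 : ∃ z, ψ z ≠ z) :
    φ = ψ := by
  classical
  haveI : FiniteDimensional (adjoin k ({x} : Set K)) K := Module.finite_of_finrank_eq_succ h2
  let φ' : K →ₐ[adjoin k ({x} : Set K)] K :=
    { φ with commutes' := fun c => fix_adjoin φ hφ c.2 }
  let ψ' : K →ₐ[adjoin k ({x} : Set K)] K :=
    { ψ with commutes' := fun c => fix_adjoin ψ hψ c.2 }
  have hcard := AlgHom.card_le (F := adjoin k ({x} : Set K)) (K := K)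
  rw [h2] at hcard
  have h3 : ¬ Function.Injective ![AlgHom.id (adjoin k ({x} : Set K)) K, φ', ψ'] := fun h => by
    have := Fintype.card_le_of_injective _ h
    rw [Fintype.card_fin] at this
    omega
  by_contra hne
  refine h3 fun i j hij => ?_
  have h01 : AlgHom.id (adjoin k ({x} : Set K)) K ≠ φ' := fun h => by
    obtain ⟨z, hz⟩ := hφ1
    exact hz (DFunLike.congr_fun h z).symm
  have h02 : AlgHom.id (adjoin k ({x} : Set K)) K ≠ ψ' := fun h => by
    obtain ⟨z, hz⟩ := hψ1
    exact hz (DFunLike.congr_fun h z).symm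
  have h12 : φ' ≠ ψ' := fun h => hne (AlgHom.ext fun z => DFunLike.congr_fun h z)
  fin_cases i <;> fin_cases j <;>
    first
    | rfl
    | exact absurd hij h01
    | exact absurd hij h02
    | exact absurd hij h12
    | exact absurd hij.symm h01
    | exact absurd hij.symm h02
    | exact absurd hij.symm h12

theorem finrank_adjoin_map (e : K ≃ₐ[k] K) (x : K) :
    Module.finrank (adjoin k ({e x} : Set K)) K = Module.finrank (adjoin k ({x} : Set K)) K := by
  have hmap : (adjoin k ({x} : Set K)).map e.toAlgHom = adjoin k ({e x} : Set K) := by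
    rw [adjoin_map, Set.image_singleton]
    rfl
  rw [← hmap]
  exact (Algebra.finrank_eq_of_equiv_equiv (intermediateFieldMap e (adjoin k ({x} : Set K))).toRingEquiv
    e.toRingEquiv (RingHom.ext fun _ => rfl)).symm

/-- In genus zero over an algebraically closed field the field is rational. -/
theorem exists_generator [IsAlgClosed k] (hK : _root_.FunFld.IsFunctionField k K)
    (hg : _root_.FunFld.genus k K = 0) : ∃ x : K, adjoin k ({x} : Set K) = ⊤ := by
  obtain ⟨P⟩ := Riemann.nonempty_place hK
  have hd := Rational.deg_eq_one hK P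
  have hr := Riemann.riemann hK (Finsupp.single P (1 : ℤ))
  rw [Degree.deg_single, hd, hg] at hr
  obtain ⟨x, h1, h2⟩ := Rational.exists_simple_pole_of_ell_single hK (P := P) (by
    push_cast at hr ⊢
    omega)
  exact ⟨x, Rational.adjoin_eq_top_of_simple_pole hK hd h1 h2⟩

end Field

variable {k : Type u} [Field k] {C : Scheme.{u}} [C.Over (Spec (CommRingCat.of k))] [IsIntegral C]

/-- The endomorphism of the function field. -/
def endAlg (σ : C ⟶ C) (hσ : σ ≫ (C ↘ Spec (CommRingCat.of k)) = C ↘ Spec (CommRingCat.of k))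
    (e : σ (genericPoint C) = genericPoint C) : C.functionField →ₐ[k] C.functionField :=
  { FieldExt.kMap σ e with commutes' := AutoMap.kMap_const σ hσ e }

theorem endAlg_apply (σ : C ⟶ C) (hσ : σ ≫ (C ↘ Spec (CommRingCat.of k)) = C ↘ Spec (CommRingCat.of k))
    (e : σ (genericPoint C) = genericPoint C) (z : C.functionField) :
    endAlg σ hσ e z = FieldExt.kMap σ e z := rfl

theorem exists_ne (σ : C ⟶ C) (hσ : σ ≫ (C ↘ Spec (CommRingCat.of k)) = C ↘ Spec (CommRingCat.of k))
    (e : σ (genericPoint C) = genericPoint C) [C.IsSeparated] (hne : σ ≠ 𝟙 C) :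
    ∃ z, endAlg σ hσ e z ≠ z := by
  by_contra hc
  push Not at hc
  exact hne (AutoMap.ext_of_kMap e rfl fun z => (hc z).trans (AutoMap.kMap_id rfl z).symm)

variable (f : C ⟶ P1 k) (hf : f ≫ CohB1.ProjSpace.toSpec 1 k = C ↘ Spec (CommRingCat.of k)) [IsFinite f]

include hf in
theorem over_of_comp {σ : C ⟶ C} (h : σ ≫ f = f) :
    σ ≫ (C ↘ Spec (CommRingCat.of k)) = C ↘ Spec (CommRingCat.of k) := by
  rw [← hf, ← Category.assoc, h]

theorem genericPoint_fixed (hdim : topologicalKrullDim C = 1) {σ : C ⟶ C} (h : σ ≫ f = f) :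
    σ (genericPoint C) = genericPoint C := by
  have hη := DoubleCover.generic_eq f hdim
  refine (SmoothCurve.Curve.eq_genericPoint_or_isClosed hdim _).resolve_right fun hc => ?_
  have h1 : IsClosed ({genericPoint (P1 k)} : Set (P1 k)) := by
    have := f.isClosedMap _ hc
    rwa [Set.image_singleton, ← Scheme.Hom.comp_apply, h, hη] at this
  have h' := Dominant.dim_le_zero_of_closed f (hη ▸ h1)
  rw [hdim] at h'
  exact absurd h' (by decide)

omit [IsFinite f] in
theorem fix_coord (hη : f (genericPoint C) = genericPoint (P1 k)) {σ : C ⟶ C} (h : σ ≫ f = f)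
    (e : σ (genericPoint C) = genericPoint C) (hm : genericPoint C ∈ V f 0) :
    FieldExt.kMap σ e (DoubleCover.coord f 0 hm) = DoubleCover.coord f 0 hm := by
  have hY : genericPoint (P1 k) ∈ U k 0 := by rw [← hη]; exact hm
  have hx : DoubleCover.coord f 0 hm =
      FieldExt.kMap f hη ((P1 k).presheaf.germ (U k 0) (genericPoint (P1 k)) hY (φ k 0 Polynomial.X)) :=
    (FieldExt.kMap_germ f hη (U k 0) hY hm _).symm
  rw [hx]
  refine (AutoMap.kMap_comp σ f e hη ?_ _).symm.trans (AutoMap.kMap_congr h _ _ _)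
  rw [h, hη]

include hf in
theorem finrank_coord [Flat f] (hdim : topologicalKrullDim C = 1) (hrk : ∀ y, f.finrank y = 2) :
    Module.finrank (adjoin k ({DoubleCover.coord f 0
      (DoubleCover.generic_mem f (DoubleCover.generic_eq f hdim) 0)} : Set C.functionField))
      C.functionField = 2 := by
  rw [(DoubleCover.degree_transfer f hf _).1,
    ← DoubleCover.finrank_eq f (DoubleCover.generic_eq f hdim) (genericPoint (P1 k)), hrk]

include hf in
/-- A double cover in characteristic not two has a nontrivial deck involution. -/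
theorem exists_invol [Flat f] (hdim : topologicalKrullDim C = 1) (hrk : ∀ y, f.finrank y = 2)
    (h2 : (2 : k) ≠ 0) :
    ∃ σ : C ⟶ C, σ ≫ f = f ∧ σ ≫ σ = 𝟙 C ∧ σ ≠ 𝟙 C := by
  haveI : IsLocallyNoetherian (P1 k) :=
    LocallyOfFiniteType.isLocallyNoetherian (CohB1.ProjSpace.toSpec 1 k)
  haveI := H34.EtaleAt.locallyOfFinitePresentation f
  have hu : IsUnit (2 : Γ(P1 k, ⊤)) := by
    have := (IsUnit.mk0 (2 : k) h2).map (Coh.toGlobal (CohB1.ProjSpace.toSpec 1 k))
    rwa [map_ofNat] at this
  obtain ⟨σ, hσf, hσσ, hq⟩ := DblCovInv.Scheme'.exists_involution f hrk hu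
  refine ⟨σ.hom, hσf, congrArg Iso.hom hσσ, fun h1 => ?_⟩
  have hone : ∀ g : Subgroup.zpowers σ, ((Subgroup.zpowers σ).subtype g).hom = 𝟙 C := by
    rintro ⟨g, n, rfl⟩
    have : σ = 1 := Iso.ext h1
    subst this
    simp only [Subgroup.coe_subtype, one_zpow]
    rfl
  have hη := DoubleCover.generic_eq f hdim
  have hm := DoubleCover.generic_mem f hη 0
  have hsurj : ∀ s : Γ(C, V f 0), ∃ a, (f.app (U k 0)).hom a = s := fun s => (hq.range_iff (U k 0) s).2
    fun g => by
      have key : ∀ (τ : C ⟶ C) (_ : τ = 𝟙 C) (hle : V f 0 ≤ τ ⁻¹ᵁ V f 0),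
          (τ.appLE (V f 0) (V f 0) hle).hom s = s := by
        rintro τ rfl hle
        rw [Scheme.Hom.appLE]
        show (C.presheaf.map (homOfLE hle).op).hom s = s
        exact ConcreteCategory.congr_hom (C.presheaf.map_id _) s
      exact key _ (hone g) _
  have htop : adjoin k ({DoubleCover.coord f 0 hm} : Set C.functionField) = ⊤ := by
    refine eq_top_iff.2 fun z _ => ?_
    haveI : Nonempty (V f 0 : C.Opens) := ⟨⟨_, hm⟩⟩
    haveI := functionField_isFractionRing_of_isAffineOpen C (V f 0) (isAffineOpen_V f 0)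
    obtain ⟨a, b, -, rfl⟩ := IsFractionRing.div_surjective (A := Γ(C, V f 0)) z
    have hmem : ∀ s : Γ(C, V f 0), algebraMap Γ(C, V f 0) C.functionField s ∈
        adjoin k ({DoubleCover.coord f 0 hm} : Set C.functionField) := fun s => by
      obtain ⟨a', rfl⟩ := hsurj s
      obtain ⟨p, rfl⟩ := (φ_bijective k 0).2 a'
      show (C.presheaf.germ (V f 0) (genericPoint C) hm).hom (chartHom f 0 p) ∈ _
      rw [DoubleCover.germ_chartHom f hf 0 hm]
      exact DoubleCover.adjoin_eq_top.aeval_mem _ (mem_adjoin_simple_self k _) p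
    exact div_mem (hmem a) (hmem b)
  have := finrank_coord f hf hdim hrk
  rw [htop, IntermediateField.finrank_top] at this
  omega

variable [IsAlgClosed k] [IsProper (C ↘ Spec (CommRingCat.of k))]

include hf in
/-- The deck involution of a double cover of the line has `2g + 2` fixed points. -/
theorem card_fixed [Flat f] (h : CurveHyp C) (hrk : ∀ y, f.finrank y = 2) (h2 : (2 : k) ≠ 0)
    {σ : C ⟶ C} (hσf : σ ≫ f = f) (hσσ : σ ≫ σ = 𝟙 C) (hne : σ ≠ 𝟙 C) :
    Nat.card {x : C // IsClosed ({x} : Set C) ∧ σ x = x} = 2 * Curv2.genus k C + 2 := by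
  haveI : C.IsSeparated :=
    ⟨by rw [← Limits.terminal.comp_from (C ↘ Spec (CommRingCat.of k))]; infer_instance⟩
  have hσ := over_of_comp f hf hσf
  have hinv := AutoMap.invol σ hσ hσσ hne h2
  have h0 := Curves.GlobalSections.finrank_h0_structure k C
  have hK := isFunctionField (k := k) h h0
  have hE := InvolFF.isFunctionField hinv hK
  set x := DoubleCover.coord f 0 (DoubleCover.generic_mem f (DoubleCover.generic_eq f h.dim) 0) with hx
  have hx2 := finrank_coord f hf h.dim hrk
  have hxE : x ∈ InvolFF.fixedF (AutoMap.autAlg σ hσ hσσ) :=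
    fix_coord f (DoubleCover.generic_eq f h.dim) hσf (AutoMap.genericPoint_fixed hσσ) _
  have hEeq : adjoin k ({x} : Set C.functionField) = InvolFF.fixedF (AutoMap.autAlg σ hσ hσσ) := by
    haveI : FiniteDimensional (adjoin k ({x} : Set C.functionField)) C.functionField :=
      Module.finite_of_finrank_eq_succ hx2
    exact IntermediateField.eq_of_le_of_finrank_eq' (adjoin_simple_le_iff.2 hxE)
      (hx2.trans (InvolFF.finrank_two hinv).symm)
  have hgen : adjoin k ({⟨x, hxE⟩} : Set (InvolFF.fixedF (AutoMap.autAlg σ hσ hσσ))) = ⊤ := by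
    apply IntermediateField.map_injective (InvolFF.fixedF (AutoMap.autAlg σ hσ hσσ)).val
    rw [adjoin_map, Set.image_singleton, ← AlgHom.fieldRange_eq_map, IntermediateField.fieldRange_val]
    exact hEeq
  obtain ⟨-, hform⟩ := InvolFF.genus_eq hinv hK
  rw [Rational.genus_eq_zero_of_adjoin_eq_top hE hgen, ← genus_eq h h0] at hform
  rw [AutoMap.natCard_fixed h σ hσ hσσ]
  omega

omit f [IsFinite f] in
/-- An involution with `2g + 2` fixed points gives a double cover of the line. -/
theorem exists_cover [Smooth (C ↘ Spec (CommRingCat.of k))] (h : CurveHyp C) (h2 : (2 : k) ≠ 0)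
    (hg : 1 ≤ Curv2.genus k C) {σ : C ⟶ C}
    (hσ : σ ≫ (C ↘ Spec (CommRingCat.of k)) = C ↘ Spec (CommRingCat.of k)) (hσσ : σ ≫ σ = 𝟙 C)
    (hcard : Nat.card {x : C // IsClosed ({x} : Set C) ∧ σ x = x} = 2 * Curv2.genus k C + 2) :
    ∃ f : C ⟶ P1 k, f ≫ CohB1.ProjSpace.toSpec 1 k = C ↘ Spec (CommRingCat.of k) ∧ IsFinite f ∧
      Flat f ∧ (∀ y, f.finrank y = 2) ∧ ∃ W : C.Opens, (W : Set C).Nonempty ∧ Etale (W.ι ≫ f) := by
  haveI : C.IsSeparated :=
    ⟨by rw [← Limits.terminal.comp_from (C ↘ Spec (CommRingCat.of k))]; infer_instance⟩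
  have h0 := Curves.GlobalSections.finrank_h0_structure k C
  have hK := isFunctionField (k := k) h h0
  have hne : σ ≠ 𝟙 C := by
    rintro rfl
    -- all closed points would be fixed
    have hinf : Infinite {x : C // IsClosed ({x} : Set C) ∧ (𝟙 C : C ⟶ C) x = x} := by
      haveI : Infinite (_root_.FunFld.Place k C.functionField) := by
        refine Infinite.of_not_fintype fun hF => ?_
        obtain ⟨P, hP⟩ := FunFld.LinSer.Basic.exists_place_notMem hK (@Finset.univ _ hF)
        exact hP (@Finset.mem_univ _ hF P)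
      haveI : Infinite (CPt C) := Infinite.of_injective _ (placeEquiv (k := k) h).symm.injective
      exact Infinite.of_injective (fun x : CPt C => ⟨x.1, x.2, rfl⟩)
        fun a b e => Subtype.ext (congrArg Subtype.val e :)
    rw [Nat.card_eq_zero_of_infinite] at hcard
    omega
  have hinv := AutoMap.invol σ hσ hσσ hne h2
  obtain ⟨-, hform⟩ := InvolFF.genus_eq hinv hK
  rw [← AutoMap.natCard_fixed h σ hσ hσσ, hcard, ← genus_eq h h0] at hform
  have hE := InvolFF.isFunctionField hinv hK
  obtain ⟨x, hx⟩ := exists_generator hE (by omega)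
  have hxt : Transcendental k (x : C.functionField) :=
    Ext.transcendental_map (Rational.transcendental_of_adjoin_eq_top hE hx)
  have hx2 : Module.finrank (adjoin k ({(x : C.functionField)} : Set C.functionField)) C.functionField = 2 := by
    have hmap := congrArg (IntermediateField.map (InvolFF.fixedF (AutoMap.autAlg σ hσ hσσ)).val) hx
    rw [adjoin_map, Set.image_singleton, ← AlgHom.fieldRange_eq_map,
      IntermediateField.fieldRange_val] at hmap
    change adjoin k ({(x : C.functionField)} : Set C.functionField) = _ at hmap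
    rw [hmap, InvolFF.finrank_two hinv]
  obtain ⟨f, hf, hfin, hη, hm, hcoord⟩ := exists_toP1 h hxt
  haveI : Flat f := DoubleCover.flat f hη
  obtain ⟨hd, hs⟩ := DoubleCover.degree_transfer f hf hm
  have hdeg : f.residueDegree (genericPoint C) = 2 := by rw [← hd, hcoord]; exact hx2
  have hfr : ∀ y, f.finrank y = 2 := fun y => (DoubleCover.finrank_eq f hη y).trans hdeg
  haveI := Curves.GlobalSections.noetherianSpace_of_proper k C
  haveI : IsLocallyNoetherian (P1 k) :=
    LocallyOfFiniteType.isLocallyNoetherian (CohB1.ProjSpace.toSpec 1 k)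
  exact ⟨f, hf, hfin, ‹_›, hfr, exists_etale_generic f hη
    (hs.2 (isSeparable_double f hf h.dim hη hfr _ hg rfl))⟩

end Groth.Agent.Lib.CurveFF.DoubleInvol
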