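import Groth.Agent.Lib.CurveFF.LineDiv
import Groth.Agent.Lib.Curves.GenusZero
import Groth.Agent.Lib.SurfInt.Stalk

/-!
Every divisor is the divisor of an invertible module; degrees agree.
-/

noncomputable section
set_option autoImplicit false
set_option linter.style.haveILetI false
universe u

open CategoryTheory CategoryTheory.Limits AlgebraicGeometry TopologicalSpace Opposite WithZero
open Groth.Agent.Lib.TensorMod Groth.Agent.Lib.TensorMod.Basic

namespace Groth.Agent.Lib.CurveFF.LineDiv

attribute [local instance] Curv2.stalkAlgebra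

open Modules.StalkModule (stalkMapₗ stalkModFunctor)
open RefHull.Generic (toGen toGen_stalkMap)

variable {X : Scheme.{u}} [IsIntegral X]

/-- The structure sheaf with its tautological basis. -/
def trivRep (hinv : PicF.IsInvertible (Coh.structureModule X)) : Rep (Coh.structureModule X) :=
  ⟨hinv, SurfInt.Stalk.oStalk (genericPoint X)⟩

variable {k : Type u} [Field k] [X.Over (Spec (CommRingCat.of k))] (h : CurveHyp X)

theorem trivRep_e (hinv : PicF.IsInvertible (Coh.structureModule X)) (x : CPt X) :
    (trivRep hinv).e k h x = 0 := by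
  refine (trivRep hinv).e_unique h x fun f => ?_
  rw [exp_zero]
  refine Iff.trans ?_ (mem_O_placeOf (k := k) h x).symm
  have key : ∀ v, (trivRep hinv).pr x.1 v =
      algebraMap (X.presheaf.stalk x.1) X.functionField (SurfInt.Stalk.oStalk x.1 v) := fun v => by
    obtain ⟨U, hx, s, rfl⟩ :=
      TopCat.Presheaf.exists_germ_eq (Coh.structureModule X).presheaf v
    rw [Rep.pr_germ]
    exact ((SurfInt.Stalk.oStalk_germ _ s).trans (RefHull.Generic.algebraMap_germ hx s).symm).trans
      (congrArg (algebraMap (X.presheaf.stalk x.1) X.functionField) (SurfInt.Stalk.oStalk_germ hx s).symm)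
  constructor
  · rintro ⟨v, rfl⟩; exact ⟨_, (key v).symm⟩
  · rintro ⟨a, rfl⟩
    exact ⟨(SurfInt.Stalk.oStalk x.1).symm a, by rw [key, LinearEquiv.apply_symm_apply]⟩

variable {L M : X.Modules}

theorem bijective_generic (hL : PicF.IsInvertible L) (hM : PicF.IsInvertible M) {φ : L ⟶ M}
    (hφ : φ ≠ 0) : Function.Bijective (stalkMapₗ φ (genericPoint X)) := by
  obtain ⟨R⟩ := nonempty_rep hL
  obtain ⟨S⟩ := nonempty_rep hM
  let c : X.presheaf.stalk (genericPoint X) := S.coord (stalkMapₗ φ (genericPoint X) (R.coord.symm 1))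
  have hc : ∀ v, S.coord (stalkMapₗ φ (genericPoint X) v) = R.coord v * c := fun v => by
    have hv : v = R.coord v • R.coord.symm 1 := by
      apply R.coord.injective
      rw [map_smul, R.coord.apply_symm_apply, smul_eq_mul, mul_one]
    conv_lhs => rw [hv, map_smul, map_smul]
    rfl
  letI := (Field.toIsField X.functionField).toField
  have hc0 : c ≠ 0 := by
    intro hc0
    apply hφ
    refine Modules.StalkModule.hom_ext_stalkMapₗ fun x => LinearMap.ext fun v => toGen_inj hM x ?_
    rw [Modules.StalkModule.stalkMapₗ_zero, LinearMap.zero_apply, map_zero]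
    refine (toGen_stalkMap φ x v).trans (S.coord.injective ?_)
    rw [map_zero]
    exact (hc _).trans (by rw [hc0, mul_zero])
  refine ⟨fun a b hab => R.coord.injective (mul_right_cancel₀ hc0 ?_), fun w => ⟨R.coord.symm (S.coord w * c⁻¹), ?_⟩⟩
  · rw [← hc, ← hc, hab]
  · apply S.coord.injective
    rw [hc, R.coord.apply_symm_apply, mul_assoc, inv_mul_cancel₀ hc0, mul_one]

/-- Transport of a basis to the source. -/
def Rep.src (S : Rep M) (hL : PicF.IsInvertible L) {φ : L ⟶ M} (hφ : φ ≠ 0) : Rep L :=
  ⟨hL, (LinearEquiv.ofBijective _ (bijective_generic hL S.inv hφ)).trans S.coord⟩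

/-- Transport of a basis to the target. -/
def Rep.tgt (R : Rep L) (hM : PicF.IsInvertible M) {φ : L ⟶ M} (hφ : φ ≠ 0) : Rep M :=
  ⟨hM, (LinearEquiv.ofBijective _ (bijective_generic R.inv hM hφ)).symm.trans R.coord⟩

theorem Rep.src_pr (S : Rep M) (hL : PicF.IsInvertible L) {φ : L ⟶ M} (hφ : φ ≠ 0) (x : X)
    (v : L.presheaf.stalk x) : S.pr x (stalkMapₗ φ x v) = (S.src hL hφ).pr x v :=
  congrArg S.coord (toGen_stalkMap φ x v)

theorem Rep.tgt_pr (R : Rep L) (hM : PicF.IsInvertible M) {φ : L ⟶ M} (hφ : φ ≠ 0) (x : X)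
    (v : L.presheaf.stalk x) : (R.tgt hM hφ).pr x (stalkMapₗ φ x v) = R.pr x v := by
  refine (congrArg (R.tgt hM hφ).coord (toGen_stalkMap φ x v)).trans ?_
  show R.coord ((LinearEquiv.ofBijective _ (bijective_generic R.inv hM hφ)).symm
    (stalkMapₗ φ (genericPoint X) (toGen L x v))) = _
  rw [← LinearEquiv.ofBijective_apply (hf := bijective_generic R.inv hM hφ), LinearEquiv.symm_apply_apply]
  rfl

variable {R : Rep L} {S : Rep M} {φ : L ⟶ M} (hc : ∀ x v, S.pr x (stalkMapₗ φ x v) = R.pr x v)

include hc in
theorem e_le_of_hom (x : CPt X) : R.e k h x ≤ S.e k h x := by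
  have h1 := (S.mem_iff (k := k) h x _).1 ⟨_, hc x.1 (R.gen x.1)⟩
  rwa [R.val_gen, exp_le_exp] at h1

include hc in
theorem e_eq_of_surjective (x : CPt X) (hs : Function.Surjective (stalkMapₗ φ x.1)) :
    R.e k h x = S.e k h x := by
  refine R.e_unique h x fun f => ?_
  rw [← S.mem_iff (k := k) h x f]
  constructor
  · rintro ⟨v, rfl⟩; exact ⟨_, hc _ v⟩
  · rintro ⟨w, rfl⟩
    obtain ⟨v, rfl⟩ := hs w
    exact ⟨v, (hc _ v).symm⟩

variable [IsProper (X ↘ Spec (CommRingCat.of k))]
  (hK : _root_.FunFld.IsFunctionField k X.functionField)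

include hc in
/-- A map with cokernel at one point. -/
theorem div_eq_add_single (x : CPt X)
    (hs : ∀ y : X, y ≠ x.1 → Function.Surjective (stalkMapₗ φ y))
    (hd : Curv2.deg k X M 1 = Curv2.deg k X L 1 + (placeOf k h x).deg) :
    S.div h hK = R.div h hK + Finsupp.single (placeOf k h x) 1 := by
  classical
  have hle : ∀ y : CPt X, (placeOf k h y).1 1 * exp (R.e k h y) ≤ exp (S.e k h y) := fun y => by
    rw [map_one, one_mul, exp_le_exp]; exact e_le_of_hom h hc y
  have hdeg := deg_sub_eq_of_hom h hK R S (one_ne_zero (α := X.functionField)) hle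
  have hoff : ∀ y : CPt X, y ≠ x → S.div h hK (placeOf k h y) = R.div h hK (placeOf k h y) := fun y hy => by
    rw [S.div_placeOf, R.div_placeOf,
      e_eq_of_surjective h hc y (hs y.1 fun e => hy (Subtype.ext e))]
  have hsingle : S.div h hK - R.div h hK =
      Finsupp.single (placeOf k h x) (S.div h hK (placeOf k h x) - R.div h hK (placeOf k h x)) := by
    ext P
    obtain ⟨y, rfl⟩ := placeOf_surjective (k := k) h P
    rcases eq_or_ne y x with rfl | hy
    · rw [Finsupp.sub_apply, Finsupp.single_eq_same]
    · rw [Finsupp.sub_apply, hoff y hy, sub_self, Finsupp.single_eq_of_ne]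
      exact fun e => hy (placeOf_injective h e)
  have h1 : S.div h hK (placeOf k h x) - R.div h hK (placeOf k h x) = 1 := by
    have h2 := congrArg _root_.FunFld.Divisor.deg hsingle
    rw [FunFld.Degree.deg_sub, FunFld.Degree.deg_single] at h2
    have hpos : (0 : ℤ) < (placeOf k h x).deg := by
      exact_mod_cast FunFld.Existence.deg_pos hK _
    exact mul_right_cancel₀ hpos.ne' (h2.symm.trans (by rw [one_mul]; omega))
  rw [← sub_eq_iff_eq_add', hsingle, h1]

omit [X.Over (Spec (CommRingCat.of k))] in
theorem hdim_le_one (h : CurveHyp X) : topologicalKrullDim X ≤ 1 := h.dim.le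

include h hK in
/-- Every divisor comes from an invertible module, of the same degree. -/
theorem exists_line (D : _root_.FunFld.Divisor k X.functionField) :
    ∃ (L : X.Modules) (R : Rep L), R.div h hK = D ∧ Curv2.deg k X L 1 = D.deg := by
  classical
  haveI : IsLocallyNoetherian X := LocallyOfFiniteType.isLocallyNoetherian (X ↘ Spec (CommRingCat.of k))
  haveI := Curves.GlobalSections.isNoetherian_of_proper k X
  have hd := h.dim.le
  let P : _root_.FunFld.Divisor k X.functionField → Prop := fun D =>
    ∃ (L : X.Modules) (R : Rep L), R.div h hK = D ∧ Curv2.deg k X L 1 = D.deg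
  show P D
  have hzero : P 0 := by
    refine ⟨_, trivRep (PicLoc.isInvertible_structureModule X), ?_, ?_⟩
    · ext Q
      obtain ⟨y, rfl⟩ := placeOf_surjective (k := k) h Q
      rw [Rep.div_placeOf, trivRep_e]; rfl
    · rw [Curves.Degree.deg_structureModule]; rfl
  have hstep : ∀ (D : _root_.FunFld.Divisor k X.functionField) (x : CPt X), P D →
      P (D + Finsupp.single (placeOf k h x) 1) ∧ P (D - Finsupp.single (placeOf k h x) 1) := by
    rintro D x ⟨L, R, rfl, hLd⟩
    haveI := h.dvr x.1 x.2
    have hI := Curves.GenusZero.isInvertible_ptI h.dim x.2 inferInstance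
    let I := Curves.PointIdeal.ptI x.2
    have hgs : genericPoint X ∉ (I.support : Set X) :=
      Curves.IdealTwist.genericPoint_not_mem h.dim (by
        rw [Curves.PointIdeal.support_ptI]
        exact topologicalKrullDim_zero_of_discreteTopology ({x.1} : Set X))
    have hdegI : Curv2.deg k X (ClSub.idealMod I) 1 = -((placeOf k h x).deg : ℤ) := by
      rw [Curves.Degree.deg_idealMod hd hI hgs]
      show -(Curves.Euler.hdim k X (ClSub.quotMod I) 0 : ℤ) = _
      rw [Curves.PointIdeal.hdim_quot_point, deg_placeOf]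
    have hsurj : ∀ {N : X.Modules} (hN : PicF.IsInvertible N) (y : X), y ≠ x.1 →
        Function.Surjective (stalkMapₗ (Curves.IdealTwist.incl I N) y) := by
      intro N hN y hy
      have hses := CurveBundle.Twist.shortExact hN (ClSub.Quot.idealSeq_shortExact I)
      haveI : PreservesFiniteColimits (stalkModFunctor X y) :=
        PreservesColimitsOfSize.preservesFiniteColimits _
      have hex := (ShortComplex.ShortExact.moduleCat_exact_iff_function_exact _).1
        (hses.map_of_exact (stalkModFunctor X y)).exact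
      have h0 : Subsingleton ((CohB1.tensorMod (ClSub.quotMod I) N).presheaf.stalk y) := by
        by_contra hns
        exact hy (Set.mem_singleton_iff.1
          ((Curves.PointIdeal.support_twist_quot x.2 hN).subset hns))
      intro w
      obtain ⟨w', rfl⟩ := (Modules.StalkModule.stalkLinearEquiv (leftUnit N) y).surjective w
      obtain ⟨v, hv⟩ := (hex w').1 (@Subsingleton.elim _ h0 _ _)
      refine ⟨v, ?_⟩
      rw [Curves.IdealTwist.incl, Modules.StalkModule.stalkMapₗ_comp]
      exact congrArg (stalkMapₗ (leftUnit N).hom y) hv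
    have hne : ∀ {N : X.Modules}, PicF.IsInvertible N → Curves.IdealTwist.incl I N ≠ 0 := by
      intro N hN h0
      obtain ⟨v, hv, hv'⟩ := exists_gen hN (genericPoint X)
      obtain ⟨u, hu⟩ := hsurj hN (genericPoint X) (fun e => hgs (by
        rw [Curves.PointIdeal.support_ptI, e]; rfl)) v
      rw [h0, Modules.StalkModule.stalkMapₗ_zero, LinearMap.zero_apply] at hu
      exact one_ne_zero (hv' 1 (by rw [one_smul, ← hu]))
    constructor
    · obtain ⟨A, hA, ⟨eA⟩⟩ := Invertible.exists_inverse hI
      let N := CohB1.tensorMod A L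
      have hN : PicF.IsInvertible N := Invertible.isInvertible_tensorMod hA R.inv
      let e : CohB1.tensorMod (ClSub.idealMod I) N ≅ L :=
        (assoc (ClSub.idealMod I) A L).symm ≪≫ tensorIso eA (Iso.refl L) ≪≫ leftUnit L
      let φ : L ⟶ N := e.inv ≫ Curves.IdealTwist.incl I N
      have hφ : φ ≠ 0 := fun h0 => hne hN (by rw [← cancel_epi e.inv, comp_zero]; exact h0)
      have hdN : Curv2.deg k X N 1 = Curv2.deg k X L 1 + (placeOf k h x).deg := by
        have h1 := Curves.Degree.deg_tensor (k := k) hd hI hA
        rw [Curves.Euler.deg_eq_of_iso eA, Curves.Degree.deg_structureModule, hdegI] at h1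
        rw [Curves.Degree.deg_tensor hd hA R.inv]
        omega
      refine ⟨N, R.tgt hN hφ, div_eq_add_single h (fun y v => R.tgt_pr hN hφ y v) hK x
        (fun y hy => ?_) hdN, ?_⟩
      · rw [Modules.StalkModule.stalkMapₗ_comp]
        exact (hsurj hN y hy).comp (Modules.StalkModule.stalkLinearEquiv e.symm y).surjective
      · rw [hdN, hLd, FunFld.Degree.deg_add, FunFld.Degree.deg_single, one_mul]
    · have hN : PicF.IsInvertible (CohB1.tensorMod (ClSub.idealMod I) L) :=
        Invertible.isInvertible_tensorMod hI R.inv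
      have hdN : Curv2.deg k X L 1 =
          Curv2.deg k X (CohB1.tensorMod (ClSub.idealMod I) L) 1 + (placeOf k h x).deg := by
        rw [Curves.Degree.deg_tensor hd hI R.inv, hdegI]; ring
      refine ⟨_, R.src hN (hne R.inv), ?_, ?_⟩
      · rw [eq_sub_iff_add_eq]
        exact (div_eq_add_single h (fun y v => R.src_pr hN (hne R.inv) y v) hK x (hsurj R.inv) hdN).symm
      · rw [FunFld.Degree.deg_sub, FunFld.Degree.deg_single, one_mul]
        omega
  induction D using Finsupp.induction with
  | zero => exact hzero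
  | single_add Q n E _ _ ih =>
    obtain ⟨x, rfl⟩ := placeOf_surjective (k := k) h Q
    suffices hall : ∀ m : ℤ, P (Finsupp.single (placeOf k h x) m + E) from hall n
    intro m
    induction m using Int.induction_on with
    | zero => rwa [Finsupp.single_zero, zero_add]
    | succ n hn =>
      rw [Finsupp.single_add, add_right_comm]
      exact (hstep _ x hn).1
    | pred n hn =>
      rw [Finsupp.single_sub, sub_add_eq_add_sub]
      exact (hstep _ x hn).2

include h hK in
/-- The degree of an invertible module is the degree of its divisor. -/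
theorem Rep.deg_eq (R : Rep L) : Curv2.deg k X L 1 = (R.div h hK).deg := by
  obtain ⟨N, S, hS, hN⟩ := exists_line h hK (R.div h hK)
  obtain ⟨e⟩ := nonempty_iso h R S (one_ne_zero (α := X.functionField)) fun x => by
    rw [map_one, one_mul, ← R.div_placeOf h hK, ← hS, S.div_placeOf]
  rw [Curves.Euler.deg_eq_of_iso e, hN]

include h hK in
/-- Linear equivalence of divisors gives isomorphic modules. -/
theorem nonempty_iso_of_div (R : Rep L) (S : Rep M) {f : X.functionField} (hf : f ≠ 0)
    (he : R.div h hK = S.div h hK + _root_.FunFld.div k f) : Nonempty (L ≅ M) := by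
  refine nonempty_iso (k := k) h R S hf fun x => ?_
  have h1 := DFunLike.congr_fun he (placeOf k h x)
  rw [Finsupp.add_apply, R.div_placeOf, S.div_placeOf, FunFld.Degree.div_apply hK] at h1
  rw [FunFld.Place.val_eq_exp _ hf, ← exp_add, h1]
  congr 1
  ring

end Groth.Agent.Lib.CurveFF.LineDiv
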