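import Groth.Agent.Lib.CurveFF.AutoMap
import Groth.Agent.Lib.CurveFF.Dominant
import Groth.Agent.H4.RatExt
import Mathlib.AlgebraicGeometry.SpreadingOut

/-!
Morphisms of curves from maps of function fields; the degree of a finite flat morphism.
-/

noncomputable section
set_option autoImplicit false
set_option linter.style.haveILetI false
universe u

open CategoryTheory CategoryTheory.Limits AlgebraicGeometry TopologicalSpace

namespace Groth.Agent.Lib.CurveFF.MapOfField

attribute [local instance] Curv2.stalkAlgebra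

theorem finrank_eq {C Y : Scheme.{u}} [IsIntegral C] [IsIntegral Y] (f : C ⟶ Y) [IsFinite f] [Flat f]
    (hη : f (genericPoint C) = genericPoint Y) (y : Y) :
    f.finrank y = f.residueDegree (genericPoint C) := by
  obtain ⟨_, ⟨U, hU, rfl⟩, hy, -⟩ := Y.isBasis_affineOpens.exists_subset_of_mem_open
    (Set.mem_univ y) isOpen_univ
  replace hU : IsAffineOpen U := hU
  haveI : Nonempty U := ⟨⟨_, hy⟩⟩
  letI := (f.app U).hom.toAlgebra
  haveI : Module.Finite Γ(Y, U) Γ(C, f ⁻¹ᵁ U) := RingHom.finite_algebraMap.mp (f.finite_app U hU)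
  rw [RelDiv.Rank.finrank_eq_rankAtStalk f hU y hy]
  set p := hU.primeIdealOf ⟨y, hy⟩
  have hle : p.asIdeal.primeCompl ≤ nonZeroDivisors Γ(Y, U) :=
    Ideal.primeCompl_le_nonZeroDivisors p.asIdeal
  rw [Module.rankAtStalk, IsLocalization.finrank_eq (Localization.AtPrime p.asIdeal) p.asIdeal.primeCompl hle,
    IsLocalizedModule.finrank_eq p.asIdeal.primeCompl
      (LocalizedModule.mkLinearMap p.asIdeal.primeCompl Γ(C, f ⁻¹ᵁ U)) hle]
  have hx : f (genericPoint C) ∈ U := Dominant.genericPoint_mem hη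
  have hxV : genericPoint C ∈ f ⁻¹ᵁ U := hx
  haveI : Nonempty (f ⁻¹ᵁ U : C.Opens) := ⟨⟨_, hxV⟩⟩
  haveI : FaithfulSMul Γ(Y, U) Γ(C, f ⁻¹ᵁ U) :=
    (faithfulSMul_iff_algebraMap_injective _ _).2 (Dominant.app_injective hη U)
  letI := (f.residueFieldMap (genericPoint C)).hom.toAlgebra
  letI := (Y.evaluation U (f (genericPoint C)) hx).hom.toAlgebra
  letI := (C.evaluation (f ⁻¹ᵁ U) (genericPoint C) hxV).hom.toAlgebra
  letI : Algebra Γ(Y, U) (C.residueField (genericPoint C)) :=
    ((algebraMap Γ(C, f ⁻¹ᵁ U) (C.residueField (genericPoint C))).comp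
      (algebraMap Γ(Y, U) Γ(C, f ⁻¹ᵁ U))).toAlgebra
  haveI : IsScalarTower Γ(Y, U) Γ(C, f ⁻¹ᵁ U) (C.residueField (genericPoint C)) :=
    IsScalarTower.of_algebraMap_eq fun _ => rfl
  haveI : IsScalarTower Γ(Y, U) (Y.residueField (f (genericPoint C)))
      (C.residueField (genericPoint C)) :=
    IsScalarTower.of_algebraMap_eq fun r => (Scheme.evaluation_naturality_apply f (genericPoint C) hx r).symm
  have hinjC := Dominant.evaluation_generic_injective (C := C) hxV
  haveI := Dominant.isFractionRing_residue (hU.preimage f) (genericPoint C) hxV hinjC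
  haveI := Dominant.isFractionRing_residue hU (f (genericPoint C)) hx
    (fun a b h => Dominant.app_injective hη U (hinjC (by
      have := congrArg (f.residueFieldMap (genericPoint C)).hom h
      simpa only [Scheme.evaluation_naturality_apply] using this)))
  exact (IsFractionRing.finrank_eq Γ(Y, U) (Y.residueField (f (genericPoint C))) Γ(C, f ⁻¹ᵁ U)
    (C.residueField (genericPoint C))).symm

variable {k : Type u} [Field k] {X Y : Scheme.{u}} [X.Over (Spec (CommRingCat.of k))]
  [Y.Over (Spec (CommRingCat.of k))] [IsIntegral X] [IsIntegral Y]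

theorem stalk_facts (h : CurveHyp X) (x : X) :
    ringKrullDim (X.presheaf.stalk x) ≤ 1 ∧ IsRegularLocalRing (X.presheaf.stalk x) := by
  refine ⟨krullDim_stalk_le h.dim x, ?_⟩
  rcases SmoothCurve.Curve.eq_genericPoint_or_isClosed h.dim x with rfl | hx
  · letI : Field (X.presheaf.stalk (genericPoint X)) := (Field.toIsField X.functionField).toField
    infer_instance
  · haveI := h.dvr x hx
    infer_instance

/-- A map of function fields comes from a morphism of curves. -/
theorem exists_hom [IsProper (X ↘ Spec (CommRingCat.of k))] [IsProper (Y ↘ Spec (CommRingCat.of k))]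
    (h : CurveHyp X) (θ : Y.functionField →ₐ[k] X.functionField) :
    ∃ m : X ⟶ Y, m ≫ (Y ↘ Spec (CommRingCat.of k)) = X ↘ Spec (CommRingCat.of k) ∧
      ∃ e : m (genericPoint X) = genericPoint Y, ∀ z, FieldExt.kMap m e z = θ z := by
  let cX := X ↘ Spec (CommRingCat.of k)
  let cY := Y ↘ Spec (CommRingCat.of k)
  haveI : IsLocallyNoetherian X := LocallyOfFiniteType.isLocallyNoetherian cX
  let φ : Spec (X.presheaf.stalk (genericPoint X)) ⟶ Y :=
    Spec.map (CommRingCat.ofHom θ.toRingHom) ≫ Y.fromSpecStalk (genericPoint Y)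
  have hφ : φ ≫ cY = X.fromSpecStalk (genericPoint X) ≫ cX := by
    refine (Category.assoc _ _ _).trans ?_
    refine (congrArg (Spec.map (CommRingCat.ofHom θ.toRingHom) ≫ ·) (fromSpecStalk_over (genericPoint Y))).trans ?_
    refine ((Spec.map_comp _ _).symm.trans ?_).trans (fromSpecStalk_over (genericPoint X)).symm
    exact congrArg Spec.map (CommRingCat.hom_ext (RingHom.ext fun c => θ.commutes c))
  obtain ⟨V, hxV, g, hg1, hg2⟩ := spread_out_of_isGermInjective' cX cY φ hφ
  -- the section of the projection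
  let f := pullback.snd cY cX
  let s : (V : Scheme.{u}) ⟶ pullback cY cX := pullback.lift g V.ι hg2
  obtain ⟨U, hVU, s', hs', hs'', hall⟩ := H4.RatExt.exists_ext (fun y _ => (stalk_facts h y).2) f
    f.isClosedMap V (V.2.dense ⟨_, hxV⟩) s (pullback.lift_snd _ _ _)
  obtain rfl : U = ⊤ := top_le_iff.1 fun y _ => hall y (stalk_facts h y).1
  let m : X ⟶ Y := X.topIso.inv ≫ s' ≫ pullback.fst cY cX
  have hm : m ≫ cY = cX := by
    simp only [m, Category.assoc, pullback.condition]
    rw [reassoc_of% hs']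
    rw [← Scheme.topIso_hom, Iso.inv_hom_id_assoc]
  have hres : V.ι ≫ m = g := by
    have h1 : V.ι ≫ X.topIso.inv = X.homOfLE hVU := by
      rw [← cancel_mono X.topIso.hom, Category.assoc, Iso.inv_hom_id, Category.comp_id,
        Scheme.topIso_hom, Scheme.homOfLE_ι]
    simp only [m]
    rw [reassoc_of% h1, reassoc_of% hs'']
    exact pullback.lift_fst _ _ _
  have hgen : X.fromSpecStalk (genericPoint X) ≫ m = φ := by
    rw [← Scheme.Opens.fromSpecStalkOfMem_ι V (genericPoint X) hxV, Category.assoc, hres, ← hg1]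
  have e : m (genericPoint X) = genericPoint Y := by
    have h1 : m (genericPoint X) = φ (IsLocalRing.closedPoint _) :=
      (congrArg m (Scheme.fromSpecStalk_closedPoint (X := X) (x := genericPoint X)).symm).trans
        (congrArg (fun ψ : Spec (X.presheaf.stalk (genericPoint X)) ⟶ Y =>
          ψ (IsLocalRing.closedPoint (X.presheaf.stalk (genericPoint X)))) hgen)
    rw [h1]
    have h2 : ∀ q, Y.fromSpecStalk (genericPoint Y) q = genericPoint Y := fun q => by
      haveI : Subsingleton (PrimeSpectrum Y.functionField) := inferInstance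
      rw [show q = IsLocalRing.closedPoint (Y.presheaf.stalk (genericPoint Y)) from
        @Subsingleton.elim (PrimeSpectrum Y.functionField) _ _ _, Scheme.fromSpecStalk_closedPoint]
    exact h2 _
  refine ⟨m, hm, e, fun z => ?_⟩
  have h3 := (AutoMap.fromSpecStalk_kMap m e).symm.trans hgen
  exact congrArg (fun ψ : CommRingCat.of Y.functionField ⟶ CommRingCat.of X.functionField => ψ z)
    (Spec.map_injective ((cancel_mono (Y.fromSpecStalk (genericPoint Y))).1 h3))

/-- An isomorphism of function fields comes from an isomorphism of curves. -/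
theorem exists_iso [IsProper (X ↘ Spec (CommRingCat.of k))] [IsProper (Y ↘ Spec (CommRingCat.of k))]
    (hX : CurveHyp X) (hY : CurveHyp Y) (θ : Y.functionField ≃ₐ[k] X.functionField) :
    ∃ i : X ≅ Y, i.hom ≫ (Y ↘ Spec (CommRingCat.of k)) = X ↘ Spec (CommRingCat.of k) ∧
      ∃ e : i.hom (genericPoint X) = genericPoint Y, ∀ z, FieldExt.kMap i.hom e z = θ z := by
  haveI : X.IsSeparated :=
    ⟨by rw [← terminal.comp_from (X ↘ Spec (CommRingCat.of k))]; infer_instance⟩
  haveI : Y.IsSeparated :=
    ⟨by rw [← terminal.comp_from (Y ↘ Spec (CommRingCat.of k))]; infer_instance⟩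
  obtain ⟨m, hm, e, he⟩ := exists_hom hX θ.toAlgHom
  obtain ⟨n, -, e', he'⟩ := exists_hom hY θ.symm.toAlgHom
  have e1 : (m ≫ n) (genericPoint X) = genericPoint X := by rw [Scheme.Hom.comp_apply, e, e']
  have e2 : (n ≫ m) (genericPoint Y) = genericPoint Y := by rw [Scheme.Hom.comp_apply, e', e]
  refine ⟨⟨m, n, ?_, ?_⟩, hm, e, he⟩
  · refine AutoMap.ext_of_kMap e1 rfl fun z => ?_
    rw [AutoMap.kMap_comp m n e e' e1, AutoMap.kMap_id rfl, he', he]
    exact θ.apply_symm_apply z
  · refine AutoMap.ext_of_kMap e2 rfl fun z => ?_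
    rw [AutoMap.kMap_comp n m e' e e2, AutoMap.kMap_id rfl, he', he]
    exact θ.symm_apply_apply z

end Groth.Agent.Lib.CurveFF.MapOfField
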