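import Groth.Agent.Lib.CurveFF.PencilUnique

/-! A divisor of degree two moves in at most a pencil in positive genus. -/

set_option autoImplicit false
universe u v

open IntermediateField Polynomial
open Groth.Agent.Lib.FunFld.Degree Groth.Agent.Lib.FunFld.Riemann Groth.Agent.Lib.FunFld.Bound
  Groth.Agent.Lib.FunFld.Rational Groth.Agent.Lib.FunFld.SmallGenus

namespace Groth.Agent.Lib.CurveFF.Pencil

variable {k : Type u} {K : Type v} [Field k] [Field K] [Algebra k K]

local notation "Dv" => _root_.FunFld.Divisor k K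
local notation "Pl" => _root_.FunFld.Place k K

theorem one_mem_L (hK : _root_.FunFld.IsFunctionField k K) {D : Dv} (h : 0 ≤ D) (c : k) :
    algebraMap k K c ∈ _root_.FunFld.L D :=
  L_mono h (by rw [L_zero hK, Submodule.one_eq_range]; exact ⟨c, rfl⟩)

/-- A nonconstant function bounded by an effective divisor of degree two has it as pole divisor. -/
theorem pole_eq (hK : _root_.FunFld.IsFunctionField k K) (hg : 1 ≤ _root_.FunFld.genus k K)
    {F : Dv} (hF : 0 ≤ F) (hd : F.deg = 2) {t : K} (ht : t ∈ _root_.FunFld.L F)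
    (htk : t ∉ Set.range (algebraMap k K)) :
    Transcendental k t ∧ Module.finrank (adjoin k ({t} : Set K)) K = 2 ∧ poleDiv (k := k) t = F := by
  have htr := transcendental_of_not_mem_range hK htk
  have hle : poleDiv (k := k) t ≤ F := fun P => by
    rw [poleDiv_apply hK]
    refine max_le ?_ (hF P)
    rcases mem_L_iff_ord.1 ht with h | h
    · exact absurd ⟨0, by rw [h, map_zero]⟩ htk
    · linarith [h P]
  have h2 := deg_mono hle
  rw [hd, deg_poleDiv hK htr] at h2
  have := finiteDimensional_adjoin_transcendental hK htr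
  have hpos : 0 < Module.finrank (adjoin k ({t} : Set K)) K := Module.finrank_pos
  have hne : Module.finrank (adjoin k ({t} : Set K)) K ≠ 1 := fun h1 => by
    have := genus_eq_zero_of_adjoin_eq_top hK (adjoin_eq_top_of_deg_poleDiv hK htr (by
      rw [deg_poleDiv hK htr, h1]; rfl))
    omega
  have hrk : Module.finrank (adjoin k ({t} : Set K)) K = 2 := by omega
  exact ⟨htr, hrk, eq_of_le_of_deg_eq hK hle (by rw [hd, deg_poleDiv hK htr, hrk]; rfl)⟩

theorem exists_not_mem {V W : Submodule k K} [FiniteDimensional k W]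
    (h : Module.finrank k W < Module.finrank k V) : ∃ t ∈ V, t ∉ W := by
  by_contra hc
  push Not at hc
  exact absurd (Submodule.finrank_mono (show V ≤ W from hc)) (not_le.2 h)

/-- A divisor of degree two has at most two independent sections in positive genus. -/
theorem ell_le_two (hK : _root_.FunFld.IsFunctionField k K) (hg : 1 ≤ _root_.FunFld.genus k K)
    {D : Dv} (hD : D.deg = 2) : _root_.FunFld.ell D ≤ 2 := by
  by_contra hlt
  push Not at hlt
  rcases hg.eq_or_lt with hg1 | hg2
  · have := ell_genus_one hK hg1.symm (D := D) (by omega)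
    omega
  obtain ⟨F, a, hF, ha, hDF, hFd⟩ := exists_nonneg hK (E := D) (by omega)
  have hl : 3 ≤ _root_.FunFld.ell F := by
    rw [← ell_add_div hK F ha, ← hDF]; omega
  rw [hD] at hFd
  obtain ⟨x, hx, hxk⟩ := exists_not_mem (V := _root_.FunFld.L F) (W := k ∙ (1 : K)) (by
    rw [finrank_span_singleton (one_ne_zero (α := K))]
    show 1 < _root_.FunFld.ell F
    omega)
  haveI : FiniteDimensional k (Submodule.span k ({1, x} : Set K)) :=
    FiniteDimensional.span_of_finite k (Set.toFinite _)
  obtain ⟨y, hy, hyk⟩ := exists_not_mem (V := _root_.FunFld.L F) (W := Submodule.span k ({1, x} : Set K)) (by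
    have h2 : Module.finrank k (Submodule.span k ({1, x} : Set K)) ≤ 2 := by
      classical
      have := finrank_span_finset_le_card (R := k) ({1, x} : Finset K)
      rw [Finset.coe_pair] at this
      exact this.trans Finset.card_le_two
    show _ < _root_.FunFld.ell F
    omega)
  have hxr : x ∉ Set.range (algebraMap k K) := by
    rintro ⟨c, rfl⟩
    exact hxk (Submodule.mem_span_singleton.2 ⟨c, (Algebra.algebraMap_eq_smul_one c).symm⟩)
  have hyr : y ∉ Set.range (algebraMap k K) := by
    rintro ⟨c, rfl⟩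
    exact hyk (by
      rw [Algebra.algebraMap_eq_smul_one]
      exact Submodule.smul_mem _ _ (Submodule.subset_span (Or.inl rfl)))
  obtain ⟨hxt, hx2, hxF⟩ := pole_eq hK hg hF hFd hx hxr
  obtain ⟨hyt, hy2, hyF⟩ := pole_eq hK hg hF hFd hy hyr
  have he := H81.DoubleCover.adjoin_eq hK hg2 hx2 hy2
  obtain ⟨r, s, hrs⟩ := (mem_adjoin_simple_iff k _).1
    (he ▸ mem_adjoin_simple_self k y : y ∈ adjoin k ({x} : Set K))
  have hy0 := ne_zero_of_transcendental hyt
  have hr : r ≠ 0 := fun h => hy0 (by rw [hrs, h, map_zero, zero_div])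
  have hs : s ≠ 0 := fun h => hy0 (by rw [hrs, h, map_zero, div_zero])
  have hs0 : aeval x s ≠ 0 := fun h => hxt ⟨s, hs, h⟩
  obtain ⟨Q, hQ⟩ := FunFld.Existence.exists_pole hK hxt
  have hQy : Q.ord y = Q.ord x := by
    have h1 := DFunLike.congr_fun (hxF.trans hyF.symm) Q
    rw [poleDiv_apply hK, poleDiv_apply hK, max_eq_left (by omega)] at h1
    omega
  rw [hrs, ord_aeval_div Q hQ hr hs] at hQy
  have hd1 : (r.natDegree : ℤ) - s.natDegree = 1 := mul_right_cancel₀ hQ.ne (by rw [hQy, one_mul])
  set c : k := r.leadingCoeff / s.leadingCoeff with hc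
  set z : K := y - algebraMap k K c * x with hz
  have hzr : z = aeval x (r - C c * X * s) / aeval x s := by
    rw [hz, hrs, map_sub, map_mul, map_mul, aeval_C, aeval_X, sub_div, mul_div_cancel_right₀ _ hs0]
  have hzF : z ∈ _root_.FunFld.L F := by
    rw [hz, ← Algebra.smul_def]
    exact sub_mem hy (Submodule.smul_mem _ _ hx)
  have hz0 : z ≠ 0 := fun h => hyk (by
    rw [hz, sub_eq_zero, ← Algebra.smul_def] at h
    rw [h]
    exact Submodule.smul_mem _ _ (Submodule.subset_span (Or.inr rfl)))
  have hr' : r - C c * X * s ≠ 0 := fun h => hz0 (by rw [hzr, h, map_zero, zero_div])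
  have hc0 : c ≠ 0 := div_ne_zero (leadingCoeff_ne_zero.2 hr) (leadingCoeff_ne_zero.2 hs)
  have hlt : (r - C c * X * s).degree < r.degree := by
    refine degree_sub_lt ?_ hr ?_
    · rw [mul_assoc, degree_C_mul hc0, degree_mul, degree_X, degree_eq_natDegree hr,
        degree_eq_natDegree hs, show (r.natDegree : WithBot ℕ) = ((s.natDegree + 1 : ℕ) : WithBot ℕ) from
          congrArg _ (by omega), Nat.cast_add, Nat.cast_one, add_comm]
    · rw [leadingCoeff_mul, leadingCoeff_mul, leadingCoeff_C, leadingCoeff_X, mul_one, hc,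
        div_mul_cancel₀ _ (leadingCoeff_ne_zero.2 hs)]
  have hdeg := natDegree_lt_natDegree hr' hlt
  have hz1 : z ∈ _root_.FunFld.L (0 : Dv) := by
    rw [mem_L_iff_ord]
    refine Or.inr fun P => ?_
    rw [Finsupp.coe_zero, Pi.zero_apply, neg_zero]
    rcases lt_or_ge (P.ord x) 0 with hP | hP
    · rw [hzr, ord_aeval_div P hP hr' hs]
      exact mul_nonneg_of_nonpos_of_nonpos (by omega) hP.le
    · have h1 := DFunLike.congr_fun hxF P
      rw [poleDiv_apply hK, max_eq_right (by omega)] at h1
      have h2 := (mem_L_iff_ord.1 hzF).resolve_left hz0 P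
      omega
  rw [L_zero hK, Submodule.one_eq_range] at hz1
  obtain ⟨e, he'⟩ := hz1
  refine hyk ?_
  rw [show y = e • (1 : K) + c • x by
    rw [Algebra.smul_def, Algebra.smul_def, mul_one]
    exact (sub_eq_iff_eq_add.1 he'.symm)]
  exact add_mem (Submodule.smul_mem _ _ (Submodule.subset_span (Or.inl rfl)))
    (Submodule.smul_mem _ _ (Submodule.subset_span (Or.inr rfl)))

end Groth.Agent.Lib.CurveFF.Pencil
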