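import Groth.Prelude.Def_CurvBase
import Groth.Agent.Lib.Curves.GlobalSections
import Groth.Agent.Lib.Modules.StalkModule
import Mathlib.LinearAlgebra.Dimension.Constructions

/-!
Sections of a sheaf of modules supported at finitely many closed points.
-/

noncomputable section
set_option autoImplicit false
universe u

open CategoryTheory AlgebraicGeometry TopologicalSpace Opposite

namespace Groth.Agent.Lib.CurveFF.SkySections

variable {X : Scheme.{u}} (Q : X.Modules) (S : Finset X)

/-- Germs at finitely many closed points containing the support. -/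
theorem bijective_germs (hS : ∀ x ∈ S, IsClosed ({x} : Set X))
    (h0 : ∀ x : X, x ∉ S → Subsingleton (Q.presheaf.stalk x)) :
    Function.Bijective fun (t : Γ(Q, ⊤)) (x : S) => Q.presheaf.germ ⊤ x.1 trivial t := by
  classical
  have ext0 {W : X.Opens} (a b : Γ(Q, W)) (hW : ∀ x ∈ W, x ∉ S) : a = b :=
    TopCat.Presheaf.section_ext (⟨Q.presheaf, Q.isSheaf⟩ : TopCat.Sheaf Ab X.toTopCat) W a b
      fun x hx => @Subsingleton.elim _ (h0 x (hW x hx)) _ _
  refine ⟨fun a b hab => ?_, fun v => ?_⟩
  · refine TopCat.Presheaf.section_ext (⟨Q.presheaf, Q.isSheaf⟩ : TopCat.Sheaf Ab X.toTopCat) ⊤ a b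
      fun x hx => ?_
    by_cases hxS : x ∈ S
    · exact congrFun hab ⟨x, hxS⟩
    · exact @Subsingleton.elim _ (h0 x hxS) _ _
  · choose W hxW w hw using fun x : S => TopCat.Presheaf.exists_germ_eq Q.presheaf (v x)
    have hc (T : Finset X) (hT : T ⊆ S) : IsClosed (T : Set X) := by
      rw [← Set.biUnion_of_singleton (T : Set X)]
      exact T.finite_toSet.isClosed_biUnion fun x hx => hS x (hT hx)
    let V : Option S → X.Opens := fun o => o.elim ⟨((S : Finset X) : Set X)ᶜ, (hc S le_rfl).isOpen_compl⟩
      fun x => W x ⊓ ⟨((S.erase x.1 : Finset X) : Set X)ᶜ,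
        (hc _ (Finset.erase_subset _ _)).isOpen_compl⟩
    let sec : ∀ o, Γ(Q, V o) := fun o => match o with
      | none => 0
      | some x => Q.presheaf.map (homOfLE (inf_le_left : V (some x) ≤ W x)).op (w x)
    have hcov : (⊤ : X.Opens) ≤ iSup V := by
      intro x _
      by_cases hxS : x ∈ S
      · exact Opens.mem_iSup.2 ⟨some ⟨x, hxS⟩, hxW ⟨x, hxS⟩, by simp⟩
      · exact Opens.mem_iSup.2 ⟨none, hxS⟩
    obtain ⟨t, ht, -⟩ := TopCat.Sheaf.existsUnique_gluing'
      (⟨Q.presheaf, Q.isSheaf⟩ : TopCat.Sheaf Ab X.toTopCat) V ⊤ (fun o => homOfLE le_top) hcov sec (by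
        rintro (_ | a) (_ | b)
        · rfl
        · exact ext0 _ _ (fun x hx => hx.1)
        · exact ext0 _ _ (fun x hx => hx.2)
        · rcases eq_or_ne a b with rfl | hab
          · rfl
          · refine ext0 _ _ (fun x hx hxS => ?_)
            have h1 := hx.1.2
            have h2 := hx.2.2
            simp only [Opens.coe_mk, Set.mem_compl_iff, Finset.coe_erase, Set.mem_diff, hxS,
              Finset.mem_coe, true_and, Set.mem_singleton_iff, not_not] at h1 h2
            exact hab (Subtype.ext (h1.symm.trans h2)))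
    refine ⟨t, funext fun x => ?_⟩
    have hm : x.1 ∈ V (some x) := ⟨hxW x, by simp⟩
    refine (TopCat.Presheaf.germ_res_apply Q.presheaf (homOfLE le_top : V (some x) ⟶ ⊤) x.1 hm t).symm.trans ?_
    refine (congrArg (Q.presheaf.germ (V (some x)) x.1 hm) (ht (some x))).trans ?_
    exact (TopCat.Presheaf.germ_res_apply Q.presheaf _ x.1 hm (w x)).trans (hw x)

variable {k : Type u} [Field k] [X.Over (Spec (CommRingCat.of k))]

/-- The base field acts on the stalks of a module. -/
@[reducible] def stalkMod (x : X) : Module k (Q.presheaf.stalk x) :=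
  Module.compHom _ (Curv2.stalkMap k X x)

/-- Global sections of a module supported at finitely many closed points. -/
theorem finrank_h0 (hS : ∀ x ∈ S, IsClosed ({x} : Set X))
    (h0 : ∀ x : X, x ∉ S → Subsingleton (Q.presheaf.stalk x))
    (hfin : ∀ x ∈ S, letI := stalkMod (k := k) Q x; Module.Finite k (Q.presheaf.stalk x)) :
    Module.finrank k (Coh.HH X Q 0) =
      ∑ x ∈ S, letI := stalkMod (k := k) Q x; Module.finrank k (Q.presheaf.stalk x) := by
  letI := Curves.GlobalSections.secModule k Q
  letI (x : S) := stalkMod (k := k) Q x.1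
  haveI (x : S) : Module.Finite k (Q.presheaf.stalk x.1) := hfin x.1 x.2
  let e : (Q.val.obj (op ⊤) : Type u) →ₗ[k] (∀ x : S, Q.presheaf.stalk x.1) :=
    { toFun := fun t x => Q.presheaf.germ ⊤ x.1 trivial t
      map_add' := fun a b => funext fun x => map_add _ a b
      map_smul' := fun c a => funext fun x =>
        Modules.StalkModule.germ_smul (M := Q) (U := ⊤) (x := x.1) trivial
          (Coh.toGlobal (X ↘ Spec (CommRingCat.of k)) c) a }
  rw [(Curves.GlobalSections.h0Linear k Q).finrank_eq]
  refine (LinearEquiv.ofBijective e (bijective_germs Q S hS h0)).finrank_eq.trans ?_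
  rw [Module.finrank_pi_fintype]
  exact S.sum_coe_sort fun x => @Module.finrank k (Q.presheaf.stalk x) _ _ (stalkMod Q x)

end Groth.Agent.Lib.CurveFF.SkySections
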