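import Groth.Agent.Lib.CurveFF.LineExist
import Groth.Agent.Lib.CurveFF.Genus
import Groth.Agent.Lib.Modules.TensorAffine
import Groth.Agent.Lib.FunFld.SmallGenus

/-!
Tensor products and Riemann–Roch through the divisor dictionary.
-/

noncomputable section
set_option autoImplicit false
set_option linter.style.haveILetI false
universe u

open CategoryTheory AlgebraicGeometry TopologicalSpace Opposite WithZero
open scoped TensorProduct

namespace Groth.Agent.Lib.CurveFF.LineDiv

attribute [local instance] Curv2.stalkAlgebra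

open RefHull.Generic (toGen toGen_germ algebraMap_germ)
open DerivedOX.TensorSheaf (tensorStalk)

variable {X : Scheme.{u}} [IsIntegral X] {L M : X.Modules}

/-- The product of two generic bases. -/
def Rep.mul (R : Rep L) (S : Rep M) : Rep (CohB1.tensorMod L M) :=
  ⟨TensorMod.Invertible.isInvertible_tensorMod R.inv S.inv,
    (tensorStalk (genericPoint X) L M).trans ((TensorProduct.congr R.coord S.coord).trans
      (TensorProduct.lid (X.presheaf.stalk (genericPoint X)) (X.presheaf.stalk (genericPoint X))))⟩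

theorem Rep.mul_pr (R : Rep L) (S : Rep M) (x : X) (a : L.presheaf.stalk x) (b : M.presheaf.stalk x) :
    (R.mul S).pr x ((tensorStalk x L M).symm (a ⊗ₜ b)) = R.pr x a * S.pr x b := by
  obtain ⟨U, hU, m, rfl⟩ := TopCat.Presheaf.exists_germ_eq L.presheaf a
  obtain ⟨V, hV, n, rfl⟩ := TopCat.Presheaf.exists_germ_eq M.presheaf b
  have hx : x ∈ U ⊓ V := ⟨hU, hV⟩
  rw [← TopCat.Presheaf.germ_res_apply L.presheaf (homOfLE inf_le_left) x hx m,
    ← TopCat.Presheaf.germ_res_apply M.presheaf (homOfLE inf_le_right) x hx n,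
    ← Modules.TensorAffine.tensorStalk_germ_tens hx]
  erw [LinearEquiv.symm_apply_apply]
  rw [Rep.pr_germ, Rep.pr_germ, Rep.pr_germ]
  change TensorProduct.lid (X.presheaf.stalk (genericPoint X)) (X.presheaf.stalk (genericPoint X))
    (TensorProduct.congr R.coord S.coord (tensorStalk (genericPoint X) L M _)) = _
  rw [Modules.TensorAffine.tensorStalk_germ_tens, TensorProduct.congr_tmul, TensorProduct.lid_tmul]
  rfl

variable {k : Type u} [Field k] [X.Over (Spec (CommRingCat.of k))] (h : CurveHyp X)

theorem Rep.e_mul (R : Rep L) (S : Rep M) (x : CPt X) :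
    (R.mul S).e k h x = R.e k h x + S.e k h x := by
  refine (R.mul S).e_unique h x fun f => ?_
  constructor
  · rintro ⟨v, rfl⟩
    obtain ⟨t, rfl⟩ := (tensorStalk x.1 L M).symm.surjective v
    induction t using TensorProduct.induction_on with
    | zero =>
      refine le_of_eq_of_le ((congrArg (placeOf k h x).1
        ((congrArg ((R.mul S).pr x.1) (map_zero _)).trans (map_zero _))).trans (map_zero _)) ?_
      exact zero_le
    | tmul a b =>
      rw [R.mul_pr, map_mul, exp_add]
      exact mul_le_mul' ((R.mem_iff h x _).1 ⟨a, rfl⟩) ((S.mem_iff h x _).1 ⟨b, rfl⟩)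
    | add p q hp hq =>
      refine le_of_eq_of_le (congrArg (placeOf k h x).1
        ((congrArg ((R.mul S).pr x.1) (map_add _ p q)).trans (map_add _ _ _))) ?_
      exact (Valuation.map_add _ _ _).trans (max_le hp hq)
  · intro hf
    have hg := R.gen_ne x.1
    obtain ⟨b, hb⟩ := (S.mem_iff (k := k) h x (f / R.pr x.1 (R.gen x.1))).2 (by
      rw [map_div₀, R.val_gen h x]
      refine (div_le_iff₀ exp_pos).2 ?_
      rw [← exp_add, add_comm]
      exact hf)
    exact ⟨(tensorStalk x.1 L M).symm (R.gen x.1 ⊗ₜ b), by rw [R.mul_pr, hb, mul_div_cancel₀ _ hg]⟩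

variable [IsProper (X ↘ Spec (CommRingCat.of k))]
  (hK : _root_.FunFld.IsFunctionField k X.functionField)

theorem Rep.div_mul (R : Rep L) (S : Rep M) :
    (R.mul S).div h hK = R.div h hK + S.div h hK := by
  ext Q
  obtain ⟨x, rfl⟩ := placeOf_surjective (k := k) h Q
  rw [Finsupp.add_apply, Rep.div_placeOf, Rep.div_placeOf, Rep.div_placeOf, Rep.e_mul]

include h hK in
/-- An inverse module has, up to a principal divisor, the opposite divisor. -/
theorem exists_div_inverse (h0 : Module.finrank k (Coh.HH X (Coh.structureModule X) 0) = 1)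
    (R : Rep L) (S : Rep M) (hM : ClSub.IsInverseOf L M) :
    ∃ f : X.functionField, f ≠ 0 ∧ S.div h hK = -R.div h hK + _root_.FunFld.div k f := by
  obtain ⟨e⟩ := hM
  have hl : _root_.FunFld.ell (R.div h hK + S.div h hK) = 1 := by
    rw [← Rep.div_mul, ← Rep.finrank_h0, ← h0]
    exact Curves.Euler.hdim_eq_of_iso (k := k) e 0
  have hd : (R.div h hK + S.div h hK).deg = 0 := by
    rw [← Rep.div_mul, ← Rep.deg_eq, Curves.Euler.deg_eq_of_iso e, Curves.Degree.deg_structureModule]
  obtain ⟨f, hf, hfe⟩ := FunFld.SmallGenus.exists_div_of_deg_zero hK (by rw [hl]; exact one_pos) hd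
  exact ⟨f, hf, by rw [← hfe]; abel⟩

include h hK in
/-- Duality as an equality of dimensions. -/
theorem Rep.finrank_h1 (h0 : Module.finrank k (Coh.HH X (Coh.structureModule X) 0) = 1)
    {C : _root_.FunFld.Divisor k X.functionField}
    (hC : _root_.FunFld.IsCanonical k X.functionField C) (R : Rep L) :
    Module.finrank k (Coh.HH X L 1) = _root_.FunFld.ell (C - R.div h hK) := by
  have h1 := Curves.Degree.riemann_roch (k := k) h.dim.le h0 R.inv
  have h2 := FunFld.Weil.riemann_roch hK hC (R.div h hK)
  rw [← R.deg_eq, ← genus_eq h h0] at h2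
  change (Module.finrank k (Coh.HH X L 0) : ℤ) - Module.finrank k (Coh.HH X L 1) = _ at h1
  rw [R.finrank_h0 h hK] at h1
  omega

end Groth.Agent.Lib.CurveFF.LineDiv
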