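import Groth.Agent.Lib.CurveFF.OmegaRep
import Groth.Agent.Lib.CurveFF.LineTensor
import Groth.Agent.Lib.Curves.BaseChange
import Groth.Agent.Lib.Kaehler.BaseChange
import Groth.Agent.Lib.Kaehler.SmoothChart
import Groth.Agent.Lib.JacCrit.OverField
import Groth.Agent.H56.DimBaseChange
import Groth.Agent.S1534
import Groth.Agent.Lib.Curves.GenusZero
import Groth.Agent.Lib.Curves.EqualityCase
import Mathlib.FieldTheory.IsAlgClosed.AlgebraicClosure

/-!
Differentials of a smooth proper curve over any field, by passing to an algebraic closure.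
-/

noncomputable section
set_option autoImplicit false
set_option linter.style.haveILetI false
universe u

open CategoryTheory CategoryTheory.Limits AlgebraicGeometry TopologicalSpace

namespace Groth.Agent.Lib.CurveFF.SmoothBC

attribute [local instance] Curv2.stalkAlgebra

variable {k : Type u} [Field k] {X : Scheme.{u}} [X.Over (Spec (CommRingCat.of k))]
  [IsIntegral X] [IsProper (X ↘ Spec (CommRingCat.of k))] [Smooth (X ↘ Spec (CommRingCat.of k))]

theorem isInvertible (hdim : topologicalKrullDim X = 1) :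
    PicF.IsInvertible (Omega.sheaf (X ↘ Spec (CommRingCat.of k))) := by
  refine TensorMod.LocFree.isInvertible_of_rank_one fun x => ?_
  obtain ⟨U, m, hx, hiso, hm⟩ :=
    Kaehler.SmoothChart.exists_free_fibreDim
      (Kaehler.DOmega.isUniversal_dOmega (X ↘ Spec (CommRingCat.of k))) x
  rw [JacCrit.OverField.fibreDimAt_eq_localDim,
    JacCrit.OverField.localDim_eq_of_irreducible (X ↘ Spec (CommRingCat.of k)) x, hdim] at hm
  obtain rfl : 1 = m := by exact_mod_cast hm
  exact ⟨U, hx, hiso⟩

/-- Degree and sections of the sheaf of differentials. -/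
theorem omega_facts (hdim : topologicalKrullDim X = 1)
    (h0 : Module.finrank k (Coh.HH X (Coh.structureModule X) 0) = 1) :
    Module.finrank k (Coh.HH X (Omega.sheaf (X ↘ Spec (CommRingCat.of k))) 0) = Curv2.genus k X ∧
      Curv2.deg k X (Omega.sheaf (X ↘ Spec (CommRingCat.of k))) 1 =
        2 * (Curv2.genus k X : ℤ) - 2 := by
  let K := AlgebraicClosure k
  let b := Spec.map (CommRingCat.ofHom (algebraMap k K))
  let X' := pullback (X ↘ Spec (CommRingCat.of k)) b
  letI : X'.Over (Spec (CommRingCat.of K)) := ⟨pullback.snd (X ↘ Spec (CommRingCat.of k)) b⟩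
  let g : X' ⟶ X := pullback.fst (X ↘ Spec (CommRingCat.of k)) b
  have hpb : IsPullback g (X' ↘ Spec (CommRingCat.of K)) (X ↘ Spec (CommRingCat.of k)) b :=
    IsPullback.of_hasPullback (X ↘ Spec (CommRingCat.of k)) b
  haveI := Curves.BaseChange.isProper hpb
  haveI : Smooth (X' ↘ Spec (CommRingCat.of K)) := MorphismProperty.of_isPullback hpb inferInstance
  have hdim' : topologicalKrullDim X' = 1 :=
    (H56.DimBaseChange.topologicalKrullDim_baseChange b (X ↘ Spec (CommRingCat.of k))
      (X' ↘ Spec (CommRingCat.of K)) g hpb).trans hdim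
  have h0' : Module.finrank K (Coh.HH X' (Coh.structureModule X') 0) = 1 :=
    (Curves.BaseChange.hdim_structureModule hpb 0).trans h0
  haveI : Surjective b := ⟨fun _ => ⟨IsLocalRing.closedPoint K, Subsingleton.elim (α := PrimeSpectrum k) _ _⟩⟩
  haveI : Surjective g := MorphismProperty.of_isPullback hpb.flip inferInstance
  haveI : Nonempty X' := g.surjective.nonempty
  haveI : ConnectedSpace X' := S1534.connectedSpace_of_h0 (k := K) h0'
  haveI : IsIntegral X' := CurveBundle.SmoothField.isIntegral K hdim'.le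
  have h' := curveHyp_of_smooth K hdim'
  have hK' := isFunctionField (k := K) h' h0'
  obtain ⟨W, hW⟩ := OmegaRep.exists_rep h' hK'
  obtain ⟨c, hc, -⟩ := Kaehler.Basic.existsUnique_diffCompat (h := g) (b := b)
    (f := X ↘ Spec (CommRingCat.of k)) (f' := X' ↘ Spec (CommRingCat.of K)) hpb.w.symm
    (Kaehler.DOmega.isUniversal_dOmega _) (OmegaSh.dOmega (X' ↘ Spec (CommRingCat.of K)))
  haveI := Kaehler.BaseChange.isIso_of_isPullback hpb (Kaehler.DOmega.isUniversal_dOmega _)
    (Kaehler.DOmega.isUniversal_dOmega _) c hc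
  have hinv := isInvertible (k := k) (X := X) hdim
  constructor
  · rw [← Curves.BaseChange.genus_eq hpb, genus_eq h' h0', ← FunFld.Weil.ell_canonical hK' hW,
      ← W.finrank_h0 h' hK']
    refine Eq.trans ?_ (Curves.Euler.hdim_eq_of_iso (k := K) (asIso c) 0)
    exact (Curves.BaseChange.hdim_eq hpb hinv 0).symm
  · rw [← Curves.BaseChange.deg_eq hpb hdim.le hdim'.le hinv, Curves.Euler.deg_eq_of_iso (asIso c),
      W.deg_eq h' hK', FunFld.Weil.deg_canonical hK' hW, ← genus_eq h' h0', Curves.BaseChange.genus_eq hpb]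

/-- The sheaf of differentials carries a canonical divisor. -/
theorem exists_rep (hdim : topologicalKrullDim X = 1)
    (h0 : Module.finrank k (Coh.HH X (Coh.structureModule X) 0) = 1) (h : CurveHyp X)
    (hK : _root_.FunFld.IsFunctionField k X.functionField) :
    ∃ W : LineDiv.Rep (Omega.sheaf (X ↘ Spec (CommRingCat.of k))),
      _root_.FunFld.IsCanonical k X.functionField (W.div h hK) := by
  obtain ⟨hh, hd⟩ := omega_facts hdim h0
  obtain ⟨W⟩ := LineDiv.nonempty_rep (isInvertible (k := k) (X := X) hdim)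
  rw [W.finrank_h0 h hK, genus_eq h h0] at hh
  rw [W.deg_eq h hK, genus_eq h h0] at hd
  exact ⟨W, (FunFld.Weil.isCanonical_iff hK _).2 ⟨hh, hd⟩⟩

/-- A module of degree `2g - 2` with at least `g` sections is the sheaf of differentials. -/
theorem iso_omega (hdim : topologicalKrullDim X = 1)
    (h0 : Module.finrank k (Coh.HH X (Coh.structureModule X) 0) = 1) {L : X.Modules}
    (hL : PicF.IsInvertible L) (hd : Curv2.deg k X L 1 = 2 * (Curv2.genus k X : ℤ) - 2)
    (hl : Curv2.genus k X ≤ Module.finrank k (Coh.HH X L 0)) :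
    Nonempty (L ≅ Omega.sheaf (X ↘ Spec (CommRingCat.of k))) := by
  have h := curveHyp_of_smooth k hdim
  have hK := isFunctionField (k := k) h h0
  obtain ⟨W, hW⟩ := exists_rep hdim h0 h hK
  obtain ⟨R⟩ := LineDiv.nonempty_rep hL
  rw [R.deg_eq h hK, genus_eq h h0, ← FunFld.Weil.deg_canonical hK hW] at hd
  rw [R.finrank_h0 h hK, genus_eq h h0] at hl
  have h1 := FunFld.Weil.riemann_roch hK hW (R.div h hK)
  have h2 := FunFld.Weil.deg_canonical hK hW
  obtain ⟨f, hf, he⟩ := FunFld.SmallGenus.exists_div_of_deg_zero hK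
    (E := W.div h hK - R.div h hK) (by omega) (by rw [FunFld.Degree.deg_sub, hd, sub_self])
  obtain ⟨e⟩ := LineDiv.nonempty_iso_of_div h hK W R hf (by rw [← he]; abel)
  exact ⟨e.symm⟩

/-- The canonical system has no base points in positive genus. -/
theorem isGloballyGenerated (hdim : topologicalKrullDim X = 1)
    (h0 : Module.finrank k (Coh.HH X (Coh.structureModule X) 0) = 1) (hg : 1 ≤ Curv2.genus k X) :
    Curv2.IsGloballyGenerated (Omega.sheaf (X ↘ Spec (CommRingCat.of k))) := by
  have h := curveHyp_of_smooth k hdim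
  have hK := isFunctionField (k := k) h h0
  obtain ⟨W, hW⟩ := exists_rep hdim h0 h hK
  rw [Curves.PointIdeal.isGloballyGenerated_iff (k := k) hdim.le W.inv]
  intro x hx
  haveI := h.dvr x hx
  haveI := Curves.GlobalSections.isNoetherian_of_proper k X
  have hI := Curves.GenusZero.isInvertible_ptI hdim hx inferInstance
  obtain ⟨J⟩ := LineDiv.nonempty_rep hI
  have hJ : (J.div h hK).deg = -((placeOf k h ⟨x, hx⟩).deg : ℤ) := by
    rw [← J.deg_eq, Curves.Degree.deg_idealMod hdim.le hI (Curves.IdealTwist.genericPoint_not_mem hdim (by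
      rw [Curves.PointIdeal.support_ptI]
      exact topologicalKrullDim_zero_of_discreteTopology ({x} : Set X)))]
    show -(Curves.Euler.hdim k X (ClSub.quotMod (Curves.PointIdeal.ptI hx)) 0 : ℤ) = _
    rw [Curves.PointIdeal.hdim_quot_point, deg_placeOf]
  have hpos : (0 : ℤ) < (placeOf k h ⟨x, hx⟩).deg := by
    exact_mod_cast FunFld.Existence.deg_pos hK _
  show Module.finrank k _ < Module.finrank k _
  rw [(J.mul W).finrank_h0 h hK, W.finrank_h0 h hK, J.div_mul, FunFld.Weil.ell_canonical hK hW,
    ← genus_eq h h0]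
  by_contra hge
  push Not at hge
  have hrr := FunFld.Weil.riemann_roch hK hW (-J.div h hK)
  rw [sub_neg_eq_add, add_comm (W.div h hK), FunFld.Degree.deg_neg, hJ, neg_neg, ← genus_eq h h0] at hrr
  obtain ⟨L, R, hR, hLd⟩ := LineDiv.exists_line h hK (-J.div h hK)
  rw [FunFld.Degree.deg_neg, hJ, neg_neg] at hLd
  obtain ⟨F, a, hF, ha, hEF, hFd⟩ := FunFld.SmallGenus.exists_nonneg hK
    (E := -J.div h hK) (by omega)
  have hub := FunFld.Degree.ell_sub_ell_le hK hF
  rw [FunFld.Degree.deg_zero, FunFld.Degree.ell_zero hK, sub_zero, hFd, FunFld.Degree.deg_neg, hJ,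
    neg_neg, ← FunFld.Riemann.ell_add_div hK F ha, ← hEF] at hub
  have hl : (Curves.Euler.hdim k X L 0 : ℤ) = Curv2.deg k X L 1 + 1 := by
    show (Module.finrank k (Coh.HH X L 0) : ℤ) = _
    rw [R.finrank_h0 h hK, hR, hLd]
    omega
  have := Curves.EqualityCase.genus_eq_zero k hdim h0 R.inv hl (by rw [hLd]; exact hpos)
  omega

end Groth.Agent.Lib.CurveFF.SmoothBC
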