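import Groth.Agent.Lib.CurveFF.LineTensor
import Groth.Agent.Lib.Curves.GenusZero

/-!
Ideals of finite subschemes of a regular curve.
-/

noncomputable section
set_option autoImplicit false
set_option linter.style.haveILetI false
universe u

open CategoryTheory CategoryTheory.Limits AlgebraicGeometry TopologicalSpace
open Groth.Agent.Lib.TensorMod Groth.Agent.Lib.TensorMod.Basic

namespace Groth.Agent.Lib.CurveFF.IdealInv

attribute [local instance] Curv2.stalkAlgebra

open Modules.StalkModule (stalkMapₗ stalkModFunctor)

variable {k : Type u} [Field k] {X : Scheme.{u}} [X.Over (Spec (CommRingCat.of k))] [IsIntegral X]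
  [IsProper (X ↘ Spec (CommRingCat.of k))] (h : CurveHyp X)

include h k in
/-- An ideal missing the generic point is invertible. -/
theorem isInvertible (I : X.IdealSheafData) (hI : genericPoint X ∉ (I.support : Set X)) :
    PicF.IsInvertible (ClSub.idealMod I) := by
  haveI := Curves.GlobalSections.isNoetherian_of_proper k X
  have hc : ∀ y ∈ I.support, IsClosed ({y} : Set X) := fun y hy =>
    (SmoothCurve.Curve.eq_genericPoint_or_isClosed h.dim y).resolve_left fun he =>
      hI (he ▸ hy)
  refine ClSub.Cartier.isInvertible_idealMod
    (H4.CartierUFD.isEffCartier_of_assoc _ (fun y hy _ => ?_) fun y hy => ?_)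
  · exact Curves.GenusZero.one_le_dim_stalk h.dim (hc y hy)
  · haveI := h.dvr y (hc y hy)
    exact ⟨inferInstance, inferInstance⟩

omit [X.Over (Spec (CommRingCat.of k))] [IsProper (X ↘ Spec (CommRingCat.of k))] in
/-- An ideal containing the generic point in its support has the structure sheaf as quotient. -/
theorem nonempty_iso_quot (I : X.IdealSheafData) (hI : genericPoint X ∈ (I.support : Set X)) :
    Nonempty (ClSub.quotMod I ≅ Coh.structureModule X) := by
  haveI : Surjective I.subschemeι := ⟨Set.range_eq_univ.1 (by
    rw [I.range_subschemeι]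
    exact Set.eq_univ_of_forall fun x =>
      (genericPoint_specializes x).mem_closed I.support.isClosed hI)⟩
  haveI : IsIso I.subschemeι := isIso_of_isClosedImmersion_of_surjective _
  haveI : IsIso (ClSub.toSubscheme I) := by
    rw [Scheme.Modules.Hom.isIso_iff_isIso_app]
    intro U
    haveI : IsIso (I.subschemeι.app U) := inferInstance
    rw [ConcreteCategory.isIso_iff_bijective]
    exact ConcreteCategory.bijective_of_isIso (I.subschemeι.app U)
  exact ⟨(asIso (ClSub.toSubscheme I)).symm⟩

include h in
/-- A subscheme whose length is not one misses the generic point. -/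
theorem not_mem_of_length (h0 : Module.finrank k (Coh.HH X (Coh.structureModule X) 0) = 1)
    (I : X.IdealSheafData) (hI : Module.finrank k (Coh.HH X (ClSub.quotMod I) 0) ≠ 1) :
    genericPoint X ∉ (I.support : Set X) := fun hm =>
  hI (by
    obtain ⟨e⟩ := nonempty_iso_quot I hm
    exact (Curves.Euler.hdim_eq_of_iso (k := k) e 0).trans h0)

variable (hK : _root_.FunFld.IsFunctionField k X.functionField)

/-- The ideal of a closed point is minus the point. -/
theorem exists_rep_point (x : CPt X) :
    ∃ J : LineDiv.Rep (ClSub.idealMod (Curves.PointIdeal.ptI x.2)),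
      J.div h hK = -Finsupp.single (placeOf k h x) 1 := by
  haveI := Curves.GlobalSections.isNoetherian_of_proper k X
  haveI := h.dvr x.1 x.2
  let I := Curves.PointIdeal.ptI x.2
  have hI := Curves.GenusZero.isInvertible_ptI h.dim x.2 inferInstance
  have hgs : genericPoint X ∉ (I.support : Set X) := by
    rw [Curves.PointIdeal.support_ptI]
    intro he
    have : IsClosed ({genericPoint X} : Set X) := he.symm ▸ x.2
    exact SmoothCurve.Stalk.ne_genericPoint_of_isClosed (by rw [h.dim]; exact one_ne_zero) this rfl
  let T := LineDiv.trivRep (PicLoc.isInvertible_structureModule X)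
  let φ : ClSub.idealMod I ⟶ Coh.structureModule X := ClSub.idealModι I
  have hsurj : ∀ y : X, y ≠ x.1 → Function.Surjective (stalkMapₗ φ y) := by
    intro y hy
    haveI : PreservesFiniteColimits (stalkModFunctor X y) :=
      PreservesColimitsOfSize.preservesFiniteColimits _
    have hex := (ShortComplex.ShortExact.moduleCat_exact_iff_function_exact _).1
      ((ClSub.Quot.idealSeq_shortExact I).map_of_exact (stalkModFunctor X y)).exact
    have h0 : Subsingleton ((ClSub.quotMod I).presheaf.stalk y) := by
      by_contra hns
      have h1 : y ∈ (I.support : Set X) := by rw [← ClSub.Quot.support_quotMod]; exact hns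
      rw [Curves.PointIdeal.support_ptI] at h1
      exact hy h1
    exact fun w => (hex w).1 (@Subsingleton.elim _ h0 _ _)
  have hφ : φ ≠ 0 := fun h0 => by
    obtain ⟨u, hu⟩ := hsurj (genericPoint X) (fun e => hgs (by
      rw [Curves.PointIdeal.support_ptI, e]; rfl)) (T.gen (genericPoint X))
    have hu' := congrArg (T.pr (genericPoint X)) hu
    rw [h0, Modules.StalkModule.stalkMapₗ_zero, LinearMap.zero_apply, map_zero] at hu'
    exact T.gen_ne _ hu'.symm
  refine ⟨T.src hI hφ, ?_⟩
  have hd : Curv2.deg k X (Coh.structureModule X) 1 =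
      Curv2.deg k X (ClSub.idealMod I) 1 + (placeOf k h x).deg := by
    rw [Curves.Degree.deg_structureModule, Curves.Degree.deg_idealMod h.dim.le hI hgs]
    show 0 = -(Curves.Euler.hdim k X (ClSub.quotMod I) 0 : ℤ) + _
    rw [Curves.PointIdeal.hdim_quot_point, deg_placeOf]
    exact (neg_add_cancel _).symm
  have h1 := LineDiv.div_eq_add_single h (fun y v => T.src_pr hI hφ y v) hK x hsurj hd
  have hT : T.div (k := k) h hK = 0 := by
    ext Q
    obtain ⟨y, rfl⟩ := placeOf_surjective (k := k) h Q
    rw [LineDiv.Rep.div_placeOf, LineDiv.trivRep_e]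
    rfl
  rw [hT] at h1
  exact eq_neg_of_add_eq_zero_left h1.symm

end Groth.Agent.Lib.CurveFF.IdealInv
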