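import Groth.Agent.Lib.CurveFF.SkySections
import Groth.Agent.Lib.CurveFF.Hyp
import Groth.Agent.Lib.RefHull.Generic
import Groth.Agent.Lib.StalkLoc.Basic
import Groth.Agent.Lib.Kaehler.ToSect
import Groth.Agent.Lib.Kaehler.DOmega
import Groth.Agent.Lib.Kaehler.Finite
import Groth.Agent.Lib.Kaehler.Chart

/-!
The universal derivation on stalks.
-/

noncomputable section
set_option autoImplicit false
set_option linter.style.haveILetI false
universe u

open CategoryTheory AlgebraicGeometry TopologicalSpace Opposite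
open Groth.Agent.Lib.Kaehler.Basic

namespace Groth.Agent.Lib.CurveFF.OmegaDer

attribute [local instance] Curv2.stalkAlgebra SkySections.stalkMod

variable {X Y : Scheme.{u}} {f : X ⟶ Y} {G : X.Modules}

/-- A derivation on a stalk, as a function. -/
def stalkD (dd : OmegaSh.Der f G) (x : X) (a : X.presheaf.stalk x) : G.presheaf.stalk x :=
  G.presheaf.germ (X.presheaf.exists_germ_eq a).choose x
    (X.presheaf.exists_germ_eq a).choose_spec.choose
    (dd.app _ (X.presheaf.exists_germ_eq a).choose_spec.choose_spec.choose)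

theorem stalkD_germ (dd : OmegaSh.Der f G) {U : X.Opens} {x : X} (hx : x ∈ U) (s : Γ(X, U)) :
    stalkD dd x (X.presheaf.germ U x hx s) = G.presheaf.germ U x hx (dd.app U s) := by
  generalize ha : X.presheaf.germ U x hx s = a
  unfold stalkD
  have hV := (X.presheaf.exists_germ_eq a).choose_spec.choose_spec.choose_spec
  revert hV
  generalize (X.presheaf.exists_germ_eq a).choose_spec.choose_spec.choose = t
  generalize (X.presheaf.exists_germ_eq a).choose_spec.choose = hxV
  intro hV
  obtain ⟨W, hxW, i, j, hW⟩ := TopCat.Presheaf.germ_eq X.presheaf x hxV hx _ _ (hV.trans ha.symm)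
  rw [← TopCat.Presheaf.germ_res_apply G.presheaf i x hxW, ← TopCat.Presheaf.germ_res_apply G.presheaf j x hxW]
  refine congrArg _ ((der_app_map dd i.le t).symm.trans (Eq.trans ?_ (der_app_map dd j.le s)))
  exact congrArg _ hW

theorem stalkD_add (dd : OmegaSh.Der f G) (x : X) (a b : X.presheaf.stalk x) :
    stalkD dd x (a + b) = stalkD dd x a + stalkD dd x b := by
  obtain ⟨U, hU, s, rfl⟩ := X.presheaf.exists_germ_eq a
  obtain ⟨V, hV, t, rfl⟩ := X.presheaf.exists_germ_eq b
  have hx : x ∈ U ⊓ V := ⟨hU, hV⟩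
  rw [← TopCat.Presheaf.germ_res_apply X.presheaf (homOfLE inf_le_left) x hx s,
    ← TopCat.Presheaf.germ_res_apply X.presheaf (homOfLE inf_le_right) x hx t, ← map_add,
    stalkD_germ, stalkD_germ, stalkD_germ, map_add, map_add]

theorem stalkD_mul (dd : OmegaSh.Der f G) (x : X) (a b : X.presheaf.stalk x) :
    stalkD dd x (a * b) = a • stalkD dd x b + b • stalkD dd x a := by
  obtain ⟨U, hU, s, rfl⟩ := X.presheaf.exists_germ_eq a
  obtain ⟨V, hV, t, rfl⟩ := X.presheaf.exists_germ_eq b
  have hx : x ∈ U ⊓ V := ⟨hU, hV⟩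
  rw [← TopCat.Presheaf.germ_res_apply X.presheaf (homOfLE inf_le_left) x hx s,
    ← TopCat.Presheaf.germ_res_apply X.presheaf (homOfLE inf_le_right) x hx t, ← map_mul,
    stalkD_germ, stalkD_germ, stalkD_germ, der_app_mul, map_add,
    Modules.StalkModule.germ_smul, Modules.StalkModule.germ_smul]

variable [IsIntegral X]

theorem toGen_stalkD (dd : OmegaSh.Der f G) (x : X) (a : X.presheaf.stalk x) :
    RefHull.Generic.toGen G x (stalkD dd x a) =
      stalkD dd (genericPoint X) (algebraMap (X.presheaf.stalk x) X.functionField a) := by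
  obtain ⟨U, hU, s, rfl⟩ := X.presheaf.exists_germ_eq a
  rw [stalkD_germ, RefHull.Generic.toGen_germ, RefHull.Generic.algebraMap_germ]
  exact (stalkD_germ dd _ s).symm

omit [IsIntegral X]
variable {k : Type u} [Field k] [X.Over (Spec (CommRingCat.of k))]

theorem stalkD_const (dd : OmegaSh.Der (X ↘ Spec (CommRingCat.of k)) G) (x : X) (c : k) :
    stalkD dd x (algebraMap k (X.presheaf.stalk x) c) = 0 := by
  refine (stalkD_germ dd (U := ⊤) (x := x) trivial
    (Coh.toGlobal (X ↘ Spec (CommRingCat.of k)) c)).trans ?_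
  refine (congrArg _ ?_).trans (map_zero _)
  exact der_app_app dd ⊤ _

/-- A derivation on a stalk. -/
def derivation (dd : OmegaSh.Der (X ↘ Spec (CommRingCat.of k)) G) (x : X) :
    Derivation k (X.presheaf.stalk x) (G.presheaf.stalk x) :=
  Derivation.mk'
    { toFun := stalkD dd x
      map_add' := stalkD_add dd x
      map_smul' := fun c a => by
        rw [Algebra.smul_def, stalkD_mul, stalkD_const, smul_zero, add_zero, RingHom.id_apply]
        rfl }
    fun a b => stalkD_mul dd x a b

theorem derivation_apply (dd : OmegaSh.Der (X ↘ Spec (CommRingCat.of k)) G) (x : X)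
    (a : X.presheaf.stalk x) : derivation dd x a = stalkD dd x a := rfl

/-- The stalk of the sheaf of differentials is spanned by differentials. -/
theorem span_range {Z : Scheme.{u}} (g : X ⟶ Z) [QuasiSeparated g] [LocallyOfFiniteType g] (x : X) :
    Submodule.span (X.presheaf.stalk x) (Set.range (stalkD (OmegaSh.dOmega g) x)) = ⊤ := by
  obtain ⟨V, U, hV, hU, hx, e⟩ := Kaehler.Chart.exists_chart g x
  haveI := Kaehler.Finite.isQuasicoherent (Kaehler.DOmega.isUniversal_dOmega g)
  haveI := Kaehler.ToSect.isIso_toSect g hU hV e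
  letI : Algebra Γ(Z, V) Γ(X, U) := (g.appLE V U e).hom.toAlgebra
  let E : Ω[Γ(X, U)⁄Γ(Z, V)] ≃ₗ[Γ(X, U)] Γ(Omega.sheaf g, U) :=
    (asIso (OmAff.toSect g V U e)).toLinearEquiv
  rw [eq_top_iff]
  intro v _
  obtain ⟨a, t, hxa, hat⟩ := StalkLoc.Basic.exists_smul_eq_germ hU hx v
  rw [← Submodule.smul_mem_iff_of_isUnit _ ((X.mem_basicOpen a x hx).mp hxa), hat]
  obtain ⟨ω, rfl⟩ := E.surjective t
  clear hat
  have hω : ω ∈ Submodule.span Γ(X, U) (Set.range (KaehlerDifferential.D Γ(Z, V) Γ(X, U))) := by
    rw [KaehlerDifferential.span_range_derivation]; exact Submodule.mem_top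
  induction hω using Submodule.span_induction with
  | mem ω hω =>
    obtain ⟨b, rfl⟩ := hω
    refine Submodule.subset_span ⟨X.presheaf.germ U x hx b, ?_⟩
    rw [stalkD_germ]
    exact congrArg _ (OmAff.toSect_d g V U e b).symm
  | zero => rw [map_zero, map_zero]; exact zero_mem _
  | add p q _ _ hp hq => rw [map_add, map_add]; exact add_mem hp hq
  | smul r p _ hp =>
    rw [map_smul]
    exact (Modules.StalkModule.germ_smul hx r (E p)).symm ▸ Submodule.smul_mem _ _ hp

end Groth.Agent.Lib.CurveFF.OmegaDer
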