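import Groth.Agent.Lib.GenFinite96.Basic
import Groth.Agent.Lib.ResDescend36.Proj
import Groth.Agent.Lib.KAugNil98.Main
import Groth.Agent.Lib.TFOne.Euler
import Groth.Agent.S7640
import Groth.Agent.S4466
import Groth.Agent.Lib.CurveFF.MapOfField
import Groth.Agent.Lib.CurveFF.DoubleCover
import Groth.Agent.H34.SplitP1.Bundle
import Groth.Agent.Lib.SurfInt.Push
import Groth.Agent.Lib.CurveBundle.SmoothField
import Groth.Agent.Lib.Curves.DegreeOne
import Groth.Agent.Lib.CurveFF.Consts

/-!
# Direct images of invertible modules along double covers of the line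
-/

noncomputable section
set_option autoImplicit false
set_option linter.style.haveILetI false
universe u

open CategoryTheory CategoryTheory.Limits AlgebraicGeometry

namespace Groth.Agent.Lib.CurveFF.DoublePush

open Groth.Agent.Lib

local notation "P1" k => CohB1.ProjSpace 1 k

variable {k : Type u} [Field k]

/-- Two-term coproducts are biproducts. -/
def sigmaIso {C : Type*} [Category C] [Preadditive C] [HasBinaryBiproducts C] (A : Fin 2 → C)
    [HasCoproduct A] : (∐ A) ≅ A 0 ⊞ A 1 where
  hom := Sigma.desc (Fin.cons biprod.inl (Fin.cons biprod.inr finZeroElim))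
  inv := biprod.desc (Sigma.ι A 0) (Sigma.ι A 1)
  hom_inv_id := Sigma.hom_ext _ _ fun j => by
    fin_cases j
    · rw [Sigma.ι_desc_assoc, Category.comp_id]; exact biprod.inl_desc _ _
    · rw [Sigma.ι_desc_assoc, Category.comp_id]; exact biprod.inr_desc _ _
  inv_hom_id := by
    apply biprod.hom_ext' <;> simp only [biprod.inl_desc_assoc, biprod.inr_desc_assoc,
      Sigma.ι_desc, Category.comp_id] <;> rfl

theorem isInvertible_twist (t : ℤ) : PicF.IsInvertible (Twist.twistProjSpace 1 k t) :=
  ProjTilde.Invertible.twist_isInvertible_of_cover (fun y => by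
    obtain ⟨c, hc⟩ := ProjMor.Main.cover (ProjMor.Poly.lin_mem 1 k) (ProjMor.Poly.adjoin_lin 1 k) y
    exact ⟨c, c.2, hc⟩) t

theorem id_ne_zero {X : Scheme.{u}} [IsIntegral X] {L : X.Modules} (hL : PicF.IsInvertible L) :
    𝟙 L ≠ 0 := fun h => by
  have h1 := Modules.Stalk.isZero_iff_stalk_subsingleton.mp ((IsZero.iff_id_eq_zero L).2 h)
    (genericPoint X)
  have h2 := Curves.Degree.grank_of_isInvertible hL
  rw [CurveBundle.Rank.grank, Module.finrank_zero_of_subsingleton] at h2
  omega

theorem dim_line : topologicalKrullDim (P1 k) = 1 := by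
  simpa using ProjSpace.Dim.topologicalKrullDim_projSpace_of_field 1 k

/-- Euler characteristics and degrees on the line. -/
theorem euler_twist (t : ℤ) :
    letI : (P1 k).Over (Spec (CommRingCat.of k)) := ⟨CohB1.ProjSpace.toSpec 1 k⟩
    Curv2.euler k (P1 k) (Twist.twistProjSpace 1 k t) = t + 1 ∧
      Curv2.deg k (P1 k) (Twist.twistProjSpace 1 k t) 1 = t := by
  letI : (P1 k).Over (Spec (CommRingCat.of k)) := ⟨CohB1.ProjSpace.toSpec 1 k⟩
  haveI : IsProper ((P1 k) ↘ Spec (CommRingCat.of k)) := ProjSpace.Basic.isProper_toSpec 1 k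
  obtain ⟨h0, hg⟩ := Curves.DegreeOne.h0_genus_of_iso_line (k := k) (X := P1 k)
    (e := Iso.refl _) (Category.id_comp _)
  have hO := Curves.Degree.euler_structureModule (k := k) (dim_line (k := k)).le h0
  rw [hg] at hO
  have h := Groth.Agent.S4466.result k 1 one_pos t
  simp only [Finset.sum_range_succ, Finset.sum_range_zero, zero_add, pow_zero, one_mul, pow_one,
    Nat.cast_one, Ring.choose_one_right] at h
  have he : Curv2.euler k (P1 k) (Twist.twistProjSpace 1 k t) = t + 1 := by
    rw [Curves.Euler.euler_eq (Curves.Degree.isGood (k := k) (dim_line (k := k)).le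
      (isInvertible_twist t)).vanish]
    simp only [Curves.Euler.hdim]
    linarith
  exact ⟨he, by rw [Curves.Degree.deg_eq, he, hO]; simp⟩

variable {E : Scheme.{u}} [E.Over (Spec (CommRingCat.of k))] [IsIntegral E]
  [IsProper (E ↘ Spec (CommRingCat.of k))] (π : E ⟶ P1 k)
  (hπ : π ≫ CohB1.ProjSpace.toSpec 1 k = E ↘ Spec (CommRingCat.of k))
  [IsFinite π] [Flat π] {n : ℕ} (hrk : ∀ y : ↥(P1 k), Scheme.Hom.finrank π y = n)
  (hdim : topologicalKrullDim E = 1)

include hdim hrk in
theorem residueDegree_eq : π.residueDegree (genericPoint E) = n := by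
  rw [← MapOfField.finrank_eq π (DoubleCover.generic_eq π hdim) (genericPoint _)]
  exact hrk _

include hπ hdim hrk in
/-- The degree of the pullback of a twist. -/
theorem deg_pullback_twist (t : ℤ) :
    Curv2.deg k E ((Scheme.Modules.pullback π).obj (Twist.twistProjSpace 1 k t)) 1 = n * t := by
  letI : (P1 k).Over (Spec (CommRingCat.of k)) := ⟨CohB1.ProjSpace.toSpec 1 k⟩
  haveI : IsProper ((P1 k) ↘ Spec (CommRingCat.of k)) := ProjSpace.Basic.isProper_toSpec 1 k
  rw [Groth.Agent.S7640.result k E (P1 k) hdim dim_line π hπ (DoubleCover.generic_eq π hdim) 1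
    (Twist.twistProjSpace 1 k t) (TensorMod.LocFree.of_isInvertible (isInvertible_twist t)),
    residueDegree_eq π hrk hdim, (euler_twist t).2]

include hπ hdim hrk in
/-- The direct image of an invertible module is locally free of rank the degree. -/
theorem isFinLocFreeOfRank_push (hn : n ≠ 0) {L : E.Modules} (hL : PicF.IsInvertible L) :
    FlatMod.IsFinLocFreeOfRank n ((Scheme.Modules.pushforward π).obj L) := by
  letI : (P1 k).Over (Spec (CommRingCat.of k)) := ⟨CohB1.ProjSpace.toSpec 1 k⟩
  haveI : IsProper ((P1 k) ↘ Spec (CommRingCat.of k)) := ProjSpace.Basic.isProper_toSpec 1 k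
  haveI : IsLocallyNoetherian (P1 k) :=
    LocallyOfFiniteType.isLocallyNoetherian ((P1 k) ↘ Spec (CommRingCat.of k))
  haveI : LocallyOfFinitePresentation π := inferInstance
  have h := ResDescend36.Proj.isFinLocFree_pushforward π
    (TensorMod.LocFree.of_rank (TensorMod.LocFree.of_isInvertible hL))
  have hη := GenFinite96.finrank_push_stalk (k := k) π hπ (DoubleCover.generic_eq π hdim)
    (residueDegree_eq π hrk hdim) hn hL
  intro y
  obtain ⟨U, m, hy, ⟨i⟩⟩ := h y
  have hU : genericPoint (P1 k) ∈ U :=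
    ((genericPoint_spec (P1 k)).mem_open_set_iff U.2).2 ⟨y, trivial, hy⟩
  obtain ⟨b⟩ := KAugNil98.Main.exists_stalkBasis (a := m) (x := genericPoint (P1 k))
    (M := (Scheme.Modules.pushforward π).obj L) ⟨U, hU, ⟨i⟩⟩
  have hm : m = n := by
    have := Module.finrank_eq_card_basis b
    rw [Fintype.card_fin] at this
    exact this.symm.trans hη
  subst hm
  exact ⟨U, hy, ⟨i⟩⟩

end Groth.Agent.Lib.CurveFF.DoublePush
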