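import Groth.Agent.Lib.CurveFF.LocalDiff
import Groth.Agent.Lib.CurveFF.SkySections
import Groth.Agent.Lib.StalkLoc.Basic
import Groth.Agent.Lib.Kaehler.ToSect
import Groth.Agent.Lib.Kaehler.DOmega
import Groth.Agent.Lib.Kaehler.Finite
import Groth.Agent.Lib.Kaehler.Chart
import Groth.Prelude.Def_Omega2

/-!
Stalks of the sheaf of differentials of a morphism of curves.
-/

noncomputable section
set_option autoImplicit false
set_option linter.style.haveILetI false
universe u

open CategoryTheory AlgebraicGeometry Opposite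

namespace Groth.Agent.Lib.CurveFF.OmegaStalk

attribute [local instance] Curv2.stalkAlgebra SkySections.stalkMod

variable {k : Type u} [Field k] {X Y : Scheme.{u}} [X.Over (Spec (CommRingCat.of k))]
  [Y.Over (Spec (CommRingCat.of k))] (f : X ⟶ Y)
  (hf : f ≫ (Y ↘ Spec (CommRingCat.of k)) = X ↘ Spec (CommRingCat.of k))

include hf in
theorem stalkMap_const (x : X) (c : k) :
    f.stalkMap x (Curv2.stalkMap k Y (f x) c) = Curv2.stalkMap k X x c := by
  refine (Scheme.Hom.germ_stalkMap_apply f ⊤ x trivial _).trans ?_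
  have h : f.appTop (Coh.toGlobal (Y ↘ Spec (CommRingCat.of k)) c) =
      Coh.toGlobal (X ↘ Spec (CommRingCat.of k)) c := by
    rw [← hf]; rfl
  exact congrArg (X.presheaf.germ ⊤ x trivial) h

include hf in
/-- The stalk of `Ω_{X/Y}` when `Ω_{O_x/k}` is free on `D s` and `O_{Y,y}` contributes `r • D s`. -/
theorem nonempty_equiv [LocallyOfFiniteType f] [QuasiSeparated f] (x : X)
    (s r : X.presheaf.stalk x) (hs : Submodule.span (X.presheaf.stalk x) {KaehlerDifferential.D k (X.presheaf.stalk x) s} = ⊤)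
    (hinj : ∀ a : X.presheaf.stalk x, a • KaehlerDifferential.D k (X.presheaf.stalk x) s = 0 → a = 0)
    (hle : ∀ a : Y.presheaf.stalk (f x), KaehlerDifferential.D k (X.presheaf.stalk x) (f.stalkMap x a) ∈
      Submodule.span (X.presheaf.stalk x) {r • KaehlerDifferential.D k (X.presheaf.stalk x) s})
    (t : Y.presheaf.stalk (f x))
    (ht : KaehlerDifferential.D k (X.presheaf.stalk x) (f.stalkMap x t) =
      r • KaehlerDifferential.D k (X.presheaf.stalk x) s) :
    Nonempty ((Omega.sheaf f).presheaf.stalk x ≃ₗ[k] X.presheaf.stalk x ⧸ Ideal.span {r}) := by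
  obtain ⟨V, U, hV, hU, hx, e⟩ := Kaehler.Chart.exists_chart f x
  haveI := Kaehler.Finite.isQuasicoherent (Kaehler.DOmega.isUniversal_dOmega f)
  haveI := Kaehler.ToSect.isIso_toSect f hU hV e
  let O := X.presheaf.stalk x
  let Oy := Y.presheaf.stalk (f x)
  letI : Algebra Γ(Y, V) Γ(X, U) := (f.appLE V U e).hom.toAlgebra
  let E : Ω[Γ(X, U)⁄Γ(Y, V)] ≃ₗ[Γ(X, U)] Γ(Omega.sheaf f, U) :=
    (asIso (OmAff.toSect f V U e)).toLinearEquiv
  letI : Algebra Γ(X, U) O := TopCat.Presheaf.algebra_section_stalk X.presheaf ⟨x, hx⟩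
  letI : Algebra Γ(Y, V) O :=
    ((algebraMap Γ(X, U) O).comp (algebraMap Γ(Y, V) Γ(X, U))).toAlgebra
  haveI : IsScalarTower Γ(Y, V) Γ(X, U) O := IsScalarTower.of_algebraMap_eq' rfl
  letI : Algebra Γ(Y, V) Oy := TopCat.Presheaf.algebra_section_stalk Y.presheaf ⟨f x, e hx⟩
  have hg (a : Γ(Y, V)) : f.stalkMap x (algebraMap Γ(Y, V) Oy a) = algebraMap Γ(Y, V) O a := by
    refine (Scheme.Hom.germ_stalkMap_apply f V x (e hx) a).trans ?_
    exact (TopCat.Presheaf.germ_res_apply X.presheaf (homOfLE e) x hx (f.app V a)).symm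
  letI : Algebra k Γ(Y, V) := ((Y.presheaf.map (homOfLE le_top).op).hom.comp
    (Coh.toGlobal (Y ↘ Spec (CommRingCat.of k)))).toAlgebra
  haveI : IsScalarTower k Γ(Y, V) O := IsScalarTower.of_algebraMap_eq fun c => by
    rw [← hg]
    refine (stalkMap_const f hf x c).symm.trans (congrArg (f.stalkMap x) ?_)
    exact (TopCat.Presheaf.germ_res_apply Y.presheaf _ (f x) (e hx) _).symm
  haveI := hV.isLocalization_stalk ⟨f x, e hx⟩
  have hA : Submodule.span O (Set.range fun a : Γ(Y, V) =>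
      KaehlerDifferential.D k O (algebraMap Γ(Y, V) O a)) =
      Submodule.span O {r • KaehlerDifferential.D k O s} := by
    refine le_antisymm (Submodule.span_le.2 ?_) (Submodule.span_singleton_le_iff_mem _ _ |>.2 ?_)
    · rintro _ ⟨a, rfl⟩
      change KaehlerDifferential.D k O (algebraMap Γ(Y, V) O a) ∈ _
      rw [← hg]
      exact hle _
    · obtain ⟨⟨a, b⟩, hab⟩ :=
        IsLocalization.surj (hV.primeIdealOf ⟨f x, e hx⟩).asIdeal.primeCompl t
      have hb : IsUnit (algebraMap Γ(Y, V) O b.1) := by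
        rw [← hg]; exact (IsLocalization.map_units Oy b).map _
      have h1 := congrArg (f.stalkMap x) hab
      rw [map_mul, hg, hg] at h1
      have h2 := congrArg (KaehlerDifferential.D k O) h1
      rw [Derivation.leibniz, ht] at h2
      rw [← Submodule.smul_mem_iff_of_isUnit _ hb, eq_sub_of_add_eq' h2]
      exact sub_mem (Submodule.subset_span ⟨a, rfl⟩) (Submodule.smul_mem _ _ (Submodule.subset_span ⟨b.1, rfl⟩))
  obtain ⟨e1⟩ := LocalDiff.finrank_kaehler (A := Γ(Y, V)) s r hs hinj hA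
  haveI := hU.isLocalization_stalk ⟨x, hx⟩
  let p := (hU.primeIdealOf ⟨x, hx⟩).asIdeal.primeCompl
  letI := StalkLoc.Basic.moduleSections (Omega.sheaf f) hx
  haveI := StalkLoc.Basic.isLocalizedModule_germ (M := Omega.sheaf f) hU hx
  haveI : IsLocalizedModule p ((KaehlerDifferential.map Γ(Y, V) Γ(Y, V) Γ(X, U) O).comp
      E.symm.toLinearMap) := inferInstance
  let e2 : (Omega.sheaf f).presheaf.stalk x ≃ₗ[Γ(X, U)] Ω[O⁄Γ(Y, V)] :=
    IsLocalizedModule.linearEquiv p (StalkLoc.Basic.germₗ (Omega.sheaf f) hx)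
      ((KaehlerDifferential.map Γ(Y, V) Γ(Y, V) Γ(X, U) O).comp E.symm.toLinearMap)
  let cU : k → Γ(X, U) := fun c =>
    X.presheaf.map (homOfLE le_top).op (Coh.toGlobal (X ↘ Spec (CommRingCat.of k)) c)
  have hc (c : k) : algebraMap Γ(X, U) O (cU c) = Curv2.stalkMap k X x c :=
    TopCat.Presheaf.germ_res_apply X.presheaf _ x hx _
  let e3 : (Omega.sheaf f).presheaf.stalk x ≃ₗ[k] Ω[O⁄Γ(Y, V)] :=
    { e2 with
      map_smul' := fun c v => by
        have h1 : c • v = cU c • v := congrArg (· • v) (hc c).symm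
        show e2 (c • v) = c • e2 v
        rw [h1, map_smul, ← algebraMap_smul O (cU c), hc, ← algebraMap_smul O c]
        rfl }
  exact ⟨e3.trans e1⟩

end Groth.Agent.Lib.CurveFF.OmegaStalk
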