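import Groth.Agent.Lib.CurveFF.FieldExt
import Groth.Agent.Lib.CurveFF.OmegaStalk
import Groth.Agent.Lib.CurveFF.Hyp
import Groth.Agent.Lib.CurveFF.Genus
import Groth.Agent.H81.Diff.Basic
import Groth.Agent.H81.Diff.Hilbert
import Groth.Agent.Lib.FunFld.Hasse.Wdiv
import Groth.Agent.Lib.FunFld.Rational

/-!
The Hurwitz formula for separable covers of curves over an algebraically closed field.
-/

noncomputable section
set_option autoImplicit false
set_option linter.style.haveILetI false
universe u

open CategoryTheory AlgebraicGeometry TopologicalSpace WithZero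
open Groth.Agent

namespace Groth.Agent.Lib.CurveFF.Hurwitz

attribute [local instance] Curv2.stalkAlgebra Curv2.resAlgebra SkySections.stalkMod

variable {k : Type u} [Field k] {X : Scheme.{u}} [X.Over (Spec (CommRingCat.of k))]

theorem essFiniteType_stalk [LocallyOfFiniteType (X ↘ Spec (CommRingCat.of k))] (x : X) :
    Algebra.EssFiniteType k (X.presheaf.stalk x) := by
  obtain ⟨U, hU, hxU, -⟩ := exists_isAffineOpen_mem_and_subset (X := X) (x := x) (U := ⊤) trivial
  let c := X ↘ Spec (CommRingCat.of k)
  letI : Algebra k Γ(X, U) :=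
    ((X.presheaf.map (homOfLE le_top).op).hom.comp (Coh.toGlobal c)).toAlgebra
  letI := TopCat.Presheaf.algebra_section_stalk X.presheaf (⟨x, hxU⟩ : U)
  haveI := hU.isLocalization_stalk ⟨x, hxU⟩
  haveI : IsScalarTower k Γ(X, U) (X.presheaf.stalk x) := IsScalarTower.of_algebraMap_eq fun a =>
    (TopCat.Presheaf.germ_res_apply X.presheaf _ x hxU _).symm
  haveI : Algebra.FiniteType k Γ(X, U) := by
    have h1 : RingHom.FiniteType ((c.appLE ⊤ U le_top).hom.comp
        (Scheme.ΓSpecIso (CommRingCat.of k)).inv.hom) :=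
      (c.finiteType_appLE (isAffineOpen_top _) hU le_top).comp
        (RingHom.FiniteType.of_surjective _
          (ConcreteCategory.bijective_of_isIso (Scheme.ΓSpecIso (CommRingCat.of k)).inv).2)
    exact h1
  haveI : Algebra.EssFiniteType Γ(X, U) (X.presheaf.stalk x) :=
    Algebra.EssFiniteType.of_isLocalization _ (hU.primeIdealOf ⟨x, hxU⟩).asIdeal.primeCompl
  exact Algebra.EssFiniteType.comp k Γ(X, U) _

variable [IsIntegral X] [IsProper (X ↘ Spec (CommRingCat.of k))]

theorem isScalarTower_K (x : X) :
    IsScalarTower k (X.presheaf.stalk x) X.functionField :=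
  .of_algebraMap_eq fun c => (algebraMap_const x c).symm

theorem mapD (x : X) (a : X.presheaf.stalk x) :
    haveI := isScalarTower_K (k := k) x
    KaehlerDifferential.map k k (X.presheaf.stalk x) X.functionField
      (KaehlerDifferential.D k (X.presheaf.stalk x) a) =
      KaehlerDifferential.D k X.functionField (algebraMap (X.presheaf.stalk x) X.functionField a) :=
  haveI := isScalarTower_K (k := k) x
  KaehlerDifferential.map_D _ _ _ _ _

variable [IsAlgClosed k]

/-- Differentials of the local ring at a closed point: generated by the differential of a uniformizer. -/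
theorem local_facts (h : CurveHyp X) (hK : _root_.FunFld.IsFunctionField k X.functionField)
    (x : CPt X) :
    ∃ s : X.presheaf.stalk x.1,
      (placeOf k h x).1 (algebraMap (X.presheaf.stalk x.1) X.functionField s) = exp (-1) ∧
      Submodule.span (X.presheaf.stalk x.1) {KaehlerDifferential.D k (X.presheaf.stalk x.1) s} = ⊤ ∧
      ∀ a : X.presheaf.stalk x.1,
        a • KaehlerDifferential.D k (X.presheaf.stalk x.1) s = 0 → a = 0 := by
  haveI := isScalarTower_K (k := k) x.1
  haveI := essFiniteType_stalk (k := k) x.1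
  let P := placeOf k h x
  obtain ⟨t, ht⟩ := Lib.FunFld.Place.exists_val_eq_exp P (-1)
  obtain ⟨s, rfl⟩ := (mem_O_placeOf h x).1 (show P.1 t ≤ 1 by rw [ht, ← exp_zero, exp_le_exp]; norm_num)
  obtain ⟨ψ, hψ, hψt⟩ := FunFld.Hasse.Param.exists_expansion hK ht
  have ht0 : algebraMap (X.presheaf.stalk x.1) X.functionField s ≠ 0 := fun h0 => by
    rw [h0, map_zero] at ht; exact exp_ne_zero ht.symm
  refine ⟨s, ht, ?_, fun a ha => ?_⟩
  · refine LocalDiff.span_D s ?_ fun a => ?_
    · rw [IsLocalRing.mem_maximalIdeal, mem_nonunits_iff]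
      rintro ⟨v, rfl⟩
      have h1 : P.1 (algebraMap (X.presheaf.stalk x.1) X.functionField ((v⁻¹ : (X.presheaf.stalk x.1)ˣ) : _)) ≤ 1 :=
        (mem_O_placeOf (k := k) h x).2 ⟨_, rfl⟩
      have h2 := mul_le_mul' ht.le h1
      rw [← map_mul, ← map_mul, Units.mul_inv, map_one, map_one, mul_one, ← exp_zero, exp_le_exp] at h2
      omega
    · obtain ⟨c, hc⟩ := FunFld.Hasse.Param.isDegOne hK P (algebraMap _ X.functionField a)
        ((mem_O_placeOf h x).2 ⟨a, rfl⟩)
      obtain ⟨b, hb⟩ := (mem_O_placeOf h x).1 (show P.1 ((algebraMap _ X.functionField a -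
          algebraMap k X.functionField c) / algebraMap _ X.functionField s) ≤ 1 by
        rw [map_div₀, ht]
        refine (div_le_one₀ exp_pos).2 ?_
        generalize P.1 (algebraMap _ X.functionField a - algebraMap k X.functionField c) = z at hc ⊢
        rcases eq_or_ne z 0 with rfl | hz
        · exact zero_le
        · rw [← exp_log hz, ← exp_zero, exp_lt_exp] at hc
          rw [← exp_log hz, exp_le_exp]
          omega)
      refine ⟨c, b, IsFractionRing.injective (X.presheaf.stalk x.1) X.functionField ?_⟩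
      rw [map_add, map_mul, hb, algebraMap_const, mul_div_cancel₀ _ ht0]
      ring
  · have h1 := congrArg (KaehlerDifferential.map k k (X.presheaf.stalk x.1) X.functionField) ha
    rw [map_zero, map_smul, mapD, ← algebraMap_smul X.functionField a, smul_eq_zero] at h1
    refine IsFractionRing.injective (X.presheaf.stalk x.1) X.functionField
      ((h1.resolve_right fun h0 => ?_).trans (map_zero _).symm)
    exact (H81.Diff.Basic.isSep_uniformizer hK (FunFld.Hasse.Separable.exists_isSep hK) hψ ht).1.symm.trans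
      (by rw [FunFld.Res.SepRes.D_eq_zero_of_kaehler ψ h0, map_zero]) |> one_ne_zero

variable {Y : Scheme.{u}} [Y.Over (Spec (CommRingCat.of k))] [IsIntegral Y]
  [IsProper (Y ↘ Spec (CommRingCat.of k))] (f : X ⟶ Y) [IsFinite f]
  (hf : f ≫ (Y ↘ Spec (CommRingCat.of k)) = X ↘ Spec (CommRingCat.of k))
  (e : f (genericPoint X) = genericPoint Y)

include hf e

/-- The Hurwitz formula. -/
theorem main (hX : CurveHyp X) (hY : CurveHyp Y)
    (hsep : letI := (FieldExt.kMap f e).toAlgebra
      Algebra.IsSeparable Y.functionField X.functionField) :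
    2 * (Curv2.genus k X : ℤ) - 2 =
      (f.residueDegree (genericPoint X) : ℤ) * (2 * (Curv2.genus k Y : ℤ) - 2) +
        (Module.finrank k (Coh.HH X (Omega.sheaf f) 0) : ℤ) := by
  classical
  letI := (FieldExt.kMap f e).toAlgebra
  haveI : Algebra.IsSeparable Y.functionField X.functionField := hsep
  obtain ⟨hdeg, hfd⟩ := FieldExt.finrank_eq f e
  haveI := hfd
  have hconst (c : k) : algebraMap Y.functionField X.functionField (algebraMap k Y.functionField c) =
      algebraMap k X.functionField c := by
    rw [← algebraMap_const (f (genericPoint X)) c, ← algebraMap_const (genericPoint X) c]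
    refine (FieldExt.kMap_algebraMap f e (genericPoint X) _).trans ?_
    exact congrArg _ (OmegaStalk.stalkMap_const f hf (genericPoint X) c)
  haveI : IsScalarTower k Y.functionField X.functionField :=
    .of_algebraMap_eq fun c => (hconst c).symm
  have h0X := Curves.GlobalSections.finrank_h0_structure k X
  have h0Y := Curves.GlobalSections.finrank_h0_structure k Y
  have hKX := isFunctionField (k := k) hX h0X
  have hKY := isFunctionField (k := k) hY h0Y
  have hsY := FunFld.Hasse.Separable.exists_isSep hKY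
  have hsX := FunFld.Hasse.Separable.exists_isSep hKX
  choose tX _ htX using fun Q : _root_.FunFld.Place k X.functionField => Lib.FunFld.Place.exists_uniformizer Q
  choose tY _ htY using fun P : _root_.FunFld.Place k Y.functionField => Lib.FunFld.Place.exists_uniformizer P
  choose ΦX hΦX hΦXt using fun Q => FunFld.Hasse.Param.exists_expansion hKX (htX Q)
  choose ΦY hΦY hΦYt using fun P => FunFld.Hasse.Param.exists_expansion hKY (htY P)
  -- a separating element of the base
  obtain ⟨P₀, -⟩ := Lib.FunFld.Existence.exists_zero hKY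
    (Lib.FunFld.Riemann.exists_transcendental hKY).choose_spec
  let v : Y.functionField := tY P₀
  have hvs := (H81.Diff.Basic.isSep_uniformizer hKY hsY (hΦY P₀) (htY P₀))
  have hDv : KaehlerDifferential.D k Y.functionField v ≠ 0 := fun h0 => by
    have h1 := hvs.1
    rw [FunFld.Res.SepRes.D_eq_zero_of_kaehler (ΦY P₀) h0, map_zero] at h1
    exact zero_ne_one h1
  let vX : X.functionField := algebraMap Y.functionField X.functionField v
  have hvXs : FunFld.Hasse.Separable.IsSep k vX := H81.Diff.Hilbert.isSep_map hvs.2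
  have hDvX : KaehlerDifferential.D k X.functionField vX ≠ 0 := fun h0 => by
    obtain ⟨Q, -⟩ := Lib.FunFld.Existence.exists_zero hKX
      (Lib.FunFld.Riemann.exists_transcendental hKX).choose_spec
    exact FunFld.Res.SepRes.D_ne_zero_of_isSep (hΦX Q) hvXs
      (FunFld.Res.SepRes.D_eq_zero_of_kaehler (ΦX Q) h0)
  obtain ⟨CY, hCY, hCYv⟩ := FunFld.Res.Omega.exists_canonical (F := fun _ => k) ΦY hΦY hKY hsY one_ne_zero hDv
  obtain ⟨CX, hCX, hCXv⟩ := FunFld.Res.Omega.exists_canonical (F := fun _ => k) ΦX hΦX hKX hsX one_ne_zero hDvX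
  let R : _root_.FunFld.Divisor k X.functionField := CX - FunFld.conorm X.functionField CY
  have hdegR : R.deg = 2 * (Curv2.genus k X : ℤ) - 2 -
      (f.residueDegree (genericPoint X) : ℤ) * (2 * (Curv2.genus k Y : ℤ) - 2) := by
    rw [Lib.FunFld.Degree.deg_sub, Lib.FunFld.Ext.deg_conorm hKY, hdeg,
      Lib.FunFld.Weil.deg_canonical hKX hCX, Lib.FunFld.Weil.deg_canonical hKY hCY,
      genus_eq hX h0X, genus_eq hY h0Y]
  -- the stalks at closed points
  have hstalk : ∀ x : CPt X, ∃ m : ℕ, (R (placeOf k hX x) : ℤ) = m ∧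
      Nonempty ((Omega.sheaf f).presheaf.stalk x.1 ≃ₗ[k] (Fin m → k)) := by
    intro x
    have hyc : IsClosed ({f x.1} : Set Y) := by
      rw [← Set.image_singleton (f := f)]; exact f.isClosedMap _ x.2
    let y : CPt Y := ⟨f x.1, hyc⟩
    let Q := placeOf k hX x
    obtain ⟨P', ee, hee, hP'⟩ := Lib.FunFld.Ext.exists_place_below hKY Q
    have hPy : placeOf k hY y = P' := Lib.FunFld.Place.place_eq_of_O_le fun z hz => by
      obtain ⟨a, rfl⟩ := (mem_O_placeOf hY y).1 hz
      have h1 : Q.1 (algebraMap Y.functionField X.functionField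
          (algebraMap (Y.presheaf.stalk (f x.1)) Y.functionField a)) ≤ 1 :=
        (mem_O_placeOf hX x).2 ⟨_, (FieldExt.kMap_algebraMap f e x.1 a).symm⟩
      rw [hP'] at h1
      exact (pow_le_one_iff hee.ne').1 h1
    subst hPy
    obtain ⟨s, hs, hsspan, hsinj⟩ := local_facts hX hKX x
    obtain ⟨t, ht, htspan, -⟩ := local_facts hY hKY y
    let Ox := X.presheaf.stalk x.1
    let Oy := Y.presheaf.stalk (f x.1)
    letI : Algebra Oy Ox := (f.stalkMap x.1).hom.toAlgebra
    haveI : IsScalarTower k Oy Ox :=
      .of_algebraMap_eq fun c => (OmegaStalk.stalkMap_const f hf x.1 c).symm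
    obtain ⟨r, hr⟩ := Submodule.mem_span_singleton.1 (hsspan ▸ Submodule.mem_top :
      KaehlerDifferential.D k Ox (f.stalkMap x.1 t) ∈ Submodule.span Ox {KaehlerDifferential.D k Ox s})
    have hle (a : Oy) : KaehlerDifferential.D k Ox (f.stalkMap x.1 a) ∈
        Submodule.span Ox {r • KaehlerDifferential.D k Ox s} := by
      obtain ⟨b, hb⟩ := Submodule.mem_span_singleton.1 (htspan ▸ Submodule.mem_top :
        KaehlerDifferential.D k Oy a ∈ Submodule.span Oy {KaehlerDifferential.D k Oy t})
      have h1 := congrArg (KaehlerDifferential.map k k Oy Ox) hb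
      rw [map_smul, KaehlerDifferential.map_D, KaehlerDifferential.map_D, ← algebraMap_smul Ox b] at h1
      change _ = KaehlerDifferential.D k Ox (f.stalkMap x.1 a) at h1
      rw [← h1, hr]
      exact Submodule.smul_mem _ _ (Submodule.subset_span rfl)
    obtain ⟨e1⟩ := OmegaStalk.nonempty_equiv f hf x.1 s r hsspan hsinj hle t hr.symm
    -- the valuation of `r`
    haveI := isScalarTower_K (k := k) x.1
    obtain ⟨ψ, hψ, hψs⟩ := FunFld.Hasse.Param.exists_expansion hKX hs
    have hk := congrArg (KaehlerDifferential.map k k Ox X.functionField) hr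
    rw [map_smul, mapD, mapD, ← algebraMap_smul X.functionField r] at hk
    have hnat : algebraMap Ox X.functionField (f.stalkMap x.1 t) = algebraMap Y.functionField
        X.functionField (algebraMap Oy Y.functionField t) := (FieldExt.kMap_algebraMap f e x.1 t).symm
    rw [hnat] at hk
    have hQv : Valued.v (LocRes.D k (ΦX Q (algebraMap Y.functionField X.functionField
        (algebraMap Oy Y.functionField t)))) = Q.1 (algebraMap Ox X.functionField r) := by
      rw [H81.Diff.Basic.D_of_kaehler (ΦX Q) hk.symm, map_mul, (hΦX Q).1,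
        (H81.Diff.Basic.isSep_uniformizer hKX hsX (hΦX Q) hs).1, mul_one]
    have hvY : LocRes.vDiff (ΦY (placeOf k hY y)) 1 v ≠ 0 := by
      rw [LocRes.vDiff, map_one, one_mul]
      exact (Valuation.ne_zero_iff _).2 (FunFld.Res.SepRes.D_ne_zero hKY hsY (hΦY _) hDv)
    have hvX' : LocRes.vDiff (ΦX Q) 1 vX ≠ 0 := by
      rw [LocRes.vDiff, map_one, one_mul]
      exact (Valuation.ne_zero_iff _).2 (FunFld.Res.SepRes.D_ne_zero hKX hsX (hΦX _) hDvX)
    have hexp := H81.Diff.Basic.diffExp_eq hKY hsY hP' (hΦY _) (hΦX Q) hvY hvX' ht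
    rw [hQv] at hexp
    have hR : R Q = LocRes.diffExp (ΦY (placeOf k hY y)) (ΦX Q) ee v := by
      rw [Finsupp.sub_apply, Lib.FunFld.Ext.conorm_apply hKY _ hP', hCXv, hCYv, LocRes.diffExp]
    rw [← hR] at hexp
    have h1 : Q.1 (algebraMap Ox X.functionField r) ≤ 1 := (mem_O_placeOf hX x).2 ⟨r, rfl⟩
    rw [hexp, ← exp_zero, exp_le_exp] at h1
    refine ⟨(R Q).toNat, (Int.toNat_of_nonneg (show 0 ≤ R Q by omega)).symm, ?_⟩
    obtain ⟨e2⟩ := LocalDiff.finrank_quot (P := Q) (fun z => mem_O_placeOf hX x) hs hψ hψs r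
      (m := (R Q).toNat) (by rw [hexp, Int.toNat_of_nonneg (by omega)])
    exact ⟨e1.trans e2⟩
  choose m hm hme using hstalk
  let T : Finset (CPt X) := R.support.map (placeEquiv (k := k) hX).symm.toEmbedding
  have hT (x : CPt X) (hx : x ∉ T) : m x = 0 := by
    have h2 : R (placeOf k hX x) = 0 := Finsupp.notMem_support_iff.1 fun hmem =>
      hx (Finset.mem_map_equiv.2 hmem)
    have := hm x
    omega
  -- the generic stalk
  have hgen : Subsingleton ((Omega.sheaf f).presheaf.stalk (genericPoint X)) := by
    letI := (Field.toIsField X.functionField).toField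
    obtain ⟨a, ha⟩ : ∃ a : Y.presheaf.stalk (f (genericPoint X)),
        algebraMap (Y.presheaf.stalk (f (genericPoint X))) Y.functionField a = v := by
      refine ⟨(Y.presheaf.stalkSpecializes (specializes_of_eq e)) v, ?_⟩
      obtain ⟨U, hU, s, hs⟩ := Y.presheaf.exists_germ_eq v
      haveI : Nonempty U := ⟨⟨_, hU⟩⟩
      have hU' : f (genericPoint X) ∈ U := by rw [e]; exact hU
      rw [← hs, TopCat.Presheaf.germ_stalkSpecializes_apply]
      exact Scheme.algebraMap_germ_eq_germToFunctionField (X := Y) hU' s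
    have hav : f.stalkMap (genericPoint X) a = vX := by
      have h1 := (FieldExt.kMap_algebraMap f e (genericPoint X) a).symm
      rw [ha] at h1
      refine Eq.trans ?_ h1
      simp [RingHom.algebraMap_toAlgebra]
    have hspan := FunFld.Hasse.Separable.span_D_eq_top hvXs
    have hinj : ∀ b : X.functionField, b • KaehlerDifferential.D k X.functionField vX = 0 → b = 0 :=
      fun b hb => (smul_eq_zero.1 hb).resolve_right hDvX
    obtain ⟨e1⟩ := OmegaStalk.nonempty_equiv f hf (genericPoint X) vX 1 hspan hinj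
      (fun b => by rw [one_smul, hspan]; exact Submodule.mem_top) a (by rw [hav, one_smul])
    haveI : Subsingleton ((X.presheaf.stalk (genericPoint X)) ⧸
        (Ideal.span {1} : Ideal (X.presheaf.stalk (genericPoint X)))) :=
      Ideal.Quotient.subsingleton_iff.2 Ideal.span_singleton_one
    exact e1.toEquiv.subsingleton
  have key := SkySections.finrank_h0 (k := k) (Omega.sheaf f) (T.map ⟨Subtype.val, Subtype.val_injective⟩)
    (fun z hz => by
      obtain ⟨x, -, rfl⟩ := Finset.mem_map.1 hz
      exact x.2)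
    (fun z hz => by
      rcases SmoothCurve.Curve.eq_genericPoint_or_isClosed hX.dim z with rfl | hzc
      · exact hgen
      · obtain ⟨e1⟩ := hme ⟨z, hzc⟩
        have h0 : m ⟨z, hzc⟩ = 0 := hT _ fun hmem => hz (Finset.mem_map_of_mem _ hmem)
        haveI : IsEmpty (Fin (m ⟨z, hzc⟩)) := h0 ▸ Fin.isEmpty'
        exact e1.toEquiv.subsingleton)
    (fun z hz => by
      obtain ⟨x, -, rfl⟩ := Finset.mem_map.1 hz
      obtain ⟨e1⟩ := hme x
      exact Module.Finite.equiv e1.symm)
  have hsum : (Module.finrank k (Coh.HH X (Omega.sheaf f) 0) : ℤ) = R.deg := by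
    rw [key, Finset.sum_map, Nat.cast_sum]
    have h2 : R.deg = ∑ Q ∈ R.support, R Q := by
      rw [_root_.FunFld.Divisor.deg, Finsupp.sum]
      refine Finset.sum_congr rfl fun Q _ => ?_
      rw [Lib.FunFld.Rational.deg_eq_one hKX, Nat.cast_one, mul_one]
    rw [h2, Finset.sum_map]
    refine Finset.sum_congr rfl fun Q hQ => ?_
    obtain ⟨e1⟩ := hme ((placeEquiv (k := k) hX).symm Q)
    refine (congrArg (Nat.cast : ℕ → ℤ) (e1.finrank_eq.trans (Module.finrank_fin_fun k))).trans ?_
    rw [← hm]
    exact congrArg R ((placeEquiv (k := k) hX).apply_symm_apply Q)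
  rw [hsum, hdegR]
  ring

end Groth.Agent.Lib.CurveFF.Hurwitz
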