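import Groth.Agent.Lib.CurveFF.LineExist
import Groth.Agent.Lib.CurveFF.OmegaDer
import Groth.Agent.Lib.CurveFF.Hurwitz
import Groth.Agent.S12422
import Groth.Agent.Lib.TensorMod.LocFree

/-!
The sheaf of differentials of a curve over an algebraically closed field is canonical.
-/

noncomputable section
set_option autoImplicit false
set_option linter.style.haveILetI false
universe u

open CategoryTheory AlgebraicGeometry TopologicalSpace WithZero
open Groth.Agent

namespace Groth.Agent.Lib.CurveFF.OmegaRep

attribute [local instance] Curv2.stalkAlgebra SkySections.stalkMod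

open OmegaDer (derivation stalkD)

variable {k : Type u} [Field k] [IsAlgClosed k] {X : Scheme.{u}}
  [X.Over (Spec (CommRingCat.of k))] [IsIntegral X] [IsProper (X ↘ Spec (CommRingCat.of k))]

local notation "Ω" => Omega.sheaf (X ↘ Spec (CommRingCat.of k))

omit [X.Over (Spec (CommRingCat.of k))] in
theorem regular_of_curveHyp (h : CurveHyp X) (x : X) : IsRegularLocalRing (X.presheaf.stalk x) := by
  rcases SmoothCurve.Curve.eq_genericPoint_or_isClosed h.dim x with rfl | hx
  · letI : Field (X.presheaf.stalk (genericPoint X)) := (Field.toIsField X.functionField).toField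
    infer_instance
  · haveI := h.dvr x hx
    infer_instance

theorem isInvertible (h : CurveHyp X) : PicF.IsInvertible Ω :=
  TensorMod.LocFree.isInvertible_of_rank_one ((S12422.result k 1 X (by rw [h.dim]; rfl) Ω _
    (Kaehler.DOmega.isUniversal_dOmega _)).2 (regular_of_curveHyp h))

/-- The sheaf of differentials is the sheaf of a canonical divisor. -/
theorem exists_rep (h : CurveHyp X) (hK : _root_.FunFld.IsFunctionField k X.functionField) :
    ∃ R : LineDiv.Rep (Omega.sheaf (X ↘ Spec (CommRingCat.of k))),
      FunFld.IsCanonical k X.functionField (R.div h hK) := by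
  have hsep := FunFld.Hasse.Separable.exists_isSep hK
  choose t _ ht using fun Q : _root_.FunFld.Place k X.functionField => Lib.FunFld.Place.exists_uniformizer Q
  choose Φ hΦ hΦt using fun Q => FunFld.Hasse.Param.exists_expansion hK (ht Q)
  obtain ⟨P₀, -⟩ := Lib.FunFld.Existence.exists_zero hK
    (Lib.FunFld.Riemann.exists_transcendental hK).choose_spec
  let v : X.functionField := t P₀
  have hvs := H81.Diff.Basic.isSep_uniformizer hK hsep (hΦ P₀) (ht P₀)
  have hDv : KaehlerDifferential.D k X.functionField v ≠ 0 := fun h0 => by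
    have h1 := hvs.1
    rw [FunFld.Res.SepRes.D_eq_zero_of_kaehler (Φ P₀) h0, map_zero] at h1
    exact zero_ne_one h1
  obtain ⟨C, hC, hCv⟩ := FunFld.Res.Omega.exists_canonical (F := fun _ => k) Φ hΦ hK hsep one_ne_zero hDv
  have hspan := FunFld.Hasse.Separable.span_D_eq_top hvs.2
  have hL : PicF.IsInvertible Ω := isInvertible h
  obtain ⟨R₀⟩ := LineDiv.nonempty_rep hL
  let dd := OmegaSh.dOmega (X ↘ Spec (CommRingCat.of k))
  let w := stalkD dd (genericPoint X) v
  have hmul : ∀ z c : X.functionField, KaehlerDifferential.D k X.functionField z =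
      c • KaehlerDifferential.D k X.functionField v → stalkD dd (genericPoint X) z = c • w := by
    intro z c hz
    haveI : IsScalarTower k (X.presheaf.stalk (genericPoint X))
        ((Omega.sheaf (X ↘ Spec (CommRingCat.of k))).presheaf.stalk (genericPoint X)) :=
      .of_algebraMap_smul fun _ _ => rfl
    have h1 := congrArg (derivation dd (genericPoint X)).liftKaehlerDifferential hz
    rw [map_smul, Derivation.liftKaehlerDifferential_comp_D,
      Derivation.liftKaehlerDifferential_comp_D] at h1
    exact h1
  have hw : R₀.coord w ≠ 0 := fun h0 => by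
    have hw0 : w = 0 := R₀.coord.injective (h0.trans (map_zero _).symm)
    have hz : ∀ z, stalkD dd (genericPoint X) z = 0 := fun z => by
      obtain ⟨c, hc⟩ := Submodule.mem_span_singleton.1 (hspan ▸ Submodule.mem_top :
        KaehlerDifferential.D k X.functionField z ∈
          Submodule.span X.functionField {KaehlerDifferential.D k X.functionField v})
      rw [hmul z c hc.symm, hw0, smul_zero]
    have htop := OmegaDer.span_range (X ↘ Spec (CommRingCat.of k)) (genericPoint X)
    have : R₀.gen (genericPoint X) ∈ Submodule.span (X.presheaf.stalk (genericPoint X))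
        (Set.range (stalkD dd (genericPoint X))) := htop ▸ Submodule.mem_top
    rw [Submodule.span_eq_bot.2 (by rintro _ ⟨z, rfl⟩; exact hz z), Submodule.mem_bot] at this
    exact R₀.gen_ne _ (by rw [this, map_zero])
  let R : LineDiv.Rep (Omega.sheaf (X ↘ Spec (CommRingCat.of k))) :=
    ⟨hL, R₀.coord.trans (DistribMulAction.toLinearEquiv (X.presheaf.stalk (genericPoint X))
      (X.presheaf.stalk (genericPoint X))
      ((IsUnit.unit (isUnit_iff_ne_zero.2 hw : IsUnit (R₀.coord w : X.functionField)))⁻¹))⟩
  have hR : ∀ c : X.functionField, R.coord (c • w) = c := fun c => by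
    show (((IsUnit.unit (isUnit_iff_ne_zero.2 hw : IsUnit (R₀.coord w : X.functionField)))⁻¹ :
      X.functionFieldˣ) : X.functionField) * R₀.coord (c • w) = c
    rw [map_smul, Units.val_inv_eq_inv_val, IsUnit.unit_spec]
    show _ * (c * R₀.coord w) = c
    field_simp
  refine ⟨R, ?_⟩
  convert hC using 1
  ext Q
  obtain ⟨x, rfl⟩ := placeOf_surjective (k := k) h Q
  rw [R.div_placeOf, hCv]
  obtain ⟨s, hs, hsspan, -⟩ := Hurwitz.local_facts h hK x
  let Ox := X.presheaf.stalk x.1
  obtain ⟨c, hc⟩ := Submodule.mem_span_singleton.1 (hspan ▸ Submodule.mem_top :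
    KaehlerDifferential.D k X.functionField (algebraMap Ox X.functionField s) ∈
      Submodule.span X.functionField {KaehlerDifferential.D k X.functionField v})
  have hprs : R.pr x.1 (stalkD dd x.1 s) = c := by
    show R.coord (RefHull.Generic.toGen _ x.1 (stalkD dd x.1 s)) = c
    rw [OmegaDer.toGen_stalkD, hmul _ c hc.symm]
    exact hR c
  have himg : ∀ y, ∃ a : Ox, y = a • stalkD dd x.1 s := by
    intro y
    haveI : IsScalarTower k Ox ((Omega.sheaf (X ↘ Spec (CommRingCat.of k))).presheaf.stalk x.1) :=
      .of_algebraMap_smul fun _ _ => rfl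
    have hy : y ∈ Submodule.span Ox (Set.range (stalkD dd x.1)) :=
      (OmegaDer.span_range (X ↘ Spec (CommRingCat.of k)) x.1) ▸ Submodule.mem_top
    have hle : Submodule.span Ox (Set.range (stalkD dd x.1)) ≤ Submodule.span Ox {stalkD dd x.1 s} := by
      refine Submodule.span_le.2 ?_
      rintro _ ⟨b, rfl⟩
      obtain ⟨a, ha⟩ := Submodule.mem_span_singleton.1 (hsspan ▸ Submodule.mem_top :
        KaehlerDifferential.D k Ox b ∈ Submodule.span Ox {KaehlerDifferential.D k Ox s})
      have h1 := congrArg (derivation dd x.1).liftKaehlerDifferential ha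
      rw [map_smul, Derivation.liftKaehlerDifferential_comp_D,
        Derivation.liftKaehlerDifferential_comp_D] at h1
      exact Submodule.mem_span_singleton.2 ⟨a, h1⟩
    obtain ⟨a, ha⟩ := Submodule.mem_span_singleton.1 (hle hy)
    exact ⟨a, ha.symm⟩
  let P := placeOf k h x
  have hDc := H81.Diff.Basic.D_of_kaehler (Φ P) hc.symm
  have hvc : P.1 c * Valued.v (LocRes.D k (Φ P v)) = 1 := by
    have h1 := congrArg Valued.v hDc
    rw [map_mul, (hΦ P).1, (H81.Diff.Basic.isSep_uniformizer hK hsep (hΦ P) hs).1] at h1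
    exact h1.symm
  have hord : P.1 c = exp (LocRes.ordDiff (Φ P) 1 v) := by
    rw [LocRes.ordDiff, LocRes.vDiff, map_one, one_mul, exp_neg,
      exp_log (right_ne_zero_of_mul (hvc.symm ▸ one_ne_zero))]
    exact eq_inv_of_mul_eq_one_left hvc
  refine R.e_unique h x fun g => ?_
  rw [← hord]
  constructor
  · rintro ⟨y, rfl⟩
    obtain ⟨a, rfl⟩ := himg y
    rw [R.pr_smul, hprs, map_mul]
    exact mul_le_of_le_one_left' ((mem_O_placeOf h x).2 ⟨a, rfl⟩)
  · intro hg
    have hc0 : c ≠ 0 := fun h0 => by rw [h0, map_zero, zero_mul] at hvc; exact zero_ne_one hvc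
    obtain ⟨a, ha⟩ := (mem_O_placeOf h x).1 (show P.1 (g / c) ≤ 1 by
      rw [map_div₀]
      exact (div_le_one₀ (zero_lt_iff.2 ((Valuation.ne_zero_iff _).2 hc0))).2 hg)
    exact ⟨a • stalkD dd x.1 s, by rw [R.pr_smul, hprs, ha, div_mul_cancel₀ _ hc0]⟩

end Groth.Agent.Lib.CurveFF.OmegaRep
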