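import Mathlib.FieldTheory.IntermediateField.Adjoin.Basic
import Mathlib.LinearAlgebra.FiniteDimensional.Lemmas
import Mathlib.Algebra.Algebra.Operations

/-!
The Cauchy-Davenport inequality for products of subspaces in a field extension without
intermediate fields.
-/

noncomputable section
set_option autoImplicit false
universe u v

open Module IntermediateField
open scoped Pointwise

namespace Groth.Agent.Lib.CurveFF.LinearKneser

variable {F : Type u} {N : Type v} [Field F] [Field N] [Algebra F N] [FiniteDimensional F N]

theorem min_le_finrank_mul (hE : ∀ E : IntermediateField F N, E = ⊥ ∨ E = ⊤)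
    (A B : Submodule F N) (hA : (1 : N) ∈ A) (hB : (1 : N) ∈ B) :
    min (finrank F N) (finrank F A + finrank F B - 1) ≤ finrank F (A * B : Submodule F N) := by
  induction hn : finrank F B using Nat.strong_induction_on generalizing A B with
  | _ n ih =>
  subst hn
  by_cases hall : ∀ e ∈ A, ∀ b ∈ B, e * b ∈ A
  · have hAB : A ≤ A * B := fun a ha => mul_one a ▸ Submodule.mul_mem_mul ha hB
    let S : Subalgebra F N :=
      { carrier := {z | ∀ a ∈ A, a * z ∈ A}
        mul_mem' := fun {p q} hp hq a ha => by rw [← mul_assoc]; exact hq _ (hp a ha)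
        one_mem' := fun a ha => by rwa [mul_one]
        add_mem' := fun {p q} hp hq a ha => by rw [mul_add]; exact add_mem (hp a ha) (hq a ha)
        zero_mem' := fun a _ => by rw [mul_zero]; exact zero_mem A
        algebraMap_mem' := fun c a ha => by
          rw [mul_comm, ← Algebra.smul_def]; exact A.smul_mem c ha }
    have hBS : (B : Set N) ⊆ S := fun b hb a ha => hall a ha b hb
    rcases hE (adjoin F (B : Set N)) with h | h
    · have hle : B ≤ (⊥ : IntermediateField F N).toSubalgebra.toSubmodule := fun b hb => by
        rw [← h]; exact subset_adjoin F _ hb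
      have hb1 : finrank F B ≤ 1 :=
        (Submodule.finrank_mono hle).trans_eq (IntermediateField.finrank_bot)
      have := Submodule.finrank_mono hAB
      omega
    · have htop : ∀ z : N, z ∈ S := fun z => by
        have hz : z ∈ (adjoin F (B : Set N)).toSubalgebra := by rw [h]; trivial
        rw [adjoin_toSubalgebra_of_isAlgebraic (fun b _ => Algebra.IsAlgebraic.isAlgebraic b)] at hz
        exact Algebra.adjoin_le hBS hz
      have hAt : A = ⊤ := Submodule.eq_top_iff'.2 fun z => one_mul z ▸ htop z 1 hA
      have h1 : finrank F N ≤ finrank F (A * B : Submodule F N) := by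
        rw [← finrank_top F N, ← hAt]
        exact Submodule.finrank_mono hAB
      exact (min_le_left _ _).trans h1
  · push Not at hall
    obtain ⟨e, heA, b, hbB, hbad⟩ := hall
    let f := LinearMap.mulLeft F e
    have he : e ≠ 0 := fun h => hbad (by rw [h, zero_mul]; exact zero_mem A)
    have hinj : Function.Injective f := fun p q hpq => mul_left_cancel₀ he hpq
    set B' := B ⊓ A.comap f with hB'
    set A' := A ⊔ B.map f with hA'
    have h1B' : (1 : N) ∈ B' := ⟨hB, by show e * 1 ∈ A; rwa [mul_one]⟩
    have hlt : finrank F B' < finrank F B := by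
      refine Submodule.finrank_lt_finrank_of_lt (lt_of_le_of_ne inf_le_left fun h => ?_)
      exact hbad ((h.symm ▸ hbB : b ∈ B')).2
    have hdim : finrank F A' + finrank F B' = finrank F A + finrank F B := by
      have h := Submodule.finrank_sup_add_finrank_inf_eq A (B.map f)
      have e1 : A ⊓ B.map f = B'.map f := by
        rw [hB', inf_comm B, Submodule.map_inf _ hinj, Submodule.map_comap_eq]
        apply le_antisymm
        · rintro x ⟨hxA, z, hz, rfl⟩
          exact ⟨⟨⟨z, rfl⟩, hxA⟩, z, hz, rfl⟩
        · rintro x ⟨⟨-, hxA⟩, hxB⟩
          exact ⟨hxA, hxB⟩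
      rw [e1, ← (Submodule.equivMapOfInjective f hinj B').finrank_eq,
        ← (Submodule.equivMapOfInjective f hinj B).finrank_eq] at h
      exact h
    have hle : A' * B' ≤ A * B := by
      rw [hA', Submodule.sup_mul]
      refine sup_le (mul_le_mul' le_rfl inf_le_left) (Submodule.mul_le.2 ?_)
      rintro _ ⟨p, hp, rfl⟩ q hq
      have : f p * q = (e * q) * p := by show e * p * q = _; ring
      rw [this]
      exact Submodule.mul_mem_mul hq.2 hp
    have h := ih _ hlt A' B' (Submodule.mem_sup_left hA) h1B' rfl
    rw [hdim] at h
    exact h.trans (Submodule.finrank_mono hle)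

end Groth.Agent.Lib.CurveFF.LinearKneser
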