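import Groth.Agent.Lib.CurveFF.PencilPairs
import Mathlib.FieldTheory.RatFunc.AsPolynomial
import Mathlib.RingTheory.Kaehler.Basic
import Mathlib.RingTheory.Unramified.Field

/-!
The fields `k(l, x + l y) ⊆ K(l)` attached to a pencil: independence by specialisation at `l = 0`.
-/

noncomputable section
set_option autoImplicit false
universe u

open Polynomial IntermediateField

namespace Groth.Agent.Lib.CurveFF.PencilField

variable {k K N : Type u} [Field k] [Field K] [Algebra k K] [Field N] [Algebra K N]
  [Algebra k N] [IsScalarTower k K N]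

/-- The polynomial `x + X y`. -/
def gen (x y : K) : K[X] := C x + X * C y

/-- The ring generated by the parameter and the general member. -/
def ring (k : Type u) [Field k] {K : Type u} [Field K] [Algebra k K] (x y : K) : Subalgebra k K[X] :=
  Algebra.adjoin k ({X, gen x y} : Set K[X])

theorem decomp {x y : K} {a : K[X]} (ha : a ∈ ring k x y) :
    ∃ p : k[X], ∃ a' ∈ ring k x y, a = aeval (gen x y) p + X * a' := by
  have hX : (X : K[X]) ∈ ring k x y := Algebra.subset_adjoin (Set.mem_insert _ _)
  have hg : gen x y ∈ ring k x y := Algebra.subset_adjoin (Set.mem_insert_of_mem _ rfl)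
  have hev : ∀ p : k[X], aeval (gen x y) p ∈ ring k x y := fun p =>
    Algebra.adjoin_le (Set.singleton_subset_iff.2 hg) (aeval_mem_adjoin_singleton k (gen x y))
  induction ha using Algebra.adjoin_induction with
  | mem z hz =>
    rcases hz with rfl | rfl
    · exact ⟨0, 1, one_mem _, by simp⟩
    · exact ⟨X, 0, zero_mem _, by simp⟩
  | algebraMap r => exact ⟨C r, 0, zero_mem _, by simp⟩
  | add p q _ _ hp hq =>
    obtain ⟨p1, a1, h1, rfl⟩ := hp
    obtain ⟨p2, a2, h2, rfl⟩ := hq
    exact ⟨p1 + p2, a1 + a2, add_mem h1 h2, by rw [map_add]; ring⟩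
  | mul p q _ _ hp hq =>
    obtain ⟨p1, a1, h1, rfl⟩ := hp
    obtain ⟨p2, a2, h2, rfl⟩ := hq
    refine ⟨p1 * p2, aeval (gen x y) p1 * a2 + a1 * aeval (gen x y) p2 + X * (a1 * a2), ?_,
      by rw [map_mul]; ring⟩
    exact add_mem (add_mem (mul_mem (hev p1) h2) (mul_mem h1 (hev p2)))
      (mul_mem hX (mul_mem h1 h2))

theorem coeff_zero_aeval_gen (x y : K) (p : k[X]) :
    ((aeval (gen x y)) p).coeff 0 = aeval x p := by
  rw [coeff_zero_eq_eval_zero]
  have h : ((aeval (R := K) (0 : K)).restrictScalars k) (aeval (gen x y) p) = aeval x p := by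
    rw [← aeval_algHom_apply]
    simp [gen]
  rw [AlgHom.restrictScalars_apply, coe_aeval_eq_eval] at h
  exact h

/-- A family independent over `k(x)` stays independent over the ring of the pencil. -/
theorem ring_indep {x y : K} {ι : Type} [Fintype ι] {b : ι → K}
    (hb : ∀ p : ι → k[X], ∑ i, aeval x (p i) * b i = 0 → ∀ i, p i = 0) :
    ∀ (n : ℕ) (a : ι → K[X]), (∀ i, a i ∈ ring k x y) → (∀ i, (a i).natDegree < n) →
      ∑ i, a i * C (b i) = 0 → ∀ i, a i = 0 := by
  intro n
  induction n with
  | zero => intro a _ h _ i; exact absurd (h i) (Nat.not_lt_zero _)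
  | succ n ih =>
    intro a ha hdeg hsum
    choose p a' ha' hpa using fun i => decomp (ha i)
    have hp : ∀ i, p i = 0 := by
      refine hb p ?_
      have h := congrArg (fun q : K[X] => q.coeff 0) hsum
      simp only [finsetSum_coeff, coeff_mul_C, coeff_zero] at h
      rw [← h]
      refine Finset.sum_congr rfl fun i _ => ?_
      rw [hpa i, coeff_add, mul_coeff_zero, coeff_X_zero, zero_mul, add_zero, coeff_zero_aeval_gen]
    have hpa' : ∀ i, a i = X * a' i := fun i => by rw [hpa i, hp i, map_zero, zero_add]
    rcases Nat.eq_zero_or_pos n with rfl | hn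
    · intro i
      rcases eq_or_ne (a' i) 0 with h | h
      · rw [hpa' i, h, mul_zero]
      · exfalso
        have := hdeg i
        rw [hpa' i, natDegree_mul X_ne_zero h, natDegree_X] at this
        omega
    · have h0 : ∀ i, a' i = 0 := by
        refine ih a' ha' (fun i => ?_) ?_
        · rcases eq_or_ne (a' i) 0 with h | h
          · rw [h, natDegree_zero]; exact hn
          · have := hdeg i
            rw [hpa' i, natDegree_mul X_ne_zero h, natDegree_X] at this
            omega
        · refine (mul_eq_zero.1 (?_ : (X : K[X]) * _ = 0)).resolve_left X_ne_zero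
          rw [← hsum, Finset.mul_sum]
          exact Finset.sum_congr rfl fun i _ => by rw [hpa' i, mul_assoc]
      intro i
      rw [hpa' i, h0 i, mul_zero]

/-- The parameter field. -/
abbrev param (k : Type u) [Field k] {N : Type u} [Field N] [Algebra k N] (l : N) :
    IntermediateField k N :=
  adjoin k ({l} : Set N)

/-- The field below. -/
abbrev base (k : Type u) [Field k] {K N : Type u} [Field K] [Field N] [Algebra k N] [Algebra K N]
    (x y : K) (l : N) : IntermediateField (param k l) N :=
  adjoin (param k l) ({algebraMap K N x + l * algebraMap K N y} : Set N)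

theorem gen_eval (x y : K) (l : N) :
    aeval l (gen x y) = algebraMap K N x + l * algebraMap K N y := by
  rw [gen, map_add, aeval_C, map_mul, aeval_X, aeval_C]

theorem mem_base {x y : K} {l : N} {e : N} (he : e ∈ base k x y l) :
    ∃ a ∈ ring k x y, ∃ b ∈ ring k x y, e = aeval l a / aeval l b := by
  have h1 : e ∈ (base k x y l).restrictScalars k := he
  rw [base, param, adjoin_simple_adjoin_simple, mem_adjoin_iff_div] at h1
  obtain ⟨r, hr, s, hs, rfl⟩ := h1
  have hmap : Algebra.adjoin k ({l, algebraMap K N x + l * algebraMap K N y} : Set N) =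
      (ring k x y).map ((aeval (R := K) l).restrictScalars k) := by
    rw [ring, AlgHom.map_adjoin, Set.image_pair]
    simp [gen_eval]
  rw [hmap] at hr hs
  obtain ⟨a, ha, rfl⟩ := hr
  obtain ⟨b, hb, rfl⟩ := hs
  exact ⟨a, ha, b, hb, rfl⟩

/-- A family independent over `k(x)` stays independent over the field below. -/
theorem linearIndependent_base {x y : K} {l : N} (hl : Transcendental K l) {ι : Type} [Fintype ι]
    {b : ι → K} (hb : ∀ p : ι → k[X], ∑ i, aeval x (p i) * b i = 0 → ∀ i, p i = 0) :
    LinearIndependent (base k x y l) fun i => algebraMap K N (b i) := by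
  classical
  rw [Fintype.linearIndependent_iff]
  intro e he
  choose a ha q hq heq using fun i => mem_base (e i).2
  -- elements with a vanishing denominator are zero
  let q' : ι → K[X] := fun i => if aeval l (q i) = 0 then 1 else q i
  let a' : ι → K[X] := fun i => if aeval l (q i) = 0 then 0 else a i
  have hq' : ∀ i, q' i ∈ ring k x y ∧ aeval l (q' i) ≠ 0 ∧ a' i ∈ ring k x y ∧
      (e i : N) * aeval l (q' i) = aeval l (a' i) := by
    intro i
    by_cases h : aeval l (q i) = 0
    · simp only [q', a', if_pos h, map_one, map_zero, mul_one, heq i, h, div_zero]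
      exact ⟨one_mem _, one_ne_zero, zero_mem _, trivial⟩
    · simp only [q', a', if_neg h]
      exact ⟨hq i, h, ha i, by rw [heq i, div_mul_cancel₀ _ h]⟩
  let A : ι → K[X] := fun i => a' i * ∏ j ∈ Finset.univ.erase i, q' j
  have hA : ∀ i, A i ∈ ring k x y := fun i =>
    mul_mem (hq' i).2.2.1 (Subalgebra.prod_mem _ fun j _ => (hq' j).1)
  have hsum : ∑ i, A i * C (b i) = 0 := by
    refine transcendental_iff.1 hl _ ?_
    rw [map_sum]
    have : ∀ i, aeval l (A i * C (b i)) =
        (∏ j, aeval l (q' j)) * ((e i : N) * algebraMap K N (b i)) := by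
      intro i
      rw [map_mul, map_mul, map_prod, aeval_C, ← (hq' i).2.2.2,
        ← Finset.mul_prod_erase Finset.univ (fun j => aeval l (q' j)) (Finset.mem_univ i)]
      ring
    simp only [this, ← Finset.mul_sum]
    rw [show ∑ i, (e i : N) * algebraMap K N (b i) = 0 from he, mul_zero]
  have h0 := ring_indep hb (∑ i, (A i).natDegree + 1) A hA (fun i => by
    have := Finset.single_le_sum (f := fun i => (A i).natDegree) (fun j _ => Nat.zero_le _)
      (Finset.mem_univ i)
    omega) hsum
  intro i
  have h1 := h0 i
  simp only [A, mul_eq_zero] at h1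
  refine Subtype.ext ((mul_eq_zero.1 ((hq' i).2.2.2.trans ?_)).resolve_right (hq' i).2.1)
  rcases h1 with h1 | h1
  · rw [h1, map_zero]
  · obtain ⟨j, -, hj⟩ := Finset.prod_eq_zero_iff.1 h1
    exact absurd (by rw [hj, map_zero]) (hq' j).2.1

/-- The general member is transcendental over the parameter field. -/
theorem transcendental_param {x y : K} (hx : Transcendental k x) {l : N} (hl : Transcendental K l) :
    Transcendental (param k l) (algebraMap K N x + l * algebraMap K N y) := by
  classical
  have key : ∀ (n m : ℕ) (p : Fin m → k[X]), (∀ i, (p i).natDegree < n) →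
      ∑ i, (p i).map (algebraMap k K) * gen x y ^ (i : ℕ) = 0 → ∀ i, p i = 0 := by
    intro n
    induction n with
    | zero => intro m p h _ i; exact absurd (h i) (Nat.not_lt_zero _)
    | succ n ih =>
      intro m p hdeg hsum
      have hc : ∀ i : Fin m, (p i).coeff 0 = 0 := by
        have h := congrArg (eval (0 : K)) hsum
        simp only [eval_finsetSum, eval_mul, eval_pow, eval_zero, gen, eval_add, eval_C, eval_X,
          zero_mul, add_zero, ← coeff_zero_eq_eval_zero, coeff_map] at h
        have h2 : aeval x (∑ i : Fin m, monomial (i : ℕ) ((p i).coeff 0)) = 0 := by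
          simpa [map_sum, aeval_monomial] using h
        have h3 := transcendental_iff.1 hx _ h2
        intro i
        have h4 := congrArg (fun q : k[X] => q.coeff (i : ℕ)) h3
        simp only [finsetSum_coeff, coeff_monomial, coeff_zero] at h4
        rw [Finset.sum_eq_single i (fun j _ hji => if_neg fun h => hji (Fin.ext h))
          (fun h => absurd (Finset.mem_univ i) h), if_pos rfl] at h4
        exact h4
      have hpd : ∀ i, p i = X * (p i).divX := fun i => by
        conv_lhs => rw [← X_mul_divX_add (p i), hc i, map_zero, add_zero]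
      intro i
      rcases Nat.eq_zero_or_pos n with rfl | hn
      · rw [eq_C_of_natDegree_eq_zero (p := p i) (by have := hdeg i; omega), hc i, map_zero]
      · rw [hpd i, ih m (fun i => (p i).divX) (fun i => by
          rw [natDegree_divX_eq_natDegree_tsub_one]; have := hdeg i; omega) ?_ i, mul_zero]
        refine (mul_eq_zero.1 (?_ : (X : K[X]) * _ = 0)).resolve_left X_ne_zero
        rw [← hsum, Finset.mul_sum]
        exact Finset.sum_congr rfl fun i _ => by
          conv_rhs => rw [hpd i, Polynomial.map_mul, map_X, mul_assoc]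
  rw [transcendental_iff]
  intro P hP
  set m := P.natDegree + 1
  have hrep : ∀ e : param k l, ∃ r s : k[X], aeval l s ≠ 0 ∧ (e : N) * aeval l s = aeval l r := by
    intro e
    obtain ⟨r, s, hrs⟩ := (mem_adjoin_simple_iff k (e : N)).1 e.2
    by_cases hs : aeval l s = 0
    · exact ⟨0, 1, by simp, by rw [hrs, hs]; simp⟩
    · exact ⟨r, s, hs, by rw [hrs, div_mul_cancel₀ _ hs]⟩
  choose r s hs hrs using fun i : Fin m => hrep (P.coeff i)
  let q : Fin m → k[X] := fun i => r i * ∏ j ∈ Finset.univ.erase i, s j
  have hq : ∀ i : Fin m, q i = 0 := by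
    refine key (∑ i, (q i).natDegree + 1) m q (fun i => ?_) (transcendental_iff.1 hl _ ?_)
    · have := Finset.single_le_sum (f := fun i => (q i).natDegree) (fun j _ => Nat.zero_le _)
        (Finset.mem_univ i)
      omega
    · have : ∀ i : Fin m, aeval l ((q i).map (algebraMap k K) * gen x y ^ (i : ℕ)) =
          (∏ j, aeval l (s j)) * ((P.coeff i : N) *
            (algebraMap K N x + l * algebraMap K N y) ^ (i : ℕ)) := by
        intro i
        rw [map_mul, map_pow, gen_eval, aeval_map_algebraMap, map_mul, map_prod, ← hrs i,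
          ← Finset.mul_prod_erase Finset.univ (fun j => aeval l (s j)) (Finset.mem_univ i)]
        ring
      rw [map_sum]
      simp only [this, ← Finset.mul_sum]
      rw [aeval_eq_sum_range, ← Fin.sum_univ_eq_sum_range] at hP
      have hP' : ∑ i : Fin m, (P.coeff i : N) *
          (algebraMap K N x + l * algebraMap K N y) ^ (i : ℕ) = 0 := hP
      rw [hP', mul_zero]
  ext i
  rw [coeff_zero]
  rcases Nat.lt_or_ge i m with hi | hi
  · have h1 := congrArg (aeval l) (hq ⟨i, hi⟩)
    simp only [q, map_mul, map_prod, map_zero, mul_eq_zero] at h1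
    refine congrArg Subtype.val (?_ : P.coeff i = 0)
    refine Subtype.ext ((mul_eq_zero.1 ((hrs ⟨i, hi⟩).trans ?_)).resolve_right (hs ⟨i, hi⟩))
    exact h1.resolve_right (Finset.prod_ne_zero_iff.2 fun j _ => hs j)
  · rw [coeff_eq_zero_of_natDegree_lt (by omega)]

/-- Separability of the extension. -/
theorem isSeparable {x y b : K} {l : N} (hl : Transcendental K l)
    (hD : KaehlerDifferential.D k K y = b • KaehlerDifferential.D k K x)
    (htop : adjoin (base k x y l) ({algebraMap K N y} : Set N) = ⊤)
    [FiniteDimensional (base k x y l) N] : Algebra.IsSeparable (base k x y l) N := by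
  set F := base k x y l
  haveI : IsScalarTower k F N := IsScalarTower.of_algebraMap_eq fun a => by
    rw [IsScalarTower.algebraMap_apply k (param k l) N]; rfl
  set Dn := KaehlerDifferential.D F N
  have h1 : Dn (algebraMap K N y) = b • Dn (algebraMap K N x) := by
    have h := congrArg (KaehlerDifferential.map k F K N) hD
    rwa [map_smul, KaehlerDifferential.map_D, KaehlerDifferential.map_D] at h
  have hlF : l ∈ F := F.algebraMap_mem ⟨l, mem_adjoin_simple_self k l⟩
  have hc : Dn (algebraMap K N x + l * algebraMap K N y) = 0 :=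
    Dn.map_algebraMap (⟨_, mem_adjoin_simple_self _ _⟩ : F)
  have hdl : Dn l = 0 := Dn.map_algebraMap (⟨l, hlF⟩ : F)
  have hy : Dn (algebraMap K N y) = 0 := by
    rw [map_add, Derivation.leibniz, hdl, smul_zero, add_zero] at hc
    have h1' : Dn (algebraMap K N y) = algebraMap K N b • Dn (algebraMap K N x) := by
      rw [IsScalarTower.algebraMap_smul]; exact h1
    rw [eq_neg_of_add_eq_zero_left hc, smul_neg, smul_smul] at h1'
    have h2 : (1 + algebraMap K N b * l) • Dn (algebraMap K N y) = 0 := by
      rw [add_smul, one_smul]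
      exact add_eq_zero_iff_eq_neg.2 h1'
    refine (smul_eq_zero.1 h2).resolve_left fun h => hl ?_
    rcases eq_or_ne b 0 with rfl | hb
    · simp at h
    · have hb' : algebraMap K N b ≠ 0 := (_root_.map_ne_zero _).2 hb
      have : l = algebraMap K N (-b⁻¹) := by
        rw [map_neg, map_inv₀]
        field_simp
        linear_combination h
      rw [this]
      exact isAlgebraic_algebraMap _
  have h0 : ∀ z : N, Dn z = 0 := by
    intro z
    have hz : z ∈ adjoin F ({algebraMap K N y} : Set N) := by rw [htop]; trivial
    induction hz using adjoin_induction with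
    | mem w hw => rw [Set.mem_singleton_iff.1 hw]; exact hy
    | algebraMap c => exact Dn.map_algebraMap c
    | add p q _ _ hp hq => rw [map_add, hp, hq, add_zero]
    | mul p q _ _ hp hq => rw [Derivation.leibniz, hp, hq, smul_zero, smul_zero, add_zero]
    | inv p _ hp =>
      rcases eq_or_ne p 0 with rfl | hp0
      · rw [inv_zero, map_zero]
      have h1 := Dn.leibniz p p⁻¹
      rw [mul_inv_cancel₀ hp0, Derivation.map_one_eq_zero, hp, smul_zero, add_zero] at h1
      exact (smul_eq_zero.mp h1.symm).resolve_left hp0
  haveI : Algebra.FormallyUnramified F N := by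
    refine ⟨subsingleton_of_forall_eq 0 fun w => ?_⟩
    have hw : w ∈ Submodule.span N (Set.range Dn) := by
      rw [KaehlerDifferential.span_range_derivation]; trivial
    refine (Submodule.span_le (p := (⊥ : Submodule N _))).2 ?_ hw
    rintro _ ⟨z, rfl⟩
    exact h0 z
  exact Algebra.FormallyUnramified.isSeparable F N

end Groth.Agent.Lib.CurveFF.PencilField
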