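import Groth.Agent.Lib.CurveFF.CastelnuovoBound
import Groth.Agent.Lib.CurveFF.LinearKneser
import Groth.Agent.Lib.CurveFF.PencilField
import Groth.Agent.Lib.FunFld.Different.Basic

/-!
Castelnuovo's bound on the multiples of a birational linear series of any dimension.
-/

noncomputable section
set_option autoImplicit false
universe u

open WithZero IntermediateField Polynomial Module
open Groth.Agent.Lib.FunFld Groth.Agent.Lib.FunFld.Degree
open scoped Pointwise

namespace Groth.Agent.Lib.CurveFF.CastelnuovoR

/-- Counting products of powers of a transcendental element with an independent family. -/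
theorem count {L F N : Type u} [Field L] [Field F] [Field N] [Algebra L F] [Algebra L N] [Algebra F N]
    [IsScalarTower L F N] {c : F} (hc : Transcendental L c) {W : Submodule L N}
    (hcW : algebraMap F N c ∈ W) (n : ℕ) (B : ℕ → Set N) (hBn : LinearIndepOn F id (B n))
    (hfin : (B n).Finite) (hB : ∀ j ≤ n, B j ⊆ B n ∧ B j ⊆ ((W ^ j : Submodule L N) : Set N))
    (V : Submodule L N) [FiniteDimensional L V] (hV : W ^ n ≤ V) :
    ∑ j ∈ Finset.range (n + 1), (B j).ncard ≤ finrank L V := by
  classical
  have hp : LinearIndependent L (fun i : ℕ => c ^ i) := by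
    have := (Polynomial.basisMonomials L).linearIndependent.map' (aeval c).toLinearMap
      (LinearMap.ker_eq_bot.2 (transcendental_iff_injective.1 hc))
    rw [show (fun i : ℕ => c ^ i) = (aeval c).toLinearMap ∘ Polynomial.basisMonomials L from
      _root_.funext fun i => by simp]
    exact this
  have hprod := linearIndependent_smul hp hBn.linearIndependent
  have hBfin : ∀ i : Fin (n + 1), (B (n - i)).Finite := fun i => hfin.subset (hB _ (by omega)).1
  haveI instB : ∀ i : Fin (n + 1), Fintype (B (n - i)) := fun i => (hBfin i).fintype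
  let J := Σ i : Fin (n + 1), B (n - i)
  let emb : J → ℕ × B n := fun q => ((q.1 : ℕ), ⟨q.2.1, (hB _ (by omega)).1 q.2.2⟩)
  have hemb : Function.Injective emb := by
    rintro ⟨i, a⟩ ⟨i', a'⟩ h
    simp only [emb, Prod.mk.injEq, Subtype.mk.injEq] at h
    obtain rfl : i = i' := Fin.ext h.1
    rw [Subtype.ext h.2]
  have hJ := hprod.comp emb hemb
  have hmem : ∀ q : J, (fun p : ℕ × B n => (c ^ p.1) • (id (p.2 : N))) (emb q) ∈ V := by
    rintro ⟨i, a⟩
    refine hV ?_
    have : W ^ n = W ^ (i : ℕ) * W ^ (n - i) := by rw [← pow_add]; congr 1; omega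
    rw [this]
    simp only [emb, id, Algebra.smul_def, map_pow]
    exact Submodule.mul_mem_mul (Submodule.pow_mem_pow _ hcW _) ((hB _ (by omega)).2 a.2)
  have hcount := (LinearIndependent.of_comp V.subtype
    (v := fun q : J => (⟨_, hmem q⟩ : V)) hJ).fintype_card_le_finrank
  rw [Fintype.card_sigma] at hcount
  refine le_trans (le_of_eq ?_) hcount
  rw [← Finset.sum_range_reflect, Finset.sum_fin_eq_sum_range]
  refine Finset.sum_congr rfl fun i hi => ?_
  have hi' := Finset.mem_range.1 hi
  rw [dif_pos hi', show n + 1 - 1 - i = n - i by omega, ← Nat.card_coe_set_eq]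
  exact @Nat.card_eq_fintype_card _ (instB ⟨i, hi'⟩)

variable {k K : Type u} [Field k] [Field K] [Algebra k K]

local notation "Dv" => _root_.FunFld.Divisor k K
local notation "Pl" => _root_.FunFld.Place k K

/-- A family of the series independent together with `x` is independent over `k(x)`. -/
theorem poly_indep (hK : _root_.FunFld.IsFunctionField k K) {D : Dv} (hD : 0 ≤ D) {x : K}
    (hx : ∀ P : Pl, poleDiv x P = D P) {m : ℕ} {w : Fin m → K} (hw : ∀ i, w i ∈ _root_.FunFld.L D)
    (hli : ∀ (c : Fin m → k) (e : k), ∑ i, algebraMap k K (c i) * w i = algebraMap k K e * x →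
      (∀ i, c i = 0) ∧ e = 0)
    (hx0 : x ≠ 0) (n : ℕ) : ∀ a : Fin m → k[X], (∀ i, (a i).natDegree ≤ n) →
    ∑ i, aeval x (a i) * w i = 0 → ∀ i, a i = 0 := by
  induction n with
  | zero =>
    intro a ha h i
    have hC : ∀ i, a i = C ((a i).coeff 0) := fun i => eq_C_of_natDegree_le_zero (ha i)
    have h' : ∑ i, algebraMap k K ((a i).coeff 0) * w i = algebraMap k K 0 * x := by
      rw [map_zero, zero_mul, ← h]
      exact Finset.sum_congr rfl fun i _ => by conv_rhs => rw [hC i, aeval_C]
    rw [hC i, (hli _ _ h').1 i, map_zero]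
  | succ n ih =>
    intro a ha h
    set v := -(∑ i, aeval x (a i).divX * w i) with hv
    have hu : ∑ i, algebraMap k K ((a i).coeff 0) * w i = x * v := by
      rw [hv, mul_neg, eq_neg_iff_add_eq_zero, Finset.mul_sum, ← Finset.sum_add_distrib, ← h]
      refine Finset.sum_congr rfl fun i _ => ?_
      conv_rhs => rw [← X_mul_divX_add (a i), map_add, map_mul, aeval_X, aeval_C]
      ring
    have hmem : v ∈ _root_.FunFld.L (0 : Dv) := fun P => by
      rw [Finsupp.coe_zero, Pi.zero_apply, exp_zero]
      rcases lt_or_ge (P.ord x) 0 with hneg | hpos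
      · have h1 : P.1 (x * v) ≤ exp (D P) := by
          rw [← hu]
          have hm : ∑ i, algebraMap k K ((a i).coeff 0) * w i ∈ _root_.FunFld.L D :=
            sum_mem fun i _ => by
              rw [← Algebra.smul_def]
              exact Submodule.smul_mem (_root_.FunFld.L D) _ (hw i)
          exact hm P
        have h2 := hx P
        rw [poleDiv_apply hK] at h2
        rw [map_mul, Place.val_eq_exp P hx0, show D P = -P.ord x by omega] at h1
        by_contra hlt
        have h3 := mul_lt_mul_of_pos_left (not_le.1 hlt)
          (show (0 : WithZero (Multiplicative ℤ)) < exp (-P.ord x) from exp_pos)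
        rw [mul_one] at h3
        exact absurd h1 (not_le.2 h3)
      · have h0 : D P = 0 := by
          have h2 := hx P
          rw [poleDiv_apply hK] at h2
          omega
        have hx1 : P.1 x ≤ 1 := (Place.val_le_one_iff P).2 hpos
        rw [hv, Valuation.map_neg]
        refine P.1.map_sum_le fun i _ => ?_
        rw [map_mul]
        refine mul_le_one' (CastelnuovoBound.val_aeval_le hx1 _) ?_
        have := hw i P
        rwa [h0, exp_zero] at this
    rw [L_zero hK, Submodule.one_eq_range] at hmem
    obtain ⟨e, he⟩ := hmem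
    have he' : algebraMap k K e = v := he
    obtain ⟨h1, h4⟩ := hli _ e (by rw [hu, ← he', mul_comm])
    have e1 := ih (fun i => (a i).divX) (fun i => by
      rw [natDegree_divX_eq_natDegree_tsub_one]; have := ha i; omega) (by
      rw [h4, map_zero] at he'
      exact neg_eq_zero.1 (hv.symm.trans he'.symm))
    intro i
    rw [← X_mul_divX_add (a i), e1 i, h1 i]
    simp

/-- Castelnuovo's lower bound for the powers of a birational base point free series. -/
theorem sum_min_le_finrank_pow [IsAlgClosed k] (hK : _root_.FunFld.IsFunctionField k K) {D : Dv} (hD : 0 ≤ D)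
    (hgen : adjoin k (_root_.FunFld.L D : Set K) = ⊤)
    (hbpf : ∀ P : Pl, D P ≠ 0 → ¬ _root_.FunFld.L D ≤ _root_.FunFld.L (D - Finsupp.single P 1))
    (n : ℕ) :
    ∑ j ∈ Finset.range (n + 1), min D.deg.toNat (j * (_root_.FunFld.ell D - 2) + 1) ≤
      finrank k (_root_.FunFld.L D ^ n : Submodule k K) := by
  classical
  obtain ⟨x, hxL, hsep, hpole⟩ := CastelnuovoBound.exists_pole hK hD hgen hbpf
  have hxt := PlaneCurve.Generators.transcendental_of_isSep hK hsep
  obtain ⟨y, hyL, hxy⟩ := PlaneCurve.Generators.exists_pair hK _ hgen hsep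
  haveI hKfd := Bound.finiteDimensional_adjoin_transcendental hK hxt
  have hdeg : D.deg = finrank (adjoin k ({x} : Set K)) K := by
    rw [← deg_poleDiv hK hxt]
    exact congrArg _ (Finsupp.ext hpole).symm
  set d := finrank (adjoin k ({x} : Set K)) K with hd
  rw [hdeg, Int.toNat_natCast]
  set e := _root_.FunFld.ell D - 2 with he
  have hfdD := finiteDimensional_L hK D
  -- the general member of the pencil
  let N := RatFunc K
  let l : N := RatFunc.X
  have hl : Transcendental K l := RatFunc.transcendental_X
  let F := PencilField.base k x y l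
  let c : N := algebraMap K N x + l * algebraMap K N y
  let cF : F := ⟨c, mem_adjoin_simple_self _ _⟩
  haveI : IsScalarTower k F N := IsScalarTower.of_algebraMap_eq fun a => by
    rw [IsScalarTower.algebraMap_apply k (PencilField.param k l) N]; rfl
  have hct : Transcendental (PencilField.param k l) cF :=
    (transcendental_algebraMap_iff (algebraMap F N).injective).1
      (PencilField.transcendental_param hxt hl)
  have hgenN : ∀ u : N, ∃ A B : K[X], aeval l B ≠ 0 ∧ u = aeval l A / aeval l B := by
    intro u
    refine ⟨u.num, u.denom, ?_, ?_⟩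
    · rw [RatFunc.aeval_X_left_eq_algebraMap]
      exact RatFunc.algebraMap_ne_zero u.denom_ne_zero
    · rw [RatFunc.aeval_X_left_eq_algebraMap, RatFunc.aeval_X_left_eq_algebraMap, RatFunc.num_div_denom]
  have hlF : l ∈ F := F.algebraMap_mem ⟨l, mem_adjoin_simple_self k l⟩
  let yN := algebraMap K N y
  have htop : adjoin F ({yN} : Set N) = ⊤ := by
    rw [eq_top_iff]
    intro u _
    set T := adjoin F ({yN} : Set N)
    have hyT : yN ∈ T := mem_adjoin_simple_self _ _
    have hlT : l ∈ T := T.algebraMap_mem ⟨l, hlF⟩
    have hxT : algebraMap K N x ∈ T := by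
      have : algebraMap K N x = c - l * yN := by simp [c, yN]
      rw [this]
      exact sub_mem (T.algebraMap_mem cF) (mul_mem hlT hyT)
    have hKT : ∀ a : K, algebraMap K N a ∈ T := by
      intro a
      have ha : a ∈ adjoin k ({x, y} : Set K) := by rw [hxy]; trivial
      have h1 : algebraMap K N a ∈ (adjoin k ({x, y} : Set K)).map (IsScalarTower.toAlgHom k K N) :=
        ⟨a, ha, rfl⟩
      rw [IntermediateField.adjoin_map, Set.image_pair] at h1
      exact (IntermediateField.adjoin_le_iff (T := T.restrictScalars k)).2
        (Set.insert_subset_iff.2 ⟨hxT, Set.singleton_subset_iff.2 hyT⟩) h1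
    have hpT : ∀ A : K[X], aeval l A ∈ T := fun A => by
      rw [aeval_def, eval₂_eq_sum_range]
      exact sum_mem fun i _ => mul_mem (hKT _) (pow_mem hlT i)
    obtain ⟨A, B, -, rfl⟩ := hgenN u
    exact div_mem (hpT A) (hpT B)
  -- the spaces spanned over the parameters
  let W : Submodule (PencilField.param k l) N :=
    Submodule.span _ (algebraMap K N '' (_root_.FunFld.L D : Set K))
  have hmemW : ∀ a ∈ _root_.FunFld.L D, algebraMap K N a ∈ W := fun a ha =>
    Submodule.subset_span ⟨a, ha, rfl⟩
  have h1W : (1 : N) ∈ W := by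
    rw [← map_one (algebraMap K N)]; exact hmemW 1 (CastelnuovoBound.one_mem_L hD)
  have hcW : algebraMap F N cF ∈ W := by
    refine add_mem (hmemW x hxL) ?_
    exact W.smul_mem ⟨l, mem_adjoin_simple_self k l⟩ (hmemW y hyL)
  have hV : ∀ m : ℕ, ∃ V : Submodule (PencilField.param k l) N,
      FiniteDimensional (PencilField.param k l) V ∧
      finrank (PencilField.param k l) V ≤ finrank k (_root_.FunFld.L D ^ m : Submodule k K) ∧
      W ^ m ≤ V := by
    intro m
    haveI := finiteDimensional_L hK ((m : ℤ) • D)
    haveI := Submodule.finiteDimensional_of_le (CastelnuovoBound.pow_le_L hK D m)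
    let b := Module.finBasis k (_root_.FunFld.L D ^ m : Submodule k K)
    let v := fun i => algebraMap K N ((b i : (_root_.FunFld.L D ^ m : Submodule k K)) : K)
    refine ⟨Submodule.span _ (Set.range v), Module.Finite.span_of_finite _ (Set.finite_range v),
      (finrank_range_le_card (R := PencilField.param k l) v).trans_eq (Fintype.card_fin _), ?_⟩
    rw [show W ^ m = _ from Submodule.span_pow _ m, Submodule.span_le, ← Set.image_pow (algebraMap K N)]
    rintro _ ⟨a, ha, rfl⟩
    have ha' : a ∈ (_root_.FunFld.L D ^ m : Submodule k K) := Submodule.pow_subset_pow _ ha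
    have h1 : (⟨a, ha'⟩ : (_root_.FunFld.L D ^ m : Submodule k K)) ∈ Submodule.span k (Set.range b) := by
      rw [b.span_eq]; trivial
    have h2 := Submodule.apply_mem_span_image_of_mem_span
      ((IsScalarTower.toAlgHom k K N).toLinearMap ∘ₗ (_root_.FunFld.L D ^ m : Submodule k K).subtype) h1
    rw [← Set.range_comp] at h2
    exact Submodule.span_le_restrictScalars k (PencilField.param k l) _ h2
  -- degree of the extension
  haveI hfd : FiniteDimensional F N ∧ finrank F N ≤ d := by
    have hint : ∀ m, LinearIndependent F (fun i : Fin (m + 1) => yN ^ (i : ℕ)) → m < d := by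
      intro m hm
      by_contra hdm
      set M := m * m + m + 2
      obtain ⟨V, hVfd, hVle, hWV⟩ := hV M
      let B : ℕ → Set N := fun j => (fun i : Fin (m + 1) => yN ^ (i : ℕ)) '' {i | (i : ℕ) ≤ j}
      have hinj := hm.injective
      have hind : LinearIndepOn F id (B M) := hm.linearIndepOn_id.mono (Set.image_subset_range _ _)
      have hcnt := count hct hcW M B hind ((Set.finite_range _).subset (Set.image_subset_range _ _))
        (fun j hj => ⟨Set.image_mono fun i hi => le_trans hi hj, by
          rintro _ ⟨i, hi, rfl⟩
          have : W ^ (i : ℕ) ≤ W ^ j := pow_le_pow_right' (Submodule.one_le.2 h1W) hi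
          exact this (Submodule.pow_mem_pow _ (hmemW y hyL) _)⟩) V hWV
      have hlow : (M + 1 - m) * (m + 1) ≤ ∑ j ∈ Finset.range (M + 1), (B j).ncard := by
        have hsub : Finset.Ico m (M + 1) ⊆ Finset.range (M + 1) := fun j hj =>
          Finset.mem_range.2 (Finset.mem_Ico.1 hj).2
        refine le_trans (le_of_eq ?_) (Finset.sum_le_sum_of_subset hsub)
        rw [Finset.sum_congr rfl (g := fun _ => m + 1) fun j hj => ?_, Finset.sum_const,
          Nat.card_Ico, smul_eq_mul]
        have hall : {i : Fin (m + 1) | (i : ℕ) ≤ j} = Set.univ :=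
          Set.eq_univ_of_forall fun i => le_trans (Nat.le_of_lt_succ i.2) (Finset.mem_Ico.1 hj).1
        simp only [B, hall, Set.image_univ, Set.ncard_range_of_injective hinj,
          Nat.card_eq_fintype_card, Fintype.card_fin]
      have hup : (_root_.FunFld.ell ((M : ℤ) • D) : ℤ) ≤ (M : ℤ) * d + 1 := by
        have h := ell_sub_ell_le hK (D₁ := 0) (D₂ := (M : ℤ) • D) (fun P => by
          have h0 := hD P
          simp only [Finsupp.coe_zero, Pi.zero_apply, Finsupp.smul_apply, smul_eq_mul] at h0 ⊢
          positivity)
        rw [ell_zero hK, deg_zero, deg_smul, hdeg] at h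
        omega
      have h1 : (((M + 1 - m) * (m + 1) : ℕ) : ℤ) ≤ (M : ℤ) * m + 1 := by
        have h2 : (M : ℤ) * d ≤ (M : ℤ) * m := by
          exact mul_le_mul_of_nonneg_left (by omega) (by positivity)
        haveI := finiteDimensional_L hK ((M : ℤ) • D)
        have := hlow.trans (hcnt.trans (hVle.trans
          (Submodule.finrank_mono (CastelnuovoBound.pow_le_L hK D M))))
        change _ ≤ _root_.FunFld.ell ((M : ℤ) • D) at this
        omega
      rw [Nat.cast_mul, Nat.cast_sub (by omega)] at h1
      simp only [M] at h1
      push_cast at h1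
      nlinarith
    have halg : IsIntegral F yN := by
      refine isAlgebraic_iff_isIntegral.1 (by_contra fun htr => ?_)
      exact absurd (hint d ((transcendental_iff_injective.1 htr |> fun hi =>
        ((Polynomial.basisMonomials F).linearIndependent.map' (aeval yN).toLinearMap
          (LinearMap.ker_eq_bot.2 hi)).comp (fun i : Fin (d + 1) => (i : ℕ)) Fin.val_injective
            |> fun h => by simpa [Function.comp_def] using h))) (lt_irrefl d)
    have hfd : FiniteDimensional F N := by
      have := adjoin.finiteDimensional halg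
      rw [htop] at this
      exact Module.Finite.equiv (IntermediateField.topEquiv (F := F) (E := N)).toLinearEquiv
    refine ⟨hfd, ?_⟩
    rw [← IntermediateField.finrank_top', ← htop, adjoin.finrank halg]
    by_contra hle
    exact absurd (hint d ((linearIndependent_pow yN).comp (Fin.castLE (by omega))
      (Fin.castLE_injective _))) (lt_irrefl d)
  obtain ⟨hfdN, hle⟩ := hfd
  have hge : d ≤ finrank F N := by
    let b := Module.finBasis (adjoin k ({x} : Set K)) K
    have h := PencilField.linearIndependent_base (x := x) (y := y) hl (b := b) fun p hp i => by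
      have hb := Fintype.linearIndependent_iff.1 b.linearIndependent
        (fun i => ⟨aeval x (p i), algebra_adjoin_le_adjoin k _ (aeval_mem_adjoin_singleton k x)⟩)
        (by simpa [IntermediateField.smul_def] using hp) i
      exact transcendental_iff.1 hxt _ (congrArg Subtype.val hb)
    have := h.fintype_card_le_finrank
    rwa [Fintype.card_fin] at this
  haveI : Algebra.IsSeparable F N := by
    obtain ⟨b, hb⟩ := Submodule.mem_span_singleton.1
      ((Hasse.Separable.span_D_eq_top hsep).symm ▸
        Submodule.mem_top (x := KaehlerDifferential.D k K y))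
    exact PencilField.isSeparable hl hb.symm htop
  have hE : ∀ E : IntermediateField F N, E = ⊥ ∨ E = ⊤ :=
    PencilPairs.eq_bot_or_top (x := x) (y := y)
      (haveI := hKfd; Algebra.IsAlgebraic.of_finite (adjoin k ({x} : Set K)) K) hl ⟨⟨l, hlF⟩, rfl⟩ ⟨cF, rfl⟩ htop hgenN
  -- the dimensions of the products
  set A : Submodule F N := Submodule.span F (W : Set N) with hA
  have h1A : (1 : N) ∈ A := Submodule.subset_span h1W
  have hA1 : e + 1 ≤ finrank F A ∨ d ≤ finrank F A := by
    have hx0 : x ≠ 0 := fun h => hxt (h ▸ isAlgebraic_zero)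
    let S : Submodule k (_root_.FunFld.L D) := Submodule.span k {⟨x, hxL⟩}
    have hS1 : finrank k S = 1 :=
      finrank_span_singleton (fun h => hx0 (congrArg Subtype.val h))
    have hq : finrank k (_root_.FunFld.L D ⧸ S) + 1 = _root_.FunFld.ell D := by
      rw [← hS1]; exact Submodule.finrank_quotient_add_finrank S
    let q := Module.finBasis k (_root_.FunFld.L D ⧸ S)
    choose w hw using fun i => Submodule.mkQ_surjective S (q i)
    have hind := PencilField.linearIndependent_base (x := x) (y := y) hl
      (b := fun i => (w i : K)) fun p hp => poly_indep hK hD hpole (fun i => (w i).2) (fun cc ee hce => by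
        have hL : ∑ i, cc i • w i = ee • (⟨x, hxL⟩ : _root_.FunFld.L D) := by
          apply Subtype.ext
          simpa [Algebra.smul_def] using hce
        have h2 : ∑ i, cc i • q i = 0 := by
          have h3 := congrArg S.mkQ hL
          rw [map_sum, map_smul, show S.mkQ ⟨x, hxL⟩ = 0 from
            (Submodule.Quotient.mk_eq_zero S).2 (Submodule.mem_span_singleton_self _), smul_zero] at h3
          simp only [map_smul, hw] at h3
          exact h3
        have hc0 := Fintype.linearIndependent_iff.1 q.linearIndependent cc h2
        refine ⟨hc0, ?_⟩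
        simp only [hc0, zero_smul, Finset.sum_const_zero] at hL
        exact (smul_eq_zero.1 hL.symm).resolve_right fun h => hx0 (congrArg Subtype.val h))
      hx0 (∑ i, (p i).natDegree) p (fun i =>
        Finset.single_le_sum (f := fun i => (p i).natDegree) (fun j _ => Nat.zero_le _)
          (Finset.mem_univ i)) hp
    have := (LinearIndependent.of_comp A.subtype (v := fun i =>
      (⟨algebraMap K N (w i : K), Submodule.subset_span (hmemW _ (w i).2)⟩ : A)) hind).fintype_card_le_finrank
    rw [Fintype.card_fin] at this
    rcases Nat.lt_or_ge (_root_.FunFld.ell D) 2 with h | h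
    · left
      have := Submodule.finrank_mono (show Submodule.span F {(1 : N)} ≤ A from
        Submodule.span_le.2 (Set.singleton_subset_iff.2 h1A))
      rw [finrank_span_singleton (one_ne_zero)] at this
      omega
    · left; omega
  have hAj : ∀ j, min d (j * e + 1) ≤ finrank F (A ^ j : Submodule F N) := by
    intro j
    induction j with
    | zero =>
      rw [pow_zero, Submodule.one_eq_span, finrank_span_singleton one_ne_zero]
      omega
    | succ j ih =>
      rw [pow_succ, Nat.succ_mul]
      have h1 := LinearKneser.min_le_finrank_mul hE (A ^ j) A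
        (one_pow (M := N) j ▸ Submodule.pow_mem_pow _ h1A j) h1A
      omega
  obtain ⟨V, hVfd, hVle, hWV⟩ := hV n
  obtain ⟨B, hBn, hB⟩ := CastelnuovoBound.exists_chain (F := F) W h1W n
  refine le_trans ?_ ((count hct hcW n B hBn hBn.linearIndependent.setFinite
    (fun j hj => ⟨(hB j hj).1, (hB j hj).2.2.1⟩) V hWV).trans hVle)
  refine Finset.sum_le_sum fun j hj => ?_
  obtain ⟨-, hindep, -, hspan⟩ := hB j (Nat.le_of_lt_succ (Finset.mem_range.1 hj))
  have hfinB : (B j).Finite := hindep.linearIndependent.setFinite
  haveI := hfinB.fintype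
  have hle' : A ^ j ≤ Submodule.span F (B j) := by
    rw [hA, Submodule.span_pow, Submodule.span_le]
    exact (Submodule.pow_subset_pow W).trans hspan
  refine (hAj j).trans ((Submodule.finrank_mono hle').trans ?_)
  rw [Set.ncard_eq_toFinset_card' (B j)]
  exact finrank_span_le_card (B j)

/-- Castelnuovo's lower bound for the multiples of a birational base point free series. -/
theorem sum_min_le_ell [IsAlgClosed k] (hK : _root_.FunFld.IsFunctionField k K) {D : Dv} (hD : 0 ≤ D)
    (hgen : adjoin k (_root_.FunFld.L D : Set K) = ⊤)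
    (hbpf : ∀ P : Pl, D P ≠ 0 → ¬ _root_.FunFld.L D ≤ _root_.FunFld.L (D - Finsupp.single P 1))
    (n : ℕ) :
    ∑ j ∈ Finset.range (n + 1), min D.deg.toNat (j * (_root_.FunFld.ell D - 2) + 1) ≤
      _root_.FunFld.ell ((n : ℤ) • D) :=
  haveI := finiteDimensional_L hK ((n : ℤ) • D)
  (sum_min_le_finrank_pow hK hD hgen hbpf n).trans
    (Submodule.finrank_mono (CastelnuovoBound.pow_le_L hK D n))

end Groth.Agent.Lib.CurveFF.CastelnuovoR
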