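import Groth.Agent.Lib.CurveFF.Drop
import Mathlib.Algebra.Module.Submodule.Union

/-!
Clifford's inequality for a function field.
-/

noncomputable section
set_option autoImplicit false
universe u v

open WithZero
open Groth.Agent.Lib.FunFld Groth.Agent.Lib.FunFld.Degree

namespace Groth.Agent.Lib.CurveFF.CliffordField

variable {k : Type u} {K : Type v} [Field k] [Field K] [Algebra k K] [IsAlgClosed k]

local notation "Dv" => _root_.FunFld.Divisor k K
local notation "ℓ" => _root_.FunFld.ell

theorem ell_add_le_of_nonneg (hK : _root_.FunFld.IsFunctionField k K) {B : Dv} (hB : 0 ≤ B) :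
    ∀ (n : ℕ) (A : Dv), 0 ≤ A → A.deg = n → ℓ A + ℓ B ≤ ℓ (A + B) + 1 := by
  classical
  intro n
  induction n using Nat.strong_induction_on with
  | _ n ih =>
    intro A hA hAd
    have := finiteDimensional_L hK A
    have hone : (1 : K) ∈ _root_.FunFld.L A := mem_L_iff_ord.2 (Or.inr fun P => by
      rw [Place.ord_one]
      have : (0 : ℤ) ≤ A P := hA P
      omega)
    by_cases hP : ∃ P ∈ B.support, ℓ (A - Finsupp.single P 1) = ℓ A
    · obtain ⟨P, -, hP⟩ := hP
      have hone' : (1 : K) ∈ _root_.FunFld.L (A - Finsupp.single P 1) := by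
        rwa [Submodule.eq_of_le_of_finrank_le (L_mono (Drop.sub_single_le A P)) hP.ge]
      have hA' : 0 ≤ A - Finsupp.single P 1 := fun Q => by
        have h := (mem_L_iff_ord.1 hone').resolve_left one_ne_zero Q
        rw [Place.ord_one] at h
        show (0 : ℤ) ≤ (A - Finsupp.single P (1 : ℤ)) Q
        omega
      have hd : (A - Finsupp.single P (1 : ℤ)).deg = ((n - 1 : ℕ) : ℤ) ∧ 1 ≤ n := by
        have h0 := deg_nonneg hA'
        rw [deg_sub, deg_single, Rational.deg_eq_one hK P, hAd] at h0 ⊢
        omega
      have h := ih (n - 1) (by omega) _ hA' hd.1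
      have hmono := Drop.ell_le_of_le hK
        (show A - Finsupp.single P 1 + B ≤ A + B from add_le_add (Drop.sub_single_le A P) le_rfl)
      omega
    · simp only [not_exists, not_and] at hP
      let p : ↥(B.support) → Submodule k (_root_.FunFld.L A) := fun P =>
        (_root_.FunFld.L (A - Finsupp.single (P : _root_.FunFld.Place k K) 1)).comap (_root_.FunFld.L A).subtype
      obtain ⟨⟨x, hx⟩, hxp⟩ := Submodule.exists_forall_notMem_of_forall_ne_top p fun P htop => by
        have hle : _root_.FunFld.L A ≤ _root_.FunFld.L (A - Finsupp.single (P : _root_.FunFld.Place k K) 1) :=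
          fun w hw => (Submodule.eq_top_iff'.1 htop ⟨w, hw⟩ :)
        have := finiteDimensional_L hK (A - Finsupp.single (P : _root_.FunFld.Place k K) 1)
        exact hP P P.2 (le_antisymm (Drop.ell_le_of_le hK (Drop.sub_single_le A P)) (Submodule.finrank_mono hle))
      rcases eq_or_ne x 0 with rfl | hx0
      · have hBs : B.support = ∅ := Finset.eq_empty_of_forall_notMem fun P hPB =>
          hxp ⟨P, hPB⟩ (zero_mem _)
        rw [Finsupp.support_eq_empty.1 hBs, add_zero, ell_zero hK]
      · have hxA := (mem_L_iff_ord.1 hx).resolve_left hx0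
        have := finiteDimensional_L hK B
        have := finiteDimensional_L hK (A + B)
        have := finiteDimensional_L_zero hK
        let f : _root_.FunFld.L B →ₗ[k] _root_.FunFld.L (A + B) :=
          LinearMap.codRestrict _ ((LinearMap.mulLeft k x).comp (_root_.FunFld.L B).subtype) fun w P => by
            show P.1 (x * (w : K)) ≤ _
            rw [map_mul, Finsupp.add_apply, exp_add]
            exact mul_le_mul' (hx P) (w.2 P)
        let W₀ : Submodule k (_root_.FunFld.L (A + B)) :=
          (_root_.FunFld.L A).comap (_root_.FunFld.L (A + B)).subtype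
        have hW₀ : Module.finrank k W₀ = ℓ A :=
          (Submodule.comapSubtypeEquivOfLe (L_mono (le_add_of_nonneg_right hB))).finrank_eq
        have hker : LinearMap.ker (W₀.mkQ.comp f) ≤
            (_root_.FunFld.L (0 : Dv)).comap (_root_.FunFld.L B).subtype := by
          rintro ⟨w, hw⟩ hwk
          rw [LinearMap.mem_ker, LinearMap.comp_apply, Submodule.mkQ_apply,
            Submodule.Quotient.mk_eq_zero] at hwk
          change x * w ∈ _root_.FunFld.L A at hwk
          rcases eq_or_ne w 0 with rfl | hw0
          · exact zero_mem _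
          show w ∈ _root_.FunFld.L (0 : Dv)
          refine mem_L_iff_ord.2 (Or.inr fun P => ?_)
          have h1 := (mem_L_iff_ord.1 hwk).resolve_left (mul_ne_zero hx0 hw0) P
          have h2 := (mem_L_iff_ord.1 hw).resolve_left hw0 P
          rw [Place.ord_mul P hx0 hw0] at h1
          rw [Finsupp.coe_zero, Pi.zero_apply, neg_zero]
          by_cases hPB : P ∈ B.support
          · have h3 : P.ord x ≤ -A P := by
              by_contra hlt
              refine hxp ⟨P, hPB⟩ ?_
              show x ∈ _root_.FunFld.L (A - Finsupp.single P 1)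
              refine mem_L_iff_ord.2 (Or.inr fun Q => ?_)
              rw [Finsupp.sub_apply]
              rcases eq_or_ne Q P with rfl | hQ
              · rw [Finsupp.single_eq_same]; omega
              · rw [Finsupp.single_eq_of_ne hQ, sub_zero]; exact hxA Q
            omega
          · rw [Finsupp.notMem_support_iff] at hPB
            omega
        have h1 := (W₀.mkQ.comp f).finrank_range_add_finrank_ker
        have h2 : Module.finrank k (LinearMap.range (W₀.mkQ.comp f)) ≤
            Module.finrank k (_root_.FunFld.L (A + B) ⧸ W₀) := Submodule.finrank_le _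
        have h3 := W₀.finrank_quotient_add_finrank
        have h4 : Module.finrank k (LinearMap.ker (W₀.mkQ.comp f)) ≤ 1 := by
          refine (Submodule.finrank_mono hker).trans ?_
          rw [(Submodule.comapSubtypeEquivOfLe (L_mono hB)).finrank_eq]
          exact (ell_zero hK).le
        change _ + _ = ℓ B at h1
        change _ + _ = ℓ (A + B) at h3
        omega

theorem clifford (hK : _root_.FunFld.IsFunctionField k K) {W D : Dv}
    (hW : _root_.FunFld.IsCanonical k K W) (hD : 0 < ℓ D) (hWD : 0 < ℓ (W - D)) :
    2 * (ℓ D : ℤ) ≤ D.deg + 2 := by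
  obtain ⟨A, a, hA, ha, hDe, -⟩ := SmallGenus.exists_nonneg hK hD
  obtain ⟨B, b, hB, hb, hBe, -⟩ := SmallGenus.exists_nonneg hK hWD
  obtain ⟨n, hn⟩ : ∃ n : ℕ, A.deg = n := ⟨A.deg.toNat, by have := deg_nonneg hA; omega⟩
  have h := ell_add_le_of_nonneg hK hB n A hA hn
  have h1 : ℓ D = ℓ A := by rw [hDe, Riemann.ell_add_div hK _ ha]
  have h2 : ℓ (W - D) = ℓ B := by rw [hBe, Riemann.ell_add_div hK _ hb]
  have h3 : ℓ (A + B) = ℓ W := by
    rw [show W = A + B + _root_.FunFld.div k (a * b) by
      rw [div_mul hK ha hb, ← sub_add_cancel W D, hBe, hDe]; abel,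
      Riemann.ell_add_div hK _ (mul_ne_zero ha hb)]
  rw [Weil.ell_canonical hK hW] at h3
  have hrr := Weil.riemann_roch hK hW D
  omega

end Groth.Agent.Lib.CurveFF.CliffordField
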