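import Groth.Agent.Lib.CurveFF.LineTensor
import Groth.Agent.Lib.Curves.SectionProduct
import Groth.Agent.Lib.FunFld.LinSer.Basic

/-!
Equality in Clifford's theorem comes from a pencil of degree two.
-/

noncomputable section
set_option autoImplicit false
set_option linter.style.haveILetI false
universe u

open CategoryTheory AlgebraicGeometry
open Groth.Agent.Lib.FunFld.Degree Groth.Agent.Lib.FunFld.Riemann Groth.Agent.Lib.FunFld.SmallGenus

namespace Groth.Agent.Lib.CurveFF.CliffordEq

attribute [local instance] Curv2.stalkAlgebra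

variable {k : Type u} [Field k] [IsAlgClosed k] {X : Scheme.{u}}
  [X.Over (Spec (CommRingCat.of k))] [IsIntegral X] [IsProper (X ↘ Spec (CommRingCat.of k))]
  (h : CurveHyp X) (hK : _root_.FunFld.IsFunctionField k X.functionField)

include h hK

local notation "Dv" => _root_.FunFld.Divisor k X.functionField

theorem ell_add_le {A B : Dv} (hA : 0 < _root_.FunFld.ell A) (hB : 0 < _root_.FunFld.ell B) :
    _root_.FunFld.ell A + _root_.FunFld.ell B ≤ _root_.FunFld.ell (A + B) + 1 := by
  obtain ⟨L, R, hR, -⟩ := LineDiv.exists_line h hK A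
  obtain ⟨M, S, hS, -⟩ := LineDiv.exists_line h hK B
  have h1 : Nontrivial (Coh.HH X L 0) :=
    Module.nontrivial_of_finrank_pos (R := k) (by rw [R.finrank_h0 h hK, hR]; exact hA)
  have h2 : Nontrivial (Coh.HH X M 0) :=
    Module.nontrivial_of_finrank_pos (R := k) (by rw [S.finrank_h0 h hK, hS]; exact hB)
  have h3 := Curves.SectionProduct.hdim_add_le (k := k) h.dim.le R.inv S.inv h1 h2
  change Module.finrank k _ + Module.finrank k _ ≤ Module.finrank k _ + 1 at h3
  rwa [R.finrank_h0 h hK, S.finrank_h0 h hK, (R.mul S).finrank_h0 h hK, R.div_mul, hR, hS] at h3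

omit h in
/-- A divisor of degree `2g - 2` with `g` sections is canonical. -/
theorem exists_eq_add {C A : Dv} (hC : _root_.FunFld.IsCanonical k X.functionField C)
    (hd : A.deg = C.deg) (hl : _root_.FunFld.genus k X.functionField ≤ _root_.FunFld.ell A) :
    ∃ f : X.functionField, f ≠ 0 ∧ C = A + _root_.FunFld.div k f := by
  have h1 := FunFld.Weil.riemann_roch hK hC A
  have h2 := FunFld.Weil.deg_canonical hK hC
  obtain ⟨f, hf, he⟩ := exists_div_of_deg_zero hK (E := C - A) (by omega) (by rw [deg_sub, hd, sub_self])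
  exact ⟨f, hf, by rw [← he]; abel⟩

/-- The induction. -/
theorem exists_pencil {C : Dv} (hC : _root_.FunFld.IsCanonical k X.functionField C) :
    ∀ (n : ℕ) (D : Dv), D.deg = n → 0 < n → (n : ℤ) < C.deg →
      0 < _root_.FunFld.ell (C - D) → 2 * _root_.FunFld.ell D = n + 2 →
      ∃ N : Dv, N.deg = 2 ∧ 2 ≤ _root_.FunFld.ell N := by
  classical
  intro n
  induction n using Nat.strong_induction_on with
  | _ n ih =>
    intro D hd hn hlt hCD heq
    rcases le_or_gt n 2 with hn2 | hn2
    · exact ⟨D, by omega, by omega⟩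
    obtain ⟨E, x, hE, hx, hCE, hEd⟩ := exists_nonneg hK hCD
    have hEpos : E ≠ 0 := by
      intro h0
      rw [h0, deg_zero, deg_sub] at hEd
      omega
    obtain ⟨P, hP⟩ := Finsupp.ne_iff.1 hEpos
    have hP1 : 1 ≤ E P := by
      have := Finsupp.le_def.1 hE P
      simp only [Finsupp.coe_zero, Pi.zero_apply] at this hP
      omega
    obtain ⟨Q, hQ⟩ := FunFld.LinSer.Basic.exists_place_notMem hK (insert P E.support)
    rw [Finset.mem_insert, not_or, Finsupp.mem_support_iff, not_not] at hQ
    -- a member of `|D|` through `P` and `Q`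
    have hdP := FunFld.Rational.deg_eq_one hK P
    have hdQ := FunFld.Rational.deg_eq_one hK Q
    let s : Dv := Finsupp.single P 1 + Finsupp.single Q 1
    have hs0 : 0 ≤ s := add_nonneg (Finsupp.single_nonneg.2 zero_le_one) (Finsupp.single_nonneg.2 zero_le_one)
    have hsd : s.deg = 2 := by
      show (Finsupp.single P 1 + Finsupp.single Q 1 : Dv).deg = 2
      rw [deg_add, deg_single, deg_single, hdP, hdQ]; norm_num
    have h2 := ell_sub_ell_le hK (D₁ := D - s) (D₂ := D) (sub_le_self _ hs0)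
    rw [deg_sub, hsd] at h2
    obtain ⟨F, y, hF, hy, hDF, -⟩ := exists_nonneg hK (E := D - s) (by omega)
    set D₁ : Dv := F + s with hD₁
    have hD1 : D = D₁ + _root_.FunFld.div k y := by
      rw [hD₁, add_right_comm, ← hDF, sub_add_cancel]
    have hl1 : _root_.FunFld.ell D₁ = _root_.FunFld.ell D := by
      rw [hD1, ell_add_div hK D₁ hy]
    have hd1 : D₁.deg = n := by
      rw [hD1, deg_add, deg_div hK, add_zero] at hd; exact hd
    have hD10 : 0 ≤ D₁ := add_nonneg hF hs0
    set D' : Dv := D₁ ⊓ E with hD'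
    have hD'0 : 0 ≤ D' := le_inf hD10 hE
    have hsum : D₁ ⊔ E + D' = C + _root_.FunFld.div k (x * y)⁻¹ := by
      rw [hD', add_comm]
      have : D₁ ⊓ E + D₁ ⊔ E = D₁ + E := inf_add_sup _ _
      rw [this, div_inv hK, div_mul hK hx hy]
      have hE' : E = C - D - _root_.FunFld.div k x := by rw [hCE]; abel
      rw [hE', hD1]; abel
    have hD'P : 1 ≤ D' P := by
      rw [hD', Finsupp.inf_apply]
      refine le_inf ?_ hP1
      show 1 ≤ (F + (Finsupp.single P 1 + Finsupp.single Q 1) : Dv) P
      rw [Finsupp.add_apply, Finsupp.add_apply, Finsupp.single_eq_same,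
        Finsupp.single_eq_of_ne (Ne.symm hQ.1)]
      have := Finsupp.le_def.1 hF P
      simp only [Finsupp.coe_zero, Pi.zero_apply] at this
      omega
    have hD'Q : D' + Finsupp.single Q 1 ≤ D₁ := by
      refine Finsupp.le_def.2 fun R => ?_
      rw [Finsupp.add_apply, hD', Finsupp.inf_apply]
      rcases eq_or_ne R Q with rfl | hR
      · rw [Finsupp.single_eq_same, hQ.2]
        have h1 : 1 ≤ D₁ R := by
          show 1 ≤ (F + (Finsupp.single P 1 + Finsupp.single R 1) : Dv) R
          rw [Finsupp.add_apply, Finsupp.add_apply, Finsupp.single_eq_same,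
            Finsupp.single_eq_of_ne hQ.1]
          have := Finsupp.le_def.1 hF R
          simp only [Finsupp.coe_zero, Pi.zero_apply] at this
          omega
        have : D₁ R ⊓ 0 ≤ 0 := inf_le_right
        omega
      · rw [Finsupp.single_eq_of_ne hR, add_zero]
        exact inf_le_left
    have hn'1 : 1 ≤ D'.deg := by
      have hle : Finsupp.single P 1 ≤ D' := Finsupp.le_def.2 fun R => by
        rcases eq_or_ne R P with rfl | hR
        · rwa [Finsupp.single_eq_same]
        · rw [Finsupp.single_eq_of_ne hR]; exact Finsupp.le_def.1 hD'0 R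
      have := deg_mono hle
      rwa [deg_single, hdP] at this
    have hn'2 : D'.deg + 1 ≤ n := by
      have := deg_mono hD'Q
      rwa [deg_add, deg_single, hdQ, hd1] at this
    -- the dimension count
    have := finiteDimensional_L hK D₁
    have := finiteDimensional_L hK E
    have := finiteDimensional_L hK (D₁ ⊔ E)
    have hcount := Submodule.finrank_sup_add_finrank_inf_eq (_root_.FunFld.L D₁) (_root_.FunFld.L E)
    have hinf : _root_.FunFld.L D₁ ⊓ _root_.FunFld.L E = _root_.FunFld.L D' := by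
      refine le_antisymm (fun z hz R => ?_) (le_inf (L_mono inf_le_left) (L_mono inf_le_right))
      rw [hD', Finsupp.inf_apply]
      rcases le_total (D₁ R) (E R) with hle | hle
      · rw [inf_eq_left.mpr hle]; exact hz.1 R
      · rw [inf_eq_right.mpr hle]; exact hz.2 R
    rw [hinf] at hcount
    have hsup := Submodule.finrank_mono
      (sup_le (L_mono (le_sup_left : D₁ ≤ D₁ ⊔ E)) (L_mono (le_sup_right : E ≤ D₁ ⊔ E)))
    have hlE : _root_.FunFld.ell (C - D) = _root_.FunFld.ell E := by
      rw [hCE, ell_add_div hK E hx]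
    have hlS : _root_.FunFld.ell (C - D') = _root_.FunFld.ell (D₁ ⊔ E) := by
      rw [show C - D' = D₁ ⊔ E + _root_.FunFld.div k (x * y) by
        rw [eq_sub_iff_add_eq.2 hsum, div_inv hK]; abel, ell_add_div hK _ (mul_ne_zero hx hy)]
    have hpos : 0 < _root_.FunFld.ell D' := by
      have := finiteDimensional_L hK D'
      have h1 := Submodule.finrank_mono (L_mono hD'0)
      change _root_.FunFld.ell (0 : Dv) ≤ _root_.FunFld.ell D' at h1
      rw [ell_zero hK] at h1
      omega
    have hSge : _root_.FunFld.ell D₁ ≤ _root_.FunFld.ell (D₁ ⊔ E) :=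
      Submodule.finrank_mono (L_mono le_sup_left)
    have hadd := ell_add_le h hK hpos (B := C - D') (by omega)
    rw [add_sub_cancel] at hadd
    have hCell := FunFld.Weil.ell_canonical hK hC
    have hrrD := FunFld.Weil.riemann_roch hK hC D
    have hrrD' := FunFld.Weil.riemann_roch hK hC D'
    change Module.finrank k _ + _root_.FunFld.ell D' = _root_.FunFld.ell D₁ + _root_.FunFld.ell E at hcount
    change _ ≤ _root_.FunFld.ell (D₁ ⊔ E) at hsup
    obtain ⟨m, hm⟩ : ∃ m : ℕ, D'.deg = m := ⟨D'.deg.toNat, by omega⟩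
    exact ih m (by omega) D' hm (by omega) (by omega) (by omega) (by omega)

/-- A divisor attaining equality in Clifford's theorem, neither trivial nor canonical, is a multiple
of a pencil of degree two. -/
theorem exists_multiple {C D : Dv} (hC : _root_.FunFld.IsCanonical k X.functionField C)
    (hD : 0 < _root_.FunFld.ell D) (hCD : 0 < _root_.FunFld.ell (C - D))
    (hD0 : ¬ ∃ f, f ≠ 0 ∧ D = _root_.FunFld.div k f)
    (hDC : ¬ ∃ f, f ≠ 0 ∧ D = C + _root_.FunFld.div k f)
    (heq : 2 * (_root_.FunFld.ell D : ℤ) = D.deg + 2) :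
    ∃ N : Dv, N.deg = 2 ∧ 2 ≤ _root_.FunFld.ell N ∧ ∃ f : X.functionField, f ≠ 0 ∧
      D = (((_root_.FunFld.ell D - 1 : ℕ) : ℤ)) • N + _root_.FunFld.div k f := by
  obtain ⟨D₀, z, hD₀, hz, hDz, hD₀d⟩ := exists_nonneg hK hD
  have hl0 : _root_.FunFld.ell D₀ = _root_.FunFld.ell D := by rw [hDz, ell_add_div hK D₀ hz]
  have hd0 := deg_nonneg hD₀
  have hdpos : 0 < D.deg := by
    rcases hd0.eq_or_lt with h0 | h0
    · exfalso
      obtain ⟨f, hf, hfe⟩ := exists_div_of_deg_zero hK hD (by omega)
      exact hD0 ⟨f, hf, hfe⟩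
    · omega
  have hdlt : D.deg < C.deg := by
    have hnn : 0 ≤ (C - D).deg := by
      obtain ⟨F, w, hF, -, -, hFd⟩ := exists_nonneg hK hCD
      rw [← hFd]
      exact deg_nonneg hF
    rcases hnn.eq_or_lt with h0 | h0
    · exfalso
      obtain ⟨f, hf, hfe⟩ := exists_div_of_deg_zero hK hCD h0.symm
      refine hDC ⟨f⁻¹, inv_ne_zero hf, ?_⟩
      rw [div_inv hK, ← hfe]; abel
    · rw [deg_sub] at h0; omega
  obtain ⟨n, hn⟩ : ∃ n : ℕ, D.deg = n := ⟨D.deg.toNat, by omega⟩
  obtain ⟨N, hNd, hNl⟩ := exists_pencil h hK hC n D hn (by omega) (by omega) hCD (by omega)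
  refine ⟨N, hNd, hNl, ?_⟩
  have hpow : ∀ m : ℕ, m + 1 ≤ _root_.FunFld.ell ((m : ℤ) • N) := by
    intro m
    induction m with
    | zero => rw [Nat.cast_zero, zero_smul, ell_zero hK]
    | succ m ihm =>
      have := ell_add_le h hK (A := (m : ℤ) • N) (B := N) (by omega) (by omega)
      rw [Nat.cast_succ, add_smul, one_smul]
      omega
  have hCd := FunFld.Weil.deg_canonical hK hC
  set g := _root_.FunFld.genus k X.functionField with hg
  set r := _root_.FunFld.ell D - 1 with hr
  let A : Dv := D + ((g - 1 - r : ℕ) : ℤ) • N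
  have hAl : g ≤ _root_.FunFld.ell A := by
    have h1 := hpow (g - 1 - r)
    have := ell_add_le h hK (A := D) (B := ((g - 1 - r : ℕ) : ℤ) • N) hD (by omega)
    show g ≤ _root_.FunFld.ell (D + ((g - 1 - r : ℕ) : ℤ) • N)
    omega
  obtain ⟨f₁, hf₁, he₁⟩ := exists_eq_add hK hC (A := A) (by
    show (D + ((g - 1 - r : ℕ) : ℤ) • N).deg = _
    rw [deg_add, deg_smul, hNd]; omega) hAl
  obtain ⟨f₂, hf₂, he₂⟩ := exists_eq_add hK hC (A := ((g - 1 : ℕ) : ℤ) • N) (by
    rw [deg_smul, hNd]; omega) (by have := hpow (g - 1); omega)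
  refine ⟨f₂ / f₁, div_ne_zero hf₂ hf₁, ?_⟩
  rw [div_eq_mul_inv, div_mul hK hf₂ (inv_ne_zero hf₁), div_inv hK]
  have hcast : ((g - 1 : ℕ) : ℤ) = ((g - 1 - r : ℕ) : ℤ) + (r : ℤ) := by omega
  have h3 : D + ((g - 1 - r : ℕ) : ℤ) • N + _root_.FunFld.div k f₁ =
      ((g - 1 : ℕ) : ℤ) • N + _root_.FunFld.div k f₂ := he₁.symm.trans he₂
  rw [hcast, add_smul] at h3
  linear_combination (norm := abel) h3

end Groth.Agent.Lib.CurveFF.CliffordEq
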