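import Groth.Agent.Lib.CurveFF.OmegaRep
import Groth.Agent.Lib.CurveFF.LineTensor
import Groth.Agent.Lib.Curves.GenusZero
import Groth.Agent.Lib.Curves.PointIdeal

/-!
The canonical system has no base points.
-/

noncomputable section
set_option autoImplicit false
universe u

open CategoryTheory AlgebraicGeometry

namespace Groth.Agent.Lib.CurveFF.OmegaGG

attribute [local instance] Curv2.stalkAlgebra

variable {k : Type u} [Field k] [IsAlgClosed k] {X : Scheme.{u}}
  [X.Over (Spec (CommRingCat.of k))] [IsIntegral X] [IsProper (X ↘ Spec (CommRingCat.of k))]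

theorem ell_le_one {K : Type u} [Field K] [Algebra k K] (hK : _root_.FunFld.IsFunctionField k K)
    (hg : 0 < _root_.FunFld.genus k K) {D : _root_.FunFld.Divisor k K} (hD : D.deg = 1) :
    _root_.FunFld.ell D ≤ 1 := by
  rcases Nat.eq_zero_or_pos (_root_.FunFld.ell D) with h0 | h0
  · omega
  obtain ⟨T, x, hx, rfl⟩ := FunFld.SmallGenus.exists_place_of_deg_one hK h0 hD
  rw [FunFld.Riemann.ell_add_div hK _ hx,
    FunFld.Rational.ell_single_one_eq_one hK hg (FunFld.Rational.deg_eq_one hK T)]

theorem isGloballyGenerated (h : CurveHyp X) (hg : 1 ≤ Curv2.genus k X) :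
    Curv2.IsGloballyGenerated (Omega.sheaf (X ↘ Spec (CommRingCat.of k))) := by
  have hdim := h.dim.le
  have h0 := Curves.GlobalSections.finrank_h0_structure k X
  have hK := isFunctionField (k := k) h h0
  obtain ⟨W, hW⟩ := OmegaRep.exists_rep h hK
  rw [Curves.PointIdeal.isGloballyGenerated_iff (k := k) hdim W.inv]
  intro x hx
  haveI := h.dvr x hx
  haveI := Curves.GlobalSections.isNoetherian_of_proper k X
  have hI := Curves.GenusZero.isInvertible_ptI h.dim hx inferInstance
  obtain ⟨J⟩ := LineDiv.nonempty_rep hI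
  have hJ : (J.div h hK).deg = -1 := by
    rw [← J.deg_eq, Curves.Degree.deg_idealMod hdim hI (Curves.IdealTwist.genericPoint_not_mem h.dim (by
      rw [Curves.PointIdeal.support_ptI]
      exact topologicalKrullDim_zero_of_discreteTopology ({x} : Set X)))]
    show -(Curves.Euler.hdim k X (ClSub.quotMod (Curves.PointIdeal.ptI hx)) 0 : ℤ) = _
    rw [Curves.PointIdeal.hdim_quot_point_algClosed hx hdim]
    rfl
  show Module.finrank k _ < Module.finrank k _
  rw [(J.mul W).finrank_h0 h hK, W.finrank_h0 h hK, J.div_mul]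
  have h1 := FunFld.Weil.riemann_roch hK hW (-J.div h hK)
  rw [sub_neg_eq_add, add_comm (W.div h hK), FunFld.Degree.deg_neg, hJ] at h1
  have hg' : 0 < _root_.FunFld.genus k X.functionField := by rw [← genus_eq h h0]; omega
  have h2 := ell_le_one hK hg' (D := -J.div h hK) (by rw [FunFld.Degree.deg_neg, hJ]; rfl)
  have h3 := FunFld.Weil.ell_canonical hK hW
  omega

end Groth.Agent.Lib.CurveFF.OmegaGG
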