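import Groth.Agent.Lib.CurveFF.Pencil
import Groth.Agent.Lib.FunFld.SmallGenus
import Groth.Agent.H81.DoubleCover

/-! In genus at least two all degree two pencils are linearly equivalent. -/

set_option autoImplicit false
universe u v

open IntermediateField Polynomial
open Groth.Agent.Lib.FunFld.Degree Groth.Agent.Lib.FunFld.Riemann Groth.Agent.Lib.FunFld.Bound
  Groth.Agent.Lib.FunFld.Rational Groth.Agent.Lib.FunFld.SmallGenus

namespace Groth.Agent.Lib.CurveFF.Pencil

variable {k : Type u} {K : Type v} [Field k] [Field K] [Algebra k K]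

local notation "Dv" => _root_.FunFld.Divisor k K
local notation "Pl" => _root_.FunFld.Place k K

theorem eq_of_le_of_deg_eq (hK : _root_.FunFld.IsFunctionField k K) {A B : Dv} (h : A ≤ B)
    (hd : A.deg = B.deg) : A = B :=
  (sub_eq_zero.1 (eq_zero_of_nonneg hK (sub_nonneg.2 h) (by rw [deg_sub, hd, sub_self]))).symm

theorem deg_two_pencil (hK : _root_.FunFld.IsFunctionField k K) (hg : 1 ≤ _root_.FunFld.genus k K)
    {D : Dv} (hD : D.deg = 2) (hl : 2 ≤ _root_.FunFld.ell D) :
    ∃ a t : K, a ≠ 0 ∧ Transcendental k t ∧ Module.finrank (adjoin k ({t} : Set K)) K = 2 ∧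
      poleDiv (k := k) t = D + _root_.FunFld.div k a := by
  obtain ⟨F, a, hF, ha, hDF, hFd⟩ := exists_nonneg hK (E := D) (by omega)
  have hl' : 2 ≤ _root_.FunFld.ell F := by
    rw [← ell_add_div hK F ha, ← hDF]; exact hl
  obtain ⟨t, ht, htk⟩ : ∃ t, t ∈ _root_.FunFld.L F ∧ t ∉ Set.range (algebraMap k K) := by
    by_contra hc
    push Not at hc
    have h1 := Submodule.finrank_mono
      (show _root_.FunFld.L F ≤ LinearMap.range (Algebra.linearMap k K) from fun x hx => hc x hx)
    rw [LinearMap.finrank_range_of_inj (f := Algebra.linearMap k K) (algebraMap k K).injective,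
      Module.finrank_self] at h1
    change _root_.FunFld.ell F ≤ 1 at h1
    omega
  have htr := transcendental_of_not_mem_range hK htk
  have hle : poleDiv (k := k) t ≤ F := fun P => by
    rw [poleDiv_apply hK]
    refine max_le ?_ (hF P)
    rcases mem_L_iff_ord.1 ht with h | h
    · exact absurd ⟨0, by rw [h, map_zero]⟩ htk
    · linarith [h P]
  have h2 := deg_mono hle
  rw [hFd, hD, deg_poleDiv hK htr] at h2
  have := finiteDimensional_adjoin_transcendental hK htr
  have hpos : 0 < Module.finrank (adjoin k ({t} : Set K)) K := Module.finrank_pos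
  have hne : Module.finrank (adjoin k ({t} : Set K)) K ≠ 1 := fun h1 => by
    have := genus_eq_zero_of_adjoin_eq_top hK (adjoin_eq_top_of_deg_poleDiv hK htr (by
      rw [deg_poleDiv hK htr, h1]; rfl))
    omega
  have hrk : Module.finrank (adjoin k ({t} : Set K)) K = 2 := by omega
  refine ⟨a⁻¹, t, inv_ne_zero ha, htr, hrk, ?_⟩
  rw [eq_of_le_of_deg_eq hK hle (by rw [hFd, hD, deg_poleDiv hK htr, hrk]; rfl), div_inv hK, hDF]
  abel

/-- At a pole of `x` a polynomial in `x` is governed by its degree. -/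
theorem val_aeval (P : Pl) {x : K} (hx : 1 < P.1 x) {p : k[X]} (hp : p ≠ 0) :
    P.1 (aeval x p) = P.1 x ^ p.natDegree := by
  induction hn : p.natDegree generalizing p with
  | zero =>
    rw [eq_C_of_natDegree_eq_zero hn] at hp ⊢
    rw [aeval_C, pow_zero, FunFld.Place.val_algebraMap P (C_ne_zero.1 hp)]
  | succ n ih =>
    have hq : p.divX ≠ 0 := fun h0 => by
      rw [divX_eq_zero_iff] at h0
      rw [h0, natDegree_C] at hn
      omega
    have hqn : p.divX.natDegree = n := by rw [natDegree_divX_eq_natDegree_tsub_one, hn]; rfl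
    have h1 := ih hq hqn
    conv_lhs => rw [← divX_mul_X_add p, map_add, map_mul, aeval_X, aeval_C]
    have hlt : P.1 (algebraMap k K (p.coeff 0)) < P.1 (aeval x p.divX * x) := by
      refine (FunFld.Place.val_algebraMap_le P _).trans_lt ?_
      rw [map_mul, h1, ← pow_succ]
      exact one_lt_pow₀ hx (Nat.succ_ne_zero n)
    rw [Valuation.map_add_eq_of_lt_left _ hlt, map_mul, h1, ← pow_succ]

theorem ord_aeval_div (P : Pl) {x : K} (hx : P.ord x < 0) {r s : k[X]} (hr : r ≠ 0) (hs : s ≠ 0) :
    P.ord (aeval x r / aeval x s) = ((r.natDegree : ℤ) - s.natDegree) * P.ord x := by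
  have key : ∀ {p : k[X]}, p ≠ 0 → aeval x p ≠ 0 ∧ P.ord (aeval x p) = (p.natDegree : ℤ) * P.ord x :=
    fun {p} hp => by
      have h := val_aeval P ((FunFld.Place.one_lt_val_iff P).2 hx) hp
      refine ⟨fun h0 => ?_, ?_⟩
      · rw [h0, map_zero] at h
        exact pow_ne_zero _ (ne_of_gt (zero_lt_one.trans ((FunFld.Place.one_lt_val_iff P).2 hx))) h.symm
      · rw [← FunFld.Place.ord_pow, FunFld.Place.ord_def, FunFld.Place.ord_def, h, map_pow]
  obtain ⟨hr0, hro⟩ := key hr
  obtain ⟨hs0, hso⟩ := key hs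
  rw [FunFld.Place.ord_div P hr0 hs0, hro, hso, sub_mul]

/-- Generators of the same quadratic subfield have equivalent pole divisors. -/
theorem exists_div_poleDiv (hK : _root_.FunFld.IsFunctionField k K) {x y : K}
    (hx : Transcendental k x) (hy : Transcendental k y)
    (he : adjoin k ({x} : Set K) = adjoin k ({y} : Set K)) :
    ∃ f : K, f ≠ 0 ∧ poleDiv (k := k) x = poleDiv (k := k) y + _root_.FunFld.div k f := by
  have hd : (poleDiv (k := k) x).deg = (poleDiv (k := k) y).deg := by
    rw [deg_poleDiv hK hx, deg_poleDiv hK hy, he]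
  -- the key step
  have step : ∀ {r s : k[X]}, r ≠ 0 → s ≠ 0 → r.natDegree ≠ s.natDegree → ∀ z : K,
      z = aeval x r / aeval x s → (poleDiv (k := k) z).deg = (poleDiv (k := k) x).deg →
      ∃ f : K, f ≠ 0 ∧ poleDiv (k := k) x = poleDiv (k := k) z + _root_.FunFld.div k f := by
    intro r s hr hs hne z hz hdz
    rcases lt_or_gt_of_ne hne with hlt | hgt
    · have hle : poleDiv (k := k) x ≤ zeroDiv (k := k) z := fun P => by
        rw [poleDiv_apply hK, zeroDiv_apply hK]
        rcases lt_or_ge (P.ord x) 0 with hP | hP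
        · rw [hz, ord_aeval_div P hP hr hs]
          have : ((r.natDegree : ℤ) - s.natDegree) ≤ -1 := by omega
          refine max_le_max ?_ le_rfl
          nlinarith
        · rw [max_eq_right (by omega)]; exact le_max_right _ _
      have hz0 : z ≠ 0 := fun h0 => by
        obtain ⟨P, hP⟩ := FunFld.Existence.exists_pole hK hx
        have := ord_aeval_div P hP hr hs
        rw [← hz, h0, FunFld.Place.ord_zero] at this
        rcases mul_eq_zero.1 this.symm with h | h <;> omega
      have hzd : zeroDiv (k := k) z = poleDiv (k := k) z + _root_.FunFld.div k z :=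
        sub_eq_iff_eq_add'.1 (posPart_sub_negPart (_root_.FunFld.div k z))
      refine ⟨z, hz0, ?_⟩
      rw [← hzd, eq_of_le_of_deg_eq hK hle]
      rw [hzd, deg_add, deg_div hK, add_zero, hdz]
    · have hle : poleDiv (k := k) x ≤ poleDiv (k := k) z := fun P => by
        rw [poleDiv_apply hK, poleDiv_apply hK]
        rcases lt_or_ge (P.ord x) 0 with hP | hP
        · rw [hz, ord_aeval_div P hP hr hs]
          have : (1 : ℤ) ≤ (r.natDegree : ℤ) - s.natDegree := by omega
          refine max_le_max ?_ le_rfl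
          nlinarith
        · rw [max_eq_right (by omega)]; exact le_max_right _ _
      exact ⟨1, one_ne_zero, by
        rw [eq_of_le_of_deg_eq hK hle hdz.symm, ← map_one (algebraMap k K), div_algebraMap hK, add_zero]⟩
  obtain ⟨r, s, hrs⟩ := (mem_adjoin_simple_iff k _).1 (he ▸ mem_adjoin_simple_self k y : y ∈ adjoin k ({x} : Set K))
  have hy0 := ne_zero_of_transcendental hy
  have hr : r ≠ 0 := fun h => hy0 (by rw [hrs, h, map_zero, zero_div])
  have hs : s ≠ 0 := fun h => hy0 (by rw [hrs, h, map_zero, div_zero])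
  by_cases hne : r.natDegree = s.natDegree
  swap
  · exact step hr hs hne y hrs hd.symm
  set c : k := r.leadingCoeff / s.leadingCoeff with hc
  set z : K := y - algebraMap k K c with hz
  have hs0 : aeval x s ≠ 0 := fun h => hs (by
    by_contra hs'; exact hx ⟨s, hs', h⟩)
  have hzr : z = aeval x (r - C c * s) / aeval x s := by
    rw [hz, hrs, map_sub, map_mul, aeval_C, sub_div, mul_div_cancel_right₀ _ hs0]
  have hez : adjoin k ({z} : Set K) = adjoin k ({y} : Set K) := by
    refine le_antisymm (adjoin_simple_le_iff.2 (sub_mem (mem_adjoin_simple_self k y)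
      (IntermediateField.algebraMap_mem _ c))) (adjoin_simple_le_iff.2 ?_)
    have h1 : y = z + algebraMap k K c := by rw [hz, sub_add_cancel]
    rw [h1]
    exact add_mem (mem_adjoin_simple_self k z) (IntermediateField.algebraMap_mem _ c)
  have htz : Transcendental k z := fun halg => hy (by
    have h1 : IsAlgebraic k (z + algebraMap k K c) := halg.add (isAlgebraic_algebraMap c)
    rwa [hz, sub_add_cancel] at h1)
  have hr' : r - C c * s ≠ 0 := fun h => ne_zero_of_transcendental htz (by
    rw [hzr, h, map_zero, zero_div])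
  have hc0 : c ≠ 0 := div_ne_zero (leadingCoeff_ne_zero.2 hr) (leadingCoeff_ne_zero.2 hs)
  have hlt : (r - C c * s).degree < r.degree := by
    refine degree_sub_lt ?_ hr ?_
    · rw [degree_C_mul hc0, degree_eq_natDegree hr, degree_eq_natDegree hs, hne]
    · rw [leadingCoeff_mul, leadingCoeff_C, hc, div_mul_cancel₀ _ (leadingCoeff_ne_zero.2 hs)]
  have hne' : (r - C c * s).natDegree ≠ s.natDegree := by
    have := natDegree_lt_natDegree hr' hlt
    omega
  have hdz : (poleDiv (k := k) z).deg = (poleDiv (k := k) y).deg := by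
    rw [deg_poleDiv hK htz, deg_poleDiv hK hy, hez]
  obtain ⟨f, hf, hfe⟩ := step hr' hs hne' z hzr (hdz.trans hd.symm)
  refine ⟨f, hf, ?_⟩
  rw [hfe, eq_of_le_of_deg_eq hK (A := poleDiv (k := k) z) (B := poleDiv (k := k) y) (fun P => ?_) hdz]
  rw [poleDiv_apply hK, poleDiv_apply hK]
  refine max_le ?_ (le_max_right _ _)
  by_contra hgt
  push Not at hgt
  have h1 : 1 < P.1 z := (FunFld.Place.one_lt_val_iff P).2 (by
    have := le_max_right (-P.ord y) (0 : ℤ); omega)
  rw [hz] at h1
  have h2 : P.1 (y - algebraMap k K c) ≤ max (P.1 y) (P.1 (algebraMap k K c)) := Valuation.map_sub _ _ _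
  have h3 : 1 < P.1 y := by
    rcases le_max_iff.1 h2 with h | h
    · exact h1.trans_le h
    · exact absurd (h.trans (FunFld.Place.val_algebraMap_le P c)) (not_le.2 h1)
  have h4 : P.1 z = P.1 y :=
    Valuation.map_sub_eq_of_lt_left _ ((FunFld.Place.val_algebraMap_le P c).trans_lt h3)
  have h5 : P.ord z = P.ord y := by rw [FunFld.Place.ord_def, FunFld.Place.ord_def, h4]
  have := le_max_left (-P.ord y) (0 : ℤ)
  omega

/-- All degree two pencils are equivalent in genus at least two. -/
theorem exists_div_of_pencils (hK : _root_.FunFld.IsFunctionField k K) (hg : 2 ≤ _root_.FunFld.genus k K)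
    {D D' : Dv} (hD : D.deg = 2) (hl : 2 ≤ _root_.FunFld.ell D) (hD' : D'.deg = 2)
    (hl' : 2 ≤ _root_.FunFld.ell D') : ∃ f : K, f ≠ 0 ∧ D = D' + _root_.FunFld.div k f := by
  obtain ⟨a, x, ha, hx, hxr, hxd⟩ := deg_two_pencil hK (by omega) hD hl
  obtain ⟨b, y, hb, hy, hyr, hyd⟩ := deg_two_pencil hK (by omega) hD' hl'
  obtain ⟨f, hf, hfe⟩ := exists_div_poleDiv hK hx hy (H81.DoubleCover.adjoin_eq hK hg hxr hyr)
  refine ⟨b * f * a⁻¹, mul_ne_zero (mul_ne_zero hb hf) (inv_ne_zero ha), ?_⟩
  rw [div_mul hK (mul_ne_zero hb hf) (inv_ne_zero ha), div_mul hK hb hf, div_inv hK]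
  have : D = poleDiv (k := k) x - _root_.FunFld.div k a := by rw [hxd, add_sub_cancel_right]
  rw [this, hfe, hyd]
  abel

end Groth.Agent.Lib.CurveFF.Pencil
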