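import Groth.Prelude.Def_LinSer
import Groth.Agent.Lib.CurveFF.OmegaGG
import Groth.Agent.Lib.CurveFF.CliffordEq
import Groth.Agent.Lib.CurveFF.IdealInv
import Groth.Agent.Lib.CurveFF.Embedded
import Groth.Agent.Lib.CurveFF.PencilUnique

/-!
The canonical map of a curve is an embedding exactly when the curve has no pencil of degree two.
-/

noncomputable section
set_option autoImplicit false
set_option linter.style.haveILetI false
universe u

open CategoryTheory CategoryTheory.Limits AlgebraicGeometry TopologicalSpace Opposite IntermediateField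
open Groth.Agent.Lib.FunFld.Degree Groth.Agent.Lib.FunFld.Riemann

namespace Groth.Agent.Lib.CurveFF.CanonicalEmb

attribute [local instance] Curv2.stalkAlgebra

variable {k : Type u} [Field k] [IsAlgClosed k] {X : Scheme.{u}}
  [X.Over (Spec (CommRingCat.of k))] [IsIntegral X] [IsProper (X ↘ Spec (CommRingCat.of k))]
  (h : CurveHyp X)

local notation "Ω" => Omega.sheaf (X ↘ Spec (CommRingCat.of k))

theorem coord_germ_mem {L : X.Modules} (R : LineDiv.Rep L)
    (hK : _root_.FunFld.IsFunctionField k X.functionField) (s : Γ(L, ⊤)) :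
    R.coord (L.presheaf.germ ⊤ (genericPoint X) trivial s) ∈ _root_.FunFld.L (R.div (k := k) h hK) := by
  intro P
  obtain ⟨x, rfl⟩ := placeOf_surjective (k := k) h P
  exact (R.mem_div h hK x _).1 ⟨_, R.pr_germ (U := ⊤) (x := x.1) trivial s⟩

include h in
theorem separates (hg : 2 ≤ Curv2.genus k X)
    (hno : ¬ ∃ (M : X.Modules) (s : Fin 2 → LinSer.Sect X M), LinSer.IsLinSer k X M 2 1 s) :
    Curves.SepCriterion.Separates k Ω := by
  intro J hJ hle
  have h0 := Curves.GlobalSections.finrank_h0_structure k X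
  have hK := isFunctionField (k := k) h h0
  obtain ⟨W, hW⟩ := OmegaRep.exists_rep h hK
  haveI := Curves.GlobalSections.isNoetherian_of_proper k X
  have hI := IdealInv.isInvertible (k := k) h J hJ
  obtain ⟨A⟩ := LineDiv.nonempty_rep hI
  have hd : (A.div h hK).deg = -(Curves.Euler.hdim k X (ClSub.quotMod J) 0 : ℤ) := by
    rw [← A.deg_eq, Curves.Degree.deg_idealMod h.dim.le hI hJ]
  change Module.finrank k _ ≤ Module.finrank k _ + 1 at hle
  rw [(A.mul W).finrank_h0 h hK, W.finrank_h0 h hK, A.div_mul, FunFld.Weil.ell_canonical hK hW] at hle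
  by_contra hlen
  push Not at hlen
  rw [genus_eq h h0] at hg
  set a := A.div h hK with ha
  set w := W.div h hK with hw
  have hRR := FunFld.Weil.riemann_roch hK hW (a + w)
  rw [show w - (a + w) = -a by abel, deg_add, FunFld.Weil.deg_canonical hK hW, hd] at hRR
  have hsum := CliffordEq.ell_add_le h hK (A := -a) (B := a + w) (by omega) (by omega)
  rw [neg_add_cancel_left, FunFld.Weil.ell_canonical hK hW] at hsum
  obtain ⟨P, Q, hQ, hPd⟩ := LineDiv.exists_line h hK (-a)
  letI := Curves.GlobalSections.secModule k P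
  obtain ⟨eQ⟩ := Q.nonempty_h0_equiv h hK
  let e' := (Curves.GlobalSections.h0Linear k P).symm.trans eQ
  haveI := FunFld.Degree.finiteDimensional_L hK (Q.div h hK)
  haveI : Module.Finite k (P.val.obj (Opposite.op ⊤) : Type u) := Module.Finite.equiv e'.symm
  obtain ⟨s, hs2⟩ := exists_linearIndependent_of_le_finrank (R := k)
    (M := (P.val.obj (Opposite.op ⊤) : Type u)) (n := 2) (by
      rw [e'.finrank_eq, hQ]
      change 2 ≤ _root_.FunFld.ell (-a)
      omega)
  refine hno ⟨P, s, Q.inv, ?_, fun c hc => funext fun i =>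
    Fintype.linearIndependent_iff.1 hs2 c hc i⟩
  rw [hPd, deg_neg, hd]
  omega

include h in
theorem exists_embedding (hg : 2 ≤ Curv2.genus k X)
    (hno : ¬ ∃ (M : X.Modules) (s : Fin 2 → LinSer.Sect X M), LinSer.IsLinSer k X M 2 1 s) :
    ∃ (n : ℕ) (i : X ⟶ CohB1.ProjSpace n k), IsClosedImmersion i ∧
      i ≫ CohB1.ProjSpace.toSpec n k = X ↘ Spec (CommRingCat.of k) ∧
      Nonempty ((Scheme.Modules.pullback i).obj (Twist.twistProjSpace n k 1) ≅ Ω) := by
  have h0 := Curves.GlobalSections.finrank_h0_structure k X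
  have hK := isFunctionField (k := k) h h0
  obtain ⟨W, hW⟩ := OmegaRep.exists_rep h hK
  have hgg := OmegaGG.isGloballyGenerated h (by omega : 1 ≤ Curv2.genus k X)
  obtain ⟨n, hn⟩ : ∃ n : ℕ, Module.finrank k (Coh.HH X Ω 0) = n + 1 := by
    refine ⟨Module.finrank k (Coh.HH X Ω 0) - 1, ?_⟩
    rw [W.finrank_h0 h hK, FunFld.Weil.ell_canonical hK hW, ← genus_eq h h0]
    omega
  letI := Curves.GlobalSections.secModule k Ω
  haveI : Module.Finite k ((Omega.sheaf (X ↘ Spec (CommRingCat.of k))).val.obj (op ⊤) : Type u) := by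
    haveI := (Curves.Degree.isGood (k := k) h.dim.le W.inv).fin₀
    exact Module.Finite.equiv (Curves.GlobalSections.h0Linear k Ω)
  have hfr := (Curves.GlobalSections.h0Linear k Ω).finrank_eq.symm.trans hn
  let b := Module.finBasisOfFinrankEq k ((Omega.sheaf (X ↘ Spec (CommRingCat.of k))).val.obj (op ⊤) : Type u) hfr
  let s : Fin (n + 1) → Γ(Omega.sheaf (X ↘ Spec (CommRingCat.of k)), ⊤) := fun i => b i
  obtain ⟨r, hr, τ, hτ⟩ := ProjMor.Poly.exists_map n k (X ↘ Spec (CommRingCat.of k)) Ω W.inv s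
    (Curves.VeryAmple.generatedBy_of_span hgg s b.span_eq)
  refine ⟨n, r, ?_, hr, ⟨τ⟩⟩
  letI : (CohB1.ProjSpace n k).Over (Spec (CommRingCat.of k)) := ⟨CohB1.ProjSpace.toSpec n k⟩
  haveI := ProjSpace.Basic.isProper_toSpec n k
  haveI : LocallyOfFiniteType (CohB1.ProjSpace n k ↘ Spec (CommRingCat.of k)) :=
    inferInstanceAs (LocallyOfFiniteType (CohB1.ProjSpace.toSpec n k))
  haveI : IsSeparated (CohB1.ProjSpace n k ↘ Spec (CommRingCat.of k)) :=
    inferInstanceAs (IsSeparated (CohB1.ProjSpace.toSpec n k))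
  refine Curves.SepCriterion.isClosedImmersion r hr h.dim W.inv s b.span_eq ?_ ?_ (separates h hg hno)
  · show 2 ≤ Module.finrank k (Coh.HH X Ω 0)
    rw [W.finrank_h0 h hK, FunFld.Weil.ell_canonical hK hW, ← genus_eq h h0]
    exact hg
  · intro x
    exact Curves.VeryAmple.exists_charts s r τ hτ x

/-- A pencil of degree two generates the canonical system. -/
theorem exists_eq_powers {K : Type u} [Field K] [Algebra k K]
    (hK : _root_.FunFld.IsFunctionField k K) (hg : 2 ≤ _root_.FunFld.genus k K)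
    {C : _root_.FunFld.Divisor k K} (hC : _root_.FunFld.IsCanonical k K C) {x : K}
    (hx : Transcendental k x) (hD2 : (poleDiv (k := k) x).deg = 2) :
    ∃ f : K, f ≠ 0 ∧
      C = ((_root_.FunFld.genus k K - 1 : ℕ) : ℤ) • poleDiv (k := k) x + _root_.FunFld.div k f ∧
      ∀ y ∈ _root_.FunFld.L (((_root_.FunFld.genus k K - 1 : ℕ) : ℤ) • poleDiv (k := k) x),
        y ∈ adjoin k ({x} : Set K) := by
  set g := _root_.FunFld.genus k K with hgdef
  set D := poleDiv (k := k) x with hD
  -- powers of `x`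
  have hpow : ∀ i : Fin g, x ^ (i : ℕ) ∈ _root_.FunFld.L (((g - 1 : ℕ) : ℤ) • D) := by
    intro i
    rw [mem_L_iff_ord]
    refine Or.inr fun P => ?_
    rw [FunFld.Place.ord_pow, Finsupp.smul_apply, hD, poleDiv_apply hK, smul_eq_mul]
    have hi : (i : ℕ) ≤ g - 1 := by omega
    have hi' : ((i : ℕ) : ℤ) ≤ ((g - 1 : ℕ) : ℤ) := by exact_mod_cast hi
    rcases le_total (P.ord x) 0 with hP | hP
    · rw [max_eq_left (by omega)]
      nlinarith
    · rw [max_eq_right (by omega), mul_zero, neg_zero]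
      positivity
  haveI := finiteDimensional_L hK (((g - 1 : ℕ) : ℤ) • D)
  have hpw : LinearIndependent k fun n : ℕ => x ^ n := by
    have := (Polynomial.basisMonomials k).linearIndependent.map' (Polynomial.aeval x).toLinearMap
      (LinearMap.ker_eq_bot.mpr (transcendental_iff_injective.1 hx))
    rw [show (fun n : ℕ => x ^ n) =
      (Polynomial.aeval x).toLinearMap ∘ (Polynomial.basisMonomials k) from funext fun n => by simp]
    exact this
  have hli : LinearIndependent k fun i : Fin g => x ^ (i : ℕ) :=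
    hpw.comp _ Fin.val_injective
  have hli' : LinearIndependent k fun i : Fin g =>
      (⟨x ^ (i : ℕ), hpow i⟩ : _root_.FunFld.L (((g - 1 : ℕ) : ℤ) • D)) :=
    LinearIndependent.of_comp (_root_.FunFld.L (((g - 1 : ℕ) : ℤ) • D)).subtype hli
  have hge : g ≤ _root_.FunFld.ell (((g - 1 : ℕ) : ℤ) • D) := by
    have := hli'.fintype_card_le_finrank
    rwa [Fintype.card_fin] at this
  have hdA : (((g - 1 : ℕ) : ℤ) • D).deg = C.deg := by
    rw [deg_smul, hD2, FunFld.Weil.deg_canonical hK hC]; omega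
  have hRR := FunFld.Weil.riemann_roch hK hC (((g - 1 : ℕ) : ℤ) • D)
  rw [hdA, FunFld.Weil.deg_canonical hK hC] at hRR
  obtain ⟨f, hf, hfe⟩ := FunFld.SmallGenus.exists_div_of_deg_zero hK (E := C - ((g - 1 : ℕ) : ℤ) • D)
    (by omega) (by rw [deg_sub, hdA, sub_self])
  have hWD : C = ((g - 1 : ℕ) : ℤ) • D + _root_.FunFld.div k f := by rw [← hfe]; abel
  refine ⟨f, hf, hWD, ?_⟩
  show ∀ y ∈ _root_.FunFld.L (((g - 1 : ℕ) : ℤ) • D), y ∈ adjoin k ({x} : Set K)
  have heq : g = _root_.FunFld.ell (((g - 1 : ℕ) : ℤ) • D) := by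
    rw [← ell_add_div hK _ hf, ← hWD, FunFld.Weil.ell_canonical hK hC]
  haveI : Nonempty (Fin g) := ⟨⟨0, by omega⟩⟩
  have hsp := hli'.span_eq_top_of_card_eq_finrank (by rw [Fintype.card_fin]; exact heq)
  suffices key : ∀ z : _root_.FunFld.L (((g - 1 : ℕ) : ℤ) • D), (z : K) ∈ adjoin k ({x} : Set K) from
    fun y hy => key ⟨y, hy⟩
  intro z
  have hz : z ∈ (⊤ : Submodule k (_root_.FunFld.L (((g - 1 : ℕ) : ℤ) • D))) := trivial
  rw [← hsp] at hz
  induction hz using Submodule.span_induction with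
  | mem v hv =>
    obtain ⟨i, rfl⟩ := hv
    exact pow_mem (mem_adjoin_simple_self k x) _
  | zero => exact zero_mem _
  | add u v _ _ hu hv => exact add_mem hu hv
  | smul c u _ hu => exact (adjoin k ({x} : Set K)).smul_mem hu

include h in
theorem not_linSer_of_embedding (hg : 2 ≤ Curv2.genus k X) {n : ℕ} (r : X ⟶ CohB1.ProjSpace n k)
    [IsClosedImmersion r] (hr : r ≫ CohB1.ProjSpace.toSpec n k = X ↘ Spec (CommRingCat.of k))
    (τ : (Scheme.Modules.pullback r).obj (Twist.twistProjSpace n k 1) ≅ Ω) :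
    ¬ ∃ (M : X.Modules) (s : Fin 2 → LinSer.Sect X M), LinSer.IsLinSer k X M 2 1 s := by
  rintro ⟨M, s, hM, hMd, hind⟩
  have h0 := Curves.GlobalSections.finrank_h0_structure k X
  have hK := isFunctionField (k := k) h h0
  obtain ⟨W, hW⟩ := OmegaRep.exists_rep h hK
  obtain ⟨R⟩ := LineDiv.nonempty_rep hM
  rw [R.deg_eq h hK] at hMd
  have hl : 2 ≤ _root_.FunFld.ell (R.div h hK) := by
    letI := Curves.GlobalSections.secModule k M
    obtain ⟨eR⟩ := R.nonempty_h0_equiv h hK
    let e' := (Curves.GlobalSections.h0Linear k M).symm.trans eR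
    haveI := FunFld.Degree.finiteDimensional_L hK (R.div h hK)
    haveI : Module.Finite k (M.val.obj (Opposite.op ⊤) : Type u) := Module.Finite.equiv e'.symm
    have hli : LinearIndependent k s :=
      Fintype.linearIndependent_iff.2 fun c hc i => congrFun (hind c hc) i
    have := hli.fintype_card_le_finrank
    rw [Fintype.card_fin, e'.finrank_eq] at this
    exact this
  rw [genus_eq h h0] at hg
  obtain ⟨a, x, -, hx, hx2, hxd⟩ := Pencil.deg_two_pencil hK (by omega) (by exact_mod_cast hMd) hl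
  set g := _root_.FunFld.genus k X.functionField with hgdef
  set D := poleDiv (k := k) x with hD
  have hD2 : D.deg = 2 := by rw [hD, deg_poleDiv hK hx, hx2]; rfl
  have hD0 : 0 ≤ D := Finsupp.le_def.2 fun P => by
    rw [hD, poleDiv_apply hK]
    exact le_max_right _ _
  obtain ⟨f, hf, hWD, hLeq⟩ := exists_eq_powers hK hg hW hx hD2
  have hall := Embedded.mem_of_closedImmersion W r hr τ (adjoin k ({x} : Set X.functionField))
    fun s t => by
      have hm : ∀ u : Γ(Omega.sheaf (X ↘ Spec (CommRingCat.of k)), ⊤),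
          f * W.coord ((Omega.sheaf (X ↘ Spec (CommRingCat.of k))).presheaf.germ ⊤ (genericPoint X) trivial u) ∈
            adjoin k ({x} : Set X.functionField) := fun u => hLeq _ ((L_mul_iff hK _ hf _).2 (by
          rw [← hWD]; exact coord_germ_mem h W hK u))
      rw [← mul_div_mul_left _ _ hf]
      exact div_mem (hm s) (hm t)
  have htop : adjoin k ({x} : Set X.functionField) = ⊤ := eq_top_iff.2 fun y _ => hall y
  rw [htop, IntermediateField.finrank_top] at hx2
  omega

end Groth.Agent.Lib.CurveFF.CanonicalEmb
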