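import Groth.Prelude.Def_W4c6gradedringsgwSect
import Groth.Agent.Lib.FunFld.Ext
import Groth.Agent.Lib.FunFld.Riemann
import Groth.Agent.Lib.FunFld.Rational
import Groth.Agent.Lib.FunFld.Weil
import Groth.Agent.Lib.FunFld.SmallGenus
import Groth.Agent.H81.FunFldSub
import Groth.Agent.H81.DoubleCover
import Groth.Agent.Lib.CurveFF.PencilUnique

/-!
A function field of genus at least two has at most one subfield of genus zero and index two.
-/

noncomputable section
set_option autoImplicit false
set_option linter.style.haveILetI false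
universe u v w

open IntermediateField
open Groth.Agent.Lib.FunFld Groth.Agent.Lib.FunFld.Degree

namespace Groth.Agent.Lib.CurveFF.GenusZeroSub

variable {k : Type u} [Field k]

/-- Membership in the Riemann–Roch space of a conorm. -/
theorem mem_L_conorm {K : Type v} {K' : Type w} [Field K] [Field K'] [Algebra k K] [Algebra k K']
    [Algebra K K'] [IsScalarTower k K K'] [FiniteDimensional K K']
    (hK : _root_.FunFld.IsFunctionField k K) (D : _root_.FunFld.Divisor k K) (z : K) :
    algebraMap K K' z ∈ _root_.FunFld.L (_root_.FunFld.conorm K' D) ↔ z ∈ _root_.FunFld.L D := by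
  rcases eq_or_ne z 0 with rfl | h0
  · simp
  have h0' : algebraMap K K' z ≠ 0 := (map_ne_zero _).2 h0
  rw [mem_L_iff_ord, mem_L_iff_ord, or_iff_right h0', or_iff_right h0]
  refine ⟨fun h P => ?_, fun h Q => ?_⟩
  · obtain ⟨Q, e, he⟩ := Ext.exists_over (K' := K') hK P
    have h1 := h Q
    rw [Ext.conorm_apply hK D he, Ext.ord_map he, ← mul_neg] at h1
    exact le_of_mul_le_mul_left h1 (by exact_mod_cast Ext.pos_of_isOverWith he)
  · obtain ⟨P, e, -, he⟩ := Ext.exists_place_below hK Q
    rw [Ext.conorm_apply hK D he, Ext.ord_map he, ← mul_neg]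
    exact mul_le_mul_of_nonneg_left (h P) (by positivity)

/-- Genus does not change along an extension of degree one. -/
theorem genus_eq_of_surjective {K : Type v} {K' : Type w} [Field K] [Field K'] [Algebra k K]
    [Algebra k K'] [Algebra K K'] [IsScalarTower k K K']
    (hK : _root_.FunFld.IsFunctionField k K) (hK' : _root_.FunFld.IsFunctionField k K')
    (hs : Function.Surjective (algebraMap K K')) :
    _root_.FunFld.genus k K = _root_.FunFld.genus k K' := by
  haveI : FiniteDimensional K K' :=
    Module.Finite.of_surjective (Algebra.linearMap K K') hs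
  have hfr : Module.finrank K K' = 1 := by
    rw [← Module.finrank_self K]
    exact (LinearEquiv.ofBijective (Algebra.linearMap K K')
      ⟨(algebraMap K K').injective, hs⟩).finrank_eq.symm
  obtain ⟨N, hN⟩ := Riemann.exists_bound_delta_eq hK
  obtain ⟨N', hN'⟩ := Riemann.exists_bound_delta_eq hK'
  obtain ⟨P⟩ := Riemann.nonempty_place hK
  have hP : (1 : ℤ) ≤ P.deg := by exact_mod_cast Existence.deg_pos hK P
  obtain ⟨n, hn1, hn0⟩ : ∃ n : ℤ, max N N' ≤ n ∧ 0 ≤ n := ⟨max (max N N') 0, le_max_left _ _, le_max_right _ _⟩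
  let D : _root_.FunFld.Divisor k K := Finsupp.single P n
  have hd : max N N' ≤ D.deg := by
    rw [Degree.deg_single]
    nlinarith
  have hc : (_root_.FunFld.conorm K' D).deg = D.deg := by
    rw [Ext.deg_conorm hK, hfr]; simp
  have hell : _root_.FunFld.ell (_root_.FunFld.conorm K' D) = _root_.FunFld.ell D := by
    have he : (_root_.FunFld.L D).map (IsScalarTower.toAlgHom k K K').toLinearMap =
        _root_.FunFld.L (_root_.FunFld.conorm K' D) := by
      ext z
      obtain ⟨w, rfl⟩ := hs z
      rw [mem_L_conorm hK]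
      exact ⟨fun ⟨w', hw', hww⟩ => (algebraMap K K').injective hww ▸ hw', fun hw => ⟨w, hw, rfl⟩⟩
    rw [_root_.FunFld.ell, _root_.FunFld.ell, ← he,
      ← (Submodule.equivMapOfInjective _ (algebraMap K K').injective _).finrank_eq]
  have e1 := hN D ((le_max_left _ _).trans hd)
  have e2 := hN' (_root_.FunFld.conorm K' D) (by rw [hc]; exact (le_max_right _ _).trans hd)
  simp only [Riemann.delta, hc, hell] at e1 e2
  omega

variable {K : Type v} [Field K] [Algebra k K]

/-- Coordinates with respect to `1, u`. -/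
theorem coord_unique {F : IntermediateField k K} {u : K} (hu : u ∉ F) {α β : K}
    (hα : α ∈ F) (hβ : β ∈ F) (h : α + β * u = 0) : α = 0 ∧ β = 0 := by
  rcases eq_or_ne β 0 with rfl | h0
  · simp only [zero_mul, add_zero] at h
    exact ⟨h, rfl⟩
  · exfalso
    refine hu ?_
    have : u = -α / β := by rw [eq_div_iff h0]; linear_combination h
    rw [this]
    exact div_mem (neg_mem hα) hβ

theorem deg_two_of_nonconst (hK : _root_.FunFld.IsFunctionField k K)
    (hconic : ∀ a : K, Transcendental k a → 2 ≤ Module.finrank (adjoin k ({a} : Set K)) K)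
    {a : K} (ha : a ∉ Set.range (algebraMap k K)) : (2 : ℤ) ≤ (poleDiv (k := k) a).deg := by
  have ht := Bound.transcendental_of_not_mem_range hK ha
  rw [deg_poleDiv hK ht]
  exact_mod_cast hconic a ht

theorem ell_eq_of_genus_zero (hK : _root_.FunFld.IsFunctionField k K)
    (hg : _root_.FunFld.genus k K = 0) {D : _root_.FunFld.Divisor k K} (hD : -1 ≤ D.deg) :
    (_root_.FunFld.ell D : ℤ) = D.deg + 1 := by
  obtain ⟨C, hC⟩ := Weil.exists_isCanonical hK
  have h1 := Weil.riemann_roch hK hC D
  have h2 := Weil.deg_canonical hK hC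
  rw [hg] at h1 h2
  have h3 : _root_.FunFld.ell (C - D) = 0 := Weil.ell_eq_zero_of_deg_neg hK (by
    rw [deg_sub, h2]; omega)
  rw [h3] at h1
  simpa using h1

variable {F G : IntermediateField k K}

/-- The first case: a function of degree one. -/
theorem le_of_degree_one (hK : _root_.FunFld.IsFunctionField k K)
    (hg : 2 ≤ _root_.FunFld.genus k K) [FiniteDimensional F K] [FiniteDimensional G K]
    (hF : _root_.FunFld.IsFunctionField k F) (hgF : _root_.FunFld.genus k F = 0)
    (hG : _root_.FunFld.IsFunctionField k G)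
    (hF2 : Module.finrank F K = 2) (hG2 : Module.finrank G K = 2)
    {y : G} (hy : Transcendental k y) (hy1 : Module.finrank (adjoin k ({y} : Set G)) G = 1) :
    G ≤ F := by
  have htop : adjoin k ({y} : Set G) = ⊤ := IntermediateField.finrank_eq_one_iff_eq_top.1 hy1
  have hGy : G = adjoin k ({(y : K)} : Set K) := by
    have h := congrArg (IntermediateField.map G.val) htop
    rw [adjoin_map, Set.image_singleton, ← AlgHom.fieldRange_eq_map, IntermediateField.fieldRange_val] at h
    exact h.symm
  by_cases hyF : (y : K) ∈ F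
  · rw [hGy]
    exact adjoin_simple_le_iff.2 hyF
  exfalso
  obtain ⟨N', hN'⟩ := Riemann.exists_bound_delta_eq hK
  obtain ⟨P⟩ := Riemann.nonempty_place hF
  have hP : (1 : ℤ) ≤ P.deg := by exact_mod_cast Existence.deg_pos hF P
  obtain ⟨n, hn1, hn0⟩ : ∃ n : ℤ, N' ≤ n ∧ 0 ≤ n := ⟨max N' 0, le_max_left _ _, le_max_right _ _⟩
  let D : _root_.FunFld.Divisor k F := Finsupp.single P n
  have hDd : n ≤ D.deg := by rw [Degree.deg_single]; nlinarith
  have hyt : Transcendental k (y : K) := Ext.transcendental_map hy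
  let T : _root_.FunFld.Divisor k K := _root_.FunFld.conorm K D + poleDiv (k := k) (y : K)
  have hyd : (poleDiv (k := k) (y : K)).deg = 2 := by
    rw [deg_poleDiv hK hyt, ← hGy, hG2]; rfl
  have hTd : T.deg = 2 * D.deg + 2 := by
    rw [deg_add, Ext.deg_conorm hF, hF2, hyd]; rfl
  have hy0 : 0 ≤ poleDiv (k := k) (y : K) := Finsupp.le_def.2 fun Q => by
    rw [poleDiv_apply hK]; exact le_max_right _ _
  have hmemy : (y : K) ∈ _root_.FunFld.L (poleDiv (k := k) (y : K)) := by
    rw [mem_L_iff_ord]
    refine Or.inr fun Q => ?_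
    rw [poleDiv_apply hK]
    have := le_max_left (-Q.ord (y : K)) (0 : ℤ)
    omega
  have hmem1 : (1 : K) ∈ _root_.FunFld.L (poleDiv (k := k) (y : K)) :=
    L_mono hy0 (by rw [L_zero hK, Submodule.one_eq_range]; exact ⟨1, map_one (algebraMap k K)⟩)
  let f : _root_.FunFld.L D × _root_.FunFld.L D →ₗ[k] _root_.FunFld.L T :=
    { toFun := fun p => ⟨((p.1 : F) : K) * 1 + ((p.2 : F) : K) * (y : K),
        add_mem (W4c6gradedringsgw.mul_mem_L ((mem_L_conorm hF D _).2 p.1.2) hmem1)
          (W4c6gradedringsgw.mul_mem_L ((mem_L_conorm hF D _).2 p.2.2) hmemy)⟩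
      map_add' := fun p q => Subtype.ext (by
        simp only [Prod.fst_add, Prod.snd_add, Submodule.coe_add, IntermediateField.coe_add]
        ring)
      map_smul' := fun c p => Subtype.ext (by
        simp only [Prod.smul_fst, Prod.smul_snd, Submodule.coe_smul, IntermediateField.coe_smul,
          RingHom.id_apply, smul_add, smul_mul_assoc]) }
  have hinj : Function.Injective f := by
    rw [injective_iff_map_eq_zero]
    rintro ⟨α, β⟩ h
    have h' : ((α : F) : K) * 1 + ((β : F) : K) * (y : K) = 0 := congrArg Subtype.val h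
    rw [mul_one] at h'
    obtain ⟨h1, h2⟩ := coord_unique hyF (α : F).2 (β : F).2 h'
    exact Prod.ext (Subtype.ext (Subtype.ext h1)) (Subtype.ext (Subtype.ext h2))
  haveI := finiteDimensional_L hF D
  haveI := finiteDimensional_L hK T
  have hle := LinearMap.finrank_le_finrank_of_injective hinj
  rw [Module.finrank_prod] at hle
  change _root_.FunFld.ell D + _root_.FunFld.ell D ≤ _root_.FunFld.ell T at hle
  have e1 := ell_eq_of_genus_zero hF hgF (D := D) (by omega)
  have e2 := hN' T (by omega)
  simp only [Riemann.delta, hTd] at e2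
  omega

/-- The second case: two conics. -/
theorem le_of_conic (hK : _root_.FunFld.IsFunctionField k K)
    (hg : 2 ≤ _root_.FunFld.genus k K) [FiniteDimensional F K] [FiniteDimensional G K]
    (hF : _root_.FunFld.IsFunctionField k F) (hgF : _root_.FunFld.genus k F = 0)
    (hG : _root_.FunFld.IsFunctionField k G) (hgG : _root_.FunFld.genus k G = 0)
    (hF2 : Module.finrank F K = 2) (hG2 : Module.finrank G K = 2)
    (hcF : ∀ a : F, Transcendental k a → 2 ≤ Module.finrank (adjoin k ({a} : Set F)) F)
    (hcG : ∀ a : G, Transcendental k a → 2 ≤ Module.finrank (adjoin k ({a} : Set G)) G) :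
    G ≤ F := by
  classical
  -- an effective divisor of degree two on `G`
  obtain ⟨C, hC⟩ := Weil.exists_isCanonical hG
  have hCd := Weil.deg_canonical hG hC
  rw [hgG] at hCd
  obtain ⟨E, z, hE, -, -, hEd⟩ := SmallGenus.exists_nonneg hG (E := -C) (by
    have := ell_eq_of_genus_zero hG hgG (D := -C) (by rw [deg_neg, hCd]; omega)
    rw [deg_neg, hCd] at this
    omega)
  rw [deg_neg, hCd] at hEd
  have hlE : _root_.FunFld.ell E = 3 := by
    have := ell_eq_of_genus_zero hG hgG (D := E) (by omega)
    omega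
  by_contra hGF
  -- generators `u, v` of `L(E)`
  haveI := finiteDimensional_L hG E
  obtain ⟨u, hu, huk⟩ : ∃ u : G, u ∈ _root_.FunFld.L E ∧ u ∉ Set.range (algebraMap k G) := by
    by_contra hc
    push Not at hc
    have hsub : _root_.FunFld.L E ≤ 1 := fun x hx => by
      rw [Submodule.one_eq_range]; exact hc x hx
    haveI := finiteDimensional_L_zero hG
    rw [← L_zero hG] at hsub
    have h3 : _root_.FunFld.ell E ≤ _root_.FunFld.ell (0 : _root_.FunFld.Divisor k G) :=
      Submodule.finrank_mono hsub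
    rw [hlE, ell_zero hG] at h3
    omega
  have hut := Bound.transcendental_of_not_mem_range hG huk
  haveI := Bound.finiteDimensional_adjoin_transcendental hG hut
  have hpu : poleDiv (k := k) u ≤ E := Finsupp.le_def.2 fun Q => by
    rw [poleDiv_apply hG]
    refine max_le ?_ (Finsupp.le_def.1 hE Q)
    rcases mem_L_iff_ord.1 hu with h | h
    · exact absurd ⟨0, by rw [h, map_zero]⟩ huk
    · linarith [h Q]
  have hu2 : Module.finrank (adjoin k ({u} : Set G)) G = 2 := by
    have h1 := hcG u hut
    have h2 := deg_mono hpu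
    rw [deg_poleDiv hG hut, hEd] at h2
    omega
  have hpuE : poleDiv (k := k) u = E :=
    Pencil.eq_of_le_of_deg_eq hG hpu (by rw [deg_poleDiv hG hut, hu2, hEd]; rfl)
  -- `v` outside `k(u)`
  obtain ⟨v, hv, hvu⟩ : ∃ v : G, v ∈ _root_.FunFld.L E ∧ v ∉ adjoin k ({u} : Set G) := by
    by_contra hc
    push Not at hc
    let M := adjoin k ({u} : Set G)
    obtain ⟨hfd, hM⟩ := H81.FunFldSub.finiteDimensional_over hG M
      ⟨u, mem_adjoin_simple_self k u, hut⟩
    let g : M := ⟨u, mem_adjoin_simple_self k u⟩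
    have hgtop : adjoin k ({g} : Set M) = ⊤ := by
      apply IntermediateField.map_injective M.val
      rw [adjoin_map, Set.image_singleton, ← AlgHom.fieldRange_eq_map, IntermediateField.fieldRange_val]
      rfl
    have hgt := Rational.transcendental_of_adjoin_eq_top hM hgtop
    have hgd : (poleDiv (k := k) g).deg = 1 := by
      rw [deg_poleDiv hM hgt, hgtop, IntermediateField.finrank_top]; rfl
    have hEc : E = _root_.FunFld.conorm G (poleDiv (k := k) g) := by
      ext Q
      obtain ⟨P, e, -, he⟩ := Ext.exists_place_below hM Q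
      have h := Ext.ord_map he g
      change Q.ord u = _ at h
      rw [Ext.conorm_apply hM _ he, ← hpuE, poleDiv_apply hG, poleDiv_apply hM, h,
        mul_max_of_nonneg _ _ (Int.natCast_nonneg e), mul_zero, mul_neg]
    haveI := finiteDimensional_L hM (poleDiv (k := k) g)
    have hle : _root_.FunFld.ell E ≤ _root_.FunFld.ell (poleDiv (k := k) g) := by
      have hsub : _root_.FunFld.L E ≤ (_root_.FunFld.L (poleDiv (k := k) g)).map M.val.toLinearMap :=
        fun x hx => ⟨⟨x, hc x hx⟩, (mem_L_conorm hM _ (⟨x, hc x hx⟩ : M)).1 (hEc ▸ hx), rfl⟩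
      exact (Submodule.finrank_mono hsub).trans (Submodule.finrank_map_le _ _)
    have := ell_eq_of_genus_zero hM (Rational.genus_eq_zero_of_adjoin_eq_top hM hgtop)
      (D := poleDiv (k := k) g) (by omega)
    omega
  -- `u` or `v` avoids `F`
  have hgen : adjoin k ({u, v} : Set G) = ⊤ := by
    have hle : adjoin k ({u} : Set G) ≤ adjoin k ({u, v} : Set G) :=
      adjoin.mono k _ _ (by simp)
    have hlt : adjoin k ({u} : Set G) ≠ adjoin k ({u, v} : Set G) := fun h =>
      hvu (h ▸ subset_adjoin k _ (by simp))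
    haveI : FiniteDimensional (adjoin k ({u, v} : Set G)) G :=
      (H81.FunFldSub.finiteDimensional_over hG _ ⟨u, subset_adjoin k _ (by simp), hut⟩).1
    refine IntermediateField.finrank_eq_one_iff_eq_top.1 ?_
    have hdvd := IntermediateField.finrank_dvd_of_le_left hle
    rw [hu2] at hdvd
    rcases (Nat.dvd_prime Nat.prime_two).1 hdvd with h | h
    · exact h
    · exact absurd (IntermediateField.eq_of_le_of_finrank_eq' hle (hu2.trans h.symm)) hlt
  obtain ⟨u₀, v₀, hu₀, hv₀, hvu₀, hu₀F⟩ : ∃ u₀ v₀ : G, u₀ ∈ _root_.FunFld.L E ∧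
      v₀ ∈ _root_.FunFld.L E ∧ (∀ c e : k, v₀ ≠ c • u₀ + algebraMap k G e) ∧ (u₀ : K) ∉ F := by
    by_cases h1 : (u : K) ∈ F
    · refine ⟨v, u, hv, hu, fun c e h => ?_, fun h2 => hGF fun x hx => ?_⟩
      · rcases eq_or_ne c 0 with rfl | hc
        · rw [zero_smul, zero_add] at h
          exact huk ⟨e, h.symm⟩
        · refine hvu ?_
          have : v = c⁻¹ • (u - algebraMap k G e) := by
            rw [h, add_sub_cancel_right, smul_smul, inv_mul_cancel₀ hc, one_smul]
          rw [this]
          exact (adjoin k ({u} : Set G)).smul_mem (sub_mem (mem_adjoin_simple_self k u)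
            ((adjoin k ({u} : Set G)).algebraMap_mem e))
      · have hx' : (⟨x, hx⟩ : G) ∈ adjoin k ({u, v} : Set G) := hgen ▸ trivial
        have hle : adjoin k ({u, v} : Set G) ≤ F.comap G.val := adjoin_le_iff.2 (by
          rintro w (rfl | rfl)
          · exact h1
          · exact h2)
        exact hle hx'
    · exact ⟨u, v, hu, hv, fun c e h => hvu (h ▸ add_mem
        ((adjoin k ({u} : Set G)).smul_mem (mem_adjoin_simple_self k u))
        ((adjoin k ({u} : Set G)).algebraMap_mem e)), h1⟩
  -- coordinates of `v₀`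
  obtain ⟨a, b, hab⟩ : ∃ a b : F, (v₀ : K) = (b : K) + (a : K) * (u₀ : K) := by
    obtain ⟨p, hp⟩ : ∃ c : F × F, (v₀ : K) = (c.1 : K) + (c.2 : K) * (u₀ : K) := by
      let φ : F × F →ₗ[F] K :=
        { toFun := fun c => (c.1 : K) + (c.2 : K) * (u₀ : K)
          map_add' := fun c d => by
            simp only [Prod.fst_add, Prod.snd_add, IntermediateField.coe_add]; ring
          map_smul' := fun r c => by
            simp only [Prod.smul_fst, Prod.smul_snd, smul_eq_mul, IntermediateField.coe_mul,
              RingHom.id_apply]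
            rw [Algebra.smul_def]
            show _ = (r : K) * _
            ring }
      have hinj : Function.Injective φ := by
        rw [injective_iff_map_eq_zero]
        rintro ⟨α, β⟩ h
        obtain ⟨h1, h2⟩ := coord_unique hu₀F α.2 β.2 h
        exact Prod.ext (Subtype.ext h1) (Subtype.ext h2)
      have hfr : Module.finrank F (F × F) = Module.finrank F K := by
        rw [Module.finrank_prod, Module.finrank_self, hF2]
      obtain ⟨c, hc⟩ := (LinearMap.injective_iff_surjective_of_finrank_eq_finrank hfr).1 hinj (v₀ : K)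
      exact ⟨c, hc.symm⟩
    exact ⟨p.2, p.1, hp⟩
  -- replace `v₀` to get a coordinate of degree at least two
  obtain ⟨a', b', w, hw, hw', hdeg⟩ : ∃ (a' b' : F) (w : G), w ∈ _root_.FunFld.L E ∧
      (w : K) = (b' : K) + (a' : K) * (u₀ : K) ∧
      ((a' ∉ Set.range (algebraMap k F)) ∨ (a' = 0 ∧ b' ∉ Set.range (algebraMap k F))) := by
    by_cases ha : a ∈ Set.range (algebraMap k F)
    · obtain ⟨c, rfl⟩ := ha
      refine ⟨0, b, v₀ - c • u₀, sub_mem hv₀ (Submodule.smul_mem _ c hu₀), ?_, Or.inr ⟨rfl, ?_⟩⟩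
      · show (v₀ : K) - c • (u₀ : K) = _
        rw [hab, Algebra.smul_def, IntermediateField.coe_zero, zero_mul, add_zero]
        exact add_sub_cancel_right _ _
      · rintro ⟨e, rfl⟩
        refine hvu₀ c e (Subtype.ext ?_)
        show (v₀ : K) = c • (u₀ : K) + algebraMap k K e
        rw [hab, Algebra.smul_def, add_comm]
        rfl
    · exact ⟨a, b, v₀, hv₀, hab, Or.inl ha⟩
  -- the count
  let c : F := if a' = 0 then b' else a'
  have hck : c ∉ Set.range (algebraMap k F) := by
    rcases hdeg with h | ⟨h0, h⟩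
    · have hne : a' ≠ 0 := fun h0 => h ⟨0, by rw [h0, map_zero]⟩
      simpa [c, hne] using h
    · simpa [c, h0] using h
  have hct := Bound.transcendental_of_not_mem_range hF hck
  have hc0 : c ≠ 0 := fun h => hck ⟨0, by rw [h, map_zero]⟩
  have hd : (2 : ℤ) ≤ (zeroDiv (k := k) c).deg := by
    rw [deg_zeroDiv hF hct]
    exact_mod_cast hcF c hct
  obtain ⟨N', hN'⟩ := Riemann.exists_bound_delta_eq hK
  obtain ⟨P⟩ := Riemann.nonempty_place hF
  have hP : (1 : ℤ) ≤ P.deg := by exact_mod_cast Existence.deg_pos hF P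
  obtain ⟨n, hn1, hn0, hn2⟩ : ∃ n : ℤ, N' ≤ n ∧ 0 ≤ n ∧ (zeroDiv (k := k) c).deg ≤ n :=
    ⟨max (max N' 0) (zeroDiv (k := k) c).deg, by omega, by omega, by omega⟩
  let D : _root_.FunFld.Divisor k F := Finsupp.single P n
  have hDd : n ≤ D.deg := by rw [Degree.deg_single]; nlinarith
  let T : _root_.FunFld.Divisor k K := _root_.FunFld.conorm K D + _root_.FunFld.conorm K E
  have hTd : T.deg = 2 * D.deg + 4 := by
    rw [deg_add, Ext.deg_conorm hF, hF2, Ext.deg_conorm hG, hG2, hEd]; rfl
  have h1E : (1 : G) ∈ _root_.FunFld.L E :=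
    L_mono hE (by rw [L_zero hG, Submodule.one_eq_range]; exact ⟨1, map_one (algebraMap k G)⟩)
  have hG' : ∀ x : G, x ∈ _root_.FunFld.L E → (x : K) ∈ _root_.FunFld.L (_root_.FunFld.conorm K E) :=
    fun x hx => (mem_L_conorm hG E x).2 hx
  let f : _root_.FunFld.L D × _root_.FunFld.L D × _root_.FunFld.L D →ₗ[k] _root_.FunFld.L T :=
    { toFun := fun p => ⟨((p.1 : F) : K) * 1 + ((p.2.1 : F) : K) * (u₀ : K) + ((p.2.2 : F) : K) * (w : K),
        add_mem (add_mem (W4c6gradedringsgw.mul_mem_L ((mem_L_conorm hF D _).2 p.1.2) (hG' 1 h1E))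
          (W4c6gradedringsgw.mul_mem_L ((mem_L_conorm hF D _).2 p.2.1.2) (hG' u₀ hu₀)))
          (W4c6gradedringsgw.mul_mem_L ((mem_L_conorm hF D _).2 p.2.2.2) (hG' w hw))⟩
      map_add' := fun p q => Subtype.ext (by
        simp only [Prod.fst_add, Prod.snd_add, Submodule.coe_add, IntermediateField.coe_add]
        ring)
      map_smul' := fun r p => Subtype.ext (by
        simp only [Prod.smul_fst, Prod.smul_snd, Submodule.coe_smul, IntermediateField.coe_smul,
          RingHom.id_apply, smul_add, smul_mul_assoc]) }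
  -- the kernel
  have hker : ∀ p ∈ LinearMap.ker f, (p.1 : F) + (p.2.2 : F) * b' = 0 ∧
      (p.2.1 : F) + (p.2.2 : F) * a' = 0 := by
    intro p hp
    have h' : ((p.1 : F) : K) * 1 + ((p.2.1 : F) : K) * (u₀ : K) + ((p.2.2 : F) : K) * (w : K) = 0 :=
      congrArg Subtype.val (LinearMap.mem_ker.1 hp)
    obtain ⟨h1, h2⟩ := coord_unique hu₀F
      ((p.1 : F) + (p.2.2 : F) * b').2 ((p.2.1 : F) + (p.2.2 : F) * a').2 (by
        rw [IntermediateField.coe_add, IntermediateField.coe_mul, IntermediateField.coe_add,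
          IntermediateField.coe_mul]
        linear_combination h' - ((p.2.2 : F) : K) * hw')
    exact ⟨Subtype.ext h1, Subtype.ext h2⟩
  let D₁ : _root_.FunFld.Divisor k F := D - zeroDiv (k := k) c
  have hcmem : ∀ r : F, r ∈ _root_.FunFld.L D → r * c ∈ _root_.FunFld.L D →
      r * c ∈ _root_.FunFld.L (D + _root_.FunFld.div k c⁻¹) ∧ r * c ∈ _root_.FunFld.L D := by
    intro r hr hrc
    refine ⟨?_, hrc⟩
    rcases eq_or_ne r 0 with rfl | hr0
    · simp
    rw [mem_L_iff_ord] at hr ⊢
    refine Or.inr fun Q => ?_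
    have := hr.resolve_left hr0 Q
    rw [Finsupp.add_apply, Degree.div_apply hF, FunFld.Place.ord_inv, FunFld.Place.ord_mul Q hr0 hc0]
    omega
  have hinter : ∀ r : F, r ∈ _root_.FunFld.L D → r * c ∈ _root_.FunFld.L D →
      r * c ∈ _root_.FunFld.L D₁ := by
    intro r hr hrc
    obtain ⟨h1, h2⟩ := hcmem r hr hrc
    rcases eq_or_ne r 0 with rfl | hr0
    · simp
    rw [mem_L_iff_ord] at h1 h2 ⊢
    refine Or.inr fun Q => ?_
    have e1 := h1.resolve_left (mul_ne_zero hr0 hc0) Q
    have e2 := h2.resolve_left (mul_ne_zero hr0 hc0) Q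
    rw [Finsupp.add_apply, Degree.div_apply hF, FunFld.Place.ord_inv] at e1
    show -(D - zeroDiv (k := k) c) Q ≤ _
    rw [Finsupp.sub_apply, zeroDiv_apply hF]
    rcases le_total (Q.ord c) 0 with h | h
    · rw [max_eq_right h]; omega
    · rw [max_eq_left h]; omega
  have hkmem : ∀ p : LinearMap.ker f, (p.1.2.2 : F) * c ∈ _root_.FunFld.L D := by
    intro p
    obtain ⟨e1, e2⟩ := hker p.1 p.2
    by_cases h0 : a' = 0
    · rw [show c = b' from if_pos h0, show (p.1.2.2 : F) * b' = -(p.1.1 : F) by linear_combination e1]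
      exact neg_mem p.1.1.2
    · rw [show c = a' from if_neg h0, show (p.1.2.2 : F) * a' = -(p.1.2.1 : F) by linear_combination e2]
      exact neg_mem p.1.2.1.2
  let κ : LinearMap.ker f →ₗ[k] _root_.FunFld.L D₁ :=
    { toFun := fun p => ⟨(p.1.2.2 : F) * c, hinter _ p.1.2.2.2 (hkmem p)⟩
      map_add' := fun p q => Subtype.ext (by
        simp only [Submodule.coe_add, Prod.snd_add, add_mul])
      map_smul' := fun r p => Subtype.ext (by
        simp only [Submodule.coe_smul, Prod.smul_snd, RingHom.id_apply, smul_mul_assoc]) }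
  have hκ : Function.Injective κ := by
    rw [injective_iff_map_eq_zero]
    intro p hp
    have h' : (p.1.2.2 : F) * c = 0 := congrArg Subtype.val hp
    have hr := (mul_eq_zero.1 h').resolve_right hc0
    obtain ⟨e1, e2⟩ := hker p.1 p.2
    rw [hr, zero_mul, add_zero] at e1 e2
    exact Subtype.ext (Prod.ext (Subtype.ext e1) (Prod.ext (Subtype.ext e2) (Subtype.ext hr)))
  haveI := finiteDimensional_L hF D
  haveI := finiteDimensional_L hF D₁
  haveI := finiteDimensional_L hK T
  have hκle := LinearMap.finrank_le_finrank_of_injective hκ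
  have hrn := LinearMap.finrank_range_add_finrank_ker f
  have hrle := Submodule.finrank_le (LinearMap.range f)
  rw [Module.finrank_prod, Module.finrank_prod] at hrn
  change _ = _root_.FunFld.ell D + (_root_.FunFld.ell D + _root_.FunFld.ell D) at hrn
  change _ ≤ _root_.FunFld.ell D₁ at hκle
  change _ ≤ _root_.FunFld.ell T at hrle
  have hD1d : D₁.deg = D.deg - (zeroDiv (k := k) c).deg := deg_sub _ _
  have e1 := ell_eq_of_genus_zero hF hgF (D := D) (by omega)
  have e1' := ell_eq_of_genus_zero hF hgF (D := D₁) (by omega)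
  have e2 := hN' T (by omega)
  simp only [Riemann.delta, hTd] at e2
  omega

/-- Uniqueness of the genus zero subfield of index two. -/
theorem eq_of_index_two (hK : _root_.FunFld.IsFunctionField k K)
    (hg : 2 ≤ _root_.FunFld.genus k K) [FiniteDimensional F K] [FiniteDimensional G K]
    (hF : _root_.FunFld.IsFunctionField k F) (hgF : _root_.FunFld.genus k F = 0)
    (hG : _root_.FunFld.IsFunctionField k G) (hgG : _root_.FunFld.genus k G = 0)
    (hF2 : Module.finrank F K = 2) (hG2 : Module.finrank G K = 2) : F = G := by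
  have sym : ∀ {F G : IntermediateField k K} [FiniteDimensional F K] [FiniteDimensional G K],
      Module.finrank F K = 2 → Module.finrank G K = 2 → G ≤ F → F = G :=
    fun hF2 hG2 h => (IntermediateField.eq_of_le_of_finrank_eq' h (hG2.trans hF2.symm)).symm
  by_cases hG1 : ∃ y : G, Transcendental k y ∧ Module.finrank (adjoin k ({y} : Set G)) G = 1
  · obtain ⟨y, hy, hy1⟩ := hG1
    exact sym hF2 hG2 (le_of_degree_one hK hg hF hgF hG hF2 hG2 hy hy1)
  by_cases hF1 : ∃ y : F, Transcendental k y ∧ Module.finrank (adjoin k ({y} : Set F)) F = 1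
  · obtain ⟨y, hy, hy1⟩ := hF1
    exact (sym hG2 hF2 (le_of_degree_one hK hg hG hgG hF hG2 hF2 hy hy1)).symm
  push Not at hG1 hF1
  refine sym hF2 hG2 (le_of_conic hK hg hF hgF hG hgG hF2 hG2 (fun a ha => ?_) fun a ha => ?_)
  · haveI := Bound.finiteDimensional_adjoin_transcendental hF ha
    have := hF1 a ha
    have : 0 < Module.finrank (adjoin k ({a} : Set F)) F := Module.finrank_pos
    omega
  · haveI := Bound.finiteDimensional_adjoin_transcendental hG ha
    have := hG1 a ha
    have : 0 < Module.finrank (adjoin k ({a} : Set G)) G := Module.finrank_pos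
    omega

end Groth.Agent.Lib.CurveFF.GenusZeroSub
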