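import Groth.Agent.Lib.CurveFF.MapOfField
import Groth.Agent.Lib.CurveFF.GenusZeroSub
import Groth.Agent.Lib.CurveFF.AutoMap
import Groth.Agent.Lib.CurveFF.Genus

/-!
The subfield attached to a finite cover of curves.
-/

noncomputable section
set_option autoImplicit false
set_option linter.style.haveILetI false
universe u

open CategoryTheory AlgebraicGeometry IntermediateField

namespace Groth.Agent.Lib.CurveFF.CoverField

attribute [local instance] Curv2.stalkAlgebra

variable {k : Type u} [Field k] {C P : Scheme.{u}} [C.Over (Spec (CommRingCat.of k))]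
  [P.Over (Spec (CommRingCat.of k))] [IsIntegral C] [IsIntegral P]

/-- The field map of a dominant morphism. -/
def field (f : C ⟶ P) (hf : f ≫ (P ↘ Spec (CommRingCat.of k)) = C ↘ Spec (CommRingCat.of k))
    (e : f (genericPoint C) = genericPoint P) : P.functionField →ₐ[k] C.functionField :=
  { FieldExt.kMap f e with commutes' := AutoMap.kMap_const f hf e }

theorem generic_eq (hC : topologicalKrullDim C = 1) (hP : topologicalKrullDim P = 1) (f : C ⟶ P)
    [IsFinite f] : f (genericPoint C) = genericPoint P := by
  by_contra hne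
  have h' := Dominant.dim_le_zero_of_closed f
    ((SmoothCurve.Curve.eq_genericPoint_or_isClosed hP _).resolve_left hne)
  rw [hC] at h'
  exact absurd h' (by decide)

variable [IsProper (C ↘ Spec (CommRingCat.of k))] [IsProper (P ↘ Spec (CommRingCat.of k))]

/-- Degree and genus of the subfield of a finite flat cover. -/
theorem facts (hC : _root_.FunFld.IsFunctionField k C.functionField) (hP : CurveHyp P)
    (h0 : Module.finrank k (Coh.HH P (Coh.structureModule P) 0) = 1)
    (f : C ⟶ P) [IsFinite f] [Flat f]
    (hf : f ≫ (P ↘ Spec (CommRingCat.of k)) = C ↘ Spec (CommRingCat.of k)) {n : ℕ}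
    (hr : ∀ y, f.finrank y = n) (e : f (genericPoint C) = genericPoint P) :
    FiniteDimensional (field f hf e).fieldRange C.functionField ∧
      _root_.FunFld.IsFunctionField k (field f hf e).fieldRange ∧
      _root_.FunFld.genus k (field f hf e).fieldRange = Curv2.genus k P ∧
      Module.finrank (field f hf e).fieldRange C.functionField = n := by
  have hKP := isFunctionField (k := k) hP h0
  let θ := field f hf e
  let ε : P.functionField ≃ₐ[k] θ.fieldRange := AlgEquiv.ofInjectiveField θ
  have ht : ∃ x ∈ θ.fieldRange, Transcendental k x := by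
    obtain ⟨t, ht⟩ := FunFld.Riemann.exists_transcendental hKP
    exact ⟨θ t, ⟨t, rfl⟩, fun halg => ht ((isAlgebraic_algHom_iff θ θ.injective).1 halg)⟩
  obtain ⟨hfd, hF⟩ := H81.FunFldSub.finiteDimensional_over hC θ.fieldRange ht
  refine ⟨hfd, hF, ?_, ?_⟩
  · letI : Algebra P.functionField θ.fieldRange := ε.toAlgHom.toRingHom.toAlgebra
    haveI : IsScalarTower k P.functionField θ.fieldRange :=
      IsScalarTower.of_algebraMap_eq fun c => (ε.commutes c).symm
    rw [← GenusZeroSub.genus_eq_of_surjective hKP hF ε.surjective, ← genus_eq hP h0]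
  · have h2 := (FieldExt.finrank_eq f e).1
    rw [← MapOfField.finrank_eq f e (genericPoint P), hr] at h2
    refine Eq.trans ?_ h2
    letI := (FieldExt.kMap f e).toAlgebra
    exact (Algebra.finrank_eq_of_equiv_equiv ε.toRingEquiv (RingEquiv.refl C.functionField)
      (RingHom.ext fun _ => rfl)).symm

/-- Two covers with the same subfield agree up to an isomorphism. -/
theorem exists_iso {Q : Scheme.{u}} [Q.Over (Spec (CommRingCat.of k))] [IsIntegral Q]
    [IsProper (Q ↘ Spec (CommRingCat.of k))] (hP : CurveHyp P) (hQ : CurveHyp Q)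
    (f : C ⟶ P) (hf : f ≫ (P ↘ Spec (CommRingCat.of k)) = C ↘ Spec (CommRingCat.of k))
    (e : f (genericPoint C) = genericPoint P)
    (g : C ⟶ Q) (hg : g ≫ (Q ↘ Spec (CommRingCat.of k)) = C ↘ Spec (CommRingCat.of k))
    (e' : g (genericPoint C) = genericPoint Q)
    (heq : (field f hf e).fieldRange = (field g hg e').fieldRange) :
    ∃ i : P ≅ Q, i.hom ≫ (Q ↘ Spec (CommRingCat.of k)) = P ↘ Spec (CommRingCat.of k) ∧
      f ≫ i.hom = g := by
  haveI : Q.IsSeparated :=
    ⟨by rw [← Limits.terminal.comp_from (Q ↘ Spec (CommRingCat.of k))]; infer_instance⟩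
  let θ : Q.functionField ≃ₐ[k] P.functionField :=
    ((AlgEquiv.ofInjectiveField (field g hg e')).trans (IntermediateField.equivOfEq heq.symm)).trans
      (AlgEquiv.ofInjectiveField (field f hf e)).symm
  have hθ : ∀ z, FieldExt.kMap f e (θ z) = FieldExt.kMap g e' z := fun z =>
    congrArg Subtype.val ((AlgEquiv.ofInjectiveField (field f hf e)).apply_symm_apply
      (IntermediateField.equivOfEq heq.symm (AlgEquiv.ofInjectiveField (field g hg e') z)))
  obtain ⟨i, hi, ei, he⟩ := MapOfField.exists_iso hP hQ θ
  refine ⟨i, hi, ?_⟩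
  have e12 : (f ≫ i.hom) (genericPoint C) = genericPoint Q := by
    rw [Scheme.Hom.comp_apply, e, ei]
  refine AutoMap.ext_of_kMap e12 e' fun z => ?_
  rw [AutoMap.kMap_comp f i.hom e ei e12, he]
  exact hθ z

end Groth.Agent.Lib.CurveFF.CoverField
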