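import Groth.Agent.Lib.CurveFF.TwistDiv
import Groth.Agent.Lib.CurveFF.CoverField
import Groth.Agent.Lib.CurveFF.CanonicalEmb
import Groth.Agent.Lib.FunFld.MapDiv
import Groth.Agent.Lib.FunFld.LinSys.VeryAmple
import Groth.Agent.Lib.Curves.GenusZero

/-!
The coordinates of a non-degenerate map to projective space that factors through a cover.
-/

noncomputable section
set_option autoImplicit false
set_option linter.style.haveILetI false
universe u

open CategoryTheory CategoryTheory.Limits AlgebraicGeometry TopologicalSpace Opposite WithZero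
open Groth.Agent.Lib.TensorMod Groth.Agent.Lib.TensorMod.Gen
open Groth.Agent.Lib.ProjSpace Groth.Agent.Lib.Ample.GenLocus Groth.Agent.Lib.ProjMor.Sec
open Groth.Agent.Lib.TensorMod.Dual Groth.Agent.Lib.TensorMod.Basic
open Groth.Agent.Lib.FunFld.Degree

namespace Groth.Agent.Lib.CurveFF.NondegMap

attribute [local instance] Curv2.stalkAlgebra

variable {k : Type u} [Field k] [IsAlgClosed k] {n : ℕ} {X Γ' : Scheme.{u}}
  [X.Over (Spec (CommRingCat.of k))] [Γ'.Over (Spec (CommRingCat.of k))] [IsIntegral X] [IsIntegral Γ']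

local notation "𝒜" => CohB1.polyGrading n k

/-- The coordinates of a non-degenerate map relative to a chosen representative: independent
functions coming from below, with poles
bounded by the divisor of `O(1)`. -/
theorem exists_coords_of_rep [IsProper (X ↘ Spec (CommRingCat.of k))] (h : CurveHyp X)
    (hK : _root_.FunFld.IsFunctionField k X.functionField)
    (π : X ⟶ Γ') (e : π (genericPoint X) = genericPoint Γ')
    (hπ : π ≫ (Γ' ↘ Spec (CommRingCat.of k)) = X ↘ Spec (CommRingCat.of k))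
    (q : Γ' ⟶ CohB1.ProjSpace n k) (hq : q ≫ CohB1.ProjSpace.toSpec n k = Γ' ↘ Spec (CommRingCat.of k))
    (hnd : ∀ s : LinSer.Sect (CohB1.ProjSpace n k) (Twist.twistProjSpace n k 1), s ≠ 0 →
      OmegaSh.pullSect (π ≫ q) (Twist.twistProjSpace n k 1) ⊤ s ≠ 0)
    (R : LineDiv.Rep ((Scheme.Modules.pullback (π ≫ q)).obj (Twist.twistProjSpace n k 1))) :
    ∃ (z : Fin (n + 1) → (CoverField.field π hπ e).fieldRange)
      (D : _root_.FunFld.Divisor k X.functionField),
      LinearIndependent k z ∧ (∃ l, z l = 1) ∧ (∀ i, (z i : X.functionField) ∈ _root_.FunFld.L D) ∧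
      D.deg = Curv2.deg k X ((Scheme.Modules.pullback (π ≫ q)).obj (Twist.twistProjSpace n k 1)) 1 ∧
      ∃ c : X.functionField, c ≠ 0 ∧ D = R.div (k := k) h hK + _root_.FunFld.div k c := by
  classical
  let ψ := π ≫ q
  have hψk : ψ ≫ CohB1.ProjSpace.toSpec n k = X ↘ Spec (CommRingCat.of k) := by
    show (π ≫ q) ≫ CohB1.ProjSpace.toSpec n k = _
    rw [Category.assoc, hq, hπ]
  let el : Fin (n + 1) → 𝒜 1 := fun i => ⟨MvPolynomial.X i, MvPolynomial.isHomogeneous_X k i⟩
  let L := (Scheme.Modules.pullback ψ).obj (Twist.twistProjSpace n k 1)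
  have hinv : PicF.IsInvertible (Twist.twist 𝒜 1) :=
    ProjTilde.Invertible.twist_isInvertible_of_cover (fun y => by
      obtain ⟨c, hc⟩ := ProjMor.Main.cover (ProjMor.Poly.lin_mem n k) (ProjMor.Poly.adjoin_lin n k) y
      exact ⟨c, c.2, hc⟩) 1
  have hL : PicF.IsInvertible L := PicLoc.isInvertible_pullback ψ hinv
  obtain ⟨l, hl⟩ : ∃ l, ψ (genericPoint X) ∈ Proj.basicOpen 𝒜 (MvPolynomial.X l) :=
    Opens.mem_iSup.mp ((Basic.iSup_basicOpen_X_eq_top n k).ge trivial)
  let V : (CohB1.ProjSpace n k).Opens := Proj.basicOpen 𝒜 (MvPolynomial.X l)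
  let U : X.Opens := ψ ⁻¹ᵁ V
  have hη : genericPoint X ∈ U := hl
  let sec : 𝒜 1 → Γ(L, ⊤) := fun b =>
    ProjUP.pullSec ψ (Twist.twistProjSpace n k 1) (ProjMor.Frame.g 𝒜 b)
  let gs : Γ(L, ⊤) → X.functionField := fun t =>
    R.coord (L.presheaf.germ ⊤ (genericPoint X) trivial t)
  let φ : MvPolynomial (Fin (n + 1)) k →+* X.functionField :=
    ((X.presheaf.germ U (genericPoint X) hη).hom.comp (ψ.app V).hom).comp
      ((Proj.awayToSection 𝒜 (MvPolynomial.X l)).hom.comp ((Charts.fromPoly k l).comp (Charts.dehom k l)))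
  -- constants
  have hφC : ∀ c, φ (MvPolynomial.C c) = algebraMap k X.functionField c := by
    intro c
    have h1 := congrArg (fun t => t c)
      (congrArg CommRingCat.Hom.hom (Embedded.constants_chart (k := k) (n := n) l))
    have h1' : Proj.awayToSection 𝒜 (MvPolynomial.X l) (Charts.constHom k l c) =
        (CohB1.ProjSpace.toSpec n k).appLE ⊤ V le_top ((Scheme.ΓSpecIso (CommRingCat.of k)).inv c) := h1
    show X.presheaf.germ U (genericPoint X) hη (ψ.app V (Proj.awayToSection 𝒜 (MvPolynomial.X l)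
      (Charts.fromPoly k l (Charts.dehom k l (MvPolynomial.C c))))) = _
    rw [show Charts.dehom k l (MvPolynomial.C c) = MvPolynomial.C c by simp [Charts.dehom],
      Charts.fromPoly_C]
    refine (congrArg (fun z => X.presheaf.germ U (genericPoint X) hη (ψ.app V z)) h1').trans ?_
    have h2 : ψ.app V ((CohB1.ProjSpace.toSpec n k).appLE ⊤ V le_top
        ((Scheme.ΓSpecIso (CommRingCat.of k)).inv c)) =
        X.presheaf.map (homOfLE (le_top : U ≤ ⊤)).op (Coh.toGlobal (X ↘ Spec (CommRingCat.of k)) c) := by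
      have key : ∀ (p : X ⟶ Spec (CommRingCat.of k)), ψ ≫ CohB1.ProjSpace.toSpec n k = p →
          (ψ ≫ CohB1.ProjSpace.toSpec n k).appLE ⊤ U le_top = p.appLE ⊤ U le_top := by
        rintro p rfl; rfl
      have h3 := key _ hψk
      rw [← Scheme.Hom.appLE_comp_appLE ψ (CohB1.ProjSpace.toSpec n k) ⊤ V U le_top le_rfl,
        Scheme.Hom.appLE_eq_app ψ] at h3
      exact congrArg (fun t => t.hom ((Scheme.ΓSpecIso (CommRingCat.of k)).inv c)) h3
    exact (congrArg _ h2).trans (TopCat.Presheaf.germ_res_apply X.presheaf _ _ hη _)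
  -- the ratio
  have hrel : ∀ b : 𝒜 1, gs (sec b) = φ (b : MvPolynomial (Fin (n + 1)) k) * gs (sec (el l)) := by
    intro b
    have hfr : ProjMor.Frame.fr 𝒜 (el l) b = Proj.awayToSection 𝒜 (MvPolynomial.X l)
        (Charts.fromPoly k l (Charts.dehom k l (b : MvPolynomial (Fin (n + 1)) k))) := by
      refine congrArg (Proj.awayToSection 𝒜 (MvPolynomial.X l)) ?_
      refine HomogeneousLocalization.val_injective _ ?_
      erw [HomogeneousLocalization.Away.val_mk]
      rw [Localization.mk_eq_mk', eq_comm, IsLocalization.eq_mk'_iff_mul_eq, mul_comm]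
      simpa using Charts.fromPoly_dehom_of_isHomogeneous l (m := 1)
        (show (b : MvPolynomial (Fin (n + 1)) k).IsHomogeneous 1 from b.2)
    have h1 := ProjMor.Embed.ratio_of_iso (a := el l) (b := b) (va := sec (el l)) (vb := sec b)
      (Iso.refl L) rfl rfl (U := U) le_rfl
    have h2 := congrArg (fun v => R.coord (L.presheaf.germ U (genericPoint X) hη v)) h1
    refine Eq.trans ?_ (h2.trans ?_)
    · exact congrArg R.coord (TopCat.Presheaf.germ_res_apply L.presheaf _ _ hη (sec b)).symm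
    · rw [Modules.StalkModule.germ_smul, map_smul, smul_eq_mul]
      refine congrArg₂ (fun a b : X.functionField => a * b) ?_
        (congrArg R.coord (TopCat.Presheaf.germ_res_apply L.presheaf _ _ hη (sec (el l))))
      refine (congrArg (fun t => X.presheaf.germ U (genericPoint X) hη
        (t (ProjMor.Frame.fr 𝒜 (el l) b))) (Scheme.Hom.appLE_eq_app ψ)).trans ?_
      rw [hfr]
      rfl
  -- the values come from below
  have hmem : ∀ p, φ p ∈ (CoverField.field π hπ e).fieldRange := by
    intro p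
    have hηΓ : genericPoint Γ' ∈ q ⁻¹ᵁ V := by
      have h' : q (π (genericPoint X)) ∈ V := hl
      rw [e] at h'
      exact h'
    exact ⟨Γ'.presheaf.germ (q ⁻¹ᵁ V) (genericPoint Γ') hηΓ (q.app V (Proj.awayToSection 𝒜
      (MvPolynomial.X l) (Charts.fromPoly k l (Charts.dehom k l p)))),
      FieldExt.kMap_germ π e (q ⁻¹ᵁ V) hηΓ hη _⟩
  -- non-vanishing
  have hgen : IsGen L U (rs L le_top (sec (el l))) := by
    have hle : U ≤ locus (sec (el l)) := by
      rw [show U = ψ ⁻¹ᵁ Proj.basicOpen 𝒜 (el l : MvPolynomial (Fin (n + 1)) k) from rfl,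
        ← ProjMor.Frame.locus_g (ProjMor.Main.cover (ProjMor.Poly.lin_mem n k) (ProjMor.Poly.adjoin_lin n k)) (el l)]
      exact (locus_pullback hinv ψ _).ge
    have h' := (isGen_locus (sec (el l))).res hle
    rwa [rs_rs] at h'
  have hgl : gs (sec (el l)) ≠ 0 := fun h0 => by
    have hg0 : L.presheaf.germ U (genericPoint X) hη (rs L (le_top : U ≤ ⊤) (sec (el l))) =
        L.presheaf.germ U (genericPoint X) hη 0 := by
      rw [map_zero]
      exact R.coord.injective (((congrArg R.coord (TopCat.Presheaf.germ_res_apply L.presheaf _ _ hη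
        (sec (el l)))).trans h0).trans (map_zero R.coord).symm)
    obtain ⟨W, hW, i₁, i₂, hW0⟩ := TopCat.Presheaf.germ_eq L.presheaf _ hη hη _ _ hg0
    rw [map_zero] at hW0
    haveI : Nonempty W := ⟨⟨_, hW⟩⟩
    refine one_ne_zero (α := Γ(X, W)) ((hgen W i₁.le).1 ?_)
    simp only [one_smul, zero_smul]
    exact hW0
  -- injectivity
  have hinj : ∀ b : 𝒜 1, φ (b : MvPolynomial (Fin (n + 1)) k) = 0 → b = 0 := by
    intro b hb
    by_contra hb0
    have hne : ProjMor.Frame.g 𝒜 b ≠ 0 := fun h0 => hb0 (by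
      obtain ⟨x⟩ : Nonempty (CohB1.ProjSpace n k) := ⟨ψ (genericPoint X)⟩
      haveI := x.isPrime
      have h0' : Twist.globalOf 𝒜 b = 0 := h0
      have h1 := congrArg (fun s => (s.1 ⟨x, trivial⟩).1) h0'
      change Localization.mk (b : MvPolynomial (Fin (n + 1)) k) _ =
        (0 : Localization x.asHomogeneousIdeal.toIdeal.primeCompl) at h1
      rw [Localization.mk_eq_mk', IsLocalization.mk'_eq_zero_iff] at h1
      obtain ⟨m, hm⟩ := h1
      rcases mul_eq_zero.1 hm with h2 | h2
      · exact absurd (by rw [h2]; exact zero_mem _) m.2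
      · exact Subtype.ext h2)
    refine hnd _ hne ?_
    show sec b = 0
    have hz : gs (sec b) = 0 := by rw [hrel, hb, zero_mul]
    refine TensorMod.Integral.rs_injective hL (le_top : U ≤ ⊤) ⟨⟨genericPoint X, hη⟩⟩ ?_
    have hg0 : L.presheaf.germ U (genericPoint X) hη (rs L (le_top : U ≤ ⊤) (sec b)) =
        L.presheaf.germ U (genericPoint X) hη 0 := by
      rw [map_zero]
      exact R.coord.injective (((congrArg R.coord (TopCat.Presheaf.germ_res_apply L.presheaf _ _ hη
        (sec b))).trans hz).trans (map_zero R.coord).symm)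
    obtain ⟨W, hW, i₁, i₂, hW0⟩ := TopCat.Presheaf.germ_eq L.presheaf _ hη hη _ _ hg0
    refine TensorMod.Integral.rs_injective hL i₁.le ⟨⟨_, hW⟩⟩ ?_
    rw [map_zero] at hW0
    exact hW0
  let z : Fin (n + 1) → (CoverField.field π hπ e).fieldRange := fun i =>
    ⟨φ (MvPolynomial.X i), hmem _⟩
  have hzl : z l = 1 := Subtype.ext (by
    show φ (MvPolynomial.X l) = 1
    exact (mul_right_cancel₀ hgl ((one_mul _).trans (hrel (el l)))).symm)
  refine ⟨z, R.div (k := k) h hK + _root_.FunFld.div k (gs (sec (el l))), ?_, ⟨l, hzl⟩, fun i => ?_, ?_,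
    gs (sec (el l)), hgl, rfl⟩
  · refine Fintype.linearIndependent_iff.2 fun c hc i => ?_
    let b : 𝒜 1 := ⟨∑ j, MvPolynomial.C (c j) * MvPolynomial.X j,
      MvPolynomial.IsHomogeneous.sum _ _ _ fun j _ => MvPolynomial.isHomogeneous_C_mul_X (c j) j⟩
    have hb : φ (b : MvPolynomial (Fin (n + 1)) k) = 0 := by
      show φ (∑ j, MvPolynomial.C (c j) * MvPolynomial.X j) = 0
      have h1 := congrArg Subtype.val hc
      rw [AddSubmonoidClass.coe_finsetSum, ZeroMemClass.coe_zero] at h1
      rw [map_sum, ← h1]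
      refine Finset.sum_congr rfl fun j _ => ?_
      rw [map_mul, hφC, IntermediateField.coe_smul, Algebra.smul_def]
    have h2 := congrArg (fun t : 𝒜 1 => MvPolynomial.coeff (Finsupp.single i 1)
      (t : MvPolynomial (Fin (n + 1)) k)) (hinj b hb)
    simpa [b, MvPolynomial.coeff_sum, MvPolynomial.coeff_C_mul, MvPolynomial.coeff_X', Finset.sum_ite_eq',
      Finsupp.single_eq_single_iff] using h2
  · refine fun P => ?_
    show P.1 (φ (MvPolynomial.X i)) ≤ _
    have h1 : gs (sec (el i)) ∈ _root_.FunFld.L (R.div (k := k) h hK) :=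
      CanonicalEmb.coord_germ_mem h R hK (sec (el i))
    have h2 := h1 P
    rw [show gs (sec (el i)) = φ (MvPolynomial.X i) * gs (sec (el l)) from hrel (el i), map_mul,
      FunFld.Place.val_eq_exp P hgl] at h2
    rw [Finsupp.add_apply, div_apply hK, exp_add]
    have h3 := mul_le_mul' h2 (le_refl (exp (P.ord (gs (sec (el l))))))
    rwa [mul_assoc, ← exp_add, neg_add_cancel, exp_zero, mul_one] at h3
  · rw [FunFld.Degree.deg_add, FunFld.Degree.deg_div hK, add_zero, R.deg_eq h hK]

/-- The coordinates of a non-degenerate map are independent functions coming from below, with poles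
bounded by the divisor of `O(1)`. -/
theorem exists_coords [IsProper (X ↘ Spec (CommRingCat.of k))] (h : CurveHyp X)
    (hK : _root_.FunFld.IsFunctionField k X.functionField)
    (π : X ⟶ Γ') (e : π (genericPoint X) = genericPoint Γ')
    (hπ : π ≫ (Γ' ↘ Spec (CommRingCat.of k)) = X ↘ Spec (CommRingCat.of k))
    (q : Γ' ⟶ CohB1.ProjSpace n k) (hq : q ≫ CohB1.ProjSpace.toSpec n k = Γ' ↘ Spec (CommRingCat.of k))
    (hnd : ∀ s : LinSer.Sect (CohB1.ProjSpace n k) (Twist.twistProjSpace n k 1), s ≠ 0 →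
      OmegaSh.pullSect (π ≫ q) (Twist.twistProjSpace n k 1) ⊤ s ≠ 0) :
    ∃ (z : Fin (n + 1) → (CoverField.field π hπ e).fieldRange)
      (D : _root_.FunFld.Divisor k X.functionField),
      LinearIndependent k z ∧ (∃ l, z l = 1) ∧ (∀ i, (z i : X.functionField) ∈ _root_.FunFld.L D) ∧
      D.deg = Curv2.deg k X ((Scheme.Modules.pullback (π ≫ q)).obj (Twist.twistProjSpace n k 1)) 1 := by
  have hinv : PicF.IsInvertible (Twist.twist 𝒜 1) :=
    ProjTilde.Invertible.twist_isInvertible_of_cover (fun y => by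
      obtain ⟨c, hc⟩ := ProjMor.Main.cover (ProjMor.Poly.lin_mem n k) (ProjMor.Poly.adjoin_lin n k) y
      exact ⟨c, c.2, hc⟩) 1
  obtain ⟨R⟩ := LineDiv.nonempty_rep (PicLoc.isInvertible_pullback (π ≫ q) hinv)
  obtain ⟨z, D, h1, h2, h3, h4, -⟩ := exists_coords_of_rep h hK π e hπ q hq hnd R
  exact ⟨z, D, h1, h2, h3, h4⟩

end Groth.Agent.Lib.CurveFF.NondegMap
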