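import Groth.Agent.Lib.CurveFF.BirationalGen
import Groth.Agent.Lib.CurveFF.CastelnuovoR
import Groth.Agent.Lib.CurveFF.NondegMap
import Groth.Agent.Lib.CurveFF.CliffordField
import Groth.Agent.Lib.CurveFF.Genus
import Groth.Agent.Lib.CurveFF.Hyp
import Groth.Agent.Lib.CurveFF.LineTensor
import Groth.Agent.Lib.Modules.Stalk

/-!
Castelnuovo's bound for curves birational onto their image in projective space.
-/

noncomputable section
set_option autoImplicit false
set_option linter.style.haveILetI false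
universe u

open CategoryTheory CategoryTheory.Limits AlgebraicGeometry TopologicalSpace Opposite
open Groth.Agent.Lib.TensorMod Groth.Agent.Lib.TensorMod.Gen

namespace Groth.Agent.Lib.CurveFF.BirationalBound

section Field

variable {k : Type u} [Field k] [IsAlgClosed k] {K : Type u} [Field K] [Algebra k K]

local notation "Dv" => _root_.FunFld.Divisor k K
local notation "Pl" => _root_.FunFld.Place k K

open FunFld.Degree in
theorem exists_bpf_le (hK : _root_.FunFld.IsFunctionField k K) {D : Dv} (hD : 0 ≤ D) :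
    ∃ D' : Dv, 0 ≤ D' ∧ D' ≤ D ∧ _root_.FunFld.L D ≤ _root_.FunFld.L D' ∧
      ∀ P : Pl, D' P ≠ 0 → ¬ _root_.FunFld.L D' ≤ _root_.FunFld.L (D' - Finsupp.single P 1) := by
  classical
  have hex : ∃ m : ℕ, ∃ D' : Dv, D'.deg = m ∧ 0 ≤ D' ∧ D' ≤ D ∧
      _root_.FunFld.L D ≤ _root_.FunFld.L D' :=
    ⟨D.deg.toNat, D, by have := deg_nonneg hD; omega, hD, le_rfl, le_rfl⟩
  obtain ⟨D', hm, h0, hle, hL⟩ := Nat.find_spec hex
  refine ⟨D', h0, hle, hL, fun P hP hsub => ?_⟩
  have h1 : 0 ≤ D' - Finsupp.single P (1 : ℤ) := fun Q => by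
    rw [Finsupp.sub_apply, Finsupp.coe_zero, Pi.zero_apply]
    have h2 := h0 Q
    rw [Finsupp.coe_zero, Pi.zero_apply] at h2
    rcases eq_or_ne Q P with rfl | hne
    · rw [Finsupp.single_eq_same]; omega
    · rw [Finsupp.single_eq_of_ne hne]; omega
  have h3 := deg_nonneg h1
  have h4 : _root_.FunFld.Divisor.deg (D' - Finsupp.single P (1 : ℤ)) = D'.deg - 1 := by
    rw [deg_sub, deg_single, FunFld.Rational.deg_eq_one hK P]; rfl
  have h5 : D' - Finsupp.single P (1 : ℤ) ≤ D := fun Q => by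
    have := hle Q
    rw [Finsupp.sub_apply]
    rcases eq_or_ne Q P with rfl | hne
    · rw [Finsupp.single_eq_same]; omega
    · rw [Finsupp.single_eq_of_ne hne]; omega
  exact Nat.find_min hex (m := (D'.deg - 1).toNat) (by omega)
    ⟨_, by omega, h1, h5, hL.trans hsub⟩

open FunFld.Degree in
/-- The first two multiples and the genus bound. -/
theorem bounds (hK : _root_.FunFld.IsFunctionField k K) {D : Dv} (hD : 0 ≤ D)
    (hgen : IntermediateField.adjoin k (_root_.FunFld.L D : Set K) = ⊤) (r : ℕ)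
    (hr : r + 1 ≤ _root_.FunFld.ell D) :
    ∃ D' : Dv, 0 ≤ D' ∧ D' ≤ D ∧ r + 1 ≤ _root_.FunFld.ell D' ∧ (r : ℤ) ≤ D'.deg ∧
      (1 + r + min D'.deg (2 * (r : ℤ) - 1) ≤ _root_.FunFld.ell ((2 : ℤ) • D')) ∧
      (D'.deg ≤ 3 * (r : ℤ) - 2 →
        (_root_.FunFld.genus k K : ℤ) ≤ 2 * D'.deg - r - min D'.deg (2 * (r : ℤ) - 1)) := by
  classical
  obtain ⟨D', hD', hle, hL, hbpf⟩ := exists_bpf_le hK hD
  haveI := finiteDimensional_L hK D'
  have hr' : r + 1 ≤ _root_.FunFld.ell D' := hr.trans (Submodule.finrank_mono hL)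
  have hgen' : IntermediateField.adjoin k (_root_.FunFld.L D' : Set K) = ⊤ :=
    top_le_iff.1 (hgen ▸ IntermediateField.adjoin.mono k _ _ hL)
  have hd : (r : ℤ) ≤ D'.deg := by
    have h := ell_sub_ell_le hK hD'
    rw [ell_zero hK, deg_zero] at h
    omega
  have hn := CastelnuovoR.sum_min_le_ell hK hD' hgen' hbpf
  set d := D'.deg.toNat with hdef
  set e := _root_.FunFld.ell D' - 2
  have hterm : ∀ j : ℕ, min d (j * (r - 1) + 1) ≤ min d (j * e + 1) := fun j =>
    min_le_min le_rfl (Nat.add_le_add_right (Nat.mul_le_mul_left j (by omega)) 1)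
  have hsum : ∀ n, ∑ j ∈ Finset.range (n + 1), min d (j * (r - 1) + 1) ≤
      _root_.FunFld.ell ((n : ℤ) • D') := fun n =>
    (Finset.sum_le_sum fun j _ => hterm j).trans (hn n)
  refine ⟨D', hD', hle, hr', hd, ?_, fun h3 => ?_⟩
  · have h2 := hsum 2
    simp only [Finset.sum_range_succ, Finset.sum_range_zero, zero_add, zero_mul, one_mul] at h2
    rcases Nat.eq_zero_or_pos r with rfl | hr0
    · rcases Nat.eq_zero_or_pos d with hd0 | hd0
      · have h0' : 1 ≤ _root_.FunFld.ell ((2 : ℤ) • D') := by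
          have hpos : (1 : K) ∈ _root_.FunFld.L ((2 : ℤ) • D') := by
            refine CastelnuovoBound.one_mem_L fun P => ?_
            have := hD' P
            simp only [Finsupp.coe_zero, Pi.zero_apply, Finsupp.smul_apply, smul_eq_mul] at this ⊢
            positivity
          haveI := finiteDimensional_L hK ((2 : ℤ) • D')
          exact Submodule.one_le_finrank_iff.2 (Submodule.ne_bot_iff _ |>.2 ⟨1, hpos, one_ne_zero⟩)
        omega
      · push_cast at h2 ⊢; omega
    · push_cast at h2 ⊢; omega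
  · obtain ⟨m, hm⟩ : ∃ m : ℕ, m = 2 * _root_.FunFld.genus k K + 1 := ⟨_, rfl⟩
    have h := hsum (m + 2)
    rw [Finset.range_eq_Ico, ← Finset.sum_Ico_consecutive _ (show 0 ≤ 3 by omega) (by omega)] at h
    have htail : ∀ j ∈ Finset.Ico 3 (m + 2 + 1), min d (j * (r - 1) + 1) = d := fun j hj => by
      have h3j : 3 * (r - 1) ≤ j * (r - 1) := Nat.mul_le_mul_right _ (Finset.mem_Ico.1 hj).1
      omega
    rw [Finset.sum_congr rfl htail, Finset.sum_const, Nat.card_Ico, smul_eq_mul,
      ← Finset.range_eq_Ico] at h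
    simp only [Finset.sum_range_succ, Finset.sum_range_zero, zero_add, zero_mul, one_mul] at h
    have hdeg : (((m + 2 : ℕ) : ℤ) • D').deg = ((m + 2 : ℕ) : ℤ) * D'.deg := deg_smul _ _
    have hr1 : 1 ≤ r ∧ 1 ≤ d := by omega
    have hell := FunFld.Weil.ell_eq_of_deg_ge hK (D := ((m + 2 : ℕ) : ℤ) • D') (by
      rw [hdeg]
      push_cast
      have : (1 : ℤ) ≤ D'.deg := by omega
      nlinarith)
    rw [hdeg] at hell
    have hdd : (d : ℤ) = D'.deg := Int.toNat_of_nonneg (by omega)
    have h' : ((min d 1 + min d (r - 1 + 1) + min d (2 * (r - 1) + 1) +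
        (m + 2 + 1 - 3) * d : ℕ) : ℤ) ≤ _root_.FunFld.ell (((m + 2 : ℕ) : ℤ) • D') := by exact_mod_cast h
    rw [hell] at h'
    have e1 : m + 2 + 1 - 3 = m := by omega
    rw [e1] at h'
    push_cast at h'
    rw [hdd] at h'
    rw [Nat.cast_sub hr1.1] at h'
    push_cast at h'
    rw [show ((m : ℤ) + 2) * D'.deg = (m : ℤ) * D'.deg + 2 * D'.deg by ring] at h'
    omega

end Field

attribute [local instance] Curv2.stalkAlgebra

variable {k : Type u} [Field k] [IsAlgClosed k] {X : Scheme.{u}}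
  [X.Over (Spec (CommRingCat.of k))] [IsIntegral X] [IsProper (X ↘ Spec (CommRingCat.of k))]

theorem germ_ne_zero {L : X.Modules} (R : LineDiv.Rep L) {s : Γ(L, ⊤)} (hs : s ≠ 0) :
    R.coord (L.presheaf.germ ⊤ (genericPoint X) trivial s) ≠ 0 := fun h0 => by
  refine hs ?_
  refine TopCat.Presheaf.section_ext (⟨L.presheaf, L.isSheaf⟩ : TopCat.Sheaf Ab X.toTopCat) ⊤ s 0
    fun x _ => R.pr_injective x ?_
  refine (R.pr_germ (U := ⊤) (x := x) trivial s).trans (h0.trans ?_)
  symm
  exact (congrArg _ (map_zero (L.presheaf.germ ⊤ x trivial).hom)).trans (map_zero _)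

theorem ratio_eq {P L : X.Modules} (S : LineDiv.Rep P) (R : LineDiv.Rep L) (ι : P ⟶ L) [Mono ι]
    (s t : Γ(P, ⊤)) :
    S.coord (P.presheaf.germ ⊤ (genericPoint X) trivial s) /
        S.coord (P.presheaf.germ ⊤ (genericPoint X) trivial t) =
      R.coord (L.presheaf.germ ⊤ (genericPoint X) trivial (ι.app ⊤ s)) /
        R.coord (L.presheaf.germ ⊤ (genericPoint X) trivial (ι.app ⊤ t)) := by
  set q : X.functionField :=
    R.coord (Modules.StalkModule.stalkMapₗ ι (genericPoint X) (S.coord.symm 1)) with hq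
  have hgg : ∀ s : Γ(P, ⊤), R.coord (L.presheaf.germ ⊤ (genericPoint X) trivial (ι.app ⊤ s)) =
      S.coord (P.presheaf.germ ⊤ (genericPoint X) trivial s) * q := by
    intro s
    have h1 : L.presheaf.germ ⊤ (genericPoint X) trivial (ι.app ⊤ s) =
        Modules.StalkModule.stalkMapₗ ι (genericPoint X) (P.presheaf.germ ⊤ (genericPoint X) trivial s) :=
      (Modules.StalkModule.stalkMapₗ_germ ι (U := ⊤) (x := genericPoint X) trivial s).symm
    have h2 : P.presheaf.germ ⊤ (genericPoint X) trivial s =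
        S.coord (P.presheaf.germ ⊤ (genericPoint X) trivial s) • S.coord.symm 1 := by
      apply S.coord.injective
      rw [map_smul, LinearEquiv.apply_symm_apply, smul_eq_mul, mul_one]
    rw [h1]
    conv_lhs => rw [h2]
    rw [map_smul, map_smul, smul_eq_mul]
  rw [hgg, hgg]
  by_cases hgt : S.coord (P.presheaf.germ ⊤ (genericPoint X) trivial t) = 0
  · rw [hgt, zero_mul, div_zero, div_zero]
  have hq0 : q ≠ 0 := fun hq0 => by
    have ht0 : t ≠ 0 := fun ht0 => hgt (by rw [ht0, map_zero, map_zero])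
    have hι : ι.app ⊤ t ≠ 0 := fun hi => ht0 (by
      have hinj : Function.Injective (ι.app ⊤) := (Modules.Stalk.mono_iff_app_injective ι).mp inferInstance ⊤
      exact hinj (hi.trans (map_zero _).symm))
    exact germ_ne_zero R hι ((hgg t).trans (by rw [hq0, mul_zero]))
  rw [mul_div_mul_right _ _ hq0]

/-- A line bundle containing the pullback of `O(1)` along a map birational onto its image: an
effective divisor whose space generates the function field. -/
theorem exists_rep (h : CurveHyp X) (hK : _root_.FunFld.IsFunctionField k X.functionField) {n : ℕ}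
    {L : X.Modules} (hL : PicF.IsInvertible L)
    {Y : Scheme.{u}} [IsIntegral Y] (φ : X ⟶ Y) (j : Y ⟶ CohB1.ProjSpace n k) [IsClosedImmersion j]
    (hφ : φ ≫ j ≫ CohB1.ProjSpace.toSpec n k = X ↘ Spec (CommRingCat.of k))
    (hbir : ∃ U : Y.Opens, (U : Set Y).Nonempty ∧ IsIso (φ ∣_ U))
    (ι : (Scheme.Modules.pullback (φ ≫ j)).obj (Twist.twistProjSpace n k 1) ⟶ L) [Mono ι]
    (h0 : 0 < Module.finrank k (Coh.HH X L 0)) :
    ∃ R : LineDiv.Rep L, 0 ≤ R.div (k := k) h hK ∧
      IntermediateField.adjoin k (_root_.FunFld.L (R.div (k := k) h hK) : Set X.functionField) = ⊤ := by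
  classical
  obtain ⟨R₀⟩ := LineDiv.nonempty_rep hL
  obtain ⟨e₀⟩ := R₀.nonempty_h0_equiv (k := k) h hK
  obtain ⟨s₀, hs₀⟩ : ∃ s : Γ(L, ⊤), s ≠ 0 := by
    by_contra hcon
    push Not at hcon
    haveI : Subsingleton (Γ(L, ⊤)) := ⟨fun a b => (hcon a).trans (hcon b).symm⟩
    letI := Curves.GlobalSections.secModule k L
    haveI : Subsingleton (L.val.obj (op ⊤) : Type u) := inferInstanceAs (Subsingleton Γ(L, ⊤))
    have := (Curves.GlobalSections.h0Linear k L).finrank_eq
    rw [Module.finrank_zero_of_subsingleton (M := (L.val.obj (op ⊤) : Type u))] at this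
    omega
  set c := R₀.coord (L.presheaf.germ ⊤ (genericPoint X) trivial s₀) with hc
  have hc0 : c ≠ 0 := germ_ne_zero R₀ hs₀
  let R : LineDiv.Rep L := ⟨hL, R₀.coord.trans
    (LinearEquiv.smulOfUnit (R := X.presheaf.stalk (genericPoint X)) (Units.mk0 c⁻¹ (inv_ne_zero hc0)))⟩
  have hcoord : ∀ v, R.coord v = c⁻¹ * R₀.coord v := fun v => rfl
  have hmem := CanonicalEmb.coord_germ_mem h R hK
  have hone : (1 : X.functionField) ∈ _root_.FunFld.L (R.div (k := k) h hK) := by
    have := hmem s₀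
    rwa [hcoord, ← hc, inv_mul_cancel₀ hc0] at this
  have hD : 0 ≤ R.div (k := k) h hK := fun P => by
    have h1 := hone P
    rwa [map_one, ← WithZero.exp_zero, WithZero.exp_le_exp] at h1
  refine ⟨R, hD, ?_⟩
  have hinv : PicF.IsInvertible (Twist.twist (CohB1.polyGrading n k) 1) :=
    ProjTilde.Invertible.twist_isInvertible_of_cover (fun y => by
      obtain ⟨c, hc⟩ := ProjMor.Main.cover (ProjMor.Poly.lin_mem n k) (ProjMor.Poly.adjoin_lin n k) y
      exact ⟨c, c.2, hc⟩) 1
  obtain ⟨S⟩ : Nonempty (LineDiv.Rep ((Scheme.Modules.pullback (φ ≫ j)).obj (Twist.twistProjSpace n k 1))) :=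
    LineDiv.nonempty_rep (PicLoc.isInvertible_pullback (φ ≫ j) hinv)
  rw [eq_top_iff]
  intro f _
  refine BirationalGen.mem_of_birational S φ j hbir (φ ≫ j) rfl (by rw [Category.assoc, hφ])
    (Iso.refl _) _ (fun s t => ?_) f
  rw [ratio_eq S R ι s t]
  exact div_mem (IntermediateField.subset_adjoin k _ (hmem _))
    (IntermediateField.subset_adjoin k _ (hmem _))

end Groth.Agent.Lib.CurveFF.BirationalBound
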