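import Groth.Agent.Lib.CurveFF.Basic
import Groth.Agent.Lib.CurveFF.Dominant

/-!
The extension of function fields of a dominant morphism.
-/

noncomputable section
set_option autoImplicit false
set_option linter.style.haveILetI false
universe u

open CategoryTheory AlgebraicGeometry TopologicalSpace

namespace Groth.Agent.Lib.CurveFF.FieldExt

variable {X Y : Scheme.{u}} [IsIntegral X] [IsIntegral Y] (f : X ⟶ Y)
  (e : f (genericPoint X) = genericPoint Y)

/-- The map of function fields. -/
abbrev kMap : Y.functionField →+* X.functionField :=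
  (Y.presheaf.stalkSpecializes (specializes_of_eq e) ≫ f.stalkMap (genericPoint X)).hom

theorem kMap_germ (U : Y.Opens) (hY : genericPoint Y ∈ U) (hX : genericPoint X ∈ f ⁻¹ᵁ U)
    (a : Γ(Y, U)) :
    kMap f e (Y.presheaf.germ U (genericPoint Y) hY a) =
      X.presheaf.germ (f ⁻¹ᵁ U) (genericPoint X) hX (f.app U a) := by
  have h1 : Y.presheaf.stalkSpecializes (specializes_of_eq e) (Y.presheaf.germ U (genericPoint Y) hY a) =
      Y.presheaf.germ U (f (genericPoint X)) hX a :=
    TopCat.Presheaf.germ_stalkSpecializes_apply _ hY (specializes_of_eq e) a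
  refine (congrArg (f.stalkMap (genericPoint X)) h1).trans ?_
  exact Scheme.Hom.germ_stalkMap_apply f U (genericPoint X) hX a

/-- Compatibility with the local rings. -/
theorem kMap_algebraMap (x : X) (a : Y.presheaf.stalk (f x)) :
    kMap f e (algebraMap (Y.presheaf.stalk (f x)) Y.functionField a) =
      algebraMap (X.presheaf.stalk x) X.functionField (f.stalkMap x a) := by
  obtain ⟨U, hU, s, rfl⟩ := Y.presheaf.exists_germ_eq a
  haveI : Nonempty U := ⟨⟨_, hU⟩⟩
  haveI : Nonempty (f ⁻¹ᵁ U : X.Opens) := ⟨⟨_, hU⟩⟩
  have hY : genericPoint Y ∈ U := (genericPoint_specializes _).mem_open U.2 hU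
  have hX : genericPoint X ∈ f ⁻¹ᵁ U := (genericPoint_specializes x).mem_open (f ⁻¹ᵁ U).2 hU
  rw [Scheme.Hom.germ_stalkMap_apply]
  refine (congrArg (kMap f e) (Scheme.algebraMap_germ_eq_germToFunctionField (X := Y) hU s)).trans ?_
  refine (kMap_germ f e U hY hX s).trans ?_
  exact (Scheme.algebraMap_germ_eq_germToFunctionField (X := X) hU (f.app U s)).symm

theorem bijective_residue {x : X} (h : IsField (X.presheaf.stalk x)) :
    Function.Bijective (X.residue x).hom := by
  letI := h.toField
  exact ⟨(X.residue x).hom.injective, X.residue_surjective x⟩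

theorem finite_residue [IsFinite f] (hη : f (genericPoint X) = genericPoint Y) :
    letI := (f.residueFieldMap (genericPoint X)).hom.toAlgebra
    Module.Finite (Y.residueField (f (genericPoint X))) (X.residueField (genericPoint X)) := by
  letI := (f.residueFieldMap (genericPoint X)).hom.toAlgebra
  obtain ⟨_, ⟨U, hU, rfl⟩, hxU, -⟩ := Y.isBasis_affineOpens.exists_subset_of_mem_open
    (Set.mem_univ (f (genericPoint X))) isOpen_univ
  replace hU : IsAffineOpen U := hU
  letI := (f.app U).hom.toAlgebra
  haveI : Nonempty U := ⟨⟨_, hxU⟩⟩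
  haveI : Nonempty (f ⁻¹ᵁ U : X.Opens) := ⟨⟨_, hxU⟩⟩
  haveI : Module.Finite Γ(Y, U) Γ(X, f ⁻¹ᵁ U) := RingHom.finite_algebraMap.mp (f.finite_app U hU)
  letI := (Y.evaluation U (f (genericPoint X)) hxU).hom.toAlgebra
  letI := (X.evaluation (f ⁻¹ᵁ U) (genericPoint X) hxU).hom.toAlgebra
  letI : Algebra Γ(Y, U) (X.residueField (genericPoint X)) :=
    ((algebraMap Γ(X, f ⁻¹ᵁ U) (X.residueField (genericPoint X))).comp
      (algebraMap Γ(Y, U) Γ(X, f ⁻¹ᵁ U))).toAlgebra
  haveI : IsScalarTower Γ(Y, U) Γ(X, f ⁻¹ᵁ U) (X.residueField (genericPoint X)) :=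
    IsScalarTower.of_algebraMap_eq fun _ => rfl
  haveI : IsScalarTower Γ(Y, U) (Y.residueField (f (genericPoint X)))
      (X.residueField (genericPoint X)) :=
    IsScalarTower.of_algebraMap_eq fun r =>
      (Scheme.evaluation_naturality_apply f (genericPoint X) hxU r).symm
  haveI := Dominant.isFractionRing_residue (hU.preimage f) (genericPoint X) hxU
    (Dominant.evaluation_generic_injective (C := X) (V := f ⁻¹ᵁ U) hxU)
  have hinjC := Dominant.evaluation_generic_injective (C := X) (V := f ⁻¹ᵁ U) hxU
  haveI := Dominant.isFractionRing_residue hU (f (genericPoint X)) hxU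
    (fun a b h => Dominant.app_injective hη U (hinjC (by
      have := congrArg (f.residueFieldMap (genericPoint X)).hom h
      simpa only [Scheme.evaluation_naturality_apply] using this)))
  apply Module.finite_of_finrank_pos
  rw [IsFractionRing.finrank_eq Γ(Y, U) (Y.residueField (f (genericPoint X))) Γ(X, f ⁻¹ᵁ U)
    (X.residueField (genericPoint X))]
  haveI : FaithfulSMul Γ(Y, U) Γ(X, f ⁻¹ᵁ U) :=
    (faithfulSMul_iff_algebraMap_injective _ _).2 (Dominant.app_injective hη U)
  exact Module.finrank_pos

/-- The degree of the extension of function fields is the residue degree at the generic point. -/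
theorem finrank_eq [IsFinite f] :
    letI := (kMap f e).toAlgebra
    Module.finrank Y.functionField X.functionField = f.residueDegree (genericPoint X) ∧
      FiniteDimensional Y.functionField X.functionField := by
  letI := (kMap f e).toAlgebra
  letI := (f.residueFieldMap (genericPoint X)).hom.toAlgebra
  have hX := bijective_residue (X := X) (x := genericPoint X) (Field.toIsField X.functionField)
  have hY : Function.Bijective (Y.residue (f (genericPoint X))).hom := bijective_residue (by
    rw [e]; exact Field.toIsField Y.functionField)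
  let s := Y.presheaf.stalkCongr (Inseparable.of_eq e.symm)
  have hs : Function.Bijective s.hom := ConcreteCategory.bijective_of_isIso s.hom
  let eY : Y.functionField ≃+* Y.residueField (f (genericPoint X)) :=
    RingEquiv.ofBijective ((Y.residue (f (genericPoint X))).hom.comp s.hom.hom) (hY.comp hs)
  let eX : X.functionField ≃+* X.residueField (genericPoint X) := RingEquiv.ofBijective _ hX
  have hc : (algebraMap (Y.residueField (f (genericPoint X))) (X.residueField (genericPoint X))).comp
      eY.toRingHom = eX.toRingHom.comp (algebraMap Y.functionField X.functionField) :=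
    RingHom.ext fun z => (ConcreteCategory.congr_hom
      (Scheme.residue_residueFieldMap f (genericPoint X)) (s.hom z))
  have hr := Algebra.finrank_eq_of_equiv_equiv eY eX hc
  refine ⟨hr, ?_⟩
  haveI := finite_residue f e
  exact Module.finite_of_finrank_pos (hr ▸ Module.finrank_pos)

end Groth.Agent.Lib.CurveFF.FieldExt
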