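import Groth.Agent.Lib.CurveFF.SkySections
import Groth.Agent.Lib.CurveFF.Hyp
import Groth.Agent.Lib.RefHull.Generic
import Groth.Agent.Lib.Curves.Degree
import Groth.Agent.Lib.FunFld.Degree

/-!
Invertible modules on curves as divisors of the function field.
-/

noncomputable section
set_option autoImplicit false
set_option linter.style.haveILetI false
universe u

open CategoryTheory CategoryTheory.Limits AlgebraicGeometry TopologicalSpace Opposite WithZero
open Groth.Agent.Lib.TensorMod Groth.Agent.Lib.TensorMod.Dual Groth.Agent.Lib.TensorMod.Gen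

namespace Groth.Agent.Lib.CurveFF.LineDiv

attribute [local instance] Curv2.stalkAlgebra Curv2.resAlgebra SkySections.stalkMod

open Modules.StalkModule (stalkMapₗ stalkModFunctor)
open RefHull.Generic (toGen toGen_smul toGen_germ)

/-- The dimension of a principal quotient of a discrete valuation ring. -/
theorem quot_pow {k O : Type u} [Field k] [CommRing O] [IsDomain O] [Algebra k O] {ϖ : O}
    (hϖ : ϖ ≠ 0) (hfin : Module.Finite k (O ⧸ Ideal.span {ϖ})) (m : ℕ) :
    Module.Finite k (O ⧸ Ideal.span {ϖ ^ m}) ∧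
      Module.finrank k (O ⧸ Ideal.span {ϖ ^ m}) = m * Module.finrank k (O ⧸ Ideal.span {ϖ}) := by
  induction m with
  | zero =>
    haveI : Subsingleton (O ⧸ Ideal.span {ϖ ^ 0}) :=
      Ideal.Quotient.subsingleton_iff.2 (by rw [pow_zero, Ideal.span_singleton_one])
    exact ⟨inferInstance, by rw [Module.finrank_zero_of_subsingleton, zero_mul]⟩
  | succ m ih =>
    obtain ⟨hf, hr⟩ := ih
    let f : (O ⧸ Ideal.span {ϖ ^ m}) →ₗ[O] (O ⧸ Ideal.span {ϖ ^ (m + 1)}) :=
      Submodule.mapQ _ _ (LinearMap.lsmul O O ϖ) fun a ha => by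
        rw [Ideal.mem_span_singleton] at ha
        rw [Submodule.mem_comap, LinearMap.lsmul_apply, smul_eq_mul, Ideal.mem_span_singleton, pow_succ']
        exact mul_dvd_mul_left ϖ ha
    let g : (O ⧸ Ideal.span {ϖ ^ (m + 1)}) →ₗ[O] (O ⧸ Ideal.span {ϖ}) :=
      Submodule.factor (Ideal.span_singleton_le_span_singleton.2 (dvd_pow_self ϖ (Nat.succ_ne_zero m)))
    have hinj : Function.Injective f := by
      rw [injective_iff_map_eq_zero]
      rintro ⟨a⟩ ha
      have h1 := (Submodule.Quotient.mk_eq_zero _).1 ha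
      rw [LinearMap.lsmul_apply, smul_eq_mul, Ideal.mem_span_singleton, pow_succ',
        mul_dvd_mul_iff_left hϖ] at h1
      exact (Submodule.Quotient.mk_eq_zero _).2 (Ideal.mem_span_singleton.2 h1)
    have hsurj : Function.Surjective g := Submodule.factor_surjective _
    have hex : Function.Exact f g := by
      rintro ⟨a⟩
      constructor
      · intro h
        obtain ⟨b, rfl⟩ := Ideal.mem_span_singleton.1 ((Submodule.Quotient.mk_eq_zero _).1 h)
        exact ⟨Submodule.Quotient.mk b, rfl⟩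
      · rintro ⟨⟨b⟩, hb⟩
        rw [← hb]
        exact (Submodule.Quotient.mk_eq_zero _).2 (Ideal.mem_span_singleton.2 (dvd_mul_right ϖ b))
    have hexk : Function.Exact (f.restrictScalars k) (g.restrictScalars k) := hex
    haveI := hf
    haveI := hfin
    haveI : Module.Finite k (O ⧸ Ideal.span {ϖ ^ (m + 1)}) :=
      Curves.Euler.finite_of_exact hexk
    refine ⟨inferInstance, ?_⟩
    have h1 := (g.restrictScalars k).finrank_range_add_finrank_ker
    rw [LinearMap.range_eq_top.2 (show Function.Surjective (g.restrictScalars k) from hsurj),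
      finrank_top, LinearMap.exact_iff.1 hexk,
      LinearMap.finrank_range_of_inj (show Function.Injective (f.restrictScalars k) from hinj), hr] at h1
    rw [← h1, Nat.succ_mul]
    exact Nat.add_comm _ _

variable {X : Scheme.{u}} [IsIntegral X]

/-- Stalks of invertible modules are free of rank one. -/
theorem exists_gen {L : X.Modules} (hL : PicF.IsInvertible L) (x : X) :
    ∃ v : L.presheaf.stalk x, Submodule.span (X.presheaf.stalk x) {v} = ⊤ ∧
      ∀ a : X.presheaf.stalk x, a • v = 0 → a = 0 := by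
  obtain ⟨U, e, hxU, he⟩ := Gen.isInvertible_iff.1 hL x
  refine ⟨L.presheaf.germ U x hxU e, eq_top_iff.2 fun v _ => ?_, fun a ha => ?_⟩
  · obtain ⟨W, hyW, m, rfl⟩ := TopCat.Presheaf.germ_exist (F := L.presheaf) v
    obtain ⟨c, hc⟩ := (he (W ⊓ U) inf_le_right).2 (rs L inf_le_left m)
    simp only at hc
    have hxWU : x ∈ W ⊓ U := ⟨hyW, hxU⟩
    rw [Submodule.mem_span_singleton]
    refine ⟨X.presheaf.germ _ x hxWU c, ?_⟩
    rw [← TopCat.Presheaf.germ_res_apply L.presheaf (homOfLE (inf_le_right : W ⊓ U ≤ U)) x hxWU e,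
      ← Modules.StalkModule.germ_smul]
    exact (congrArg _ hc).trans (TopCat.Presheaf.germ_res_apply L.presheaf
      (homOfLE (inf_le_left : W ⊓ U ≤ W)) x hxWU m)
  · obtain ⟨V, hxV, c, rfl⟩ := X.presheaf.exists_germ_eq a
    have hxVU : x ∈ V ⊓ U := ⟨hxV, hxU⟩
    rw [← TopCat.Presheaf.germ_res_apply L.presheaf (homOfLE (inf_le_right : V ⊓ U ≤ U)) x hxVU e,
      ← TopCat.Presheaf.germ_res_apply X.presheaf (homOfLE (inf_le_left : V ⊓ U ≤ V)) x hxVU c,
      ← Modules.StalkModule.germ_smul, ← map_zero (L.presheaf.germ (V ⊓ U) x hxVU).hom] at ha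
    obtain ⟨W, hxW, i, i', hW⟩ := TopCat.Presheaf.germ_eq L.presheaf x hxVU hxVU _ _ ha
    rw [map_zero, Scheme.Modules.map_smul] at hW
    have h0 : X.presheaf.map i.op (X.presheaf.map (homOfLE (inf_le_left : V ⊓ U ≤ V)).op c) = 0 := by
      apply (he W (i.le.trans inf_le_right)).1
      simp only [zero_smul]
      refine Eq.trans ?_ hW
      congr 1
      exact (rs_rs (M := L) (inf_le_right : V ⊓ U ≤ U) i.le e).symm
    rw [← TopCat.Presheaf.germ_res_apply X.presheaf (homOfLE (inf_le_left : V ⊓ U ≤ V)) x hxVU c,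
      ← TopCat.Presheaf.germ_res_apply X.presheaf i x hxW, h0, map_zero]

/-- The generic stalk with a chosen basis. -/
structure Rep (L : X.Modules) where
  inv : PicF.IsInvertible L
  coord : L.presheaf.stalk (genericPoint X) ≃ₗ[X.presheaf.stalk (genericPoint X)]
    X.presheaf.stalk (genericPoint X)

theorem nonempty_rep {L : X.Modules} (hL : PicF.IsInvertible L) : Nonempty (Rep L) := by
  obtain ⟨v, hv, hv'⟩ := exists_gen hL (genericPoint X)
  refine ⟨⟨hL, (LinearEquiv.ofBijective (LinearMap.toSpanSingleton (X.presheaf.stalk (genericPoint X)) _ v)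
    ⟨(injective_iff_map_eq_zero _).2 fun a ha => hv' a ha, fun w => ?_⟩).symm⟩⟩
  exact Submodule.mem_span_singleton.1 (hv ▸ Submodule.mem_top : w ∈ Submodule.span _ {v})

variable {L M : X.Modules}

/-- A stalk inside the function field. -/
def Rep.pr (R : Rep L) (x : X) : L.presheaf.stalk x →+ X.functionField :=
  R.coord.toAddMonoidHom.comp (toGen L x)

theorem Rep.pr_smul (R : Rep L) (x : X) (a : X.presheaf.stalk x) (v : L.presheaf.stalk x) :
    R.pr x (a • v) = algebraMap (X.presheaf.stalk x) X.functionField a * R.pr x v := by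
  show R.coord (toGen L x (a • v)) = _
  rw [toGen_smul]
  exact (R.coord.map_smul _ _).trans rfl

theorem toGen_inj (hL : PicF.IsInvertible L) (x : X) : Function.Injective (toGen L x) := by
  obtain ⟨v, hv, hv'⟩ := exists_gen hL x
  obtain ⟨R⟩ := nonempty_rep hL
  rw [injective_iff_map_eq_zero]
  intro w hw
  obtain ⟨a, rfl⟩ := Submodule.mem_span_singleton.1 (hv ▸ Submodule.mem_top : w ∈ Submodule.span _ {v})
  haveI := QCohInv.isQCoh_of_isInvertible hL
  refine RefHull.Generic.toGen_injective (F := L) x (fun b u hb hbu => ?_) (hw.trans (map_zero _).symm)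
  obtain ⟨c, rfl⟩ := Submodule.mem_span_singleton.1 (hv ▸ Submodule.mem_top : u ∈ Submodule.span _ {v})
  rw [smul_smul] at hbu
  rw [(mul_eq_zero.1 (hv' _ hbu)).resolve_left hb, zero_smul]

theorem Rep.pr_injective (R : Rep L) (x : X) : Function.Injective (R.pr x) :=
  R.coord.injective.comp (toGen_inj R.inv x)

theorem Rep.pr_germ (R : Rep L) {U : X.Opens} {x : X} (hx : x ∈ U) (s : Γ(L, U)) :
    R.pr x (L.presheaf.germ U x hx s) = R.coord (L.presheaf.germ U (genericPoint X)
      ((genericPoint_specializes x).mem_open U.2 hx) s) :=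
  congrArg R.coord (toGen_germ hx s)

/-- A generator in a stalk. -/
def Rep.gen (R : Rep L) (x : X) : L.presheaf.stalk x := (exists_gen R.inv x).choose

theorem Rep.gen_ne (R : Rep L) (x : X) : R.pr x (R.gen x) ≠ 0 := fun h0 => one_ne_zero
  ((exists_gen R.inv x).choose_spec.2 1 (by
    rw [one_smul]; exact R.pr_injective x (h0.trans (map_zero _).symm)))

theorem Rep.gen_span (R : Rep L) (x : X) (v : L.presheaf.stalk x) :
    ∃ a : X.presheaf.stalk x, a • R.gen x = v :=
  Submodule.mem_span_singleton.1 (show v ∈ Submodule.span (X.presheaf.stalk x) {R.gen x} by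
    rw [show Submodule.span (X.presheaf.stalk x) {R.gen x} = ⊤ from (exists_gen R.inv x).choose_spec.1]
    exact Submodule.mem_top)

theorem Rep.gen_free (R : Rep L) {x : X} {a : X.presheaf.stalk x} (ha : a • R.gen x = 0) : a = 0 :=
  (exists_gen R.inv x).choose_spec.2 a ha

variable {k : Type u} [Field k] [X.Over (Spec (CommRingCat.of k))] (h : CurveHyp X)

variable (k) in
/-- The order function of an invertible module. -/
def Rep.e (R : Rep L) (x : CPt X) : ℤ := log ((placeOf k h x).1 (R.pr x.1 (R.gen x.1)))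

theorem Rep.val_gen (R : Rep L) (x : CPt X) :
    (placeOf k h x).1 (R.pr x.1 (R.gen x.1)) = exp (R.e k h x) :=
  (exp_log ((Valuation.ne_zero_iff _).2 (R.gen_ne x.1))).symm

/-- Membership in a stalk. -/
theorem Rep.mem_iff (R : Rep L) (x : CPt X) (f : X.functionField) :
    (∃ v, R.pr x.1 v = f) ↔ (placeOf k h x).1 f ≤ exp (R.e k h x) := by
  rw [← R.val_gen h x]
  constructor
  · rintro ⟨v, rfl⟩
    obtain ⟨a, rfl⟩ := R.gen_span x.1 v
    rw [R.pr_smul, map_mul]
    exact mul_le_of_le_one_left' ((mem_O_placeOf h x).2 ⟨a, rfl⟩)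
  · intro hf
    obtain ⟨a, ha⟩ := (mem_O_placeOf h x).1 (show (placeOf k h x).1 (f / R.pr x.1 (R.gen x.1)) ≤ 1 by
      rw [map_div₀]
      exact (div_le_one₀ (zero_lt_iff.2 ((Valuation.ne_zero_iff _).2 (R.gen_ne x.1)))).2 hf)
    exact ⟨a • R.gen x.1, by rw [R.pr_smul, ha, div_mul_cancel₀ _ (R.gen_ne x.1)]⟩

theorem Rep.e_unique (R : Rep L) (x : CPt X) {n : ℤ}
    (hn : ∀ f, (∃ v, R.pr x.1 v = f) ↔ (placeOf k h x).1 f ≤ exp n) : R.e k h x = n := by
  refine le_antisymm ?_ ?_
  · have := (hn _).1 ⟨R.gen x.1, rfl⟩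
    rwa [R.val_gen h x, exp_le_exp] at this
  · obtain ⟨f, hf⟩ := (placeOf k h x).2.2 (exp n)
    have := (R.mem_iff (k := k) h x f).1 ((hn f).2 hf.le)
    rwa [hf, exp_le_exp] at this

theorem Rep.finite_e [IsProper (X ↘ Spec (CommRingCat.of k))] (R : Rep L)
    (hK : _root_.FunFld.IsFunctionField k X.functionField) : {x : CPt X | R.e k h x ≠ 0}.Finite := by
  haveI := Curves.GlobalSections.noetherianSpace_of_proper k X
  obtain ⟨U, e, hηU, he⟩ := Gen.isInvertible_iff.1 R.inv (genericPoint X)
  let φ := R.coord (L.presheaf.germ U (genericPoint X) hηU e)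
  have hUc : ((U : Set X)ᶜ).Finite :=
    SmoothCurve.Curve.finite_of_isClosed h.dim U.2.isClosed_compl (fun h' => h' hηU)
  refine ((hUc.preimage Subtype.val_injective.injOn).union
    ((FunFld.Degree.finite_support_ord hK φ).preimage (placeOf_injective (k := k) h).injOn)).subset
      fun x hx => ?_
  rw [Set.mem_union, or_iff_not_imp_left]
  intro hxU
  have hxU' : x.1 ∈ U := not_not.1 hxU
  intro h0
  apply hx
  refine R.e_unique (k := k) h x fun f => ?_
  have hgen : ∀ v : L.presheaf.stalk x.1, ∃ a : X.presheaf.stalk x.1,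
      a • L.presheaf.germ U x.1 hxU' e = v := fun v => by
    obtain ⟨W, hyW, m, rfl⟩ := TopCat.Presheaf.germ_exist (F := L.presheaf) v
    obtain ⟨c, hc⟩ := (he (W ⊓ U) inf_le_right).2 (rs L inf_le_left m)
    simp only at hc
    have hxWU : x.1 ∈ W ⊓ U := ⟨hyW, hxU'⟩
    refine ⟨X.presheaf.germ _ x.1 hxWU c, ?_⟩
    rw [← TopCat.Presheaf.germ_res_apply L.presheaf (homOfLE (inf_le_right : W ⊓ U ≤ U)) x.1 hxWU e,
      ← Modules.StalkModule.germ_smul]
    exact (congrArg _ hc).trans (TopCat.Presheaf.germ_res_apply L.presheaf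
      (homOfLE (inf_le_left : W ⊓ U ≤ W)) x.1 hxWU m)
  have hφ0 : φ ≠ 0 := by
    intro hφ
    have : R.pr x.1 (L.presheaf.germ U x.1 hxU' e) = 0 := (R.pr_germ hxU' e).trans hφ
    obtain ⟨a, ha⟩ := hgen (R.gen x.1)
    exact R.gen_ne x.1 (by rw [← ha, R.pr_smul, this, mul_zero])
  have hval : (placeOf k h x).1 φ = 1 := by
    rw [FunFld.Place.val_eq_exp _ hφ0, show (placeOf k h x).ord φ = 0 from h0, neg_zero, exp_zero]
  rw [exp_zero]
  constructor
  · rintro ⟨v, rfl⟩
    obtain ⟨a, rfl⟩ := hgen v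
    rw [R.pr_smul, R.pr_germ, map_mul]
    exact (mul_le_mul' ((mem_O_placeOf h x).2 ⟨a, rfl⟩) hval.le).trans_eq (one_mul 1)
  · intro hf
    obtain ⟨a, ha⟩ := (mem_O_placeOf h x).1 (show (placeOf k h x).1 (f / φ) ≤ 1 by
      rw [map_div₀, hval, div_one]; exact hf)
    exact ⟨a • L.presheaf.germ U x.1 hxU' e, by
      rw [R.pr_smul, R.pr_germ, ha]; exact div_mul_cancel₀ _ hφ0⟩

variable [IsProper (X ↘ Spec (CommRingCat.of k))]
  (hK : _root_.FunFld.IsFunctionField k X.functionField)

/-- The divisor of an invertible module with a generic basis. -/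
def Rep.div (R : Rep L) : _root_.FunFld.Divisor k X.functionField :=
  Finsupp.equivMapDomain (placeEquiv (k := k) h)
    (Finsupp.ofSupportFinite (R.e k h) (R.finite_e h hK))

theorem Rep.div_placeOf (R : Rep L) (x : CPt X) : R.div h hK (placeOf k h x) = R.e k h x := by
  rw [Rep.div, Finsupp.equivMapDomain_apply]
  exact congrArg _ ((placeEquiv (k := k) h).symm_apply_apply x)

theorem Rep.mem_div (R : Rep L) (x : CPt X) (f : X.functionField) :
    (∃ v, R.pr x.1 v = f) ↔ (placeOf k h x).1 f ≤ exp (R.div h hK (placeOf k h x)) := by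
  rw [R.div_placeOf, R.mem_iff (k := k) h x f]

theorem coord_smul (R : Rep L) (c : k) (v : L.presheaf.stalk (genericPoint X)) :
    R.coord (Curv2.stalkMap k X (genericPoint X) c • v) = c • R.coord v := by
  rw [map_smul]; rfl

/-- Global sections are the Riemann–Roch space. -/
theorem Rep.nonempty_h0_equiv (R : Rep L) :
    Nonempty (Coh.HH X L 0 ≃ₗ[k] _root_.FunFld.L (R.div h hK)) := by
  letI := Curves.GlobalSections.secModule k L
  let g : (L.val.obj (op ⊤) : Type u) →ₗ[k] X.functionField :=
    { toFun := fun t => R.coord (L.presheaf.germ ⊤ (genericPoint X) trivial t)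
      map_add' := fun a b => (congrArg R.coord (map_add _ a b)).trans (map_add _ _ _)
      map_smul' := fun c t => by
        refine (congrArg R.coord (Modules.StalkModule.germ_smul (M := L) (U := ⊤)
          (x := genericPoint X) trivial (Coh.toGlobal (X ↘ Spec (CommRingCat.of k)) c) t)).trans ?_
        exact coord_smul R c _ }
  have hg : ∀ (t : Γ(L, ⊤)) (x : X), R.pr x (L.presheaf.germ ⊤ x trivial t) = g t :=
    fun t x => R.pr_germ (U := ⊤) (x := x) trivial t
  have hinj : Function.Injective g := fun a b hab => by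
    refine TopCat.Presheaf.section_ext (⟨L.presheaf, L.isSheaf⟩ : TopCat.Sheaf Ab X.toTopCat) ⊤ a b
      fun x _ => R.pr_injective x ?_
    exact ((hg a x).trans hab).trans (hg b x).symm
  have hrange : LinearMap.range g = _root_.FunFld.L (R.div h hK) := by
    ext f
    constructor
    · rintro ⟨t, rfl⟩ P
      obtain ⟨x, rfl⟩ := placeOf_surjective (k := k) h P
      exact (R.mem_div h hK x _).1 ⟨_, hg t x.1⟩
    · intro hf
      have hall : ∀ x : X, ∃ v, R.pr x v = f := fun x => by
        rcases SmoothCurve.Curve.eq_genericPoint_or_isClosed h.dim x with rfl | hx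
        · obtain ⟨v, hv⟩ := RefHull.Generic.toGen_bijective_genericPoint.2 (R.coord.symm f)
          exact ⟨v, (congrArg R.coord hv).trans (R.coord.apply_symm_apply f)⟩
        · exact (R.mem_div h hK ⟨x, hx⟩ f).2 (hf _)
      choose v hv using hall
      choose W hxW s hs using fun x : X => TopCat.Presheaf.exists_germ_eq L.presheaf (v x)
      have hpr : ∀ (i y : X) (hy : y ∈ W i), R.pr y (L.presheaf.germ (W i) y hy (s i)) = f :=
        fun i y hy => by
          rw [R.pr_germ, ← hv i, ← hs i, R.pr_germ]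
      have hcov : (⊤ : X.Opens) ≤ iSup W := fun x _ => Opens.mem_iSup.2 ⟨x, hxW x⟩
      obtain ⟨t, ht, -⟩ := TopCat.Sheaf.existsUnique_gluing'
        (⟨L.presheaf, L.isSheaf⟩ : TopCat.Sheaf Ab X.toTopCat) W ⊤ (fun x => homOfLE le_top) hcov s
        fun i j => TopCat.Presheaf.section_ext (⟨L.presheaf, L.isSheaf⟩ : TopCat.Sheaf Ab X.toTopCat)
          _ _ _ fun y hy => R.pr_injective y (by
            refine (congrArg (R.pr y) (TopCat.Presheaf.germ_res_apply L.presheaf _ y hy (s i))).trans ?_
            refine Eq.trans ?_ (congrArg (R.pr y)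
              (TopCat.Presheaf.germ_res_apply L.presheaf _ y hy (s j))).symm
            exact (hpr i y hy.1).trans (hpr j y hy.2).symm)
      refine ⟨t, ?_⟩
      let x : X := genericPoint X
      rw [← hg t x, ← hpr x x (hxW x), ← ht x]
      exact congrArg (R.pr x) (TopCat.Presheaf.germ_res_apply L.presheaf _ x (hxW x) t).symm
  exact ⟨(Curves.GlobalSections.h0Linear k L).trans
    ((LinearEquiv.ofInjective g hinj).trans (LinearEquiv.ofEq _ _ hrange))⟩

theorem Rep.finrank_h0 (R : Rep L) :
    Module.finrank k (Coh.HH X L 0) = _root_.FunFld.ell (R.div h hK) := by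
  obtain ⟨e⟩ := R.nonempty_h0_equiv h hK
  exact e.finrank_eq

/-- A multiplier carrying one module into the other gives a morphism. -/
theorem exists_hom (R : Rep L) (S : Rep M) (f : X.functionField)
    (hle : ∀ x : CPt X, (placeOf k h x).1 f * exp (R.e k h x) ≤ exp (S.e k h x)) :
    ∃ ψ : L ⟶ M, ∀ (x : X) (v : L.presheaf.stalk x), S.pr x (stalkMapₗ ψ x v) = f * R.pr x v := by
  let T : L.presheaf.stalk (genericPoint X) →ₗ[X.presheaf.stalk (genericPoint X)]
      M.presheaf.stalk (genericPoint X) :=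
    S.coord.symm.toLinearMap.comp
      ((LinearMap.lsmul (X.presheaf.stalk (genericPoint X)) _ f).comp R.coord.toLinearMap)
  have hT : ∀ v, S.coord (T v) = f * R.coord v := fun v => S.coord.apply_symm_apply _
  obtain ⟨ψ, hψ⟩ := RefHull.Generic.exists_hom (F := M) (G := L) (toGen_inj S.inv) T fun x v => by
    rcases SmoothCurve.Curve.eq_genericPoint_or_isClosed h.dim x with rfl | hx
    · exact RefHull.Generic.toGen_bijective_genericPoint.2 _
    · obtain ⟨w, hw⟩ := (S.mem_iff h ⟨x, hx⟩ (f * R.pr x v)).2 (by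
        rw [map_mul]
        exact (mul_le_mul' le_rfl ((R.mem_iff h ⟨x, hx⟩ _).1 ⟨v, rfl⟩)).trans (hle ⟨x, hx⟩))
      exact ⟨w, S.coord.injective (hw.trans (hT _).symm)⟩
  refine ⟨ψ, fun x v => ?_⟩
  refine Eq.trans ?_ (hT (toGen L x v))
  show S.coord (toGen M x (stalkMapₗ ψ x v)) = S.coord (T (toGen L x v))
  rw [← hψ]
  exact congrArg S.coord (RefHull.Generic.toGen_stalkMap ψ x v)

/-- Linearly equivalent modules are isomorphic. -/
theorem nonempty_iso (R : Rep L) (S : Rep M) {f : X.functionField} (hf : f ≠ 0)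
    (heq : ∀ x : CPt X, (placeOf k h x).1 f * exp (R.e k h x) = exp (S.e k h x)) :
    Nonempty (L ≅ M) := by
  obtain ⟨ψ, hψ⟩ := exists_hom h R S f fun x => (heq x).le
  obtain ⟨φ, hφ⟩ := exists_hom h S R f⁻¹ fun x => by
    rw [map_inv₀, ← heq x, inv_mul_cancel_left₀ ((Valuation.ne_zero_iff _).2 hf)]
  refine ⟨⟨ψ, φ, Modules.StalkModule.hom_ext_stalkMapₗ fun x => LinearMap.ext fun v => R.pr_injective x ?_,
    Modules.StalkModule.hom_ext_stalkMapₗ fun x => LinearMap.ext fun v => S.pr_injective x ?_⟩⟩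
  · rw [Modules.StalkModule.stalkMapₗ_comp, Modules.StalkModule.stalkMapₗ_id, LinearMap.comp_apply,
      LinearMap.id_apply, hφ, hψ, inv_mul_cancel_left₀ hf]
  · rw [Modules.StalkModule.stalkMapₗ_comp, Modules.StalkModule.stalkMapₗ_id, LinearMap.comp_apply,
      LinearMap.id_apply, hψ, hφ, mul_inv_cancel_left₀ hf]

/-- The rank one quotient at a closed point. -/
theorem deg_quot (hK : _root_.FunFld.IsFunctionField k X.functionField) (x : CPt X) (a : X.presheaf.stalk x.1) (m : ℕ)
    (ha : (placeOf k h x).1 (algebraMap (X.presheaf.stalk x.1) X.functionField a) = exp (-(m : ℤ))) :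
    Module.Finite k (X.presheaf.stalk x.1 ⧸ Ideal.span {a}) ∧
      Module.finrank k (X.presheaf.stalk x.1 ⧸ Ideal.span {a}) = m * (placeOf k h x).deg := by
  haveI := h.dvr x.1 x.2
  let O := X.presheaf.stalk x.1
  let P := placeOf k h x
  obtain ⟨t, ht⟩ := FunFld.Place.exists_val_eq_exp P (-1)
  obtain ⟨ϖ, rfl⟩ := (mem_O_placeOf h x).1 (show P.1 t ≤ 1 by
    rw [ht, ← exp_zero, exp_le_exp]; norm_num)
  have hunit : ∀ {b : O}, P.1 (algebraMap O X.functionField b) = 1 → IsUnit b := fun {b} hb => by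
    have hb0 : algebraMap O X.functionField b ≠ 0 := fun h0 => by simp [h0] at hb
    obtain ⟨c, hc⟩ := (mem_O_placeOf h x).1
      (show P.1 (algebraMap O X.functionField b)⁻¹ ≤ 1 by rw [map_inv₀, hb, inv_one])
    exact IsUnit.of_mul_eq_one c (IsFractionRing.injective O X.functionField
      (by rw [map_mul, hc, map_one, mul_inv_cancel₀ hb0]))
  have hm : Ideal.span {ϖ} = IsLocalRing.maximalIdeal O := by
    refine le_antisymm ((Ideal.span_singleton_le_iff_mem _).2 ?_) fun b hb => ?_
    · rw [IsLocalRing.mem_maximalIdeal, mem_nonunits_iff]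
      rintro ⟨v, rfl⟩
      have h1 : P.1 (algebraMap O X.functionField ((v⁻¹ : Oˣ) : O)) ≤ 1 := (mem_O_placeOf h x).2 ⟨_, rfl⟩
      have h2 := mul_le_mul' ht.le h1
      rw [← map_mul, ← map_mul, Units.mul_inv, map_one, map_one, mul_one, ← exp_zero, exp_le_exp] at h2
      omega
    · have hb1 : P.1 (algebraMap O X.functionField b) < 1 :=
        lt_of_le_of_ne ((mem_O_placeOf h x).2 ⟨b, rfl⟩) fun h1 =>
          (IsLocalRing.mem_maximalIdeal b).1 hb (hunit h1)
      obtain ⟨c, hc⟩ := (mem_O_placeOf h x).1 (show P.1 (algebraMap O X.functionField b /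
          algebraMap O X.functionField ϖ) ≤ 1 by
        rw [map_div₀, ht]
        refine (div_le_one₀ exp_pos).2 ?_
        generalize P.1 (algebraMap O X.functionField b) = z at hb1 ⊢
        rcases eq_or_ne z 0 with rfl | hz
        · exact zero_le
        · rw [← exp_log hz, ← exp_zero, exp_lt_exp] at hb1
          rw [← exp_log hz, exp_le_exp]
          omega)
      have hϖ0 : algebraMap O X.functionField ϖ ≠ 0 := fun h0 => by
        rw [h0, map_zero] at ht; exact exp_ne_zero ht.symm
      exact Ideal.mem_span_singleton'.2 ⟨c, IsFractionRing.injective O X.functionField (by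
        rw [map_mul, hc, div_mul_cancel₀ _ hϖ0])⟩
  have hϖ : ϖ ≠ 0 := fun h0 => by rw [h0, map_zero, map_zero] at ht; exact exp_ne_zero ht.symm
  have hd : P.deg = Module.finrank k (O ⧸ Ideal.span {ϖ}) :=
    (deg_placeOf h x).trans ((Submodule.quotEquivOfEq _ _ hm.symm).restrictScalars k).finrank_eq
  have hfin : Module.Finite k (O ⧸ Ideal.span {ϖ}) :=
    Module.finite_of_finrank_pos (hd ▸ FunFld.Existence.deg_pos hK P)
  obtain ⟨h1, h2⟩ := quot_pow hϖ hfin m
  have hsp : Ideal.span {ϖ ^ m} = Ideal.span {a} := by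
    obtain ⟨c, hc⟩ := (mem_O_placeOf h x).1 (show P.1 (algebraMap O X.functionField a /
        algebraMap O X.functionField ϖ ^ m) ≤ 1 by
      rw [map_div₀, map_pow, ht, ha, ← exp_nsmul]; simp)
    have hϖK : algebraMap O X.functionField ϖ ^ m ≠ 0 :=
      pow_ne_zero _ fun h0 => hϖ (IsFractionRing.injective O X.functionField (h0.trans (map_zero _).symm))
    have hac : a = c * ϖ ^ m := IsFractionRing.injective O X.functionField
      (by rw [map_mul, map_pow, hc, div_mul_cancel₀ _ hϖK])
    have hcu : IsUnit c := hunit (by rw [hc, map_div₀, map_pow, ht, ha, ← exp_nsmul]; simp)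
    rw [hac]
    exact (Ideal.span_singleton_mul_left_unit hcu _).symm
  let eq := ((Submodule.quotEquivOfEq _ _ hsp).restrictScalars k)
  haveI := h1
  exact ⟨Module.Finite.equiv eq, by rw [← eq.finrank_eq, h2, ← hd]⟩

include hK in
/-- The degree changes by the difference of the divisors along a nonzero map. -/
theorem deg_sub_eq_of_hom (R : Rep L) (S : Rep M) {f : X.functionField} (hf : f ≠ 0)
    (hle : ∀ x : CPt X, (placeOf k h x).1 f * exp (R.e k h x) ≤ exp (S.e k h x)) :
    Curv2.deg k X M 1 - Curv2.deg k X L 1 =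
      (S.div h hK).deg - (R.div h hK).deg := by
  classical
  obtain ⟨ψ, hψ⟩ := exists_hom h R S f hle
  have hne : ψ ≠ 0 := fun h0 => by
    have h1 := hψ (genericPoint X) (R.gen (genericPoint X))
    rw [h0, Modules.StalkModule.stalkMapₗ_zero, LinearMap.zero_apply, map_zero] at h1
    exact mul_ne_zero hf (R.gen_ne _) h1.symm
  haveI := Curves.GlobalSections.noetherianSpace_of_proper k X
  haveI := Curves.Positivity.mono_of_ne_zero R.inv S.inv hne
  obtain ⟨-, hdeg⟩ := Curves.Positivity.deg_add_hdim_cokernel (k := k) h.dim.le R.inv S.inv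
    (Curves.Degree.isGood (k := k) h.dim.le R.inv) (Curves.Degree.isGood (k := k) h.dim.le S.inv) hne
  let D := S.div h hK - R.div h hK + _root_.FunFld.div k f
  have hDx : ∀ x : CPt X, ∃ m : ℕ, D (placeOf k h x) = m ∧
      exp (S.e k h x) = exp (m : ℤ) * ((placeOf k h x).1 f * exp (R.e k h x)) := fun x => by
    have h1 := hle x
    rw [FunFld.Place.val_eq_exp _ hf, ← exp_add, exp_le_exp] at h1
    refine ⟨(S.e k h x - R.e k h x + (placeOf k h x).ord f).toNat, ?_, ?_⟩
    · rw [Finsupp.add_apply, Finsupp.sub_apply, S.div_placeOf, R.div_placeOf,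
        FunFld.Degree.div_apply hK, Int.toNat_of_nonneg (by omega)]
    · rw [Int.toNat_of_nonneg (by omega), FunFld.Place.val_eq_exp _ hf, ← exp_add, ← exp_add]
      congr 1
      ring
  choose m hm hmv using hDx
  have hS := Curves.Positivity.cokerSES_shortExact ψ
  have hstalk : ∀ x : CPt X, Module.Finite k ((cokernel ψ).presheaf.stalk x.1) ∧
      Module.finrank k ((cokernel ψ).presheaf.stalk x.1) = m x * (placeOf k h x).deg := by
    intro x
    let O := X.presheaf.stalk x.1
    obtain ⟨a, ha⟩ := S.gen_span x.1 (stalkMapₗ ψ x.1 (R.gen x.1))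
    have hva : (placeOf k h x).1 (algebraMap O X.functionField a) = exp (-(m x : ℤ)) := by
      have h2 : (placeOf k h x).1 (S.pr x.1 (a • S.gen x.1)) =
          (placeOf k h x).1 (f * R.pr x.1 (R.gen x.1)) := by rw [ha, hψ]
      rw [S.pr_smul, map_mul, map_mul, S.val_gen, R.val_gen, hmv x, ← mul_assoc] at h2
      have hne' : (placeOf k h x).1 f * exp (R.e k h x) ≠ 0 :=
        mul_ne_zero ((Valuation.ne_zero_iff _).2 hf) exp_ne_zero
      rw [exp_neg]
      exact eq_inv_of_mul_eq_one_left (mul_right_cancel₀ hne' (h2.trans (one_mul _).symm))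
    obtain ⟨hfin, hrk⟩ := deg_quot h hK x a (m x) hva
    let π : M.presheaf.stalk x.1 →ₗ[O] (cokernel ψ).presheaf.stalk x.1 :=
      stalkMapₗ (cokernel.π ψ) x.1
    have hπ : Function.Surjective π :=
      (Modules.StalkModule.epi_iff_stalkMapₗ_surjective (cokernel.π ψ)).1 inferInstance x.1
    haveI : PreservesFiniteColimits (stalkModFunctor X x.1) :=
      PreservesColimitsOfSize.preservesFiniteColimits _
    have hex : Function.Exact (stalkMapₗ ψ x.1) π :=
      (ShortComplex.ShortExact.moduleCat_exact_iff_function_exact _).1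
        (hS.map_of_exact (stalkModFunctor X x.1)).exact
    let g : O →ₗ[O] (cokernel ψ).presheaf.stalk x.1 :=
      π.comp (LinearMap.toSpanSingleton O _ (S.gen x.1))
    have hg : Function.Surjective g := fun y => by
      obtain ⟨w, rfl⟩ := hπ y
      obtain ⟨b, rfl⟩ := S.gen_span x.1 w
      exact ⟨b, rfl⟩
    have hgk : LinearMap.ker g = Ideal.span {a} := by
      ext b
      simp only [g, LinearMap.mem_ker, LinearMap.comp_apply, LinearMap.toSpanSingleton_apply]
      rw [hex, Ideal.mem_span_singleton']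
      constructor
      · rintro ⟨w, hw⟩
        obtain ⟨c, rfl⟩ := R.gen_span x.1 w
        rw [map_smul, ← ha, smul_smul] at hw
        refine ⟨c, sub_eq_zero.1 (S.gen_free ?_)⟩
        show (c * a - b) • S.gen x.1 = 0
        rw [sub_smul, hw, sub_self]
      · rintro ⟨c, rfl⟩
        exact ⟨c • R.gen x.1, by rw [map_smul, ← ha, smul_smul]⟩
    let e0 := (Submodule.quotEquivOfEq _ _ hgk.symm).trans (g.quotKerEquivOfSurjective hg)
    let e1 : (O ⧸ Ideal.span {a}) ≃ₗ[k] (cokernel ψ).presheaf.stalk x.1 :=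
      { e0 with
        map_smul' := fun c y => by
          show e0 (c • y) = Curv2.stalkMap k X x.1 c • e0 y
          rw [← map_smul]
          exact congrArg e0 (algebraMap_smul O c y).symm }
    haveI := hfin
    exact ⟨Module.Finite.equiv e1, by rw [← e1.finrank_eq, hrk]⟩
  let T : Finset (CPt X) := D.support.map (placeEquiv (k := k) h).symm.toEmbedding
  have key := SkySections.finrank_h0 (k := k) (cokernel ψ) (T.map ⟨Subtype.val, Subtype.val_injective⟩)
    (fun z hz => by
      obtain ⟨x, -, rfl⟩ := Finset.mem_map.1 hz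
      exact x.2)
    (fun z hz => by
      rcases SmoothCurve.Curve.eq_genericPoint_or_isClosed h.dim z with rfl | hzc
      · refine Curves.Positivity.isTorsion_cokernel R.inv S.inv hne _ ?_
        show closure ({genericPoint X} : Set X) ∈ irreducibleComponents X
        rw [genericPoint_closure, irreducibleComponents_eq_singleton]
        exact rfl
      · have h0 : m ⟨z, hzc⟩ = 0 := by
          have hDz : D (placeOf k h ⟨z, hzc⟩) = 0 := Finsupp.notMem_support_iff.1 fun hmem =>
            hz (Finset.mem_map_of_mem ⟨Subtype.val, Subtype.val_injective⟩ (a := (⟨z, hzc⟩ : CPt X))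
              (Finset.mem_map_equiv.2 hmem))
          have := hm ⟨z, hzc⟩
          omega
        obtain ⟨hf1, hr1⟩ := hstalk ⟨z, hzc⟩
        rw [h0, zero_mul] at hr1
        haveI := hf1
        exact Module.finrank_zero_iff.1 hr1)
    (fun z hz => by
      obtain ⟨x, -, rfl⟩ := Finset.mem_map.1 hz
      exact (hstalk x).1)
  have hsum : (Curves.Euler.hdim k X (cokernel ψ) 0 : ℤ) = D.deg := by
    show (Module.finrank k (Coh.HH X (cokernel ψ) 0) : ℤ) = _
    rw [key, Finset.sum_map, Nat.cast_sum, Finset.sum_map, _root_.FunFld.Divisor.deg, Finsupp.sum]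
    refine Finset.sum_congr rfl fun Q hQ => ?_
    refine (congrArg (Nat.cast : ℕ → ℤ) (hstalk ((placeEquiv (k := k) h).symm Q)).2).trans ?_
    push_cast
    rw [← hm]
    have := (placeEquiv (k := k) h).apply_symm_apply Q
    exact congrArg (fun P : _root_.FunFld.Place k X.functionField => D P * (P.deg : ℤ)) this
  rw [hsum] at hdeg
  have hD : D.deg = (S.div h hK).deg - (R.div h hK).deg := by
    rw [FunFld.Degree.deg_add, FunFld.Degree.deg_sub, FunFld.Degree.deg_div hK, add_zero]
  omega

end Groth.Agent.Lib.CurveFF.LineDiv
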