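import Groth.Agent.Lib.CurveFF.Embedded
import Groth.Agent.Lib.CurveFF.FieldExt
import Groth.Agent.Lib.CurveFF.LineDiv
import Groth.Agent.Lib.Curves.VeryAmple

/-!
The function field of a curve birational onto its image is generated by ratios of the sections.
-/

noncomputable section
set_option autoImplicit false
set_option linter.style.haveILetI false
universe u

open CategoryTheory CategoryTheory.Limits AlgebraicGeometry TopologicalSpace Opposite
open Groth.Agent.Lib.TensorMod Groth.Agent.Lib.TensorMod.Gen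
open Groth.Agent.Lib.ProjSpace Groth.Agent.Lib.Ample.GenLocus Groth.Agent.Lib.ProjMor.Sec
open Groth.Agent.Lib.TensorMod.Dual Groth.Agent.Lib.TensorMod.Basic

namespace Groth.Agent.Lib.CurveFF.BirationalGen
open Groth.Agent.Lib.CurveFF.Embedded

attribute [local instance] Curv2.stalkAlgebra

variable {k : Type u} [Field k] {n : ℕ}

local notation "𝒜" => CohB1.polyGrading n k

/-- A morphism that is an isomorphism over a nonempty open is an isomorphism of function fields. -/
theorem generic_facts {X Y : Scheme.{u}} [IsIntegral X] [IsIntegral Y] (φ : X ⟶ Y)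
    (hbir : ∃ U : Y.Opens, (U : Set Y).Nonempty ∧ IsIso (φ ∣_ U)) :
    φ (genericPoint X) = genericPoint Y ∧
      ∀ e : φ (genericPoint X) = genericPoint Y, Function.Surjective (FieldExt.kMap φ e) := by
  obtain ⟨U, hne, hiso⟩ := hbir
  obtain ⟨y, hy⟩ := hne
  haveI := hiso
  obtain ⟨⟨x, hxU⟩, -⟩ := (φ ∣_ U).surjective ⟨y, hy⟩
  have hηU : genericPoint X ∈ φ ⁻¹ᵁ U := (genericPoint_specializes x).mem_open (φ ⁻¹ᵁ U).2 hxU
  have e : φ (genericPoint X) = genericPoint Y := by
    obtain ⟨⟨x', hx'U⟩, hx'⟩ := (φ ∣_ U).surjective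
      ⟨genericPoint Y, (genericPoint_specializes y).mem_open U.2 hy⟩
    have h1 : φ x' = genericPoint Y := by
      have := congrArg Subtype.val hx'
      exact (congrArg (fun g : (φ ⁻¹ᵁ U).toScheme ⟶ Y => g ⟨x', hx'U⟩) (morphismRestrict_ι φ U)).symm.trans this
    have h2 : φ (genericPoint X) ⤳ genericPoint Y := by
      rw [← h1]; exact (genericPoint_specializes x').map φ.continuous
    exact (h2.antisymm (genericPoint_specializes _)).eq
  refine ⟨e, fun e' => ?_⟩
  have h1 : IsIso ((φ ∣_ U).stalkMap ⟨genericPoint X, hηU⟩) :=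
    ((AlgebraicGeometry.isIso_iff_isIso_stalkMap _).1 hiso).2 _
  have h2 : IsIso (φ.stalkMap (genericPoint X)) :=
    ((MorphismProperty.isomorphisms _).arrow_mk_iso_iff
      (morphismRestrictStalkMap φ U ⟨genericPoint X, hηU⟩)).1 h1
  haveI := h2
  have h3 : IsIso (Y.presheaf.stalkSpecializes (specializes_of_eq e') ≫ φ.stalkMap (genericPoint X)) := by
    rw [show Y.presheaf.stalkSpecializes (specializes_of_eq e') =
      (Y.presheaf.stalkCongr (Inseparable.of_eq e'.symm)).hom from rfl]
    infer_instance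
  exact (ConcreteCategory.bijective_of_isIso
    (Y.presheaf.stalkSpecializes (specializes_of_eq e') ≫ φ.stalkMap (genericPoint X))).2

variable {X : Scheme.{u}} [X.Over (Spec (CommRingCat.of k))] [IsIntegral X]

/-- If all ratios of sections of a morphism birational onto a closed image lie in an intermediate
field, so does the function field. -/
theorem mem_of_birational {L : X.Modules} (R : LineDiv.Rep L)
    {Y : Scheme.{u}} [IsIntegral Y] (φ : X ⟶ Y) (j : Y ⟶ CohB1.ProjSpace n k) [IsClosedImmersion j]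
    (hbir : ∃ U : Y.Opens, (U : Set Y).Nonempty ∧ IsIso (φ ∣_ U))
    (r : X ⟶ CohB1.ProjSpace n k) (hrφ : r = φ ≫ j)
    (hr : r ≫ CohB1.ProjSpace.toSpec n k = X ↘ Spec (CommRingCat.of k))
    (τ : (Scheme.Modules.pullback r).obj (Twist.twistProjSpace n k 1) ≅ L)
    (E : IntermediateField k X.functionField)
    (hE : ∀ s t : Γ(L, ⊤), R.coord (L.presheaf.germ ⊤ (genericPoint X) trivial s) /
      R.coord (L.presheaf.germ ⊤ (genericPoint X) trivial t) ∈ E)
    (f : X.functionField) : f ∈ E := by
  classical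
  subst hrφ
  obtain ⟨hgenφ, hsur⟩ := generic_facts φ hbir
  set r := φ ≫ j with hrdef
  let el : Fin (n + 1) → 𝒜 1 := fun i => ⟨MvPolynomial.X i, MvPolynomial.isHomogeneous_X k i⟩
  obtain ⟨l, hl⟩ : ∃ l, r (genericPoint X) ∈ Proj.basicOpen 𝒜 (MvPolynomial.X l) :=
    Opens.mem_iSup.mp ((Basic.iSup_basicOpen_X_eq_top n k).ge trivial)
  let D : (CohB1.ProjSpace n k).Opens := Proj.basicOpen 𝒜 (MvPolynomial.X l)
  have hD : IsAffineOpen D := Basic.isAffineOpen_basicOpen_X (R := k) l
  let U : X.Opens := r ⁻¹ᵁ D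
  let V : Y.Opens := j ⁻¹ᵁ D
  have hV : IsAffineOpen V := hD.preimage j
  have hη : genericPoint X ∈ U := hl
  let s : Fin (n + 1) → Γ(L, ⊤) := fun i =>
    τ.hom.app ⊤ (ProjUP.pullSec r (Twist.twistProjSpace n k 1) (ProjUP.coord n k i))
  let gs : Γ(L, ⊤) → X.functionField := fun t =>
    R.coord (L.presheaf.germ ⊤ (genericPoint X) trivial t)
  -- the ratio relation at the generic point
  have hrel : ∀ j, gs (s j) = X.presheaf.germ U (genericPoint X) hη
      (r.app D (ProjMor.Frame.fr 𝒜 (el l) (el j))) * gs (s l) := by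
    intro j
    have h1 := ProjMor.Embed.ratio_of_iso (a := el l) (b := el j) (va := s l) (vb := s j) τ rfl rfl
      (U := U) le_rfl
    have h2 := congrArg (fun v => R.coord (L.presheaf.germ U (genericPoint X) hη v)) h1
    refine Eq.trans ?_ (h2.trans ?_)
    · exact congrArg R.coord (TopCat.Presheaf.germ_res_apply L.presheaf _ _ hη (s j)).symm
    · rw [Modules.StalkModule.germ_smul, map_smul, smul_eq_mul]
      refine congrArg₂ (fun a b : X.functionField => a * b) ?_ ?_
      · exact congrArg (fun φ => X.presheaf.germ U (genericPoint X) hη (φ (ProjMor.Frame.fr 𝒜 (el l) (el j))))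
          (Scheme.Hom.appLE_eq_app r)
      · exact congrArg R.coord (TopCat.Presheaf.germ_res_apply L.presheaf _ _ hη (s l))
  have hne : gs (s l) ≠ 0 := by
    intro h0
    have hinv : PicF.IsInvertible (Twist.twist 𝒜 1) :=
      ProjTilde.Invertible.twist_isInvertible_of_cover (fun y => by
        obtain ⟨c, hc⟩ := ProjMor.Main.cover (ProjMor.Poly.lin_mem n k) (ProjMor.Poly.adjoin_lin n k) y
        exact ⟨c, c.2, hc⟩) 1
    have hle : U ≤ locus (s l) := by
      rw [show U = r ⁻¹ᵁ Proj.basicOpen 𝒜 (el l : MvPolynomial (Fin (n + 1)) k) from rfl,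
        ← ProjMor.Frame.locus_g (ProjMor.Main.cover (ProjMor.Poly.lin_mem n k) (ProjMor.Poly.adjoin_lin n k)) (el l)]
      exact ((locus_iso τ _).trans (locus_pullback hinv r _)).ge
    have hgen : IsGen L U (rs L le_top (s l)) := by
      have h := (isGen_locus (s l)).res hle
      rwa [rs_rs] at h
    have hg0 : L.presheaf.germ U (genericPoint X) hη (rs L (le_top : U ≤ ⊤) (s l)) =
        L.presheaf.germ U (genericPoint X) hη 0 := by
      rw [map_zero]
      exact R.coord.injective (((congrArg R.coord (TopCat.Presheaf.germ_res_apply L.presheaf _ _ hη (s l))).trans h0).trans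
        (map_zero R.coord).symm)
    obtain ⟨W, hW, i₁, i₂, hW0⟩ := TopCat.Presheaf.germ_eq L.presheaf _ hη hη _ _ hg0
    rw [map_zero] at hW0
    haveI : Nonempty W := ⟨⟨_, hW⟩⟩
    refine one_ne_zero (α := Γ(X, W)) ((hgen W i₁.le).1 ?_)
    simp only [one_smul, zero_smul]
    exact hW0
  -- the chart map
  let ψ : MvPolynomial {j : Fin (n + 1) // j ≠ l} k →+* X.functionField :=
    ((X.presheaf.germ U (genericPoint X) hη).hom.comp (r.app D).hom).comp
      ((Proj.awayToSection 𝒜 (MvPolynomial.X l)).hom.comp (Charts.fromPoly k l))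
  have hψC : ∀ c, ψ (MvPolynomial.C c) = algebraMap k X.functionField c := by
    intro c
    have h1 := congrArg (fun φ => φ c) (congrArg CommRingCat.Hom.hom (constants_chart (k := k) (n := n) l))
    show X.presheaf.germ U (genericPoint X) hη
      (r.app D (Proj.awayToSection 𝒜 (MvPolynomial.X l) (Charts.fromPoly k l (MvPolynomial.C c)))) = _
    rw [Charts.fromPoly_C]
    have h1' : Proj.awayToSection 𝒜 (MvPolynomial.X l) (Charts.constHom k l c) =
        (CohB1.ProjSpace.toSpec n k).appLE ⊤ D le_top ((Scheme.ΓSpecIso (CommRingCat.of k)).inv c) := h1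
    refine (congrArg (fun z => X.presheaf.germ U (genericPoint X) hη (r.app D z)) h1').trans ?_
    have h2 : r.app D ((CohB1.ProjSpace.toSpec n k).appLE ⊤ D le_top
        ((Scheme.ΓSpecIso (CommRingCat.of k)).inv c)) =
        X.presheaf.map (homOfLE (le_top : U ≤ ⊤)).op (Coh.toGlobal (X ↘ Spec (CommRingCat.of k)) c) := by
      have key : ∀ (p : X ⟶ Spec (CommRingCat.of k)), r ≫ CohB1.ProjSpace.toSpec n k = p →
          (r ≫ CohB1.ProjSpace.toSpec n k).appLE ⊤ U le_top = p.appLE ⊤ U le_top := by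
        rintro p rfl; rfl
      have h3 := key _ hr
      rw [← Scheme.Hom.appLE_comp_appLE r (CohB1.ProjSpace.toSpec n k) ⊤ D U le_top le_rfl,
        Scheme.Hom.appLE_eq_app r] at h3
      exact congrArg (fun φ => φ.hom ((Scheme.ΓSpecIso (CommRingCat.of k)).inv c)) h3
    exact (congrArg _ h2).trans (TopCat.Presheaf.germ_res_apply X.presheaf _ _ hη _)
  have hψX : ∀ j, ψ (MvPolynomial.X j) = gs (s j.1) / gs (s l) := by
    intro j
    show X.presheaf.germ U (genericPoint X) hη
      (r.app D (Proj.awayToSection 𝒜 (MvPolynomial.X l) (Charts.fromPoly k l (MvPolynomial.X j)))) = _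
    rw [eq_div_iff hne, hrel j.1]
    refine congrArg (fun z => X.presheaf.germ U (genericPoint X) hη (r.app D z) * gs (s l)) ?_
    refine congrArg (Proj.awayToSection 𝒜 (MvPolynomial.X l)) ?_
    refine HomogeneousLocalization.val_injective _ ?_
    refine (congrArg HomogeneousLocalization.val (Charts.fromPoly_X l j)).trans ?_
    rw [Charts.val_coord, HomogeneousLocalization.Away.val_mk]
    simp only [pow_one]
    rfl
  have hψE : ∀ p, ψ p ∈ E := by
    intro p
    induction p using MvPolynomial.induction_on with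
    | C c => rw [hψC]; exact E.algebraMap_mem c
    | add a b ha hb => rw [map_add]; exact add_mem ha hb
    | mul_X a j ha => rw [map_mul, hψX]; exact mul_mem ha (hE _ _)
  have hηV : genericPoint Y ∈ V := by
    have h := hη
    change j (φ (genericPoint X)) ∈ D at h
    rwa [hgenφ] at h
  have hsurj : ∀ a : Γ(Y, V), ∃ p, ψ p =
      FieldExt.kMap φ hgenφ (Y.presheaf.germ V (genericPoint Y) hηV a) := by
    intro a
    haveI : IsAffine D := hD
    obtain ⟨b, rfl⟩ := j.app_surjective D hD a
    obtain ⟨c, rfl⟩ := (ConcreteCategory.bijective_of_isIso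
      (Proj.basicOpenIsoAway 𝒜 (MvPolynomial.X l) (Charts.X_mem_one l) one_pos).hom).2 b
    obtain ⟨p, rfl⟩ := (Charts.fromPoly_bijective (R := k) l).2 c
    exact ⟨p, (FieldExt.kMap_germ φ hgenφ V hηV hη _).symm⟩
  haveI : Nonempty V := ⟨⟨_, hηV⟩⟩
  haveI := functionField_isFractionRing_of_isAffineOpen Y V hV
  obtain ⟨f', rfl⟩ := hsur hgenφ f
  obtain ⟨a, b, -, rfl⟩ := IsFractionRing.div_surjective (A := Γ(Y, V)) f'
  obtain ⟨p, hp⟩ := hsurj a
  obtain ⟨q, hq⟩ := hsurj b
  rw [map_div₀]
  show FieldExt.kMap φ hgenφ (Y.presheaf.germ V (genericPoint Y) hηV a) /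
    FieldExt.kMap φ hgenφ (Y.presheaf.germ V (genericPoint Y) hηV b) ∈ E
  rw [← hp, ← hq]
  exact div_mem (hψE p) (hψE q)

end Groth.Agent.Lib.CurveFF.BirationalGen
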