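import Groth.Agent.Lib.CurveFF.CanonRatioFF
import Groth.Agent.Lib.CurveFF.SmoothBC
import Groth.Agent.Lib.CurveFF.AutoMap
import Groth.Agent.Lib.ProjMor.Sec

/-!
A smooth curve of genus at least two has a canonical function with nonzero differential.
-/

noncomputable section
set_option autoImplicit false
set_option linter.style.haveILetI false
universe u

open CategoryTheory CategoryTheory.Limits AlgebraicGeometry TopologicalSpace Opposite
open Groth.Agent.Lib.TensorMod Groth.Agent.Lib.TensorMod.Gen Groth.Agent.Lib.TensorMod.Dual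
  Groth.Agent.Lib.TensorMod.Pullback Groth.Agent.Lib.Ample.GenLocus Groth.Agent.Lib.ProjMor.Sec

namespace Groth.Agent.Lib.CurveFF.CanonRatio

attribute [local instance] Curv2.stalkAlgebra

/-- The coordinate of a global section. -/
def secCoord {X : Scheme.{u}} [IsIntegral X] {L : X.Modules} (R : LineDiv.Rep L) (s : Γ(L, ⊤)) :
    X.functionField :=
  R.coord (L.presheaf.germ ⊤ (genericPoint X) trivial s)

theorem secCoord_add {X : Scheme.{u}} [IsIntegral X] {L : X.Modules} (R : LineDiv.Rep L)
    (s t : Γ(L, ⊤)) : secCoord R (s + t) = secCoord R s + secCoord R t :=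
  (congrArg R.coord (map_add _ s t)).trans (map_add _ _ _)

theorem secCoord_injective {X : Scheme.{u}} [IsIntegral X] {L : X.Modules} (R : LineDiv.Rep L) :
    Function.Injective (secCoord R) := fun a b hab => by
  refine TopCat.Presheaf.section_ext (⟨L.presheaf, L.isSheaf⟩ : TopCat.Sheaf Ab X.toTopCat) ⊤ a b
    fun x _ => R.pr_injective x ?_
  exact ((R.pr_germ (U := ⊤) (x := x) trivial a).trans hab).trans
    (R.pr_germ (U := ⊤) (x := x) trivial b).symm

section Curve

variable {k : Type u} [Field k] {X : Scheme.{u}} [X.Over (Spec (CommRingCat.of k))] [IsIntegral X]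

variable [IsProper (X ↘ Spec (CommRingCat.of k))]

theorem secCoord_smul {L : X.Modules} (R : LineDiv.Rep L) (c : k) (s : Γ(L, ⊤)) :
    letI := Curves.GlobalSections.secModule k L
    secCoord R (c • (show (L.val.obj (op ⊤) : Type u) from s)) = c • secCoord R s := by
  refine (congrArg R.coord (Modules.StalkModule.germ_smul (M := L) (U := ⊤)
    (x := genericPoint X) trivial (Coh.toGlobal (X ↘ Spec (CommRingCat.of k)) c) s)).trans ?_
  exact LineDiv.coord_smul R c _

/-- The coordinates of spanning sections span the Riemann–Roch space. -/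
theorem mem_span (h : CurveHyp X) (hK : _root_.FunFld.IsFunctionField k X.functionField)
    {L : X.Modules} (R : LineDiv.Rep L) {ι : Type*} (s : ι → Γ(L, ⊤))
    (hspan : letI := Curves.GlobalSections.secModule k L
      Submodule.span k (Set.range fun j => (show (L.val.obj (op ⊤) : Type u) from s j)) = ⊤)
    {a : X.functionField} (ha : a ∈ _root_.FunFld.L (R.div h hK)) :
    a ∈ Submodule.span k (Set.range fun i => secCoord R (s i)) := by
  letI := Curves.GlobalSections.secModule k L
  let Φ : (L.val.obj (op ⊤) : Type u) →ₗ[k] _root_.FunFld.L (R.div h hK) :=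
    { toFun := fun t => ⟨secCoord R t, fun P => by
        obtain ⟨x, rfl⟩ := placeOf_surjective (k := k) h P
        exact (R.mem_div h hK x _).1 ⟨_, R.pr_germ (U := ⊤) (x := x.1) trivial t⟩⟩
      map_add' := fun t t' => Subtype.ext (secCoord_add R t t')
      map_smul' := fun c t => Subtype.ext (secCoord_smul R c t) }
  have hinj : Function.Injective Φ := fun t t' e => secCoord_injective R (congrArg Subtype.val e)
  haveI := FunFld.Degree.finiteDimensional_L hK (R.div h hK)
  haveI : Module.Finite k (L.val.obj (op ⊤) : Type u) := Module.Finite.of_injective Φ hinj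
  have hfr : Module.finrank k (L.val.obj (op ⊤) : Type u) =
      Module.finrank k (_root_.FunFld.L (R.div h hK)) :=
    (Curves.GlobalSections.h0Linear k L).finrank_eq.symm.trans (R.finrank_h0 h hK)
  obtain ⟨t, ht⟩ := (LinearMap.injective_iff_surjective_of_finrank_eq_finrank hfr).1 hinj ⟨a, ha⟩
  rw [show a = secCoord R t from (congrArg Subtype.val ht).symm]
  have ht' : t ∈ Submodule.span k (Set.range fun j => (show (L.val.obj (op ⊤) : Type u) from s j)) :=
    hspan ▸ Submodule.mem_top
  have hm := Submodule.mem_map_of_mem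
    (f := (_root_.FunFld.L (R.div h hK)).subtype ∘ₗ Φ) ht'
  rw [Submodule.map_span] at hm
  refine Submodule.span_mono ?_ hm
  rintro _ ⟨_, ⟨i, rfl⟩, rfl⟩
  exact ⟨i, rfl⟩

end Curve

/-- Ratios of pulled back sections are pulled back ratios. -/
theorem secCoord_pullSec {X X' : Scheme.{u}} [IsIntegral X] [IsIntegral X'] (g : X' ⟶ X)
    (e : g (genericPoint X') = genericPoint X) {L : X.Modules} (R : LineDiv.Rep L)
    (R' : LineDiv.Rep ((Scheme.Modules.pullback g).obj L)) (s t : Γ(L, ⊤)) (r : X.functionField)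
    (hr : secCoord R s = r * secCoord R t) :
    secCoord R' (ProjUP.pullSec g L s) = FieldExt.kMap g e r * secCoord R' (ProjUP.pullSec g L t) := by
  obtain ⟨V, hV, a, ha⟩ := X.presheaf.exists_germ_eq r
  have hgerm : L.presheaf.germ V (genericPoint X) hV (rs L (le_top : V ≤ ⊤) s) =
      L.presheaf.germ V (genericPoint X) hV (a • rs L (le_top : V ≤ ⊤) t) := by
    apply R.coord.injective
    refine ((congrArg R.coord (TopCat.Presheaf.germ_res_apply L.presheaf _ _ hV s)).trans hr).trans ?_
    rw [Modules.StalkModule.germ_smul, map_smul, smul_eq_mul, ha]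
    exact congrArg (r * ·) (congrArg R.coord (TopCat.Presheaf.germ_res_apply L.presheaf _ _ hV t)).symm
  obtain ⟨W, hW, i₁, i₂, hWeq⟩ := TopCat.Presheaf.germ_eq L.presheaf _ hV hV _ _ hgerm
  let a' : Γ(X, W) := X.presheaf.map i₂.op a
  have hWeq' : rs L (le_top : W ≤ ⊤) s = a' • rs L (le_top : W ≤ ⊤) t := by
    refine ((rs_rs (M := L) (le_top : V ≤ ⊤) i₁.le s).symm.trans hWeq).trans ?_
    refine (rs_smul _ _ _ _).trans ?_
    exact congrArg (a' • ·) (rs_rs (M := L) (le_top : V ≤ ⊤) i₂.le t)
  have h1 := congrArg (unitSec g L) hWeq'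
  rw [Ample.GenLocus.unitSec_smul] at h1
  let L' := (Scheme.Modules.pullback g).obj L
  have h2 : rs L' (le_top : g ⁻¹ᵁ W ≤ ⊤) (ProjUP.pullSec g L s) =
      g.app W a' • rs L' (le_top : g ⁻¹ᵁ W ≤ ⊤) (ProjUP.pullSec g L t) :=
    (gl_pullSec g s W).trans (h1.trans
      (congrArg (g.app W a' • ·) (gl_pullSec g t W).symm))
  have hW' : genericPoint X' ∈ g ⁻¹ᵁ W := show g (genericPoint X') ∈ W by rw [e]; exact hW
  have h3 := congrArg (fun v => R'.coord (L'.presheaf.germ (g ⁻¹ᵁ W) (genericPoint X') hW' v)) h2
  refine ((congrArg R'.coord (TopCat.Presheaf.germ_res_apply L'.presheaf _ _ hW' _)).symm.trans h3).trans ?_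
  rw [Modules.StalkModule.germ_smul, map_smul, smul_eq_mul]
  refine congrArg₂ (fun p q : X'.functionField => p * q) ?_
    (congrArg R'.coord (TopCat.Presheaf.germ_res_apply L'.presheaf _ _ hW' _))
  refine (FieldExt.kMap_germ g e W hW hW' a').symm.trans (congrArg (FieldExt.kMap g e) ?_)
  exact (TopCat.Presheaf.germ_res_apply X.presheaf i₂ _ hW a).trans ha

variable {k : Type u} [Field k] {X : Scheme.{u}} [X.Over (Spec (CommRingCat.of k))]
  [IsIntegral X] [IsProper (X ↘ Spec (CommRingCat.of k))] [Smooth (X ↘ Spec (CommRingCat.of k))]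

/-- A canonical function with nonzero differential. -/
theorem exists_function (hdim : topologicalKrullDim X = 1)
    (h0 : Module.finrank k (Coh.HH X (Coh.structureModule X) 0) = 1) (hg : 2 ≤ Curv2.genus k X) :
    ∃ (W : _root_.FunFld.Divisor k X.functionField) (x : X.functionField),
      0 ≤ W ∧ W.deg = 2 * (Curv2.genus k X : ℤ) - 2 ∧ x ∈ _root_.FunFld.L W ∧
        KaehlerDifferential.D k X.functionField x ≠ 0 := by
  have hC := curveHyp_of_smooth k hdim
  have hK := isFunctionField (k := k) hC h0
  obtain ⟨R, hR⟩ := SmoothBC.exists_rep hdim h0 hC hK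
  let Ω := Omega.sheaf (X ↘ Spec (CommRingCat.of k))
  -- the base change
  let K' := AlgebraicClosure k
  let b := Spec.map (CommRingCat.ofHom (algebraMap k K'))
  let X' := pullback (X ↘ Spec (CommRingCat.of k)) b
  letI : X'.Over (Spec (CommRingCat.of K')) := ⟨pullback.snd (X ↘ Spec (CommRingCat.of k)) b⟩
  let g : X' ⟶ X := pullback.fst (X ↘ Spec (CommRingCat.of k)) b
  have hpb : IsPullback g (X' ↘ Spec (CommRingCat.of K')) (X ↘ Spec (CommRingCat.of k)) b :=
    IsPullback.of_hasPullback (X ↘ Spec (CommRingCat.of k)) b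
  haveI := Curves.BaseChange.isProper hpb
  haveI : Smooth (X' ↘ Spec (CommRingCat.of K')) := MorphismProperty.of_isPullback hpb inferInstance
  have hdim' : topologicalKrullDim X' = 1 :=
    (H56.DimBaseChange.topologicalKrullDim_baseChange b (X ↘ Spec (CommRingCat.of k))
      (X' ↘ Spec (CommRingCat.of K')) g hpb).trans hdim
  have h0' : Module.finrank K' (Coh.HH X' (Coh.structureModule X') 0) = 1 :=
    (Curves.BaseChange.hdim_structureModule hpb 0).trans h0
  haveI : Surjective b := ⟨fun _ => ⟨IsLocalRing.closedPoint K', Subsingleton.elim (α := PrimeSpectrum k) _ _⟩⟩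
  haveI : Surjective g := MorphismProperty.of_isPullback hpb.flip inferInstance
  haveI : Nonempty X' := g.surjective.nonempty
  haveI : ConnectedSpace X' := S1534.connectedSpace_of_h0 (k := K') h0'
  haveI : IsIntegral X' := CurveBundle.SmoothField.isIntegral K' hdim'.le
  have hC' := curveHyp_of_smooth K' hdim'
  have hK' := isFunctionField (k := K') hC' h0'
  have eg : g (genericPoint X') = genericPoint X := by
    obtain ⟨y, hy⟩ := g.surjective (genericPoint X)
    have h1 := (genericPoint_specializes y).map g.continuous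
    rw [hy] at h1
    exact (h1.antisymm (genericPoint_specializes _)).eq
  -- a spanning family
  haveI : IsNoetherian X := Curves.GlobalSections.isNoetherian_of_proper k X
  haveI := TensorMod.QCohInv.isQCoh_of_isInvertible R.inv
  letI := Curves.GlobalSections.secModule k Ω
  haveI : Module.Finite k (Ω.val.obj (op ⊤) : Type u) := by
    haveI := (Curves.Degree.isGood (k := k) hdim.le R.inv).fin₀
    exact Module.Finite.equiv (Curves.GlobalSections.h0Linear k Ω)
  let bs := Module.finBasis k (Ω.val.obj (op ⊤) : Type u)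
  let s : Fin _ → Γ(Ω, ⊤) := fun i => bs i
  have hspan : Submodule.span k (Set.range fun j => (show (Ω.val.obj (op ⊤) : Type u) from s j)) = ⊤ :=
    bs.span_eq
  have hspan' := Curves.BaseChange.span_pullSec_of_span hpb Ω s hspan
  obtain ⟨hh, hd⟩ := SmoothBC.omega_facts (k := k) hdim h0
  obtain ⟨R'⟩ := LineDiv.nonempty_rep (PicLoc.isInvertible_pullback g R.inv)
  have hg' : 2 ≤ _root_.FunFld.genus K' X'.functionField := by
    rw [← genus_eq hC' h0', Curves.BaseChange.genus_eq hpb]; exact hg
  have hcan : _root_.FunFld.IsCanonical K' X'.functionField (R'.div hC' hK') := by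
    refine (FunFld.Weil.isCanonical_iff hK' _).2 ⟨?_, ?_⟩
    · rw [← R'.finrank_h0 hC' hK', ← genus_eq hC' h0', Curves.BaseChange.genus_eq hpb, ← hh]
      exact Curves.BaseChange.hdim_eq hpb R.inv 0
    · rw [← R'.deg_eq hC' hK', Curves.BaseChange.deg_eq hpb hdim.le hdim'.le R.inv, hd,
        ← genus_eq hC' h0', Curves.BaseChange.genus_eq hpb]
  obtain ⟨i₀, hi₀⟩ : ∃ i, secCoord R (s i) ≠ 0 := by
    by_contra hc
    push Not at hc
    obtain ⟨a, ha, haC⟩ := FunFld.Riemann.exists_ne_zero_of_ell_pos (D := R.div hC hK)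
      (by rw [FunFld.Weil.ell_canonical hK hR, ← genus_eq hC h0]; omega)
    refine ha ?_
    have hle : Submodule.span k (Set.range fun i => secCoord R (s i)) ≤ ⊥ :=
      Submodule.span_le.2 (by rintro _ ⟨i, rfl⟩; exact hc i)
    exact hle (mem_span hC hK R s hspan haC)
  let c₀ := secCoord R (s i₀)
  have hc₀ : c₀ ∈ _root_.FunFld.L (R.div hC hK) := fun P => by
    obtain ⟨x, rfl⟩ := placeOf_surjective (k := k) hC P
    exact (R.mem_div hC hK x _).1 ⟨_, R.pr_germ (U := ⊤) (x := x.1) trivial (s i₀)⟩
  suffices hne : ∃ i, KaehlerDifferential.D k X.functionField (secCoord R (s i) / c₀) ≠ 0 by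
    obtain ⟨i, hi⟩ := hne
    refine ⟨R.div hC hK + _root_.FunFld.div k c₀, secCoord R (s i) / c₀, ?_, ?_, ?_, hi⟩
    · have := (FunFld.Degree.mem_L_iff_div hK).1 hc₀
      rw [add_comm]
      exact this.resolve_left hi₀
    · rw [FunFld.Degree.deg_add, FunFld.Degree.deg_div hK, add_zero,
        FunFld.Weil.deg_canonical hK hR, ← genus_eq hC h0]
    · rw [← FunFld.Riemann.L_mul_iff hK _ hi₀, mul_div_cancel₀ _ hi₀]
      exact fun P => by
        obtain ⟨x, rfl⟩ := placeOf_surjective (k := k) hC P
        exact (R.mem_div hC hK x _).1 ⟨_, R.pr_germ (U := ⊤) (x := x.1) trivial (s i)⟩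
  by_contra hall
  push Not at hall
  -- algebra structures
  let φ := FieldExt.kMap g eg
  have hconst : ∀ c : k, φ (algebraMap k X.functionField c) =
      algebraMap K' X'.functionField (algebraMap k K' c) := by
    intro c
    refine (FieldExt.kMap_germ g eg ⊤ trivial trivial (Coh.toGlobal (X ↘ Spec (CommRingCat.of k)) c)).trans ?_
    refine congrArg (X'.presheaf.germ (g ⁻¹ᵁ ⊤) (genericPoint X') trivial) ?_
    have h1 : Coh.toGlobal (g ≫ (X ↘ Spec (CommRingCat.of k))) c =
        Coh.toGlobal ((X' ↘ Spec (CommRingCat.of K')) ≫ b) c := by rw [hpb.w]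
    refine h1.trans ?_
    exact congrArg (fun z => ((X' ↘ Spec (CommRingCat.of K')).app ⊤).hom z)
      (ConcreteCategory.congr_hom (Scheme.ΓSpecIso_inv_naturality (CommRingCat.ofHom (algebraMap k K'))).symm c)
  letI : Algebra X.functionField X'.functionField := φ.toAlgebra
  letI : Algebra k X'.functionField := ((algebraMap K' X'.functionField).comp (algebraMap k K')).toAlgebra
  haveI : IsScalarTower k K' X'.functionField := IsScalarTower.of_algebraMap_eq fun _ => rfl
  haveI : IsScalarTower k X.functionField X'.functionField :=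
    IsScalarTower.of_algebraMap_eq fun c => (hconst c).symm
  haveI : SMulCommClass X.functionField K' X'.functionField := ⟨fun a c z => by
    simp only [Algebra.smul_def]; ring⟩
  have hD : ∀ r : X.functionField, KaehlerDifferential.D k X.functionField r = 0 →
      KaehlerDifferential.D K' X'.functionField (φ r) = 0 := fun r hr => by
    have := KaehlerDifferential.map_D k K' X.functionField X'.functionField r
    rw [hr, map_zero] at this
    exact this.symm
  let c' : Fin _ → X'.functionField := fun i => secCoord R' (ProjUP.pullSec g Ω (s i))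
  have hc' : ∀ i, c' i = φ (secCoord R (s i) / c₀) * c' i₀ := fun i =>
    secCoord_pullSec g eg R R' (s i) (s i₀) _ (div_mul_cancel₀ _ hi₀).symm
  -- all ratios upstairs have zero differential
  have hkey : ∀ a ∈ _root_.FunFld.L (R'.div hC' hK'), ∃ w : X'.functionField,
      KaehlerDifferential.D K' X'.functionField w = 0 ∧ a = w * c' i₀ := by
    intro a ha
    have ha' := mem_span hC' hK' R' (fun i => ProjUP.pullSec g Ω (s i)) hspan' ha
    clear ha
    induction ha' using Submodule.span_induction with
    | mem v hv =>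
      obtain ⟨i, rfl⟩ := hv
      exact ⟨_, hD _ (hall i), hc' i⟩
    | zero => exact ⟨0, map_zero _, (zero_mul _).symm⟩
    | add v w _ _ hv hw =>
      obtain ⟨p, hp, rfl⟩ := hv
      obtain ⟨q, hq, rfl⟩ := hw
      exact ⟨p + q, by rw [map_add, hp, hq, add_zero], (add_mul _ _ _).symm⟩
    | smul r v _ hv =>
      obtain ⟨p, hp, rfl⟩ := hv
      exact ⟨r • p, by rw [Derivation.map_smul, hp, smul_zero], (smul_mul_assoc _ _ _).symm⟩
  obtain ⟨a, ha, a', ha', hne⟩ := exists_ratio hK' hg' hcan
  obtain ⟨p, hp, rfl⟩ := hkey a ha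
  obtain ⟨q, hq, rfl⟩ := hkey a' ha'
  refine hne ?_
  rcases eq_or_ne (c' i₀) 0 with hz | hz
  · simp [hz]
  rw [mul_div_mul_right _ _ hz, div_eq_mul_inv, Derivation.leibniz, Derivation.leibniz_inv, hp, hq,
    smul_zero, smul_zero, smul_zero, add_zero]

end Groth.Agent.Lib.CurveFF.CanonRatio
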