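import Groth.Agent.Lib.FunFld.SmallGenus
import Groth.Agent.Lib.FunFld.Rational
import Groth.Agent.Lib.FunFld.Weil
import Groth.Agent.Lib.FunFld.Hasse.Separable
import Groth.Agent.H81.FunFldSep

/-!
Over an algebraically closed field the ratios of canonical functions are not all `p`-th powers.
-/

noncomputable section
set_option autoImplicit false
set_option linter.style.haveILetI false
universe u v

open Groth.Agent.Lib.FunFld Groth.Agent.Lib.FunFld.Degree Groth.Agent.Lib.FunFld.Riemann
open Groth.Agent.H81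

namespace Groth.Agent.Lib.CurveFF.CanonRatio

variable {k : Type u} {K : Type v} [Field k] [Field K] [Algebra k K] [IsAlgClosed k]

theorem ell_le_deg (hK : _root_.FunFld.IsFunctionField k K) (hg : 1 ≤ _root_.FunFld.genus k K)
    {D : _root_.FunFld.Divisor k K} (hd : 1 ≤ D.deg) : (_root_.FunFld.ell D : ℤ) ≤ D.deg := by
  rcases Nat.eq_zero_or_pos (_root_.FunFld.ell D) with h | h
  · omega
  obtain ⟨F, a, hF, ha, hDF, hFd⟩ := SmallGenus.exists_nonneg hK h
  rw [hDF, Riemann.ell_add_div hK F ha, ← hDF, ← hFd]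
  have hne : F ≠ 0 := by
    intro h0
    rw [h0, deg_zero] at hFd
    omega
  obtain ⟨P, hP⟩ := Finsupp.ne_iff.1 hne
  have hle : Finsupp.single P (1 : ℤ) ≤ F := Finsupp.le_def.2 fun Q => by
    have h1 := Finsupp.le_def.1 hF Q
    rcases eq_or_ne Q P with rfl | hQ
    · simp only [Finsupp.coe_zero, Pi.zero_apply, ne_eq] at h1 hP
      rw [Finsupp.single_eq_same]; omega
    · rw [Finsupp.single_eq_of_ne hQ]; exact h1
  have hdP := Rational.deg_eq_one hK P
  have h1 := Rational.ell_single_one_eq_one hK (by omega) hdP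
  have h2 := ell_sub_ell_le hK hle
  rw [h1, deg_single, hdP] at h2
  push_cast at h2
  omega

/-- Some ratio of canonical functions has nonzero differential. -/
theorem exists_ratio (hK : _root_.FunFld.IsFunctionField k K) (hg : 2 ≤ _root_.FunFld.genus k K)
    {C : _root_.FunFld.Divisor k K} (hC : _root_.FunFld.IsCanonical k K C) :
    ∃ a ∈ _root_.FunFld.L C, ∃ b ∈ _root_.FunFld.L C, KaehlerDifferential.D k K (a / b) ≠ 0 := by
  classical
  by_contra hc
  push Not at hc
  have hgeo := FunFldSep.isGeometric hK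
  obtain ⟨x₀, hx₀⟩ := Hasse.Separable.exists_isSep (K := K) hK
  have hlC := Weil.ell_canonical hK hC
  obtain ⟨b, hb, hbC⟩ := Riemann.exists_ne_zero_of_ell_pos (D := C) (by omega)
  let W := C + _root_.FunFld.div k b
  have hW : ∀ y ∈ _root_.FunFld.L W, KaehlerDifferential.D k K y = 0 := fun y hy => by
    have := hc _ ((L_mul_iff hK C hb y).2 hy) b hbC
    rwa [mul_div_cancel_left₀ _ hb] at this
  have hlW : _root_.FunFld.ell W = _root_.FunFld.genus k K := by
    rw [ell_add_div hK C hb, hlC]
  have hWd : W.deg = 2 * (_root_.FunFld.genus k K : ℤ) - 2 := by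
    rw [deg_add, deg_div hK, add_zero, Weil.deg_canonical hK hC]
  haveI := finiteDimensional_L hK W
  obtain hchar | ⟨p, hp, hpk⟩ := CharP.exists' k
  · -- characteristic zero
    have hsub : _root_.FunFld.L W ≤ 1 := fun y hy => by
      rw [Submodule.one_eq_range]
      by_contra hmem
      have ht := Bound.transcendental_of_not_mem_range hK hmem
      haveI : CharZero K := charZero_of_injective_algebraMap (algebraMap k K).injective
      haveI := Bound.finiteDimensional_adjoin_transcendental hK ht
      exact FunFldSep.D_ne_zero_of_isSep ht (Algebra.IsSeparable.of_integral _ _) (hW y hy)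
    haveI := finiteDimensional_L_zero hK
    rw [← L_zero hK] at hsub
    have h3 : _root_.FunFld.ell W ≤ _root_.FunFld.ell (0 : _root_.FunFld.Divisor k K) :=
      Submodule.finrank_mono hsub
    rw [hlW, ell_zero hK] at h3
    omega
  haveI : CharP K p := charP_of_injective_algebraMap (algebraMap k K).injective p
  have hp' : p.Prime := hp.out
  haveI : ExpChar K p := .prime hp'
  haveI : ExpChar k p := .prime hp'
  -- differentials zero means p-th powers
  have hpow : ∀ y : K, KaehlerDifferential.D k K y = 0 → ∃ z, z ^ p = y := by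
    intro y hy
    have hy' := (FunFldSep.mem_powField_iff (p := p) hK ⟨x₀, hx₀⟩ y).2 hy
    induction hy' using IntermediateField.adjoin_induction with
    | mem z hz => obtain ⟨w, rfl⟩ := hz; exact ⟨w, rfl⟩
    | algebraMap c =>
      obtain ⟨r, rfl⟩ := IsAlgClosed.exists_pow_nat_eq c hp'.pos
      exact ⟨algebraMap k K r, by rw [map_pow]⟩
    | add a a' ha ha' iha iha' =>
      obtain ⟨z, rfl⟩ := iha (FunFldSep.D_eq_zero_of_mem ha)
      obtain ⟨z', rfl⟩ := iha' (FunFldSep.D_eq_zero_of_mem ha')
      exact ⟨z + z', add_pow_char _ _ p⟩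
    | mul a a' ha ha' iha iha' =>
      obtain ⟨z, rfl⟩ := iha (FunFldSep.D_eq_zero_of_mem ha)
      obtain ⟨z', rfl⟩ := iha' (FunFldSep.D_eq_zero_of_mem ha')
      exact ⟨z * z', mul_pow _ _ _⟩
    | inv a ha iha =>
      obtain ⟨z, rfl⟩ := iha (FunFldSep.D_eq_zero_of_mem ha)
      exact ⟨z⁻¹, inv_pow _ _⟩
  let D₀ : _root_.FunFld.Divisor k K := Finsupp.mapRange (· / (p : ℤ)) (Int.zero_ediv _) W
  have hpZ : (0 : ℤ) < p := by exact_mod_cast hp'.pos
  have hroot : ∀ z : K, z ^ p ∈ _root_.FunFld.L W → z ∈ _root_.FunFld.L D₀ := by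
    intro z hz
    rcases eq_or_ne z 0 with rfl | h0
    · simp
    rw [mem_L_iff_ord, or_iff_right (pow_ne_zero _ h0)] at hz
    rw [mem_L_iff_ord]
    refine Or.inr fun Q => ?_
    have h1 := hz Q
    rw [FunFld.Place.ord_pow] at h1
    show -(Finsupp.mapRange (· / (p : ℤ)) (Int.zero_ediv _) W Q) ≤ _
    rw [Finsupp.mapRange_apply]
    have h2 : -(Q.ord z) ≤ W Q / (p : ℤ) := (Int.le_ediv_iff_mul_le hpZ).2 (by nlinarith)
    omega
  haveI := finiteDimensional_L hK D₀
  let bW := Module.finBasis k (_root_.FunFld.L W)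
  choose z hz using fun i => hpow _ (hW _ (bW i).2)
  have hzli : LinearIndependent k fun i => (⟨z i, hroot _ ((hz i).symm ▸ (bW i).2)⟩ : _root_.FunFld.L D₀) := by
    rw [Fintype.linearIndependent_iff]
    intro c hc i
    have h1 : ∑ j, c j • z j = 0 := by
      have := congrArg Subtype.val hc
      simpa using this
    have h2 : ∑ j, (c j ^ p) • bW j = 0 := by
      apply Subtype.ext
      have h3 := congrArg (fun w : K => w ^ p) h1
      simp only [zero_pow hp'.ne_zero] at h3
      rw [sum_pow_char p] at h3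
      simp only [Submodule.coe_sum, Submodule.coe_smul, ZeroMemClass.coe_zero]
      rw [← h3]
      refine Finset.sum_congr rfl fun j _ => ?_
      rw [smul_pow, hz j]
    exact pow_eq_zero_iff hp'.ne_zero |>.1 (Fintype.linearIndependent_iff.1 bW.linearIndependent _ h2 i)
  have hle := hzli.fintype_card_le_finrank
  rw [Fintype.card_fin] at hle
  change _root_.FunFld.ell W ≤ _root_.FunFld.ell D₀ at hle
  rw [hlW] at hle
  -- the degree of `D₀`
  have hd0 : (p : ℤ) * D₀.deg ≤ W.deg := by
    have h1 : (p : ℤ) • D₀ ≤ W := Finsupp.le_def.2 fun Q => by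
      rw [Finsupp.smul_apply, smul_eq_mul]
      show (p : ℤ) * Finsupp.mapRange (· / (p : ℤ)) (Int.zero_ediv _) W Q ≤ _
      rw [Finsupp.mapRange_apply]
      exact Int.mul_ediv_self_le hpZ.ne'
    have := deg_mono h1
    rwa [deg_smul] at this
  rcases le_or_gt D₀.deg 0 with h0 | h0
  · rcases h0.lt_or_eq with h | h
    · have := Weil.ell_eq_zero_of_deg_neg hK h
      omega
    · have := SmallGenus.ell_deg_zero_le hK h
      omega
  · have := ell_le_deg hK (by omega) (D := D₀) h0
    have hp2 : (2 : ℤ) ≤ p := by exact_mod_cast hp'.two_le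
    nlinarith

end Groth.Agent.Lib.CurveFF.CanonRatio
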