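import Groth.Agent.Lib.CurveFF.CanonicalEmb
import Groth.Agent.Lib.CurveFF.SmoothBC
import Groth.Agent.Lib.Curves.VeryAmple
import Groth.Agent.Lib.Curves.EqualityCase
import Groth.Agent.Lib.ProjSpace.TwistBC

/-!
The canonical map of a smooth curve over any field is an embedding exactly when the curve is not
geometrically hyperelliptic.
-/

noncomputable section
set_option autoImplicit false
set_option linter.style.haveILetI false
universe u

open CategoryTheory CategoryTheory.Limits AlgebraicGeometry TopologicalSpace Opposite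

namespace Groth.Agent.Lib.CurveFF.CanonicalGeom

attribute [local instance] Curv2.stalkAlgebra

variable {k : Type u} [Field k] {X : Scheme.{u}} [X.Over (Spec (CommRingCat.of k))]

/-- An invertible module of degree two with at least two sections has exactly two. -/
theorem hdim_eq_two [IsIntegral X] [IsProper (X ↘ Spec (CommRingCat.of k))]
    [Smooth (X ↘ Spec (CommRingCat.of k))] (hdim : topologicalKrullDim X = 1)
    (h0 : Module.finrank k (Coh.HH X (Coh.structureModule X) 0) = 1) (hg : 1 ≤ Curv2.genus k X)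
    {M : X.Modules} (hM : PicF.IsInvertible M) (hd : Curv2.deg k X M 1 = 2)
    (hl : 2 ≤ Module.finrank k (Coh.HH X M 0)) : Module.finrank k (Coh.HH X M 0) = 2 := by
  have h := curveHyp_of_smooth k hdim
  have hK := isFunctionField (k := k) h h0
  obtain ⟨R⟩ := LineDiv.nonempty_rep hM
  have hd' := hd
  rw [R.deg_eq h hK] at hd'
  have hl' := hl
  rw [R.finrank_h0 h hK] at hl'
  obtain ⟨F, a, hF, ha, hEF, hFd⟩ := FunFld.SmallGenus.exists_nonneg hK
    (E := R.div h hK) (by omega)
  have hub := FunFld.Degree.ell_sub_ell_le hK hF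
  rw [FunFld.Degree.deg_zero, FunFld.Degree.ell_zero hK, sub_zero, hFd, hd',
    ← FunFld.Riemann.ell_add_div hK F ha, ← hEF] at hub
  rw [R.finrank_h0 h hK]
  by_contra hne
  have := Curves.EqualityCase.genus_eq_zero k hdim h0 hM (L := M) (by
    show (Module.finrank k (Coh.HH X M 0) : ℤ) = _
    rw [R.finrank_h0 h hK, hd]
    omega) (by rw [hd]; omega)
  omega

/-- Separation depends only on the isomorphism class. -/
theorem separates_iso [IsIntegral X] {L L' : X.Modules} (e : L ≅ L')
    (h : Curves.SepCriterion.Separates k L) : Curves.SepCriterion.Separates k L' := by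
  intro J hJ hle
  refine h J hJ ?_
  rw [Curves.Euler.hdim_eq_of_iso e 0,
    Curves.Euler.hdim_eq_of_iso (TensorMod.Basic.tensorIso (Iso.refl (ClSub.idealMod J)) e) 0]
  exact hle

theorem geometricallyIntegral [IsProper (X ↘ Spec (CommRingCat.of k))]
    [Smooth (X ↘ Spec (CommRingCat.of k))] (hdim : topologicalKrullDim X = 1)
    (h0 : Module.finrank k (Coh.HH X (Coh.structureModule X) 0) = 1) [Nonempty X] :
    GeometricallyIntegral (X ↘ Spec (CommRingCat.of k)) := by
  constructor
  intro K _ y Z fst snd hpb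
  obtain ⟨φ, rfl⟩ := Spec.map_surjective y
  letI : Algebra k K := φ.hom.toAlgebra
  letI : Z.Over (Spec (CommRingCat.of K)) := ⟨snd⟩
  have hpb' : IsPullback fst (Z ↘ Spec (CommRingCat.of K)) (X ↘ Spec (CommRingCat.of k))
      (Spec.map (CommRingCat.ofHom (algebraMap k K))) := hpb
  haveI := Curves.BaseChange.isProper hpb'
  haveI : Smooth (Z ↘ Spec (CommRingCat.of K)) := MorphismProperty.of_isPullback hpb' inferInstance
  have hdim' : topologicalKrullDim Z = 1 :=
    (H56.DimBaseChange.topologicalKrullDim_baseChange _ (X ↘ Spec (CommRingCat.of k))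
      (Z ↘ Spec (CommRingCat.of K)) fst hpb').trans hdim
  have h0' : Module.finrank K (Coh.HH Z (Coh.structureModule Z) 0) = 1 :=
    (Curves.BaseChange.hdim_structureModule hpb' 0).trans h0
  haveI : Surjective (Spec.map (CommRingCat.ofHom (algebraMap k K))) :=
    ⟨fun _ => ⟨IsLocalRing.closedPoint K, Subsingleton.elim (α := PrimeSpectrum k) _ _⟩⟩
  haveI : Surjective fst := MorphismProperty.of_isPullback hpb'.flip inferInstance
  haveI : Nonempty Z := fst.surjective.nonempty
  haveI : ConnectedSpace Z := S1534.connectedSpace_of_h0 (k := K) h0'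
  exact CurveBundle.SmoothField.isIntegral K hdim'.le

section

variable {K : Type u} [Field K] [Algebra k K] {X' : Scheme.{u}} [X'.Over (Spec (CommRingCat.of K))]
  {g : X' ⟶ X} (hpb : IsPullback g (X' ↘ Spec (CommRingCat.of K)) (X ↘ Spec (CommRingCat.of k))
    (Spec.map (CommRingCat.ofHom (algebraMap k K))))

include hpb in
theorem nonempty_omega_iso [IsProper (X ↘ Spec (CommRingCat.of k))]
    [IsProper (X' ↘ Spec (CommRingCat.of K))] :
    Nonempty ((Scheme.Modules.pullback g).obj (Omega.sheaf (X ↘ Spec (CommRingCat.of k))) ≅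
      Omega.sheaf (X' ↘ Spec (CommRingCat.of K))) := by
  obtain ⟨c, hc, -⟩ := Kaehler.Basic.existsUnique_diffCompat (h := g)
    (b := Spec.map (CommRingCat.ofHom (algebraMap k K)))
    (f := X ↘ Spec (CommRingCat.of k)) (f' := X' ↘ Spec (CommRingCat.of K)) hpb.w.symm
    (Kaehler.DOmega.isUniversal_dOmega _) (OmegaSh.dOmega (X' ↘ Spec (CommRingCat.of K)))
  haveI := Kaehler.BaseChange.isIso_of_isPullback hpb (Kaehler.DOmega.isUniversal_dOmega _)
    (Kaehler.DOmega.isUniversal_dOmega _) c hc
  exact ⟨asIso c⟩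

end

/-- Geometric hyperellipticity, checked on any base change to the algebraic closure. -/
abbrev IsGeomHyp (k : Type u) [Field k] (X : Scheme.{u}) [X.Over (Spec (CommRingCat.of k))] : Prop :=
  letI : (Curv2.bc k X (AlgebraicClosure k)).Over (Spec (CommRingCat.of (AlgebraicClosure k))) :=
    ⟨Curv2.bcSnd k X (AlgebraicClosure k)⟩
  ∃ L : (Curv2.bc k X (AlgebraicClosure k)).Modules, PicF.IsInvertible L ∧
    Curv2.deg (AlgebraicClosure k) (Curv2.bc k X (AlgebraicClosure k)) L 1 = 2 ∧
    Module.finrank (AlgebraicClosure k) (Coh.HH (Curv2.bc k X (AlgebraicClosure k)) L 0) = 2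

variable [IsIntegral X] [IsProper (X ↘ Spec (CommRingCat.of k))]
  [Smooth (X ↘ Spec (CommRingCat.of k))] (hdim : topologicalKrullDim X = 1)
  (h0 : Module.finrank k (Coh.HH X (Coh.structureModule X) 0) = 1) (hg : 2 ≤ Curv2.genus k X)

include hdim h0 hg in
theorem exists_embedding (hno : ¬ IsGeomHyp k X) :
    ∃ (n : ℕ) (i : X ⟶ CohB1.ProjSpace n k), IsClosedImmersion i ∧
      i ≫ CohB1.ProjSpace.toSpec n k = X ↘ Spec (CommRingCat.of k) ∧
      Nonempty ((Scheme.Modules.pullback i).obj (Twist.twistProjSpace n k 1) ≅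
        Omega.sheaf (X ↘ Spec (CommRingCat.of k))) := by
  haveI := geometricallyIntegral (k := k) (X := X) hdim h0
  have hL := SmoothBC.isInvertible (k := k) (X := X) hdim
  refine ⟨Curv2.genus k X - 1, Curves.VeryAmple.exists_closedImmersion (AlgebraicClosure k) hdim hL
    (SmoothBC.isGloballyGenerated hdim h0 (by omega)) (by omega) ?_ ?_⟩
  · have := (SmoothBC.omega_facts hdim h0).1
    show Module.finrank k (Coh.HH X _ 0) = _
    omega
  intro X' _ _ g hpb
  haveI := Curves.BaseChange.isProper hpb
  obtain ⟨eΩ⟩ := nonempty_omega_iso hpb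
  refine separates_iso eΩ.symm ?_
  haveI : Smooth (X' ↘ Spec (CommRingCat.of (AlgebraicClosure k))) :=
    MorphismProperty.of_isPullback hpb inferInstance
  have hdim' : topologicalKrullDim X' = 1 :=
    (Curves.BaseChange.topologicalKrullDim_eq hpb).trans hdim
  have h0' : Module.finrank (AlgebraicClosure k) (Coh.HH X' (Coh.structureModule X') 0) = 1 :=
    (Curves.BaseChange.hdim_structureModule hpb 0).trans h0
  have hg' : 2 ≤ Curv2.genus (AlgebraicClosure k) X' := by rw [Curves.BaseChange.genus_eq hpb]; exact hg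
  have h' := curveHyp_of_smooth (AlgebraicClosure k) hdim'
  refine CanonicalEmb.separates h' hg' ?_
  rintro ⟨M, s, hM, hMd, hind⟩
  have hl : 2 ≤ Module.finrank (AlgebraicClosure k) (Coh.HH X' M 0) := by
    letI := Curves.GlobalSections.secModule (AlgebraicClosure k) M
    haveI : Module.Finite (AlgebraicClosure k) (M.val.obj (op ⊤) : Type u) := by
      haveI := (Curves.Degree.isGood (k := AlgebraicClosure k) hdim'.le hM).fin₀
      exact Module.Finite.equiv (Curves.GlobalSections.h0Linear _ M)
    have hli : LinearIndependent (AlgebraicClosure k) s :=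
      Fintype.linearIndependent_iff.2 fun c hc i => congrFun (hind c hc) i
    have := hli.fintype_card_le_finrank
    rwa [Fintype.card_fin, ← (Curves.GlobalSections.h0Linear _ M).finrank_eq] at this
  have hl2 := hdim_eq_two hdim' h0' (by omega) hM (by exact_mod_cast hMd) hl
  refine hno ?_
  letI : (Curv2.bc k X (AlgebraicClosure k)).Over (Spec (CommRingCat.of (AlgebraicClosure k))) :=
    ⟨Curv2.bcSnd k X (AlgebraicClosure k)⟩
  let e : Curv2.bc k X (AlgebraicClosure k) ⟶ X' := hpb.isoPullback.inv
  have he : IsPullback e (Curv2.bc k X (AlgebraicClosure k) ↘ Spec (CommRingCat.of (AlgebraicClosure k)))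
      (X' ↘ Spec (CommRingCat.of (AlgebraicClosure k)))
      (Spec.map (CommRingCat.ofHom (algebraMap (AlgebraicClosure k) (AlgebraicClosure k)))) := by
    haveI : IsIso e := inferInstanceAs (IsIso hpb.isoPullback.inv)
    haveI : IsIso (Spec.map (CommRingCat.ofHom (algebraMap (AlgebraicClosure k) (AlgebraicClosure k)))) := by
      rw [show CommRingCat.ofHom (algebraMap (AlgebraicClosure k) (AlgebraicClosure k)) =
        𝟙 (CommRingCat.of (AlgebraicClosure k)) from rfl, Spec.map_id]
      infer_instance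
    refine IsPullback.of_horiz_isIso ⟨?_⟩
    rw [show CommRingCat.ofHom (algebraMap (AlgebraicClosure k) (AlgebraicClosure k)) =
      𝟙 (CommRingCat.of (AlgebraicClosure k)) from rfl, Spec.map_id, Category.comp_id]
    exact hpb.isoPullback_inv_snd
  have hdimB : topologicalKrullDim (Curv2.bc k X (AlgebraicClosure k)) = 1 :=
    (hpb.isoPullback.hom.homeomorph.isHomeomorph.topologicalKrullDim_eq).symm.trans hdim'
  refine ⟨(Scheme.Modules.pullback e).obj M, PicLoc.isInvertible_pullback e hM, ?_, ?_⟩
  · rw [Curves.BaseChange.deg_eq he hdim'.le hdimB.le hM]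
    exact_mod_cast hMd
  · exact (Curves.BaseChange.hdim_eq he hM 0).trans hl2

include hdim h0 hg in
theorem not_isGeomHyp {n : ℕ} (r : X ⟶ CohB1.ProjSpace n k) [IsClosedImmersion r]
    (hr : r ≫ CohB1.ProjSpace.toSpec n k = X ↘ Spec (CommRingCat.of k))
    (τ : (Scheme.Modules.pullback r).obj (Twist.twistProjSpace n k 1) ≅
      Omega.sheaf (X ↘ Spec (CommRingCat.of k))) : ¬ IsGeomHyp k X := by
  letI : (Curv2.bc k X (AlgebraicClosure k)).Over (Spec (CommRingCat.of (AlgebraicClosure k))) :=
    ⟨Curv2.bcSnd k X (AlgebraicClosure k)⟩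
  rintro ⟨L, hL, hd, hl⟩
  haveI := geometricallyIntegral (k := k) (X := X) hdim h0
  set σ := Spec.map (CommRingCat.ofHom (algebraMap k (AlgebraicClosure k))) with hσ
  let g : Curv2.bc k X (AlgebraicClosure k) ⟶ X := Curv2.bcFst k X (AlgebraicClosure k)
  have hpb : IsPullback g (Curv2.bc k X (AlgebraicClosure k) ↘ Spec (CommRingCat.of (AlgebraicClosure k)))
      (X ↘ Spec (CommRingCat.of k)) σ := IsPullback.of_hasPullback _ _
  haveI := Curves.BaseChange.isProper hpb
  haveI := Curves.BaseChange.isIntegral hpb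
  haveI : Smooth (Curv2.bc k X (AlgebraicClosure k) ↘ Spec (CommRingCat.of (AlgebraicClosure k))) :=
    MorphismProperty.of_isPullback hpb inferInstance
  have hdim' := (Curves.BaseChange.topologicalKrullDim_eq hpb).trans hdim
  have hg' : 2 ≤ Curv2.genus (AlgebraicClosure k) (Curv2.bc k X (AlgebraicClosure k)) := by
    rw [Curves.BaseChange.genus_eq hpb]; exact hg
  have h' := curveHyp_of_smooth (AlgebraicClosure k) hdim'
  have hP := ProjSpace.BaseChange.isPullback_projMap n (algebraMap k (AlgebraicClosure k))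
  let pr := ProjSpace.BaseChange.projMap n (algebraMap k (AlgebraicClosure k))
  let r' : Curv2.bc k X (AlgebraicClosure k) ⟶ CohB1.ProjSpace n (AlgebraicClosure k) :=
    hP.lift (g ≫ r) (Curv2.bc k X (AlgebraicClosure k) ↘ Spec (CommRingCat.of (AlgebraicClosure k)))
      (by rw [Category.assoc, hr]; exact hpb.w)
  have h1 : r' ≫ pr = g ≫ r := hP.lift_fst _ _ _
  have h2 : r' ≫ CohB1.ProjSpace.toSpec n (AlgebraicClosure k) = _ := hP.lift_snd _ _ _
  have hsq : IsPullback g r' r pr := by
    refine IsPullback.of_bot ?_ h1.symm hP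
    rw [hr, h2]
    exact hpb
  haveI : IsClosedImmersion r' := MorphismProperty.of_isPullback hsq ‹IsClosedImmersion r›
  obtain ⟨et⟩ := ProjSpace.TwistBC.nonempty_iso n (algebraMap k (AlgebraicClosure k)) 1
  obtain ⟨eΩ⟩ := nonempty_omega_iso hpb
  let τ' := (Scheme.Modules.pullback r').mapIso et.symm ≪≫
    (Scheme.Modules.pullbackComp r' pr).app _ ≪≫
    (Scheme.Modules.pullbackCongr h1).app _ ≪≫
    ((Scheme.Modules.pullbackComp g r).app _).symm ≪≫
    (Scheme.Modules.pullback g).mapIso τ ≪≫ eΩ
  letI := Curves.GlobalSections.secModule (AlgebraicClosure k) L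
  haveI : Module.Finite (AlgebraicClosure k) (L.val.obj (op ⊤) : Type u) := by
    haveI := (Curves.Degree.isGood (k := AlgebraicClosure k) hdim'.le hL).fin₀
    exact Module.Finite.equiv (Curves.GlobalSections.h0Linear _ L)
  let b := Module.finBasisOfFinrankEq (AlgebraicClosure k) (L.val.obj (op ⊤) : Type u)
    (n := 2) ((Curves.GlobalSections.h0Linear _ L).finrank_eq.symm.trans hl)
  refine CanonicalEmb.not_linSer_of_embedding h' hg' r' h2 τ' ⟨L, fun i => b i, hL, ?_, ?_⟩
  · exact_mod_cast hd
  · exact fun c hc => funext fun i => Fintype.linearIndependent_iff.1 b.linearIndependent c hc i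

end Groth.Agent.Lib.CurveFF.CanonicalGeom
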