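import Groth.Agent.Lib.CurveFF.CastelnuovoPoints
import Groth.Agent.Lib.FunFld.PlaneCurve.Generators
import Groth.Agent.Lib.FunFld.Weil
import Groth.Agent.Lib.FunFld.Rational
import Mathlib.FieldTheory.Normal.Basic
import Mathlib.FieldTheory.IsAlgClosed.AlgebraicClosure
import Mathlib.RingTheory.AlgebraTower
import Mathlib.RingTheory.Adjoin.PowerBasis

/-!
The Castelnuovo bound for function fields generated by a three-dimensional linear series.
-/

noncomputable section
set_option autoImplicit false
universe u v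

open WithZero IntermediateField Polynomial
open Groth.Agent.Lib.FunFld Groth.Agent.Lib.FunFld.Degree
open scoped Pointwise

namespace Groth.Agent.Lib.CurveFF.CastelnuovoBound

variable {k : Type u} [Field k] {K : Type v} [Field K] [Algebra k K]

local notation "Dv" => _root_.FunFld.Divisor k K
local notation "Pl" => _root_.FunFld.Place k K

theorem sum_min (d : ℕ) (n : ℕ) (h : d ≤ 2 * n + 1) :
    (∑ j ∈ Finset.range (n + 1), min d (2 * j + 1)) + d * d / 4 = (n + 1) * d := by
  have low : ∀ m, 2 * m ≤ d + 1 → ∑ j ∈ Finset.range m, min d (2 * j + 1) = m * m := by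
    intro m
    induction m with
    | zero => simp
    | succ m ih =>
      intro hm
      rw [Finset.sum_range_succ, ih (by omega), min_eq_right (by omega)]
      ring
  have high : ∀ r, (∑ j ∈ Finset.range (d / 2 + r), min d (2 * j + 1)) + d * d / 4 =
      (d / 2 + r) * d := by
    intro r
    induction r with
    | zero =>
      rw [add_zero, low _ (by omega)]
      rcases Nat.even_or_odd' d with ⟨m, rfl | rfl⟩
      · rw [show 2 * m / 2 = m by omega, show 2 * m * (2 * m) = 4 * (m * m) by ring,
          Nat.mul_div_cancel_left _ (by norm_num)]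
        ring
      · rw [show (2 * m + 1) / 2 = m by omega,
          show (2 * m + 1) * (2 * m + 1) = 1 + (m * m + m) * 4 by ring,
          Nat.add_mul_div_right _ _ (by norm_num)]
        ring
    | succ r ih =>
      rw [← add_assoc, Finset.sum_range_succ, min_eq_left (by omega), add_one_mul, ← ih]
      ring
  obtain ⟨r, hr⟩ := Nat.exists_eq_add_of_le (show d / 2 ≤ n + 1 by omega)
  rw [hr]
  exact high r

/-- Shrink a divisor to the base point free part of its space. -/
theorem exists_bpf [IsAlgClosed k] (hK : _root_.FunFld.IsFunctionField k K) {D : Dv} (hD : 0 ≤ D) :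
    ∃ D' : Dv, 0 ≤ D' ∧ D'.deg ≤ D.deg ∧ _root_.FunFld.L D ≤ _root_.FunFld.L D' ∧
      ∀ P : Pl, D' P ≠ 0 → ¬ _root_.FunFld.L D' ≤ _root_.FunFld.L (D' - Finsupp.single P 1) := by
  classical
  have hex : ∃ m : ℕ, ∃ D' : Dv, D'.deg = m ∧ 0 ≤ D' ∧ D'.deg ≤ D.deg ∧
      _root_.FunFld.L D ≤ _root_.FunFld.L D' :=
    ⟨D.deg.toNat, D, by have := deg_nonneg hD; omega, hD, le_rfl, le_rfl⟩
  obtain ⟨D', hm, h0, hle, hL⟩ := Nat.find_spec hex
  refine ⟨D', h0, hle, hL, fun P hP hsub => ?_⟩
  have h1 : 0 ≤ D' - Finsupp.single P (1 : ℤ) := fun Q => by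
    rw [Finsupp.sub_apply, Finsupp.coe_zero, Pi.zero_apply]
    have h2 := h0 Q
    rw [Finsupp.coe_zero, Pi.zero_apply] at h2
    rcases eq_or_ne Q P with rfl | hne
    · rw [Finsupp.single_eq_same]; omega
    · rw [Finsupp.single_eq_of_ne hne]; omega
  have h3 := deg_nonneg h1
  have h4 : _root_.FunFld.Divisor.deg (D' - Finsupp.single P (1 : ℤ)) = D'.deg - 1 := by
    rw [deg_sub, deg_single, FunFld.Rational.deg_eq_one hK P]; rfl
  exact Nat.find_min hex (m := (D'.deg - 1).toNat) (by omega)
    ⟨_, by omega, h1, by omega, hL.trans hsub⟩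

theorem one_mem_L {D : Dv} (hD : 0 ≤ D) : (1 : K) ∈ _root_.FunFld.L D := fun P => by
  rw [map_one, ← exp_zero, exp_le_exp]; exact hD P

theorem pow_le_L (hK : _root_.FunFld.IsFunctionField k K) (D : Dv) (n : ℕ) :
    _root_.FunFld.L D ^ n ≤ _root_.FunFld.L ((n : ℤ) • D) := by
  induction n with
  | zero => rw [pow_zero, Nat.cast_zero, zero_smul, L_zero hK]
  | succ n ih =>
    rw [pow_succ]
    refine Submodule.mul_le.2 fun a ha b hb P => ?_
    rw [map_mul]
    refine (mul_le_mul' (ih ha P) (hb P)).trans_eq ?_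
    rw [← exp_add]
    congr 1
    rw [Finsupp.smul_apply, Finsupp.smul_apply, smul_eq_mul, smul_eq_mul]
    push_cast
    ring

/-- A separating function whose polar divisor is the whole divisor. -/
theorem exists_pole [IsAlgClosed k] (hK : _root_.FunFld.IsFunctionField k K) {D : Dv} (hD : 0 ≤ D)
    (hgen : adjoin k (_root_.FunFld.L D : Set K) = ⊤)
    (hbpf : ∀ P : Pl, D P ≠ 0 → ¬ _root_.FunFld.L D ≤ _root_.FunFld.L (D - Finsupp.single P 1)) :
    ∃ x ∈ _root_.FunFld.L D, Algebra.IsSeparable (adjoin k ({x} : Set K)) K ∧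
      ∀ P : Pl, poleDiv x P = D P := by
  classical
  let W := _root_.FunFld.L D
  let dl : W →ₗ[k] KaehlerDifferential k K :=
    (KaehlerDifferential.D k K).toLinearMap ∘ₗ W.subtype
  let p : Option D.support → Submodule k W := fun o => o.elim dl.ker
    fun P => (_root_.FunFld.L (D - Finsupp.single P.1 1)).comap W.subtype
  obtain ⟨x, hx⟩ := Submodule.exists_forall_notMem_of_forall_ne_top p fun o => by
    cases o with
    | none =>
      intro htop
      obtain ⟨w, hw, hsep⟩ := PlaneCurve.Generators.exists_separating hK _ hgen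
      obtain ⟨t, ht⟩ := PlaneCurve.Generators.exists_D_ne_zero hK
      refine ht (DFunLike.congr_fun (Hasse.Separable.derivation_eq_zero hsep
        (KaehlerDifferential.D k K) ?_) t)
      have : (⟨w, hw⟩ : W) ∈ dl.ker := by
        change (⟨w, hw⟩ : W) ∈ p none
        rw [htop]; trivial
      exact LinearMap.mem_ker.1 this
    | some P =>
      intro htop
      refine hbpf P.1 (Finsupp.mem_support_iff.1 P.2) fun z hz => ?_
      have : (⟨z, hz⟩ : W) ∈ p (some P) := by rw [htop]; trivial
      exact this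
  have hdx : KaehlerDifferential.D k K (x : K) ≠ 0 := fun h => hx none (LinearMap.mem_ker.2 h)
  refine ⟨x, x.2, Hasse.Separable.isSep_of_D_ne_zero hK (Hasse.Separable.exists_isSep hK) hdx,
    fun P => ?_⟩
  have hx0 : (x : K) ≠ 0 := fun h => hdx (by rw [h, map_zero])
  have h1 := (mem_L_iff_ord.1 x.2).resolve_left hx0
  rw [poleDiv_apply hK]
  have h0 := hD P
  rw [Finsupp.coe_zero, Pi.zero_apply] at h0
  rcases eq_or_ne (D P) 0 with hP | hP
  · have := h1 P; rw [hP] at this ⊢; omega
  · have h2 : (x : K) ∉ _root_.FunFld.L (D - Finsupp.single P 1) :=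
      hx (some ⟨P, Finsupp.mem_support_iff.2 hP⟩)
    rw [mem_L_iff_ord, not_or, not_forall] at h2
    obtain ⟨-, Q, hQ⟩ := h2
    rcases eq_or_ne Q P with rfl | hne
    · rw [Finsupp.sub_apply, Finsupp.single_eq_same] at hQ
      have := h1 Q; omega
    · rw [Finsupp.sub_apply, Finsupp.single_eq_of_ne hne, sub_zero] at hQ
      exact absurd (h1 Q) hQ

theorem val_aeval_le {x : K} {P : Pl} (hx : P.1 x ≤ 1) (r : k[X]) : P.1 (aeval x r) ≤ 1 := by
  induction r using Polynomial.induction_on' with
  | add a b ha hb => rw [map_add]; exact (P.1.map_add _ _).trans (max_le ha hb)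
  | monomial n c =>
    rw [aeval_monomial, map_mul, map_pow]
    exact mul_le_one' (P.2.1 c) (pow_le_one' hx n)

theorem poly_indep (hK : _root_.FunFld.IsFunctionField k K) {D : Dv} (hD : 0 ≤ D) {x y z : K}
    (hx : ∀ P : Pl, poleDiv x P = D P) (hy : y ∈ _root_.FunFld.L D) (hz : z ∈ _root_.FunFld.L D)
    (hli : LinearIndependent k ![(1 : K), x, y, z])
    (n : ℕ) : ∀ a b c : k[X], a.natDegree ≤ n → b.natDegree ≤ n →
    c.natDegree ≤ n → aeval x a + aeval x b * y + aeval x c * z = 0 → a = 0 ∧ b = 0 ∧ c = 0 := by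
  have base : ∀ a b c e : k, algebraMap k K a + algebraMap k K b * y + algebraMap k K c * z =
      algebraMap k K e * x → a = 0 ∧ b = 0 ∧ c = 0 ∧ e = 0 := by
    intro a b c e h
    have h' := Fintype.linearIndependent_iff.1 hli ![a, -e, b, c] (by
      simp [Fin.sum_univ_four, Algebra.smul_def]
      linear_combination h)
    exact ⟨h' 0, h' 2, h' 3, neg_eq_zero.1 (h' 1)⟩
  induction n with
  | zero =>
    intro a b c ha hb hc h
    rw [eq_C_of_natDegree_le_zero ha, eq_C_of_natDegree_le_zero hb,
      eq_C_of_natDegree_le_zero hc] at h ⊢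
    simp only [aeval_C] at h
    obtain ⟨h1, h2, h3, -⟩ := base _ _ _ 0 (by rw [h, map_zero, zero_mul])
    simp [h1, h2, h3]
  | succ n ih =>
    intro a b c ha hb hc h
    set w := -(aeval x a.divX + aeval x b.divX * y + aeval x c.divX * z) with hw
    have hsplit : ∀ r : k[X], aeval x r = x * aeval x r.divX + algebraMap k K (r.coeff 0) :=
      fun r => by
        conv_lhs => rw [← X_mul_divX_add r]
        rw [map_add, map_mul, aeval_X, aeval_C]
    have hu : algebraMap k K (a.coeff 0) + algebraMap k K (b.coeff 0) * y +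
        algebraMap k K (c.coeff 0) * z = x * w := by
      rw [hsplit a, hsplit b, hsplit c] at h
      rw [hw]
      linear_combination h
    have hx0 : x ≠ 0 := hli.ne_zero 1
    have hmem : w ∈ _root_.FunFld.L (0 : Dv) := fun P => by
      rw [Finsupp.coe_zero, Pi.zero_apply, exp_zero]
      rcases lt_or_ge (P.ord x) 0 with hneg | hpos
      · have h1 : P.1 (x * w) ≤ exp (D P) := by
          rw [← hu]
          refine add_mem (s := _root_.FunFld.L D) (add_mem ?_ ?_) ?_ P
          · rw [Algebra.algebraMap_eq_smul_one]; exact Submodule.smul_mem _ _ (one_mem_L hD)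
          · rw [← Algebra.smul_def]; exact Submodule.smul_mem _ _ hy
          · rw [← Algebra.smul_def]; exact Submodule.smul_mem _ _ hz
        have h2 := hx P
        rw [poleDiv_apply hK] at h2
        rw [map_mul, Place.val_eq_exp P hx0, show D P = -P.ord x by omega] at h1
        by_contra hlt
        have h3 := mul_lt_mul_of_pos_left (not_le.1 hlt)
          (show (0 : WithZero (Multiplicative ℤ)) < exp (-P.ord x) from exp_pos)
        rw [mul_one] at h3
        exact absurd h1 (not_le.2 h3)
      · have h0 : D P = 0 := by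
          have h2 := hx P
          rw [poleDiv_apply hK] at h2
          omega
        have hx1 : P.1 x ≤ 1 := (Place.val_le_one_iff P).2 hpos
        have hy1 : P.1 y ≤ 1 := by have := hy P; rwa [h0, exp_zero] at this
        have hz1 : P.1 z ≤ 1 := by have := hz P; rwa [h0, exp_zero] at this
        rw [hw, Valuation.map_neg]
        refine (P.1.map_add _ _).trans (max_le ((P.1.map_add _ _).trans (max_le
          (val_aeval_le hx1 _) ?_)) ?_) <;> rw [map_mul]
        exacts [mul_le_one' (val_aeval_le hx1 _) hy1, mul_le_one' (val_aeval_le hx1 _) hz1]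
    rw [L_zero hK, Submodule.one_eq_range] at hmem
    obtain ⟨e, he⟩ := hmem
    have he' : algebraMap k K e = w := he
    obtain ⟨h1, h2, h3, h4⟩ := base _ _ _ e (by rw [hu, ← he', mul_comm])
    have hdeg : ∀ r : k[X], r.natDegree ≤ n + 1 → r.divX.natDegree ≤ n := fun r hr => by
      rw [natDegree_divX_eq_natDegree_tsub_one]; omega
    obtain ⟨e1, e2, e3⟩ := ih a.divX b.divX c.divX (hdeg a ha) (hdeg b hb) (hdeg c hc) (by
      rw [h4, map_zero] at he'
      exact neg_eq_zero.1 (hw.symm.trans he'.symm))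
    refine ⟨?_, ?_, ?_⟩
    · rw [← X_mul_divX_add a, e1, h1]; simp
    · rw [← X_mul_divX_add b, e2, h2]; simp
    · rw [← X_mul_divX_add c, e3, h3]; simp

theorem field_indep (hK : _root_.FunFld.IsFunctionField k K) {D : Dv} (hD : 0 ≤ D) {x y z : K}
    (hx : ∀ P : Pl, poleDiv x P = D P) (hy : y ∈ _root_.FunFld.L D) (hz : z ∈ _root_.FunFld.L D)
    (hli : LinearIndependent k ![(1 : K), x, y, z])
    (a b c : adjoin k ({x} : Set K))
    (h : (a : K) + (b : K) * y + (c : K) * z = 0) : a = 0 ∧ b = 0 ∧ c = 0 := by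
  have hrep : ∀ e : adjoin k ({x} : Set K), ∃ r s : k[X], aeval x s ≠ 0 ∧
      (e : K) = aeval x r / aeval x s := by
    intro e
    obtain ⟨r, s, hrs⟩ := (mem_adjoin_simple_iff k (e : K)).1 e.2
    by_cases hs : aeval x s = 0
    · exact ⟨0, 1, by simp, by rw [hrs, hs]; simp⟩
    · exact ⟨r, s, hs, hrs⟩
  obtain ⟨ra, sa, ha, ea⟩ := hrep a
  obtain ⟨rb, sb, hb, eb⟩ := hrep b
  obtain ⟨rc, sc, hc, ec⟩ := hrep c
  have hz' : aeval x (ra * sb * sc) + aeval x (rb * sa * sc) * y + aeval x (rc * sa * sb) * z = 0 := by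
    have : (aeval x sa * aeval x sb * aeval x sc) * ((a : K) + (b : K) * y + (c : K) * z) = 0 := by
      rw [h, mul_zero]
    rw [ea, eb, ec] at this
    simp only [map_mul]
    field_simp at this
    linear_combination this
  obtain ⟨n1, n2, n3⟩ := poly_indep hK hD hx hy hz hli
    ((ra * sb * sc).natDegree + (rb * sa * sc).natDegree + (rc * sa * sb).natDegree)
    _ _ _ (by omega) (by omega) (by omega) hz'
  have hne : ∀ {s : k[X]}, aeval x s ≠ 0 → s ≠ 0 := fun {s} hs h => hs (by rw [h, map_zero])
  simp only [mul_eq_zero, hne ha, hne hb, hne hc, or_false] at n1 n2 n3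
  refine ⟨Subtype.ext ?_, Subtype.ext ?_, Subtype.ext ?_⟩
  · rw [ea, n1]; simp
  · rw [eb, n2]; simp
  · rw [ec, n3]; simp

section Galois

variable {F : Type u} [Field F] [Algebra F K] [FiniteDimensional F K] [Algebra.IsSeparable F K]

/-- Points of a generic plane section: at most half of them on a line. -/
theorem section_bound {y z : K} (hy : adjoin F ({y} : Set K) = ⊤)
    (hind : ∀ a b c : F, a • (1 : K) + b • y + c • z = 0 → a = 0 ∧ b = 0 ∧ c = 0) :
    (∀ a b : K →ₐ[F] AlgebraicClosure F, a y = b y → a z = b z → a = b) ∧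
    CastelnuovoPoints.Bound (fun σ : K →ₐ[F] AlgebraicClosure F => σ y) (fun σ => σ z) Finset.univ
      ((Fintype.card (K →ₐ[F] AlgebraicClosure F) + 1) / 2) := by
  classical
  have hinj : ∀ a b : K →ₐ[F] AlgebraicClosure F, a y = b y → a = b := by
    intro a b h
    refine AlgHom.ext fun w => ?_
    have hw : w ∈ adjoin F ({y} : Set K) := by rw [hy]; trivial
    induction hw using adjoin_induction with
    | mem t ht => rw [Set.mem_singleton_iff.1 ht]; exact h
    | algebraMap c => simp
    | add s t _ _ hs ht => rw [map_add, map_add, hs, ht]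
    | inv s _ hs => rw [map_inv₀, map_inv₀, hs]
    | mul s t _ _ hs ht => rw [map_mul, map_mul, hs, ht]
  refine ⟨fun a b h _ => hinj a b h, CastelnuovoPoints.bound_of_transitive
    (fun a b h _ => hinj a b h) (fun a b => ?_) fun a b hab => ?_⟩
  · obtain ⟨τ, hτ⟩ := minpoly.exists_algEquiv_of_root' (K := F) (L := AlgebraicClosure F)
      (x := b y) (y := a y) (Algebra.IsAlgebraic.isAlgebraic _) (by
        rw [minpoly.algHom_eq a a.injective, aeval_algHom_apply, minpoly.aeval, map_zero])
    refine ⟨AlgEquiv.arrowCongr AlgEquiv.refl τ, hinj _ _ (by simpa using hτ), fun s t w h => ?_⟩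
    simp only [CastelnuovoPoints.crs] at h ⊢
    simpa using congrArg τ h
  · by_contra hall
    simp only [not_exists, not_not] at hall
    set Ω := AlgebraicClosure F
    set P₁ : Ω := b y - a y
    set Q₁ : Ω := b z - a z
    have hP : P₁ ≠ 0 := sub_ne_zero.2 fun h => hab (hinj _ _ h.symm)
    let pb := PowerBasis.ofAdjoinEqTop (IsSeparable.isIntegral (Algebra.IsSeparable.isSeparable F y)) (by
      rw [← adjoin_simple_toSubalgebra_of_isAlgebraic (Algebra.IsAlgebraic.isAlgebraic y), hy,
        top_toSubalgebra])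
    have hgen : pb.gen = y := PowerBasis.ofAdjoinEqTop_gen ..
    obtain ⟨f, hf, hfz⟩ := pb.exists_eq_aeval z
    rw [hgen] at hfz
    set q : (Polynomial Ω) := C P₁ * (f.map (algebraMap F Ω) - C (a z)) - C Q₁ * (X - C (a y)) with hq
    have hroot : ∀ σ : K →ₐ[F] Ω, q.eval (σ y) = 0 := by
      intro σ
      have h1 : (f.map (algebraMap F Ω)).eval (σ y) = σ z := by
        rw [hfz, ← aeval_algHom_apply, aeval_def, eval_map]
      have h2 := hall σ
      simp only [CastelnuovoPoints.crs] at h2
      simp only [hq, eval_sub, eval_mul, eval_C, eval_X, h1]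
      linear_combination h2
    have hcard : Fintype.card (K →ₐ[F] Ω) = pb.dim := by rw [AlgHom.card, pb.finrank]
    have h2d : 2 ≤ Fintype.card (K →ₐ[F] Ω) := by
      rw [← Finset.card_univ]; exact Finset.one_lt_card.2 ⟨a, by simp, b, by simp, hab⟩
    have hq0 : q = 0 := by
      refine eq_zero_of_natDegree_lt_card_of_eval_eq_zero q
        (f := fun σ : K →ₐ[F] Ω => σ y) (fun s t h => hinj s t h) hroot ?_
      have d1 : q.natDegree ≤ max f.natDegree 1 := by
        rw [hq]
        refine (natDegree_sub_le _ _).trans (max_le_max ?_ ?_)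
        · refine (natDegree_C_mul_le _ _).trans ?_
          rw [natDegree_sub_C, natDegree_map]
        · refine (natDegree_C_mul_le _ _).trans ?_
          rw [natDegree_X_sub_C]
      omega
    have hcoef : ∀ i, 2 ≤ i → f.coeff i = 0 := by
      intro i hi
      have h1 := congrArg (fun r : (Polynomial Ω) => r.coeff i) hq0
      simp [hq, coeff_C, coeff_X, show i ≠ 0 by omega, show 1 ≠ i by omega] at h1
      simpa [hP] using h1
    have hz : z = algebraMap F K (f.coeff 1) * y + algebraMap F K (f.coeff 0) := by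
      have hf1 : f.natDegree ≤ 1 := natDegree_le_iff_coeff_eq_zero.2 fun i hi => hcoef i (by omega)
      rw [hfz]
      conv_lhs => rw [eq_X_add_C_of_natDegree_le_one hf1]
      simp
    have := (hind (f.coeff 0) (f.coeff 1) (-1) (by
      rw [hz]; simp [Algebra.smul_def]; ring)).2.2
    simp at this

theorem exists_many {y z : K} (W : Submodule k K) (h1 : (1 : K) ∈ W) (hyW : y ∈ W) (hzW : z ∈ W)
    (hy : adjoin F ({y} : Set K) = ⊤)
    (hind : ∀ a b c : F, a • (1 : K) + b • y + c • z = 0 → a = 0 ∧ b = 0 ∧ c = 0)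
    (j : ℕ) (B : Set K) (hB : LinearIndepOn F id B)
    (hspan : ((W ^ j : Submodule k K) : Set K) ⊆ Submodule.span F B) :
    min (Module.finrank F K) (2 * j + 1) ≤ B.ncard := by
  classical
  obtain ⟨hinj, hb⟩ := section_bound (y := y) (z := z) hy hind
  obtain ⟨U, hU1, hU2, hU3⟩ := CastelnuovoPoints.exists_sets hinj hb j
  rw [AlgHom.card] at hU1
  let Ω := AlgebraicClosure F
  let T := K →ₐ[F] Ω
  let Φ : K →ₐ[F] (T → Ω) := AlgHom.pi fun σ => σ
  let S : Submodule Ω (T → Ω) := Submodule.span Ω (Φ '' (W : Set K))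
  have hmemS : ∀ w ∈ W, Φ w ∈ S := fun w hw => Submodule.subset_span ⟨w, hw, rfl⟩
  have hpow : S ^ j ≤ Submodule.span Ω (Φ '' B) := by
    rw [show S ^ j = _ from Submodule.span_pow _ j, Submodule.span_le, ← Set.image_pow Φ]
    rintro _ ⟨w, hw, rfl⟩
    have h1 := Submodule.apply_mem_span_image_of_mem_span Φ.toLinearMap
      (hspan (Submodule.pow_subset_pow W hw))
    exact Submodule.span_le_restrictScalars F Ω _ h1
  let r : (T → Ω) →ₗ[Ω] (U → Ω) := LinearMap.funLeft Ω Ω (fun t : U => (t : T))
  have htop : Submodule.span Ω (r '' (Φ '' B)) = ⊤ := by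
    rw [← top_le_iff, ← Submodule.map_span, ← (Pi.basisFun Ω U).span_eq, Submodule.span_le]
    rintro _ ⟨c, rfl⟩
    obtain ⟨g, hg, hgc, hg0⟩ := CastelnuovoPoints.exists_delta hinj hU2 hU3 S
      (by rw [← map_one Φ]; exact hmemS 1 h1) (hmemS y hyW) (hmemS z hzW) c.2
    refine ⟨(g c)⁻¹ • g, Submodule.smul_mem _ _ (hpow hg), funext fun t => ?_⟩
    rw [Pi.basisFun_apply]
    rcases eq_or_ne t c with rfl | hne
    · simp [r, LinearMap.funLeft_apply, hgc]
    · simp [r, LinearMap.funLeft_apply, hne, hg0 t t.2 fun h => hne (Subtype.ext h)]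
  have hfin : B.Finite := hB.linearIndependent.setFinite
  haveI := (hfin.image (r ∘ Φ)).fintype
  have h := finrank_span_le_card (R := Ω) ((r ∘ Φ) '' B)
  rw [show Submodule.span Ω ((r ∘ Φ) '' B) = ⊤ by rw [Set.image_comp, htop], finrank_top,
    Module.finrank_fintype_fun_eq_card, Fintype.card_coe] at h
  refine hU1.trans (h.trans ?_)
  rw [Set.toFinset_card, ← Nat.card_eq_fintype_card, Nat.card_coe_set_eq]
  exact Set.ncard_image_le hfin

theorem exists_chain (W : Submodule k K) (h1 : (1 : K) ∈ W) (n : ℕ) :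
    ∃ B : ℕ → Set K, LinearIndepOn F id (B n) ∧ ∀ j ≤ n, B j ⊆ B n ∧ LinearIndepOn F id (B j) ∧
      B j ⊆ ((W ^ j : Submodule k K) : Set K) ∧
      ((W ^ j : Submodule k K) : Set K) ⊆ Submodule.span F (B j) := by
  have hmono : ∀ m, ((W ^ m : Submodule k K) : Set K) ⊆ ((W ^ (m + 1) : Submodule k K) : Set K) :=
    fun m w hw => by
      rw [SetLike.mem_coe, pow_succ, ← mul_one w]
      exact Submodule.mul_mem_mul hw h1
  induction n with
  | zero =>
    obtain ⟨b, hb1, -, hb2, hb3⟩ := exists_linearIndepOn_id_extension (K := F)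
      (linearIndepOn_empty F id) (Set.empty_subset ((W ^ 0 : Submodule k K) : Set K))
    exact ⟨fun _ => b, hb3, fun j hj => by
      obtain rfl : j = 0 := by omega
      exact ⟨subset_rfl, hb3, hb1, hb2⟩⟩
  | succ n ih =>
    obtain ⟨B, hBn, hB⟩ := ih
    obtain ⟨b, hb1, hb0, hb2, hb3⟩ := exists_linearIndepOn_id_extension hBn
      (((hB n le_rfl).2.2.1).trans (hmono n))
    refine ⟨fun j => if j ≤ n then B j else b, ?_, fun j hj => ?_⟩
    · simpa using hb3
    · simp only [show ¬ n + 1 ≤ n by omega, if_false]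
      rcases Nat.lt_or_ge j (n + 1) with h | h
      · simp only [show j ≤ n by omega, if_true]
        exact ⟨((hB j (by omega)).1).trans hb0, (hB j (by omega)).2⟩
      · obtain rfl : j = n + 1 := by omega
        simp only [show ¬ n + 1 ≤ n by omega, if_false]
        exact ⟨subset_rfl, hb3, hb1, hb2⟩

end Galois

/-- The Castelnuovo bound for a space series. -/
theorem castelnuovo [IsAlgClosed k] {K : Type u} [Field K] [Algebra k K]
    (hK : _root_.FunFld.IsFunctionField k K) {D₀ : _root_.FunFld.Divisor k K} (hD₀ : 0 ≤ D₀)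
    (h4 : 4 ≤ _root_.FunFld.ell D₀) (hgen₀ : adjoin k (_root_.FunFld.L D₀ : Set K) = ⊤) :
    3 ≤ D₀.deg ∧
      (_root_.FunFld.genus k K : ℤ) ≤ D₀.deg ^ 2 / 4 - D₀.deg + 1 := by
  classical
  obtain ⟨D, hD, hdD, hL, hbpf⟩ := exists_bpf hK hD₀
  have h4' : 4 ≤ _root_.FunFld.ell D := by
    have := finiteDimensional_L hK D
    exact h4.trans (Submodule.finrank_mono hL)
  have hgen : adjoin k (_root_.FunFld.L D : Set K) = ⊤ :=
    top_le_iff.1 (hgen₀ ▸ IntermediateField.adjoin.mono k _ _ hL)
  have h3 : (3 : ℤ) ≤ D.deg := by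
    have h := ell_sub_ell_le hK hD
    rw [ell_zero hK, deg_zero] at h
    omega
  suffices hmain : (_root_.FunFld.genus k K : ℤ) ≤ D.deg ^ 2 / 4 - D.deg + 1 by
    refine ⟨by omega, hmain.trans ?_⟩
    have hmono : ∀ r : ℕ, D.deg ^ 2 / 4 - D.deg ≤ (D.deg + r) ^ 2 / 4 - (D.deg + r) := by
      intro r
      induction r with
      | zero => simp
      | succ r ih =>
        have : (D.deg + r) ^ 2 + 4 ≤ (D.deg + (r + 1 : ℕ)) ^ 2 := by push_cast; nlinarith
        push_cast at this ⊢
        omega
    have := hmono (D₀.deg - D.deg).toNat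
    rw [Int.toNat_of_nonneg (by omega), add_sub_cancel] at this
    omega
  obtain ⟨x, hxL, hsep, hpole⟩ := exists_pole hK hD hgen hbpf
  have hxt := PlaneCurve.Generators.transcendental_of_isSep hK hsep
  obtain ⟨y, hyL, hxy⟩ := PlaneCurve.Generators.exists_pair hK _ hgen hsep
  set d := Module.finrank (adjoin k ({x} : Set K)) K with hd
  have hdeg : D.deg = d := by
    rw [hd, ← deg_poleDiv hK hxt]
    exact congrArg _ (Finsupp.ext hpole).symm
  have := Bound.finiteDimensional_adjoin_transcendental hK hxt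
  have hy' : adjoin (adjoin k ({x} : Set K)) ({y} : Set K) = ⊤ := by
    refine restrictScalars_injective k ?_
    rw [restrictScalars_top, ← hxy, adjoin_simple_adjoin_simple]
  obtain ⟨z, hzL, hzn⟩ : ∃ z ∈ _root_.FunFld.L D, z ∉ Submodule.span k (Set.range ![(1 : K), x, y]) := by
    by_contra hcon
    push Not at hcon
    haveI := Module.Finite.span_of_finite k (Set.finite_range ![(1 : K), x, y])
    have := Submodule.finrank_mono (R := k) (s := _root_.FunFld.L D)
      (t := Submodule.span k (Set.range ![(1 : K), x, y])) hcon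
    have h5 := finrank_range_le_card (R := k) ![(1 : K), x, y]
    rw [Fintype.card_fin] at h5
    change _root_.FunFld.ell D ≤ _ at this
    change Module.finrank k (Submodule.span k (Set.range ![(1 : K), x, y])) ≤ 3 at h5
    omega
  have hli : LinearIndependent k ![(1 : K), x, y, z] := by
    have e3 : LinearIndependent k ![(1 : K), x, y] := by
      refine Fintype.linearIndependent_iff.2 fun c hc => ?_
      simp [Fin.sum_univ_three, Algebra.smul_def] at hc
      rcases eq_or_ne (c 2) 0 with h2 | h2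
      · rcases eq_or_ne (c 1) 0 with h1 | h1
        · have h0 : c 0 = 0 := by
            rw [h1, h2] at hc; simpa using hc
          intro i; fin_cases i <;> assumption
        · rw [h2, map_zero, zero_mul, add_zero] at hc
          refine (Bound.not_mem_range_of_transcendental hxt ⟨-c 0 / c 1, ?_⟩).elim
          rw [map_div₀, map_neg, div_eq_iff (by simpa using h1)]
          linear_combination -hc
      · exfalso
        have hyF : y ∈ adjoin k ({x} : Set K) := by
          have : y = -(algebraMap k K (c 0) + algebraMap k K (c 1) * x) / algebraMap k K (c 2) := by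
            rw [eq_div_iff (by simpa using h2)]; linear_combination hc
          rw [this]
          exact div_mem (neg_mem (add_mem (IntermediateField.algebraMap_mem _ _)
            (mul_mem (IntermediateField.algebraMap_mem _ _) (mem_adjoin_simple_self k x))))
            (IntermediateField.algebraMap_mem _ _)
        have hone : adjoin (adjoin k ({x} : Set K)) ({y} : Set K) = ⊥ :=
          adjoin_simple_eq_bot_iff.2 ⟨⟨y, hyF⟩, rfl⟩
        rw [hy'] at hone
        have : d = 1 := by
          rw [hd, ← IntermediateField.finrank_top', hone, IntermediateField.finrank_bot]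
        omega
    refine Fintype.linearIndependent_iff.2 fun c hc => ?_
    have h33 := Fintype.linearIndependent_iff.1 e3
    rcases eq_or_ne (c 3) 0 with h3' | h3'
    · have h := h33 ![c 0, c 1, c 2] (by
        simp [Fin.sum_univ_four, Fin.sum_univ_three, h3'] at hc ⊢; exact hc)
      intro i; fin_cases i
      exacts [h 0, h 1, h 2, h3']
    · refine absurd ?_ hzn
      have hz' : z = (-(c 3)⁻¹) • (c 0 • (1 : K) + c 1 • x + c 2 • y) := by
        have h : c 3 • z = -(c 0 • (1 : K) + c 1 • x + c 2 • y) := by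
          simp [Fin.sum_univ_four] at hc
          linear_combination hc
        rw [neg_smul, ← smul_neg, ← h, smul_smul, inv_mul_cancel₀ h3', one_smul]
      rw [hz']
      refine Submodule.smul_mem _ _ (add_mem (add_mem ?_ ?_) ?_) <;> refine Submodule.smul_mem _ _ ?_
      exacts [Submodule.subset_span ⟨0, rfl⟩, Submodule.subset_span ⟨1, rfl⟩,
        Submodule.subset_span ⟨2, rfl⟩]
  have hind : ∀ a b c : adjoin k ({x} : Set K), a • (1 : K) + b • y + c • z = 0 →
      a = 0 ∧ b = 0 ∧ c = 0 := fun a b c h =>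
    field_indep hK hD hpole hyL hzL hli a b c (by
      simpa [IntermediateField.smul_def] using h)
  set n := 2 * _root_.FunFld.genus k K + d with hn
  set W := _root_.FunFld.L D with hW
  have h1W : (1 : K) ∈ W := one_mem_L hD
  obtain ⟨B, hBn, hB⟩ := exists_chain (F := adjoin k ({x} : Set K)) W h1W n
  have hfin : (B n).Finite := hBn.linearIndependent.setFinite
  have hBfin : ∀ i : Fin (n + 1), (B (n - i)).Finite := fun i => hfin.subset (hB _ (by omega)).1
  haveI instB : ∀ i : Fin (n + 1), Fintype (B (n - i)) := fun i => (hBfin i).fintype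
  let xF : adjoin k ({x} : Set K) := ⟨x, mem_adjoin_simple_self k x⟩
  have hp : LinearIndependent k (fun i : ℕ => xF ^ i) := by
    refine LinearIndependent.of_comp ((adjoin k ({x} : Set K)).val.toLinearMap) ?_
    have := (Polynomial.basisMonomials k).linearIndependent.map' (aeval x).toLinearMap
      (LinearMap.ker_eq_bot.2 (transcendental_iff_injective.1 hxt))
    rw [show (adjoin k ({x} : Set K)).val.toLinearMap ∘ (fun i : ℕ => xF ^ i) =
      (aeval x).toLinearMap ∘ Polynomial.basisMonomials k from _root_.funext fun i => by simp [xF]]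
    exact this
  have hprod := linearIndependent_smul hp hBn.linearIndependent
  let J := Σ i : Fin (n + 1), B (n - i)
  let emb : J → ℕ × B n := fun q => ((q.1 : ℕ), ⟨q.2.1, (hB _ (by omega)).1 q.2.2⟩)
  have hemb : Function.Injective emb := by
    rintro ⟨i, a⟩ ⟨i', a'⟩ h
    simp only [emb, Prod.mk.injEq, Subtype.mk.injEq] at h
    obtain rfl : i = i' := Fin.ext h.1
    rw [Subtype.ext h.2]
  have hJ := hprod.comp emb hemb
  have hmem : ∀ q : J, (fun p : ℕ × B n => (xF ^ p.1) • (id (p.2 : K))) (emb q) ∈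
      _root_.FunFld.L ((n : ℤ) • D) := by
    rintro ⟨i, a⟩
    refine pow_le_L hK D n ?_
    have : W ^ n = W ^ (i : ℕ) * W ^ (n - i) := by rw [← pow_add]; congr 1; omega
    rw [← hW, this]
    simp only [emb, id, IntermediateField.smul_def, smul_eq_mul, SubmonoidClass.coe_pow]
    exact Submodule.mul_mem_mul (Submodule.pow_mem_pow _ hxL _) ((hB _ (by omega)).2.2.1 a.2)
  have hfd := finiteDimensional_L hK ((n : ℤ) • D)
  have hcount := (LinearIndependent.of_comp (_root_.FunFld.L ((n : ℤ) • D)).subtype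
    (v := fun q : J => (⟨_, hmem q⟩ : _root_.FunFld.L ((n : ℤ) • D))) hJ).fintype_card_le_finrank
  rw [Fintype.card_sigma] at hcount
  have hsum : ∑ j ∈ Finset.range (n + 1), min d (2 * j + 1) ≤ _root_.FunFld.ell ((n : ℤ) • D) := by
    refine le_trans ?_ hcount
    rw [← Finset.sum_range_reflect, Finset.sum_fin_eq_sum_range]
    refine Finset.sum_le_sum fun i hi => ?_
    have hi' := Finset.mem_range.1 hi
    rw [dif_pos hi', show n + 1 - 1 - i = n - i by omega]
    obtain ⟨-, hindep, -, hspan⟩ := hB (n - i) (by omega)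
    refine (exists_many (F := adjoin k ({x} : Set K)) W h1W hyL hzL hy' hind (n - i) _ hindep hspan).trans_eq ?_
    show _ = @Fintype.card _ (instB ⟨i, hi'⟩)
    rw [← Nat.card_coe_set_eq]
    exact @Nat.card_eq_fintype_card _ (instB ⟨i, hi'⟩)
  have hs := sum_min d n (by omega)
  have he : (_root_.FunFld.ell ((n : ℤ) • D) : ℤ) = (n : ℤ) * d + 1 - _root_.FunFld.genus k K := by
    have hdn : ((n : ℤ) • D).deg = (n : ℤ) * d := by rw [deg_smul, hdeg]
    rw [Weil.ell_eq_of_deg_ge hK (by rw [hdn]; nlinarith), hdn]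
  rw [hdeg, sq]
  have hsum' : ((∑ j ∈ Finset.range (n + 1), min d (2 * j + 1) : ℕ) : ℤ) + ((d * d / 4 : ℕ) : ℤ) =
      ((n : ℤ) + 1) * d := by exact_mod_cast hs
  have hsum2 : ((∑ j ∈ Finset.range (n + 1), min d (2 * j + 1) : ℕ) : ℤ) ≤
      _root_.FunFld.ell ((n : ℤ) • D) := by exact_mod_cast hsum
  have hsq : ((d * d / 4 : ℕ) : ℤ) = (d : ℤ) * d / 4 := by norm_cast
  linarith

end Groth.Agent.Lib.CurveFF.CastelnuovoBound
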