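import Mathlib.Algebra.Algebra.Operations
import Mathlib.Algebra.Algebra.Pi
import Mathlib.Data.Fin.Tuple.Sort
import Mathlib.Order.Interval.Finset.Fin
import Mathlib.Tactic.LinearCombination
import Mathlib.Data.Fintype.Card
import Mathlib.Algebra.BigOperators.Fin

/-!
Plane points of which at most half lie on a line: conditions imposed on forms of each degree.
-/

noncomputable section
set_option autoImplicit false
universe u v

namespace Groth.Agent.Lib.CurveFF.CastelnuovoPoints

variable {Ω : Type u} [Field Ω] {T : Type v} (p q : T → Ω)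

/-- The equation of the line through two points. -/
def crs (a b x : T) : Ω := (p b - p a) * (q x - q a) - (q b - q a) * (p x - p a)

open Classical in
/-- The points of a set on a line. -/
def line (U : Finset T) (a b : T) : Finset T := U.filter fun x => crs p q a b x = 0

/-- No line through two points of the set has more than `m` of them. -/
def Bound (U : Finset T) (m : ℕ) : Prop :=
  ∀ a ∈ U, ∀ b ∈ U, a ≠ b → (line p q U a b).card ≤ m

variable {p q}

theorem mem_line {U : Finset T} {a b x : T} :
    x ∈ line p q U a b ↔ x ∈ U ∧ crs p q a b x = 0 := by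
  classical exact Finset.mem_filter

theorem cross_zero {a₁ a₂ b₁ b₂ c₁ c₂ : Ω} (ha : a₁ ≠ 0 ∨ a₂ ≠ 0) (hb : a₁ * b₂ = a₂ * b₁)
    (hc : a₁ * c₂ = a₂ * c₁) : b₁ * c₂ = b₂ * c₁ := by
  rcases ha with h | h
  · refine mul_left_cancel₀ h ?_
    linear_combination b₁ * hc - c₁ * hb
  · refine mul_left_cancel₀ h ?_
    linear_combination b₂ * hc - c₂ * hb

variable (hinj : ∀ a b : T, p a = p b → q a = q b → a = b)
include hinj

theorem ne_zero {a b : T} (h : a ≠ b) : p b - p a ≠ 0 ∨ q b - q a ≠ 0 := by
  simp only [sub_ne_zero]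
  by_contra hc
  simp only [not_or, not_not] at hc
  exact h (hinj a b hc.1.symm hc.2.symm)

theorem crs_trans {a b c e x : T} (hab : a ≠ b) (hc : crs p q a b c = 0) (he : crs p q a b e = 0)
    (hx : crs p q a b x = 0) : crs p q c e x = 0 := by
  simp only [crs, sub_eq_zero] at hc he hx
  exact sub_eq_zero.2 (cross_zero (ne_zero hinj hab)
    (b₁ := p e - p c) (b₂ := q e - q c) (c₁ := p x - p c) (c₂ := q x - q c)
    (by linear_combination he - hc) (by linear_combination hx - hc))

theorem crs_iff {a b c e : T} (hab : a ≠ b) (hce : c ≠ e) (hc : crs p q a b c = 0)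
    (he : crs p q a b e = 0) (x : T) : crs p q c e x = 0 ↔ crs p q a b x = 0 := by
  refine ⟨crs_trans hinj hce ?_ ?_, crs_trans hinj hab hc he⟩
  · exact crs_trans hinj hab hc he (by simp [crs])
  · exact crs_trans hinj hab hc he (by simp [crs]; ring)

theorem line_eq {U : Finset T} {a b c e : T} (hab : a ≠ b) (hce : c ≠ e)
    (hc : crs p q a b c = 0) (he : crs p q a b e = 0) : line p q U c e = line p q U a b := by
  ext x
  rw [mem_line, mem_line, crs_iff hinj hab hce hc he]

theorem inter_le_one {U : Finset T} [DecidableEq T] {a b c e : T} (hab : a ≠ b) (hce : c ≠ e)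
    (hne : line p q U a b ≠ line p q U c e) :
    (line p q U a b ∩ line p q U c e).card ≤ 1 := by
  by_contra hlt
  obtain ⟨x, hx, y, hy, hxy⟩ := Finset.one_lt_card.1 (not_le.1 hlt)
  simp only [Finset.mem_inter, mem_line] at hx hy
  exact hne ((line_eq hinj hab hxy hx.1.2 hy.1.2).symm.trans
    (line_eq hinj hce hxy hx.2.2 hy.2.2))

/-- Two fewer points, one fewer on each line. -/
theorem shrink {U : Finset T} {e : ℕ} (he : 2 ≤ e) (hU : U.card = 2 * e + 1)
    (hb : Bound p q U (e + 1)) : ∃ U' : Finset T, U'.card + 2 = U.card ∧ Bound p q U' e := by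
  classical
  let Heavy : Finset T → Prop := fun l =>
    ∃ a ∈ U, ∃ b ∈ U, a ≠ b ∧ l = line p q U a b ∧ e + 1 ≤ l.card
  have fin : ∀ x ∈ U, ∀ y ∈ U, x ≠ y → (∀ l, Heavy l → x ∈ l ∨ y ∈ l) →
      ∃ U' : Finset T, U'.card + 2 = U.card ∧ Bound p q U' e := by
    intro x hx y hy hxy hcov
    refine ⟨(U.erase x).erase y, ?_, fun a ha b hb' hab => ?_⟩
    · rw [Finset.card_erase_of_mem (Finset.mem_erase.2 ⟨hxy.symm, hy⟩), Finset.card_erase_of_mem hx]
      omega
    · simp only [Finset.mem_erase] at ha hb'
      by_contra hlt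
      have hsub : line p q ((U.erase x).erase y) a b ⊆ line p q U a b := fun z hz => by
        simp only [mem_line, Finset.mem_erase] at hz ⊢
        exact ⟨hz.1.2.2, hz.2⟩
      have h1 := Finset.card_le_card hsub
      have h2 := hb a ha.2.2 b hb'.2.2 hab
      have heq := Finset.eq_of_subset_of_card_le hsub (by omega)
      rcases hcov _ ⟨a, ha.2.2, b, hb'.2.2, hab, rfl, by omega⟩ with h | h
      · rw [← heq, mem_line, Finset.mem_erase, Finset.mem_erase] at h
        exact h.1.2.1 rfl
      · rw [← heq, mem_line, Finset.mem_erase] at h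
        exact h.1.1 rfl
  have exx : ∀ x, ∃ y ∈ U, y ≠ x := fun x => Finset.exists_mem_ne (by omega) x
  by_cases h1 : ∃ l, Heavy l
  · obtain ⟨l₁, hl₁⟩ := h1
    obtain ⟨a₁, ha₁, b₁, hb₁, hab₁, rfl, hc₁⟩ := id hl₁
    have hx₁ : a₁ ∈ line p q U a₁ b₁ := mem_line.2 ⟨ha₁, by simp [crs]⟩
    by_cases h2 : ∃ l, Heavy l ∧ a₁ ∉ l
    · obtain ⟨l₂, hl₂, hn₂⟩ := h2
      obtain ⟨a₂, ha₂, b₂, hb₂, hab₂, rfl, hc₂⟩ := id hl₂
      have hx₂ : a₂ ∈ line p q U a₂ b₂ := mem_line.2 ⟨ha₂, by simp [crs]⟩
      refine fin a₁ ha₁ a₂ ha₂ (fun h => hn₂ (h ▸ hx₂)) fun l₃ hl₃ => ?_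
      by_contra hn
      obtain ⟨hn₁, hn₃⟩ := not_or.1 hn
      obtain ⟨a₃, -, b₃, -, hab₃, rfl, hc₃⟩ := id hl₃
      have i12 := inter_le_one hinj (U := U) hab₁ hab₂ fun h => hn₂ (h ▸ hx₁)
      have i13 := inter_le_one hinj (U := U) hab₁ hab₃ fun h => hn₁ (h ▸ hx₁)
      have i23 := inter_le_one hinj (U := U) hab₂ hab₃ fun h => hn₃ (h ▸ hx₂)
      set A := line p q U a₁ b₁
      set B := line p q U a₂ b₂
      set C := line p q U a₃ b₃
      have u1 := Finset.card_union_add_card_inter A B
      have u2 := Finset.card_union_add_card_inter (A ∪ B) C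
      have u3 : ((A ∪ B) ∩ C).card ≤ (A ∩ C).card + (B ∩ C).card := by
        rw [Finset.union_inter_distrib_right]; exact Finset.card_union_le _ _
      have u4 : (A ∪ B ∪ C).card ≤ U.card := Finset.card_le_card (by
        intro z hz
        simp only [A, B, C, Finset.mem_union, mem_line] at hz
        tauto)
      omega
    · obtain ⟨y, hy, hne⟩ := exx a₁
      refine fin a₁ ha₁ y hy hne.symm fun l hl => Or.inl ?_
      by_contra h
      exact h2 ⟨l, hl, h⟩
  · obtain ⟨x, hx⟩ : U.Nonempty := Finset.card_pos.1 (by omega)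
    obtain ⟨y, hy, hne⟩ := exx x
    exact fin x hx y hy hne.symm fun l hl => (h1 ⟨l, hl⟩).elim

/-- A product of few linear forms which is a delta function on the set. -/
theorem exists_delta {U : Finset T} {j : ℕ} (hU : U.card ≤ 2 * j + 1) (hb : Bound p q U (j + 1))
    (S : Submodule Ω (T → Ω)) (h1 : (1 : T → Ω) ∈ S) (hp : p ∈ S) (hq : q ∈ S)
    {c : T} (hc : c ∈ U) :
    ∃ g ∈ S ^ j, g c ≠ 0 ∧ ∀ b ∈ U, b ≠ c → g b = 0 := by
  classical
  set U' := U.erase c with hU'
  have hN : U'.card ≤ 2 * j := by rw [hU', Finset.card_erase_of_mem hc]; omega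
  let Q := U'.image fun a => line p q U c a
  let key : U' → Fin Q.card := fun a =>
    Q.equivFin ⟨line p q U c a, Finset.mem_image_of_mem _ a.2⟩
  let e₀ : Fin U'.card ≃ U' := U'.equivFin.symm
  let e : Fin U'.card ≃ U' := (Tuple.sort (key ∘ e₀)).trans e₀
  have hmono : Monotone (key ∘ e) := Tuple.monotone_sort (key ∘ e₀)
  have hne : ∀ t, (e t : T) ≠ c := fun t => (Finset.mem_erase.1 (e t).2).1
  have hmem : ∀ t, (e t : T) ∈ U := fun t => (Finset.mem_erase.1 (e t).2).2
  let form : T → T → (T → Ω) := fun a b => fun x => crs p q a b x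
  have hform : ∀ a b, form a b ∈ S := fun a b => by
    have : form a b = (p b - p a) • q - (q b - q a) • p -
        ((p b - p a) * q a - (q b - q a) * p a) • (1 : T → Ω) := by
      ext x; simp [form, crs]; ring
    rw [this]
    exact sub_mem (sub_mem (S.smul_mem _ hq) (S.smul_mem _ hp)) (S.smul_mem _ h1)
  let single : T → (T → Ω) := fun a =>
    if p c = p a then q - q a • (1 : T → Ω) else p - p a • (1 : T → Ω)
  have hsingle : ∀ a, single a ∈ S := fun a => by
    simp only [single]
    split_ifs
    · exact sub_mem hq (S.smul_mem _ h1)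
    · exact sub_mem hp (S.smul_mem _ h1)
  let g : Fin j → (T → Ω) := fun i =>
    if h : (i : ℕ) + j < U'.card then
      form (e ⟨i, by omega⟩ : T) (e ⟨(i : ℕ) + j, h⟩ : T)
    else if h' : (i : ℕ) < U'.card then single (e ⟨i, h'⟩ : T) else 1
  have hgS : ∀ i, g i ∈ S := fun i => by
    simp only [g]
    split_ifs
    exacts [hform _ _, hsingle _, h1]
  have hprod : ∀ (m : ℕ) (f : Fin m → (T → Ω)), (∀ i, f i ∈ S) → ∏ i, f i ∈ S ^ m := by
    intro m
    induction m with
    | zero => intro f _; rw [Finset.univ_eq_empty, Finset.prod_empty, pow_zero]; exact Submodule.one_le.1 le_rfl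
    | succ m ih =>
      intro f hf
      rw [Fin.prod_univ_succ, pow_succ']
      exact Submodule.mul_mem_mul (hf 0) (ih _ fun i => hf i.succ)
  refine ⟨∏ i, g i, hprod j g hgS, ?_, fun b hbU hbc => ?_⟩
  · rw [Finset.prod_apply, Finset.prod_ne_zero_iff]
    intro i _
    simp only [g]
    split_ifs with h h'
    · intro h0
      set a : T := ↑(e ⟨i, by omega⟩) with ha
      set b : T := ↑(e ⟨(i : ℕ) + j, h⟩) with hb'
      have hab : a ≠ b := fun h' => by
        have h'' := congrArg Fin.val (e.injective (Subtype.ext h'))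
        dsimp at h''
        omega
      have hk : key (e ⟨i, by omega⟩) = key (e ⟨(i : ℕ) + j, h⟩) := by
        refine congrArg Q.equivFin (Subtype.ext ?_)
        show line p q U c a = line p q U c b
        rw [line_eq hinj hab (hne _).symm h0 (show crs p q a b a = 0 by simp [crs]),
          line_eq hinj hab (hne _).symm h0 (show crs p q a b b = 0 by simp [crs]; ring)]
      have hsub : insert c ((Finset.Icc (⟨i, by omega⟩ : Fin U'.card) ⟨(i : ℕ) + j, h⟩).image
          fun t => (e t : T)) ⊆ line p q U c a := by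
        intro z hz
        rw [Finset.mem_insert, Finset.mem_image] at hz
        rcases hz with rfl | ⟨t, ht, rfl⟩
        · exact mem_line.2 ⟨hc, by simp [crs]⟩
        · rw [Finset.mem_Icc] at ht
          have h3 : key (e ⟨i, by omega⟩) = key (e t) :=
            le_antisymm (hmono ht.1) (hk ▸ hmono ht.2)
          have h4 : line p q U c a = line p q U c (e t) :=
            congrArg Subtype.val (Q.equivFin.injective h3)
          rw [h4]
          exact mem_line.2 ⟨hmem t, by simp [crs]; ring⟩
      have h5 := Finset.card_le_card hsub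
      rw [Finset.card_insert_of_notMem (fun hz => by
        obtain ⟨t, -, ht⟩ := Finset.mem_image.1 hz
        exact hne t ht), Finset.card_image_of_injective _
        (fun s t h' => e.injective (Subtype.ext h')), Fin.card_Icc] at h5
      have h6 := hb c hc a (hmem _) (hne _).symm
      dsimp at h5
      omega
    · simp only [single]
      split_ifs with hpc
      · simp only [Pi.sub_apply, Pi.smul_apply, Pi.one_apply, smul_eq_mul, mul_one, ne_eq, sub_eq_zero]
        exact fun hqc => hne _ (hinj _ _ hpc hqc).symm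
      · simp only [Pi.sub_apply, Pi.smul_apply, Pi.one_apply, smul_eq_mul, mul_one, ne_eq, sub_eq_zero]
        exact hpc
    · simp
  · obtain ⟨t, ht⟩ := e.surjective ⟨b, Finset.mem_erase.2 ⟨hbc, hbU⟩⟩
    have ht' : (e t : T) = b := congrArg Subtype.val ht
    have htN := t.2
    rw [Finset.prod_apply]
    rcases lt_or_ge (t : ℕ) j with htj | htj
    · refine Finset.prod_eq_zero (Finset.mem_univ ⟨t, htj⟩) ?_
      simp only [g]
      split_ifs with h
      · simp [form, crs, ht']
      · simp only [single, ht']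
        split_ifs <;> simp
    · refine Finset.prod_eq_zero (Finset.mem_univ ⟨(t : ℕ) - j, by omega⟩) ?_
      have e1 : ((t : ℕ) - j) + j < U'.card := by omega
      simp only [g, dif_pos e1]
      have e2 : (⟨(t : ℕ) - j + j, e1⟩ : Fin U'.card) = t := Fin.ext (by simp; omega)
      simp only [e2, ht', form, crs]
      ring

variable [Fintype T]

/-- Symmetry bounds the number of points on a line by half of them. -/
theorem bound_of_transitive
    (htr : ∀ a b : T, ∃ π : Equiv.Perm T, π a = b ∧
      ∀ x y z, crs p q x y z = 0 → crs p q (π x) (π y) (π z) = 0)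
    (hnc : ∀ a b : T, a ≠ b → ∃ x, crs p q a b x ≠ 0) :
    Bound p q Finset.univ ((Fintype.card T + 1) / 2) := by
  classical
  intro a _ b _ hab
  by_contra hlt
  obtain ⟨x, hx⟩ := hnc a b hab
  obtain ⟨π, hπ, hinv⟩ := htr a x
  set A := line p q Finset.univ a b with hA
  have hsub : A.image π ⊆ line p q Finset.univ (π a) (π b) := by
    intro z hz
    obtain ⟨w, hw, rfl⟩ := Finset.mem_image.1 hz
    exact mem_line.2 ⟨Finset.mem_univ _, hinv _ _ _ (mem_line.1 hw).2⟩
  have h1 := Finset.card_le_card hsub
  rw [Finset.card_image_of_injective _ π.injective] at h1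
  have h2 := Finset.card_union_add_card_inter A (line p q Finset.univ (π a) (π b))
  have h3 : (A ∪ line p q Finset.univ (π a) (π b)).card ≤ Fintype.card T := Finset.card_le_univ _
  have h4 : A = line p q Finset.univ (π a) (π b) := by
    by_contra hne
    have := inter_le_one hinj hab (π.injective.ne hab) hne
    rw [← hA] at this
    omega
  have : x ∈ A := by
    rw [h4, ← hπ]
    exact mem_line.2 ⟨Finset.mem_univ _, by simp [crs]⟩
  exact hx (mem_line.1 this).2

/-- Enough points imposing independent conditions in every degree. -/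
theorem exists_sets (hb : Bound p q Finset.univ ((Fintype.card T + 1) / 2)) (j : ℕ) :
    ∃ U : Finset T, min (Fintype.card T) (2 * j + 1) ≤ U.card ∧ U.card ≤ 2 * j + 1 ∧
      Bound p q U (j + 1) := by
  classical
  set d := Fintype.card T with hd
  rcases Nat.lt_or_ge (2 * j + 1) d with hj | hj
  swap
  · exact ⟨Finset.univ, by rw [Finset.card_univ]; omega, by rw [Finset.card_univ]; omega,
      fun a ha b hb' hab => (hb a ha b hb' hab).trans (by omega)⟩
  have main : ∀ r e : ℕ, e + r = (d - 1) / 2 → 1 ≤ e →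
      ∃ U : Finset T, U.card = 2 * e + 1 ∧ Bound p q U (e + 1) := by
    intro r
    induction r with
    | zero =>
      intro e he he1
      obtain ⟨U, -, hU⟩ := Finset.exists_subset_card_eq (s := (Finset.univ : Finset T))
        (n := 2 * e + 1) (by rw [Finset.card_univ]; omega)
      refine ⟨U, hU, fun a ha b hb' hab => ?_⟩
      refine le_trans (Finset.card_le_card ?_) ((hb a (Finset.mem_univ _) b (Finset.mem_univ _) hab).trans (by omega))
      exact fun z hz => mem_line.2 ⟨Finset.mem_univ _, (mem_line.1 hz).2⟩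
    | succ r ih =>
      intro e he he1
      obtain ⟨U, hU, hbU⟩ := ih (e + 1) (by omega) (by omega)
      obtain ⟨U', h1, h2⟩ := shrink hinj (e := e + 1) (by omega) hU hbU
      exact ⟨U', by omega, h2⟩
  rcases Nat.eq_zero_or_pos j with rfl | hj1
  · have : Nonempty T := Fintype.card_pos_iff.1 (by omega)
    refine ⟨{Classical.arbitrary T}, by simp, by simp, fun a ha b hb' hab => ?_⟩
    rw [Finset.mem_singleton] at ha hb'
    exact absurd (ha.trans hb'.symm) hab
  obtain ⟨U, hU, hbU⟩ := main ((d - 1) / 2 - j) j (by omega) hj1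
  exact ⟨U, by omega, hU.le, hbU⟩

end Groth.Agent.Lib.CurveFF.CastelnuovoPoints
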