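import Groth.Agent.Lib.CurveFF.Drop
import Groth.Agent.Lib.FunFld.LinSys.PlaneGenus
import Groth.Agent.Lib.FunFld.LinSys.VeryAmple
import Groth.Agent.Lib.FunFld.PlaneCurve.Plane

/-!
The genus of a field with a very ample divisor with three sections.
-/

noncomputable section
set_option autoImplicit false
universe u v

open Groth.Agent.Lib.FunFld Groth.Agent.Lib.FunFld.Degree

namespace Groth.Agent.Lib.CurveFF.PlaneGenusOfDiv

variable {k : Type u} {K : Type v} [Field k] [Field K] [Algebra k K] [IsAlgClosed k]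

local notation "ℓ" => _root_.FunFld.ell

theorem two_genus_eq (hK : _root_.FunFld.IsFunctionField k K) {D₀ : _root_.FunFld.Divisor k K}
    (hl : ℓ D₀ = 3)
    (hv : ∀ P Q, ℓ (D₀ - Finsupp.single P 1 - Finsupp.single Q 1) = 1) :
    2 * (_root_.FunFld.genus k K : ℤ) = (D₀.deg - 1) * (D₀.deg - 2) := by
  classical
  obtain ⟨D, a, hD, ha, hDe, hDd⟩ := FunFld.SmallGenus.exists_nonneg hK
    (show 0 < ℓ D₀ by omega)
  have hlD : ℓ D = 3 := by rw [← hl, hDe, FunFld.Riemann.ell_add_div hK _ ha]
  have hvD : ∀ P Q, ℓ (D - Finsupp.single P 1 - Finsupp.single Q 1) = 1 := fun P Q => by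
    rw [← hv P Q, hDe, show D + _root_.FunFld.div k a - Finsupp.single P (1 : ℤ) - Finsupp.single Q 1 =
      D - Finsupp.single P 1 - Finsupp.single Q 1 + _root_.FunFld.div k a by abel,
      FunFld.Riemann.ell_add_div hK _ ha]
  rw [← hDd]
  have := finiteDimensional_L hK D
  have h1D : (1 : K) ∈ _root_.FunFld.L D := mem_L_iff_ord.2 (Or.inr fun P => by
    rw [Place.ord_one]
    have : (0 : ℤ) ≤ D P := hD P
    omega)
  obtain ⟨x, hxD, hx⟩ : ∃ x ∈ _root_.FunFld.L D, x ∉ k ∙ (1 : K) := by
    by_contra hcon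
    simp only [not_exists, not_and, not_not] at hcon
    have h := Submodule.finrank_mono (t := k ∙ (1 : K)) hcon
    change ℓ D ≤ _ at h
    rw [finrank_span_singleton one_ne_zero] at h
    omega
  have hli2 : LinearIndependent k ![(1 : K), x] := linearIndependent_fin2.2
    ⟨fun e : x = 0 => hx (e ▸ zero_mem _), fun c hc => by
      have hc' : c • x = (1 : K) := hc
      rcases eq_or_ne c 0 with rfl | hc0
      · rw [zero_smul] at hc'; exact zero_ne_one hc'
      · exact hx (Submodule.mem_span_singleton.2 ⟨c⁻¹, by rw [← hc', inv_smul_smul₀ hc0]⟩)⟩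
  obtain ⟨y, hyD, hy⟩ : ∃ y ∈ _root_.FunFld.L D, y ∉ Submodule.span k (Set.range ![(1 : K), x]) := by
    by_contra hcon
    simp only [not_exists, not_and, not_not] at hcon
    have := FiniteDimensional.span_of_finite k (Set.finite_range ![(1 : K), x])
    have h := Submodule.finrank_mono hcon
    change ℓ D ≤ _ at h
    rw [finrank_span_eq_card hli2, Fintype.card_fin] at h
    omega
  set φ : Fin 3 → K := ![(1 : K), x, y] with hφ
  have hli : LinearIndependent k φ := by
    have e : φ = Fin.snoc ![(1 : K), x] y := by funext i; fin_cases i <;> rfl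
    rw [e]
    exact linearIndependent_fin_snoc.2 ⟨hli2, hy⟩
  have hspan : Submodule.span k (Set.range φ) = _root_.FunFld.L D := by
    refine Submodule.eq_of_le_of_finrank_le (Submodule.span_le.2 ?_) ?_
    · rintro _ ⟨i, rfl⟩; fin_cases i <;> assumption
    · rw [finrank_span_eq_card hli, Fintype.card_fin]
      exact hlD.le
  have hne := hli.ne_zero
  have hmap : _root_.FunFld.mapDiv k φ = D := LinSys.VeryAmple.mapDiv_eq hK hne hspan fun R heq => by
    have h1 := Drop.ell_le_sub_single hK (D - Finsupp.single R 1) R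
    rw [hvD R R] at h1
    have h2 : ℓ (D - Finsupp.single R 1) = ℓ D := by
      unfold _root_.FunFld.ell; rw [heq]
    omega
  have hsep : LinSys.VeryAmple.Separates k φ := fun P Q => by
    rw [hmap, hspan, inf_eq_right.mpr (L_mono ((sub_le_self _
      (Finsupp.single_nonneg.mpr zero_le_one)).trans (sub_le_self _
        (Finsupp.single_nonneg.mpr zero_le_one))))]
    show ℓ _ + 2 = ℓ D
    rw [hvD, hlD]
  have hxy := FunFld.PlaneCurve.Plane.adjoin_xy (LinSys.VeryAmple.birational hK hne hsep 0) (hne 0)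
  rw [show φ 1 / φ 0 = x by simp [hφ], show φ 2 / φ 0 = y by simp [hφ]] at hxy
  have h := (LinSys.PlaneGenus.two_genus_eq_iff hK x y hxy).2 fun P =>
    LinSys.VeryAmple.isNonsingularAt hK hne hsep P
  rw [← hφ, hmap] at h
  exact h

end Groth.Agent.Lib.CurveFF.PlaneGenusOfDiv
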