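import Groth.Agent.Lib.CurveFF.QuadricPencils
import Groth.Agent.Lib.CurveFF.PlaneGenusOfDiv

/-!
Gonality of a genus nine field of Clifford index two or three.
-/

noncomputable section
set_option autoImplicit false
universe u v

open Groth.Agent.Lib.FunFld Groth.Agent.Lib.FunFld.Degree Groth.Agent.Lib.CurveFF.Drop

namespace Groth.Agent.Lib.CurveFF.CliffordGenusNine

variable {k : Type u} {K : Type v} [Field k] [Field K] [Algebra k K] [IsAlgClosed k]

local notation "Dv" => _root_.FunFld.Divisor k K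
local notation "ℓ" => _root_.FunFld.ell

theorem pad (hK : _root_.FunFld.IsFunctionField k K) {F : Dv} (h2 : 2 ≤ ℓ F) {n : ℕ}
    (hn : F.deg ≤ n) : ∃ E : Dv, E.deg = (n : ℤ) ∧ 2 ≤ ℓ E := by
  obtain ⟨P⟩ := FunFld.Riemann.nonempty_place hK
  refine ⟨F + Finsupp.single P ((n : ℤ) - F.deg), ?_, h2.trans (ell_le_of_le hK
    (le_add_of_nonneg_right (Finsupp.single_nonneg.2 (by omega))))⟩
  rw [deg_add, deg_single, FunFld.Rational.deg_eq_one hK P]
  omega

/-- The rank of a series computing the Clifford index can be bounded by duality. -/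
theorem reduce (hK : _root_.FunFld.IsFunctionField k K) {W : Dv}
    (hW : _root_.FunFld.IsCanonical k K W) (c : ℕ) (hg : _root_.FunFld.genus k K = 9)
    (hex : ∃ D : Dv, 2 ≤ ℓ D ∧ 2 ≤ ℓ (W - D) ∧ D.deg = 2 * (ℓ D : ℤ) - 2 + c) :
    ∃ D : Dv, 2 ≤ ℓ D ∧ 2 ≤ ℓ (W - D) ∧ D.deg = 2 * (ℓ D : ℤ) - 2 + c ∧
      2 * (ℓ D : ℤ) ≤ 10 - c := by
  obtain ⟨D, h1, h2, h3⟩ := hex
  have hrr := FunFld.Weil.riemann_roch hK hW D
  by_cases h : 2 * (ℓ D : ℤ) ≤ 10 - c
  · exact ⟨D, h1, h2, h3, h⟩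
  · refine ⟨W - D, h2, by rwa [sub_sub_cancel], ?_, by omega⟩
    rw [deg_sub, FunFld.Weil.deg_canonical hK hW]
    omega

theorem tetragonal [CharZero k] (hK : _root_.FunFld.IsFunctionField k K) {W : Dv}
    (hW : _root_.FunFld.IsCanonical k K W) (hg : _root_.FunFld.genus k K = 9)
    (hex : ∃ D : Dv, 2 ≤ ℓ D ∧ 2 ≤ ℓ (W - D) ∧ D.deg = 2 * (ℓ D : ℤ)) :
    ∃ E : Dv, E.deg = 4 ∧ 2 ≤ ℓ E := by
  obtain ⟨D, h1, h2, h3, h4⟩ := reduce hK hW 2 hg (by
    obtain ⟨D, h1, h2, h3⟩ := hex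
    exact ⟨D, h1, h2, by push_cast; omega⟩)
  push_cast at h3 h4
  have hsplit : ∀ m : ℕ, (m = 3 ∨ m = 4) → ℓ D = m →
      ℓ (D + D) < Fintype.card {p : Fin m × Fin m // p.1 ≤ p.2} → ∃ E : Dv, E.deg = 4 ∧ 2 ≤ ℓ E := by
    intro m hm hl hs
    obtain ⟨F, G, hF, hG, hFG⟩ := QuadricPencils.exists_pencils hK hm hl hs
    rcases le_or_gt F.deg 4 with h | h
    · exact pad hK hF (n := 4) h
    · exact pad hK hG (n := 4) (by push_cast; omega)
  have hrr := FunFld.Weil.riemann_roch hK hW (D + D)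
  rw [hg, deg_add] at hrr
  have hWd := FunFld.Weil.deg_canonical hK hW
  rw [hg] at hWd
  obtain h | h | h : ℓ D = 2 ∨ ℓ D = 3 ∨ ℓ D = 4 := by omega
  · exact ⟨D, by omega, h1⟩
  · by_cases h6 : ℓ (D + D) < Fintype.card {p : Fin 3 × Fin 3 // p.1 ≤ p.2}
    · exact hsplit 3 (.inl rfl) h h6
    · have hc : Fintype.card {p : Fin 3 × Fin 3 // p.1 ≤ p.2} = 6 := by decide
      exact ⟨W - (D + D), by rw [deg_sub, deg_add, hWd]; omega, by omega⟩
  · refine hsplit 4 (.inr rfl) h ?_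
    have hc : Fintype.card {p : Fin 4 × Fin 4 // p.1 ≤ p.2} = 10 := by decide
    rw [hc]
    rcases Nat.lt_or_ge (ℓ (W - (D + D))) 2 with h' | h'
    · omega
    · obtain ⟨E, a, hE, ha, hEe, hEd⟩ := FunFld.SmallGenus.exists_nonneg hK (E := W - (D + D)) (by omega)
      obtain rfl : E = 0 := FunFld.SmallGenus.eq_zero_of_nonneg hK hE (by
        rw [hEd, deg_sub, deg_add, hWd]; omega)
      rw [hEe, FunFld.Riemann.ell_add_div hK _ ha, ell_zero hK] at h'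
      omega

theorem pentagonal (hK : _root_.FunFld.IsFunctionField k K) {W : Dv}
    (hW : _root_.FunFld.IsCanonical k K W) (hg : _root_.FunFld.genus k K = 9)
    (hex : ∃ D : Dv, 2 ≤ ℓ D ∧ 2 ≤ ℓ (W - D) ∧ D.deg = 2 * (ℓ D : ℤ) + 1) :
    ∃ E : Dv, E.deg = 5 ∧ 2 ≤ ℓ E := by
  obtain ⟨D, h1, h2, h3, h4⟩ := reduce hK hW 3 hg (by
    obtain ⟨D, h1, h2, h3⟩ := hex
    exact ⟨D, h1, h2, by push_cast; omega⟩)
  push_cast at h3 h4
  obtain h | h : ℓ D = 2 ∨ ℓ D = 3 := by omega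
  · exact ⟨D, by omega, h1⟩
  by_cases hv : ∀ P Q, ℓ (D - Finsupp.single P 1 - Finsupp.single Q 1) = 1
  · have := PlaneGenusOfDiv.two_genus_eq hK h hv
    rw [hg, show D.deg = 7 by omega] at this
    norm_num at this
  · simp only [not_forall] at hv
    obtain ⟨P, Q, hv⟩ := hv
    have a1 := ell_le_sub_single hK (D - Finsupp.single P 1) Q
    have a2 := ell_le_sub_single hK D P
    refine ⟨D - Finsupp.single P 1 - Finsupp.single Q 1, ?_, by omega⟩
    rw [deg_sub, deg_sub, deg_single, deg_single, FunFld.Rational.deg_eq_one hK P,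
      FunFld.Rational.deg_eq_one hK Q]
    omega

end Groth.Agent.Lib.CurveFF.CliffordGenusNine
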