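import Groth.Agent.Lib.FunFld.Weil
import Groth.Agent.Lib.FunFld.SmallGenus
import Groth.Agent.Lib.FunFld.Existence
import Groth.Agent.Lib.FunFld.Bound

/-!
The multiples of the pencil of degree two below the canonical class.
-/

noncomputable section
set_option autoImplicit false
universe u v

open IntermediateField
open Groth.Agent.Lib.FunFld.Degree Groth.Agent.Lib.FunFld.Place

namespace Groth.Agent.Lib.CurveFF.DoublePowers

variable {k : Type u} {K : Type v} [Field k] [Field K] [Algebra k K]

theorem pow_mem (hK : _root_.FunFld.IsFunctionField k K) (x : K) {n i : ℕ} (hi : i ≤ n) :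
    x ^ i ∈ _root_.FunFld.L ((n : ℤ) • poleDiv (k := k) x) := by
  refine mem_L_iff_ord.2 (Or.inr fun P => ?_)
  rw [ord_pow, Finsupp.smul_apply, smul_eq_mul, poleDiv_apply hK]
  have h1 : (i : ℤ) ≤ n := by exact_mod_cast hi
  rcases le_total 0 (P.ord x) with h | h
  · nlinarith [le_max_right (-P.ord x) (0 : ℤ), Int.natCast_nonneg n, Int.natCast_nonneg i]
  · rw [max_eq_left (by omega)]
    nlinarith

theorem linearIndependent_pow {x : K} (hx : Transcendental k x) (n : ℕ) :
    LinearIndependent k (fun i : Fin (n + 1) => x ^ (i : ℕ)) := by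
  refine Fintype.linearIndependent_iff.2 fun c hc i => ?_
  have hp : Polynomial.aeval x (∑ j : Fin (n + 1), Polynomial.monomial (j : ℕ) (c j)) = 0 := by
    rw [map_sum]
    simpa [Polynomial.aeval_monomial, Algebra.smul_def] using hc
  have hp0 := transcendental_iff.1 hx _ hp
  have := congrArg (fun p => Polynomial.coeff p (i : ℕ)) hp0
  simpa [Polynomial.finset_sum_coeff, Polynomial.coeff_monomial, Fin.val_inj] using this

/-- The multiples of the pole divisor of a function of degree two have only the obvious sections. -/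
theorem ell_smul_poleDiv (hK : _root_.FunFld.IsFunctionField k K) {x : K}
    (hx : Transcendental k x) (h2 : Module.finrank (adjoin k ({x} : Set K)) K = 2) {r : ℕ}
    (hr : r + 1 ≤ _root_.FunFld.genus k K) :
    _root_.FunFld.ell ((r : ℤ) • poleDiv (k := k) x) = r + 1 := by
  have hx0 : x ≠ 0 := fun e => hx (e ▸ isAlgebraic_zero)
  have hpow : ∀ n i : ℕ, i ≤ n → x ^ i ∈ _root_.FunFld.L ((n : ℤ) • poleDiv (k := k) x) :=
    fun n i hi => pow_mem hK x hi
  have hli := linearIndependent_pow (k := k) hx
  have hlow : ∀ n : ℕ, n + 1 ≤ _root_.FunFld.ell ((n : ℤ) • poleDiv (k := k) x) := by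
    intro n
    haveI := finiteDimensional_L hK ((n : ℤ) • poleDiv (k := k) x)
    let v : Fin (n + 1) → _root_.FunFld.L ((n : ℤ) • poleDiv (k := k) x) := fun i =>
      ⟨x ^ (i : ℕ), hpow n i (Nat.lt_succ_iff.1 i.2)⟩
    have hv : LinearIndependent k v := LinearIndependent.of_comp
      (_root_.FunFld.L ((n : ℤ) • poleDiv (k := k) x)).subtype (hli n)
    have h' := hv.fintype_card_le_finrank
    rwa [Fintype.card_fin] at h'
  obtain ⟨W, hW⟩ := FunFld.Weil.exists_isCanonical hK
  obtain ⟨Q, hQ⟩ := FunFld.Existence.exists_pole hK hx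
  -- the top
  have hd : ∀ n : ℕ, ((n : ℤ) • poleDiv (k := k) x).deg = 2 * n := fun n => by
    rw [deg_smul, deg_poleDiv hK hx, h2]; push_cast; ring
  have key : ∀ m n : ℕ, n + m + 1 = _root_.FunFld.genus k K →
      _root_.FunFld.ell ((n : ℤ) • poleDiv (k := k) x) ≤ n + 1 := by
    intro m
    induction m with
    | zero =>
      intro n hn
      have h1 := FunFld.Weil.riemann_roch hK hW ((n : ℤ) • poleDiv (k := k) x)
      have h3 : _root_.FunFld.ell (W - (n : ℤ) • poleDiv (k := k) x) ≤ 1 := by
        by_contra hlt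
        obtain ⟨F, a, hF, ha, hEF, hFd⟩ := FunFld.SmallGenus.exists_nonneg hK
          (E := W - (n : ℤ) • poleDiv (k := k) x) (by omega)
        have h0 : (W - (n : ℤ) • poleDiv (k := k) x).deg = 0 := by
          rw [deg_sub, FunFld.Weil.deg_canonical hK hW, hd]; omega
        obtain rfl : F = 0 := FunFld.SmallGenus.eq_zero_of_nonneg hK hF (hFd.trans h0)
        rw [hEF, FunFld.Riemann.ell_add_div hK 0 ha, FunFld.Degree.ell_zero hK] at hlt
        omega
      rw [hd] at h1
      omega
    | succ m ih =>
      intro n hn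
      have h1 := ih (n + 1) (by omega)
      haveI := finiteDimensional_L hK (((n + 1 : ℕ) : ℤ) • poleDiv (k := k) x)
      have hle : _root_.FunFld.L ((n : ℤ) • poleDiv (k := k) x) <
          _root_.FunFld.L (((n + 1 : ℕ) : ℤ) • poleDiv (k := k) x) := by
        have hmono : _root_.FunFld.L ((n : ℤ) • poleDiv (k := k) x) ≤
            _root_.FunFld.L (((n + 1 : ℕ) : ℤ) • poleDiv (k := k) x) :=
          FunFld.Degree.L_mono (fun P => by
            rw [Finsupp.smul_apply, Finsupp.smul_apply, smul_eq_mul, smul_eq_mul, poleDiv_apply hK]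
            push_cast
            nlinarith [le_max_right (-P.ord x) (0 : ℤ)])
        refine lt_of_le_of_ne hmono fun e => ?_
        have hmem := hpow (n + 1) (n + 1) le_rfl
        rw [← e] at hmem
        rcases mem_L_iff_ord.1 hmem with h0 | h0
        · exact pow_ne_zero _ hx0 h0
        · have := h0 Q
          rw [ord_pow, Finsupp.smul_apply, smul_eq_mul, poleDiv_apply hK, max_eq_left (by omega)] at this
          push_cast at this
          nlinarith
      have h2' := Submodule.finrank_lt_finrank_of_lt hle
      change _root_.FunFld.ell _ < _root_.FunFld.ell _ at h2'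
      omega
  have := key (_root_.FunFld.genus k K - r - 1) r (by omega)
  have := hlow r
  omega

/-- The sections of a multiple below the canonical class are rational in the coordinate. -/
theorem mem_adjoin (hK : _root_.FunFld.IsFunctionField k K) {x : K} (hx : Transcendental k x)
    (h2 : Module.finrank (adjoin k ({x} : Set K)) K = 2) {r : ℕ}
    (hr : r + 1 ≤ _root_.FunFld.genus k K) {y : K}
    (hy : y ∈ _root_.FunFld.L ((r : ℤ) • poleDiv (k := k) x)) : y ∈ adjoin k ({x} : Set K) := by
  have hle : Submodule.span k (Set.range fun i : Fin (r + 1) => x ^ (i : ℕ)) ≤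
      _root_.FunFld.L ((r : ℤ) • poleDiv (k := k) x) := Submodule.span_le.2 (by
    rintro _ ⟨i, rfl⟩
    exact pow_mem hK x (Nat.lt_succ_iff.1 i.2))
  haveI := finiteDimensional_L hK ((r : ℤ) • poleDiv (k := k) x)
  have heq := Submodule.eq_of_le_of_finrank_le hle (by
    rw [finrank_span_eq_card (linearIndependent_pow hx r), Fintype.card_fin]
    exact (ell_smul_poleDiv hK hx h2 hr).le)
  rw [← heq] at hy
  refine (Submodule.span_le (p := (adjoin k ({x} : Set K)).toSubalgebra.toSubmodule).2 ?_ hy :)
  rintro _ ⟨i, rfl⟩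
  exact _root_.pow_mem (mem_adjoin_simple_self k x) _

end Groth.Agent.Lib.CurveFF.DoublePowers
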