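import Groth.Agent.Lib.CurveFF.Drop
import Groth.Agent.Lib.CurveFF.DoublePowers
import Groth.Agent.Lib.FunFld.PlaneCurve.Generators

/-!
Function fields of Clifford index one are trigonal or plane quintics.
-/

noncomputable section
set_option autoImplicit false
universe u

open WithZero IntermediateField
open Groth.Agent.Lib.FunFld Groth.Agent.Lib.FunFld.Degree Groth.Agent.Lib.FunFld.Hasse
open Groth.Agent.Lib.CurveFF.Drop Groth.Agent.Lib.FunFld.Existence

namespace Groth.Agent.Lib.CurveFF.CliffordIndexOne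

variable {k : Type u} {K : Type u} [Field k] [Field K] [Algebra k K] [IsAlgClosed k]

local notation "Dv" => _root_.FunFld.Divisor k K
local notation "Pl" => _root_.FunFld.Place k K
local notation "ℓ" => _root_.FunFld.ell

/-- A series of Clifford index one and rank `r`. -/
def Eq1 (W : _root_.FunFld.Divisor k K) (r : ℕ) : Prop :=
  ∃ D : _root_.FunFld.Divisor k K, _root_.FunFld.ell D = r + 1 ∧ D.deg = 2 * (r : ℤ) + 1 ∧
    2 ≤ _root_.FunFld.ell (W - D)

/-- A separable coordinate has a fibre of distinct points. -/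
theorem exists_reduced [CharZero k] (hK : _root_.FunFld.IsFunctionField k K) {D : Dv}
    (h0 : 0 ≤ D) (hd : D.deg ≠ 0)
    (hb : ∀ P : Pl, ℓ (D - Finsupp.single P 1) < ℓ D) :
    ∃ (Γ : Finset Pl) (z : K), z ≠ 0 ∧ ind Γ = D + _root_.FunFld.div k z := by
  classical
  have := finiteDimensional_L hK D
  let p : ↥(D.support) → Submodule k (_root_.FunFld.L D) := fun P =>
    (_root_.FunFld.L (D - Finsupp.single (P : Pl) 1)).comap (_root_.FunFld.L D).subtype
  obtain ⟨⟨x, hx⟩, hxp⟩ := Submodule.exists_forall_notMem_of_forall_ne_top p fun P htop => by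
    have hle : _root_.FunFld.L D ≤ _root_.FunFld.L (D - Finsupp.single (P : Pl) 1) := fun w hw =>
      (Submodule.eq_top_iff'.1 htop ⟨w, hw⟩ :)
    have := finiteDimensional_L hK (D - Finsupp.single (P : Pl) 1)
    exact absurd (hb P) (not_lt.2 (Submodule.finrank_mono hle))
  have hpos : ∀ P : Pl, D P ≠ 0 → P.1 x = exp (D P) := by
    intro P hP
    refine le_antisymm (hx P) ?_
    by_contra hlt
    refine hxp ⟨P, Finsupp.mem_support_iff.2 hP⟩ ?_
    show x ∈ _root_.FunFld.L (D - Finsupp.single P 1)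
    intro Q
    rw [Finsupp.sub_apply]
    rcases eq_or_ne Q P with rfl | hQ
    · rw [Finsupp.single_eq_same, Place.val_le_exp_iff]
      rcases eq_or_ne x 0 with h | h
      · exact Or.inl h
      · rw [Place.val_eq_exp Q h, exp_le_exp] at hlt
        right; omega
    · rw [Finsupp.single_eq_of_ne hQ, sub_zero]; exact hx Q
  obtain ⟨P₀, hP₀⟩ : ∃ P : Pl, D P ≠ 0 := by
    by_contra hcon
    simp only [not_exists, not_not] at hcon
    exact hd (by rw [show D = 0 from Finsupp.ext hcon, deg_zero])
  have hord : ∀ P : Pl, D P ≠ 0 → P.ord x = -D P := fun P hP => by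
    rw [Place.ord_def, hpos P hP, log_exp]
  have hxt : Transcendental k x := transcendental_of_ord_ne_zero hK P₀ (by
    rw [hord P₀ hP₀]; omega)
  have := Bound.finiteDimensional_adjoin_transcendental hK hxt
  have : CharZero (adjoin k ({x} : Set K)) :=
    charZero_of_injective_algebraMap (algebraMap k (adjoin k ({x} : Set K))).injective
  have hsep : Algebra.IsSeparable (adjoin k ({x} : Set K)) K := inferInstance
  set R := {P : Pl | ∀ c : k, P.1 (x - algebraMap k K c) ≠ exp (-1)} with hR
  have hRf : R.Finite := FunFld.PlaneCurve.Generators.finite_ramified hK hsep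
  have hbad : (⋃ P ∈ R, {c : k | P.1 (x - algebraMap k K c) < 1}).Finite :=
    hRf.biUnion fun P _ => Set.Subsingleton.finite fun a ha b hb' =>
      LinSys.Chart.const_unique P ha hb'
  obtain ⟨c, hc⟩ := hbad.exists_notMem
  have hz : x - algebraMap k K c ≠ 0 := fun h =>
    Bound.not_mem_range_of_transcendental hxt ⟨c, (sub_eq_zero.mp h).symm⟩
  set z := x - algebraMap k K c with hzdef
  have key : ∀ P : Pl, (D + _root_.FunFld.div k z) P = 0 ∨ (D + _root_.FunFld.div k z) P = 1 := by
    intro P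
    rw [Finsupp.add_apply, div_apply hK]
    rcases eq_or_ne (D P) 0 with hP | hP
    · have h1 : P.1 x ≤ 1 := by simpa [hP] using hx P
      have h2 : P.1 z ≤ 1 :=
        (P.1.map_sub _ _).trans (max_le h1 (P.2.1 c))
      rcases h2.lt_or_eq with h3 | h3
      · have hnR : P ∉ R := fun hPR => hc (Set.mem_biUnion hPR h3)
        simp only [hR, Set.mem_ofPred_eq, not_forall, not_not] at hnR
        obtain ⟨c', hc'⟩ := hnR
        obtain rfl : c' = c := LinSys.Chart.const_unique P
          (hc'.trans_lt (by rw [← exp_zero, exp_lt_exp]; norm_num)) h3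
        right
        rw [hP, Place.ord_eq_of_val_eq_exp P hc']; rfl
      · left
        rw [hP, Place.ord_def, h3]; simp
    · left
      have h1 : P.1 (algebraMap k K c) < P.1 x := by
        refine (P.2.1 c).trans_lt ?_
        rw [hpos P hP, ← exp_zero, exp_lt_exp]
        have : (0 : ℤ) ≤ D P := h0 P
        omega
      rw [Place.ord_def, hzdef, P.1.map_sub_eq_of_lt_left h1, hpos P hP, log_exp]
      omega
  refine ⟨(D + _root_.FunFld.div k z).support, z, hz, Finsupp.ext fun P => ?_⟩
  rw [ind_apply]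
  rcases key P with h | h <;> simp [Finsupp.mem_support_iff, h]

/-- A birationally very ample plane model of degree five bounds the genus by six. -/
theorem quintic_genus_le (hK : _root_.FunFld.IsFunctionField k K) {W D : Dv}
    (hW : _root_.FunFld.IsCanonical k K W) (hell : ℓ D = 3) (hd : D.deg = 5) (h0 : 0 ≤ D)
    (hb : ∀ P : Pl, ℓ (D - Finsupp.single P 1) = 2)
    (hCl : 2 ≤ ℓ (((8 : ℕ) : ℤ) • D) → 2 ≤ ℓ (W - ((8 : ℕ) : ℤ) • D) →
      2 * (ℓ (((8 : ℕ) : ℤ) • D) : ℤ) - 1 ≤ (((8 : ℕ) : ℤ) • D).deg) :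
    _root_.FunFld.genus k K ≤ 6 := by
  classical
  have := finiteDimensional_L hK D
  obtain ⟨P₀, hP₀⟩ : ∃ P : Pl, D P ≠ 0 := by
    by_contra hcon
    simp only [not_exists, not_not] at hcon
    rw [show D = 0 from Finsupp.ext hcon, deg_zero] at hd
    norm_num at hd
  let p : ↥(D.support) → Submodule k (_root_.FunFld.L D) := fun P =>
    (_root_.FunFld.L (D - Finsupp.single (P : Pl) 1)).comap (_root_.FunFld.L D).subtype
  obtain ⟨⟨x, hx⟩, hxp⟩ := Submodule.exists_forall_notMem_of_forall_ne_top p fun P htop => by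
    have hle : _root_.FunFld.L D ≤ _root_.FunFld.L (D - Finsupp.single (P : Pl) 1) := fun w hw =>
      (Submodule.eq_top_iff'.1 htop ⟨w, hw⟩ :)
    have := finiteDimensional_L hK (D - Finsupp.single (P : Pl) 1)
    have h1 := Submodule.finrank_mono hle
    change ℓ D ≤ ℓ _ at h1
    rw [hell, hb] at h1
    omega
  have hpole : poleDiv (k := k) x = D := by
    ext P
    rw [poleDiv_apply hK]
    have h0P : (0 : ℤ) ≤ D P := h0 P
    have h1 : P.1 x ≤ exp (D P) := hx P
    rw [Place.val_le_exp_iff] at h1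
    rcases eq_or_ne (D P) 0 with hP | hP
    · rcases h1 with h | h
      · rw [h, Place.ord_zero, hP]; rfl
      · omega
    · have h2 : ¬ x ∈ _root_.FunFld.L (D - Finsupp.single P 1) :=
        fun h => hxp ⟨P, Finsupp.mem_support_iff.2 hP⟩ h
      rw [mem_L_iff_ord] at h2
      simp only [not_or, not_forall] at h2
      obtain ⟨hx0, Q, hQ⟩ := h2
      have h3 := (Place.val_le_exp_iff Q).1 (hx Q : Q.1 x ≤ exp (D Q))
      rcases eq_or_ne Q P with rfl | hQP
      · rw [Finsupp.sub_apply, Finsupp.single_eq_same] at hQ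
        rcases h3 with h | h
        · exact absurd h hx0
        · omega
      · rw [Finsupp.sub_apply, Finsupp.single_eq_of_ne hQP, sub_zero] at hQ
        rcases h3 with h | h
        · exact absurd h hx0
        · exact absurd h hQ
  have hxt : Transcendental k x := transcendental_of_ord_ne_zero hK P₀ (by
    have h := DFunLike.congr_fun hpole P₀
    rw [poleDiv_apply hK] at h
    have : (0 : ℤ) ≤ D P₀ := h0 P₀
    omega)
  set F := adjoin k ({x} : Set K) with hF
  have hfr : Module.finrank F K = 5 := by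
    have := deg_poleDiv hK hxt
    rw [hpole, hd] at this
    exact_mod_cast this.symm
  have := Bound.finiteDimensional_adjoin_transcendental hK hxt
  -- a section outside `k(x)`
  obtain ⟨y, hy, hyF⟩ : ∃ y ∈ _root_.FunFld.L D, y ∉ F := by
    have := finiteDimensional_L hK (D - Finsupp.single P₀ 1)
    obtain ⟨y, hy, hyk⟩ : ∃ y ∈ _root_.FunFld.L (D - Finsupp.single P₀ 1),
        y ∉ _root_.FunFld.L (0 : Dv) := by
      by_contra hcon
      simp only [not_exists, not_and, not_not] at hcon
      have := finiteDimensional_L_zero hK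
      have h1 := Submodule.finrank_mono hcon
      change ℓ _ ≤ ℓ _ at h1
      rw [hb, ell_zero hK] at h1
      omega
    refine ⟨y, L_mono (sub_single_le D P₀) hy, fun hyF => ?_⟩
    have hy0 : y ≠ 0 := fun e => hyk (e ▸ zero_mem _)
    obtain ⟨Q, hQ⟩ : ∃ Q : Pl, Q.ord y < 0 := by
      by_contra hcon
      simp only [not_exists, not_lt] at hcon
      exact hyk (mem_L_iff_ord.2 (Or.inr fun Q => by simpa using hcon Q))
    have hyt : Transcendental k y := transcendental_of_ord_ne_zero hK Q (by omega)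
    have := Bound.finiteDimensional_adjoin_transcendental hK hyt
    have hle : adjoin k ({y} : Set K) ≤ F := adjoin_simple_le_iff.2 hyF
    have h5 : Module.finrank F K ≤ Module.finrank (adjoin k ({y} : Set K)) K :=
      IntermediateField.finrank_le_of_le_left hle
    have hp : poleDiv (k := k) y ≤ D - Finsupp.single P₀ (1 : ℤ) := fun R => by
      show poleDiv (k := k) y R ≤ (D - Finsupp.single P₀ (1 : ℤ) : Dv) R
      rw [poleDiv_apply hK]
      have h1 := ((mem_L_iff_ord.1 hy).resolve_left hy0) R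
      have h2 : (0 : ℤ) ≤ (D - Finsupp.single P₀ (1 : ℤ)) R := by
        rw [Finsupp.sub_apply]
        have hR0 : (0 : ℤ) ≤ D R := h0 R
        rcases eq_or_ne R P₀ with rfl | hR
        · rw [Finsupp.single_eq_same]; omega
        · rw [Finsupp.single_eq_of_ne hR]; omega
      omega
    have h6 := deg_mono hp
    rw [deg_poleDiv hK hyt, deg_sub, deg_single, FunFld.Rational.deg_eq_one hK P₀, hd] at h6
    omega
  have hint : IsIntegral F y := Algebra.IsIntegral.isIntegral y
  have hmin : (minpoly F y).natDegree = 5 := by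
    rcases (Nat.dvd_prime Nat.prime_five).1 (hfr ▸ minpoly.degree_dvd hint) with h | h
    · obtain ⟨z, hz⟩ := minpoly.natDegree_eq_one_iff.1 h
      exact absurd (hz ▸ z.2) hyF
    · exact h
  let g : F := ⟨x, mem_adjoin_simple_self k x⟩
  have hg : LinearIndependent k fun i : Fin 9 => g ^ (i : ℕ) :=
    LinearIndependent.of_comp F.toSubalgebra.val.toLinearMap (by
      exact DoublePowers.linearIndependent_pow hxt 8)
  have hy5 : LinearIndependent F fun j : Fin 5 => y ^ (j : ℕ) := by
    have := linearIndependent_pow (K := F) y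
    rwa [hmin] at this
  have hmon := linearIndependent_smul hg hy5
  let S := {q : Fin 9 × Fin 5 // (q.1 : ℕ) + q.2 ≤ 8}
  have hmem : ∀ q : S, g ^ (q.1.1 : ℕ) • y ^ (q.1.2 : ℕ) ∈
      _root_.FunFld.L (((8 : ℕ) : ℤ) • D) := by
    intro q R
    change R.1 (x ^ (q.1.1 : ℕ) * y ^ (q.1.2 : ℕ)) ≤ exp ((((8 : ℕ) : ℤ) • D) R)
    have hR0 : (0 : ℤ) ≤ D R := h0 R
    have h1 : R.1 x ≤ exp (D R) := hx R
    have h2 : R.1 y ≤ exp (D R) := hy R
    rw [map_mul, map_pow, map_pow]
    refine (mul_le_mul' (pow_le_pow_left₀ zero_le h1 _) (pow_le_pow_left₀ zero_le h2 _)).trans ?_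
    rw [← exp_nsmul, ← exp_nsmul, ← exp_add, exp_le_exp, Finsupp.smul_apply]
    simp only [nsmul_eq_mul, smul_eq_mul]
    have hq : ((q.1.1 : ℕ) : ℤ) + (q.1.2 : ℕ) ≤ 8 := by exact_mod_cast q.2
    push_cast
    nlinarith
  have := finiteDimensional_L hK (((8 : ℕ) : ℤ) • D)
  have hcount : 35 ≤ ℓ (((8 : ℕ) : ℤ) • D) := by
    have hli : LinearIndependent k (fun q : S => (⟨_, hmem q⟩ :
        _root_.FunFld.L (((8 : ℕ) : ℤ) • D))) :=
      LinearIndependent.of_comp (Submodule.subtype _) (hmon.comp (fun q : S => q.1) Subtype.val_injective)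
    have h := hli.fintype_card_le_finrank
    have hc : Fintype.card S = 35 := by decide
    rw [hc] at h
    exact h
  have hdeg : _root_.FunFld.Divisor.deg (((8 : ℕ) : ℤ) • D) = 40 := by
    rw [deg_smul, hd]; norm_num
  have hrr := FunFld.Weil.riemann_roch hK hW (((8 : ℕ) : ℤ) • D)
  rw [hdeg] at hrr
  rcases Nat.lt_or_ge (ℓ (W - ((8 : ℕ) : ℤ) • D)) 2 with h | h
  · rcases Nat.eq_zero_or_pos (ℓ (W - ((8 : ℕ) : ℤ) • D)) with h' | h'
    · omega
    · obtain ⟨E, a, hE, -, -, hEd⟩ := FunFld.SmallGenus.exists_nonneg hK h'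
      have := deg_nonneg hE
      rw [hEd, deg_sub, FunFld.Weil.deg_canonical hK hW, hdeg] at this
      omega
  · have := hCl (by omega) h
    omega

/-- A field of Clifford index one has a pencil of degree three or is a plane quintic. -/
theorem trigonal_or_quintic [CharZero k] (hK : _root_.FunFld.IsFunctionField k K) {W : Dv}
    (hW : _root_.FunFld.IsCanonical k K W)
    (hCl : ∀ D : Dv, 2 ≤ ℓ D → 2 ≤ ℓ (W - D) → 2 * (ℓ D : ℤ) - 1 ≤ D.deg)
    (hex : ∃ r, 1 ≤ r ∧ Eq1 W r) :
    Eq1 W 1 ∨ (_root_.FunFld.genus k K = 6 ∧ ∃ D : Dv, ℓ D = 3 ∧ D.deg = 5 ∧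
      (∀ P : Pl, ℓ (D - Finsupp.single P 1) = 2) ∧
      ∀ P Q : Pl, ℓ (D - Finsupp.single P 1 - Finsupp.single Q 1) = 1) := by
  classical
  obtain ⟨hr1, D₀, hell₀, hd₀, hW₀⟩ := Nat.find_spec hex
  set r := Nat.find hex with hr
  rcases eq_or_lt_of_le hr1 with h1 | h2
  · left; rw [h1]; exact ⟨D₀, hell₀, hd₀, hW₀⟩
  right
  have hCd := FunFld.Weil.deg_canonical hK hW
  set g := _root_.FunFld.genus k K with hg
  -- an effective representative
  obtain ⟨D, a, hDnn, ha, hDa, hDd⟩ := FunFld.SmallGenus.exists_nonneg hK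
    (show 0 < ℓ D₀ by omega)
  have hell : ℓ D = r + 1 := by rw [← hell₀, hDa, FunFld.Riemann.ell_add_div hK _ ha]
  have hWD : 2 ≤ ℓ (W - D) := by
    have e : W - D = W - D₀ + _root_.FunFld.div k a := by rw [hDa]; abel
    rw [e, FunFld.Riemann.ell_add_div hK _ ha]; exact hW₀
  rw [hd₀] at hDd
  -- the residual series bounds the genus from below
  have hgr : 2 * r + 2 ≤ g := by
    have hrr := FunFld.Weil.riemann_roch hK hW D
    have hmin := Nat.find_min' hex (m := ℓ (W - D) - 1) ⟨by omega, W - D, by omega, by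
      rw [deg_sub, hCd, hDd]; omega, by rw [sub_sub_cancel]; omega⟩
    rw [← hr] at hmin
    omega
  -- no base points and two conditions for two points
  have hbp : ∀ P : Pl, ℓ (D - Finsupp.single P 1) = r := by
    intro P
    have h3 := ell_le_sub_single hK D P
    have h4 := ell_le_of_le hK (sub_single_le D P)
    by_contra hne
    have h5 := hCl (D - Finsupp.single P 1) (by omega) (hWD.trans (ell_le_of_le hK
      (sub_le_sub_left (sub_single_le D P) W)))
    rw [deg_sub, deg_single, FunFld.Rational.deg_eq_one hK P, hDd] at h5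
    omega
  have hva : ∀ P Q : Pl, ℓ (D - Finsupp.single P 1 - Finsupp.single Q 1) = r - 1 := by
    intro P Q
    set E := D - Finsupp.single P 1 - Finsupp.single Q 1 with hE
    have h3 := ell_le_sub_single hK (D - Finsupp.single P 1) Q
    have h4 := ell_le_of_le hK (sub_single_le (D - Finsupp.single P 1) Q)
    have hp := hbp P
    rw [← hE] at h3 h4
    by_contra hne
    have hEd : E.deg = 2 * (r : ℤ) - 1 := by
      rw [hE, deg_sub, deg_sub, deg_single, deg_single, FunFld.Rational.deg_eq_one hK P,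
        FunFld.Rational.deg_eq_one hK Q, hDd]
      omega
    have hWE : 2 ≤ ℓ (W - E) := hWD.trans (ell_le_of_le hK (sub_le_sub_left
      ((sub_single_le _ Q).trans (sub_single_le D P)) W))
    refine Nat.find_min hex (m := r - 1) (by omega) ⟨by omega, E, by omega, by omega, hWE⟩
  rcases Nat.lt_or_ge r 3 with hr3 | hr3
  · have hr2 : r = 2 := by omega
    have h6 := quintic_genus_le hK hW (by omega) (by rw [hDd, hr2]; rfl) hDnn
      (fun P => (hbp P).trans hr2) (fun h h' => hCl _ h h')
    exact ⟨by omega, D, by omega, by rw [hDd, hr2]; rfl, fun P => (hbp P).trans hr2,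
      fun P Q => (hva P Q).trans (by omega)⟩
  exfalso
  obtain ⟨Γ, z, hz, hΓ⟩ := exists_reduced hK hDnn (by omega) fun P => by rw [hbp P]; omega
  have htr : ∀ E : Dv, ℓ (ind Γ - E) = ℓ (D - E) := fun E => by
    rw [hΓ, show D + _root_.FunFld.div k z - E = D - E + _root_.FunFld.div k z by abel,
      FunFld.Riemann.ell_add_div hK _ hz]
  have hΓd : Γ.card = 2 * r + 1 := by
    have h := deg_ind hK Γ
    rw [hΓ, deg_add, deg_div hK, add_zero, hDd] at h
    omega
  -- a set of points imposing independent conditions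
  obtain ⟨T, hT, hTmin⟩ := Finset.exists_min_image
    (Γ.powerset.filter fun T => ℓ (ind Γ - ind T) ≤ 1) Finset.card
    ⟨Γ, Finset.mem_filter.2 ⟨Finset.mem_powerset_self Γ, by rw [sub_self, ell_zero hK]⟩⟩
  rw [Finset.mem_filter, Finset.mem_powerset] at hT
  obtain ⟨hTΓ, hT1⟩ := hT
  have hval : ∀ (A : Finset Pl) (P : Pl), (ind Γ - ind A) P =
      (if P ∈ Γ then 1 else 0) - (if P ∈ A then 1 else 0) := fun A P => by
    rw [Finsupp.sub_apply, ind_apply, ind_apply]
  have hfex : ∀ p ∈ T, ∃ f ∈ _root_.FunFld.L (ind Γ - ind (T.erase p)), p.1 f = exp 1 := by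
    intro p hp
    have h2' : 2 ≤ ℓ (ind Γ - ind (T.erase p)) := by
      by_contra hlt
      have h' := hTmin (T.erase p) (Finset.mem_filter.2
        ⟨Finset.mem_powerset.2 ((Finset.erase_subset p T).trans hTΓ), by omega⟩)
      exact absurd h' (not_le.2 (Finset.card_erase_lt_of_mem hp))
    have := finiteDimensional_L hK (ind Γ - ind T)
    obtain ⟨f, hf, hfT⟩ : ∃ f ∈ _root_.FunFld.L (ind Γ - ind (T.erase p)),
        f ∉ _root_.FunFld.L (ind Γ - ind T) := by
      by_contra hcon
      simp only [not_exists, not_and, not_not] at hcon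
      have h' := Submodule.finrank_mono hcon
      change ℓ _ ≤ ℓ _ at h'
      omega
    refine ⟨f, hf, ?_⟩
    have h1 := hf p
    rw [hval, if_pos (hTΓ hp), if_neg (Finset.notMem_erase p T), sub_zero] at h1
    refine le_antisymm h1 ?_
    by_contra hlt
    refine hfT fun Q => ?_
    have h3 := hf Q
    rw [hval] at h3 ⊢
    rcases eq_or_ne Q p with rfl | hQ
    · rw [if_pos (hTΓ hp), if_pos hp, sub_self, Place.val_le_exp_iff]
      rcases eq_or_ne f 0 with h0 | h0
      · exact Or.inl h0
      · rw [Place.val_eq_exp Q h0, exp_le_exp] at hlt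
        right; omega
    · simpa [Finset.mem_erase, hQ] using h3
  choose! f hfL hfp using hfex
  have hΓ1 : ∀ p ∈ T, (ind Γ) p = 1 := fun p hp => by rw [ind_apply, if_pos (hTΓ hp)]
  have hfΓ : ∀ p ∈ T, f p ∈ _root_.FunFld.L (ind Γ) := fun p hp =>
    L_mono (sub_le_self _ (ind_nonneg _)) (hfL p hp)
  have hoff : ∀ p ∈ T, ∀ q ∈ T, q ≠ p → q.1 (f p) ≤ 1 := fun p hp q hq hne => by
    have h := hfL p hp q
    rwa [hval, if_pos (hTΓ hq), if_pos (Finset.mem_erase.2 ⟨hne, hq⟩), sub_self, exp_zero] at h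
  have hrΓ : ℓ (ind Γ) = r + 1 := by simpa [hell] using htr 0
  have hTc : T.card = r := by
    have h4 := drop_ind hK f hfL (fun p hp => by rw [hΓ1 p hp]; exact hfp p hp)
    have h5 := ell_le_sub_ind hK (ind Γ) T
    have h6 : 1 ≤ ℓ (ind Γ - ind T) := one_le_ell hK (fun P => by
      rw [hval, Finsupp.coe_zero, Pi.zero_apply]
      by_cases hP : P ∈ T
      · rw [if_pos (hTΓ hP), if_pos hP]; rfl
      · rw [if_neg hP, sub_zero]; split_ifs <;> omega)
    omega
  -- two poles at every further point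
  have htwo : ∀ q ∈ Γ, q ∉ T → ∀ p ∈ T, ∃ p' ∈ T, p' ≠ p ∧ q.1 (f p') = exp 1 := by
    intro q hqΓ hqT p hp
    by_contra hcon
    simp only [not_exists, not_and] at hcon
    have hle : ∀ p' ∈ T, p' ≠ p → q.1 (f p') ≤ 1 := by
      intro p' hp' hne
      have h := hfΓ p' hp' q
      rw [ind_apply, if_pos hqΓ] at h
      have hne' := hcon p' hp' hne
      rcases eq_or_ne (f p') 0 with h0 | h0
      · rw [h0, map_zero]; exact zero_le_one
      · rw [Place.val_eq_exp q h0, exp_le_exp] at h
        rw [Place.val_eq_exp q h0, exp_inj] at hne'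
        rw [Place.val_eq_exp q h0, ← exp_zero, exp_le_exp]
        omega
    have hpT : ∀ p' ∈ T.erase p, f p' ∈ _root_.FunFld.L
        (ind Γ - Finsupp.single q 1 - ind ((T.erase p).erase p')) := by
      intro p' hp' R
      obtain ⟨hne, hp'T⟩ := Finset.mem_erase.1 hp'
      have h := hfL p' hp'T R
      rw [hval] at h
      rw [Finsupp.sub_apply, Finsupp.sub_apply, ind_apply, ind_apply]
      rcases eq_or_ne R q with rfl | hRq
      · rw [Finsupp.single_eq_same, if_pos hqΓ, if_neg (fun hc => hqT (Finset.mem_of_mem_erase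
          (Finset.mem_of_mem_erase hc))), sub_self, sub_zero, exp_zero]
        exact hle p' hp'T hne
      · rw [Finsupp.single_eq_of_ne hRq, sub_zero]
        refine h.trans (exp_le_exp.2 ?_)
        by_cases h1 : R ∈ (T.erase p).erase p'
        · rw [if_pos h1, if_pos (Finset.mem_erase.2 ⟨(Finset.mem_erase.1 h1).1,
            Finset.mem_of_mem_erase (Finset.mem_of_mem_erase h1)⟩)]
        · rw [if_neg h1]; split_ifs <;> omega
    have hnn : ∀ A : Finset Pl, A ⊆ T → 0 ≤ ind Γ - Finsupp.single q 1 - ind A := fun A hA R => by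
      rw [Finsupp.sub_apply, Finsupp.sub_apply, ind_apply, ind_apply, Finsupp.coe_zero, Pi.zero_apply]
      rcases eq_or_ne R q with rfl | hRq
      · rw [Finsupp.single_eq_same, if_pos hqΓ, if_neg (fun hc => hqT (hA hc))]; rfl
      · rw [Finsupp.single_eq_of_ne hRq]
        by_cases h1 : R ∈ A
        · rw [if_pos h1, if_pos (hTΓ (hA h1))]; rfl
        · rw [if_neg h1]; split_ifs <;> omega
    have hd1 := drop_ind hK f hpT (fun p' hp' => by
      obtain ⟨-, hp'T⟩ := Finset.mem_erase.1 hp'
      rw [Finsupp.sub_apply, Finsupp.single_eq_of_ne (ne_of_mem_of_not_mem hp'T hqT), sub_zero,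
        hΓ1 p' hp'T]
      exact hfp p' hp'T)
    rw [Finset.card_erase_of_mem hp, hTc, htr, hbp] at hd1
    have hone := one_le_ell hK (hnn T subset_rfl)
    -- the function at `p` has a pole at `q`
    rcases le_or_gt (q.1 (f p)) 1 with hfq | hfq
    · have hfin : f p ∈ _root_.FunFld.L (ind Γ - Finsupp.single q 1 - ind (T.erase p)) := by
        intro R
        have h := hfL p hp R
        rw [hval] at h
        rw [Finsupp.sub_apply, Finsupp.sub_apply, ind_apply, ind_apply]
        rcases eq_or_ne R q with rfl | hRq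
        · rw [Finsupp.single_eq_same, if_pos hqΓ, if_neg (fun hc => hqT (Finset.mem_of_mem_erase hc)),
            sub_self, sub_zero, exp_zero]
          exact hfq
        · rw [Finsupp.single_eq_of_ne hRq, sub_zero]; exact h
      have hd2 := drop_single hK hfin (P := p) (by
        rw [Finsupp.sub_apply, Finsupp.sub_apply, Finsupp.single_eq_of_ne (ne_of_mem_of_not_mem hp hqT),
          ind_apply, ind_apply, if_pos (hTΓ hp), if_neg (Finset.notMem_erase p T), sub_zero, sub_zero]
        exact hfp p hp)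
      rw [show ind Γ - Finsupp.single q 1 - ind (T.erase p) - Finsupp.single p 1 =
        ind Γ - Finsupp.single q 1 - ind T by
          rw [ind, ind, ind, ← Finset.insert_erase hp, Finset.sum_insert (Finset.notMem_erase p T),
            Finset.erase_insert (Finset.notMem_erase p T)]
          abel] at hd2
      omega
    · have hd3 := drop_ind hK (E := ind Γ - Finsupp.single q 1 - Finsupp.single p 1) f
        (T := T.erase p) (fun p' hp' R => by
          obtain ⟨hne, hp'T⟩ := Finset.mem_erase.1 hp'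
          have h := hpT p' hp' R
          rw [Finsupp.sub_apply] at h
          rw [Finsupp.sub_apply, Finsupp.sub_apply _ (Finsupp.single p (1 : ℤ))]
          rcases eq_or_ne R p with rfl | hRp
          · rw [Finsupp.single_eq_same, Finsupp.sub_apply, Finsupp.single_eq_of_ne
              (ne_of_mem_of_not_mem hp hqT), ind_apply, ind_apply, if_pos (hTΓ hp),
              if_neg (fun hc => (Finset.mem_erase.1 (Finset.mem_of_mem_erase hc)).1 rfl)]
            exact hoff p' hp'T R hp hne.symm
          · rw [Finsupp.single_eq_of_ne hRp, sub_zero]; exact h)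
        (fun p' hp' => by
          obtain ⟨hne, hp'T⟩ := Finset.mem_erase.1 hp'
          rw [Finsupp.sub_apply, Finsupp.sub_apply, Finsupp.single_eq_of_ne (ne_of_mem_of_not_mem hp'T hqT),
            Finsupp.single_eq_of_ne hne, sub_zero, sub_zero, hΓ1 p' hp'T]
          exact hfp p' hp'T)
      have e : ind Γ - Finsupp.single q 1 - Finsupp.single p 1 - ind (T.erase p) =
          ind Γ - Finsupp.single q 1 - ind T := by
        rw [ind, ind, ind, ← Finset.insert_erase hp, Finset.sum_insert (Finset.notMem_erase p T),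
          Finset.erase_insert (Finset.notMem_erase p T)]
        abel
      rw [e, Finset.card_erase_of_mem hp, hTc,
        show ind Γ - Finsupp.single q (1 : ℤ) - Finsupp.single p 1 =
          ind Γ - (Finsupp.single q 1 + Finsupp.single p 1) by abel, htr, ← sub_sub D, hva] at hd3
      omega
  -- two double poles
  obtain ⟨q, q', hqΓ, hqT, hq'Γ, hq'T, a₁, a₂, hvv⟩ :
      ∃ q q', q ∈ Γ ∧ q ∉ T ∧ q' ∈ Γ ∧ q' ∉ T ∧ ∃ u v : K,
        u ∈ _root_.FunFld.L (ind Γ + ind Γ - ind T) ∧
        v ∈ _root_.FunFld.L (ind Γ + ind Γ - ind T - Finsupp.single q 1) ∧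
        q.1 u = exp 2 ∧ q'.1 v = exp 2 ∧ q' ≠ q := by
    have hprod : ∀ w w' : K, w ∈ _root_.FunFld.L (ind Γ) → w' ∈ _root_.FunFld.L (ind Γ) →
        (∀ p ∈ T, p.1 w ≤ 1 ∨ p.1 w' ≤ 1) →
        w * w' ∈ _root_.FunFld.L (ind Γ + ind Γ - ind T) := by
      intro w w' hw hw' hor R
      rw [Finsupp.sub_apply, Finsupp.add_apply, ind_apply T, map_mul]
      have hRw := hw R
      have hRw' := hw' R
      by_cases hR : R ∈ T
      · rw [if_pos hR, hΓ1 R hR]
        rw [hΓ1 R hR] at hRw hRw'
        rcases hor R hR with h | h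
        · exact (mul_le_mul' h hRw').trans (by rw [one_mul]; rfl)
        · exact (mul_le_mul' hRw h).trans (by rw [mul_one]; rfl)
      · rw [if_neg hR, sub_zero, exp_add]
        exact mul_le_mul' hRw hRw'
    have hff : ∀ a ∈ T, ∀ b ∈ T, a ≠ b → f a * f b ∈ _root_.FunFld.L (ind Γ + ind Γ - ind T) :=
      fun a ha b hb hab => hprod _ _ (hfΓ a ha) (hfΓ b hb) fun p hp => by
        by_cases h : p = a
        · exact Or.inr (hoff b hb p hp (h ▸ hab))
        · exact Or.inl (hoff a ha p hp h)
    have hsub : ∀ (q : Pl) (v : K), q ∈ Γ → q ∉ T →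
        v ∈ _root_.FunFld.L (ind Γ + ind Γ - ind T) → q.1 v ≤ exp 1 →
        v ∈ _root_.FunFld.L (ind Γ + ind Γ - ind T - Finsupp.single q 1) := by
      intro q v hqΓ hqT hv hqv R
      rw [Finsupp.sub_apply]
      rcases eq_or_ne R q with rfl | hR
      · rw [Finsupp.single_eq_same, Finsupp.sub_apply, Finsupp.add_apply, ind_apply, ind_apply,
          if_pos hqΓ, if_neg hqT]
        exact hqv
      · rw [Finsupp.single_eq_of_ne hR, sub_zero]; exact hv R
    obtain ⟨p₀, hp₀⟩ : ∃ p, p ∈ T := Finset.card_pos.1 (by omega)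
    have hu : ∀ q, q ∈ Γ → q ∉ T → ∃ u : K,
        u ∈ _root_.FunFld.L (ind Γ + ind Γ - ind T) ∧ q.1 u = exp 2 := by
      intro q hqΓ hqT
      obtain ⟨a, ha, -, hqa⟩ := htwo q hqΓ hqT p₀ hp₀
      obtain ⟨b, hb, hba, hqb⟩ := htwo q hqΓ hqT a ha
      exact ⟨_, hff a ha b hb hba.symm, by rw [map_mul, hqa, hqb, ← exp_add]; rfl⟩
    by_cases hdiff : ∃ q q', q ∈ Γ ∧ q ∉ T ∧ q' ∈ Γ ∧ q' ∉ T ∧
        ∃ p ∈ T, q'.1 (f p) = exp 1 ∧ q.1 (f p) ≤ 1
    · obtain ⟨q, q', hqΓ, hqT, hq'Γ, hq'T, p, hp, hpq', hpq⟩ := hdiff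
      obtain ⟨b, hb, hbp', hbq'⟩ := htwo q' hq'Γ hq'T p hp
      obtain ⟨u, hu1, hu2⟩ := hu q hqΓ hqT
      refine ⟨q, q', hqΓ, hqT, hq'Γ, hq'T, u, f p * f b, hu1, hsub q _ hqΓ hqT
        (hff p hp b hb hbp'.symm) ?_, hu2, by rw [map_mul, hpq', hbq', ← exp_add]; rfl, ?_⟩
      · rw [map_mul]
        refine (mul_le_mul' hpq (hfΓ b hb q)).trans ?_
        rw [one_mul, ind_apply, if_pos hqΓ]
      · rintro rfl
        rw [hpq', ← exp_zero, exp_le_exp] at hpq
        omega
    simp only [not_exists, not_and, not_le] at hdiff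
    have hall : ∀ p ∈ T, ∀ q ∈ Γ, q ∉ T → q.1 (f p) = exp 1 := by
      intro p hp q hqΓ hqT
      by_contra hne
      have hle : ∀ R ∈ Γ, R ∉ T → R.1 (f p) ≤ 1 := by
        intro R hRΓ hRT
        have h := hfΓ p hp R
        rw [ind_apply, if_pos hRΓ] at h
        rcases eq_or_ne (f p) 0 with h0 | h0
        · rw [h0, map_zero]; exact zero_le_one
        by_contra hR
        have hR1 : R.1 (f p) = exp 1 := by
          rw [Place.val_eq_exp R h0, ← exp_zero, exp_le_exp] at hR
          rw [Place.val_eq_exp R h0, exp_le_exp] at h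
          rw [Place.val_eq_exp R h0, exp_inj]
          omega
        have h' := hdiff q R hqΓ hqT hRΓ hRT p hp hR1
        have h'' := hfΓ p hp q
        rw [ind_apply, if_pos hqΓ] at h''
        rw [Place.val_eq_exp q h0, exp_le_exp] at h''
        rw [Place.val_eq_exp q h0, ← exp_zero, exp_lt_exp] at h'
        rw [Place.val_eq_exp q h0, exp_inj] at hne
        omega
      have hbad := no_single_pole hK (by omega) p (f p) fun R => by
        rcases eq_or_ne R p with rfl | hR
        · rw [Finsupp.single_eq_same, hfp R hp]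
        · rw [Finsupp.single_eq_of_ne hR, exp_zero]
          by_cases h1 : R ∈ Γ
          · by_cases h2 : R ∈ T
            · exact hoff p hp R h2 hR
            · exact hle R h1 h2
          · simpa [ind_apply, h1] using hfΓ p hp R
      rw [hfp p hp, ← exp_zero, exp_le_exp] at hbad
      omega
    obtain ⟨q, hq, q', hq', hqq⟩ := Finset.one_lt_card.1
      (show 1 < (Γ \ T).card by rw [Finset.card_sdiff_of_subset hTΓ]; omega)
    rw [Finset.mem_sdiff] at hq hq'
    obtain ⟨hqΓ, hqT⟩ := hq
    obtain ⟨hq'Γ, hq'T⟩ := hq'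
    have hlam : ∀ b ∈ T, ∃ c : k, q.1 (f b - algebraMap k K c * f p₀) ≤ 1 := by
      intro b hb
      have h1 := hall b hb q hqΓ hqT
      have h2 := hall p₀ hp₀ q hqΓ hqT
      have h0 : f p₀ ≠ 0 := fun e => by rw [e, map_zero] at h2; exact exp_ne_zero h2.symm
      obtain ⟨c, hc⟩ := Param.isDegOne hK q (f b / f p₀) (by
        rw [map_div₀, h1, h2, div_self exp_ne_zero])
      refine ⟨c, ?_⟩
      have h3 : q.1 (f b - algebraMap k K c * f p₀) < exp 1 := by
        rw [show f b - algebraMap k K c * f p₀ = (f b / f p₀ - algebraMap k K c) * f p₀ by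
          field_simp, map_mul, h2]
        exact mul_lt_of_lt_one_left (zero_lt_iff.2 exp_ne_zero) hc
      rcases eq_or_ne (f b - algebraMap k K c * f p₀) 0 with h4 | h4
      · rw [h4, map_zero]; exact zero_le_one
      · rw [Place.val_eq_exp q h4, exp_lt_exp] at h3
        rw [Place.val_eq_exp q h4, ← exp_zero, exp_le_exp]
        omega
    choose! c hc using hlam
    let hh : Pl → K := fun b => f b - algebraMap k K (c b) * f p₀
    have hhΓ : ∀ b ∈ T, hh b ∈ _root_.FunFld.L (ind Γ) := fun b hb =>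
      sub_mem (hfΓ b hb) (by
        rw [← Algebra.smul_def]; exact Submodule.smul_mem _ _ (hfΓ p₀ hp₀))
    have hhT : ∀ b ∈ T, ∀ p ∈ T, p ≠ b → p ≠ p₀ → p.1 (hh b) ≤ 1 := fun b hb p hp h1 h2 =>
      (p.1.map_sub _ _).trans (max_le (hoff b hb p hp h1) (by
        rw [map_mul]; exact (mul_le_mul' (p.2.1 _) (hoff p₀ hp₀ p hp h2)).trans_eq (one_mul 1)))
    obtain ⟨b, hb, hbq'⟩ : ∃ b ∈ T.erase p₀, q'.1 (hh b) = exp 1 := by
      by_contra hcon
      simp only [not_exists, not_and] at hcon
      have hdd := drop_ind hK (E := ind Γ - Finsupp.single q 1 - Finsupp.single q' 1) hh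
        (T := T.erase p₀) (fun b hb R => by
          obtain ⟨hbp₀, hbT⟩ := Finset.mem_erase.1 hb
          rw [Finsupp.sub_apply, Finsupp.sub_apply, Finsupp.sub_apply, ind_apply, ind_apply]
          rcases eq_or_ne R q with rfl | hRq
          · rw [Finsupp.single_eq_same, Finsupp.single_eq_of_ne hqq, if_pos hqΓ,
              if_neg (fun h => hqT (Finset.mem_of_mem_erase (Finset.mem_of_mem_erase h)))]
            exact hc b hbT
          rw [Finsupp.single_eq_of_ne hRq]
          rcases eq_or_ne R q' with rfl | hRq'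
          · rw [Finsupp.single_eq_same, if_pos hq'Γ,
              if_neg (fun h => hq'T (Finset.mem_of_mem_erase (Finset.mem_of_mem_erase h)))]
            have h := hhΓ b hbT R
            rw [ind_apply, if_pos hq'Γ] at h
            have hne := hcon b hb
            show R.1 (hh b) ≤ exp 0
            rcases eq_or_ne (hh b) 0 with h0 | h0
            · rw [h0, map_zero]; exact zero_le
            · rw [Place.val_eq_exp R h0, exp_le_exp] at h ⊢
              rw [Place.val_eq_exp R h0, exp_inj] at hne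
              omega
          rw [Finsupp.single_eq_of_ne hRq', sub_zero, sub_zero]
          by_cases h1 : R ∈ (T.erase p₀).erase b
          · obtain ⟨hRb, hR'⟩ := Finset.mem_erase.1 h1
            obtain ⟨hRp, hRT⟩ := Finset.mem_erase.1 hR'
            rw [if_pos h1, if_pos (hTΓ hRT)]
            exact hhT b hbT R hRT hRb hRp
          · rw [if_neg h1, sub_zero]
            simpa [ind_apply] using hhΓ b hbT R)
        (fun b hb => by
          obtain ⟨hbp₀, hbT⟩ := Finset.mem_erase.1 hb
          rw [Finsupp.sub_apply, Finsupp.sub_apply, Finsupp.single_eq_of_ne (ne_of_mem_of_not_mem hbT hqT),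
            Finsupp.single_eq_of_ne (ne_of_mem_of_not_mem hbT hq'T), sub_zero, sub_zero, hΓ1 b hbT,
            ← hfp b hbT]
          refine b.1.map_sub_eq_of_lt_left ?_
          rw [hfp b hbT, map_mul]
          refine (mul_le_mul' (b.2.1 _) (hoff p₀ hp₀ b hbT hbp₀)).trans_lt ?_
          rw [one_mul, ← exp_zero, exp_lt_exp]; norm_num)
      have hone := one_le_ell hK (E := ind Γ - Finsupp.single q 1 - Finsupp.single q' 1 -
        ind (T.erase p₀)) (fun R => by
          rw [Finsupp.sub_apply, Finsupp.sub_apply, Finsupp.sub_apply, ind_apply, ind_apply,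
            Finsupp.coe_zero, Pi.zero_apply]
          rcases eq_or_ne R q with rfl | hRq
          · rw [Finsupp.single_eq_same, Finsupp.single_eq_of_ne hqq, if_pos hqΓ,
              if_neg (fun h => hqT (Finset.mem_of_mem_erase h))]; rfl
          rw [Finsupp.single_eq_of_ne hRq]
          rcases eq_or_ne R q' with rfl | hRq'
          · rw [Finsupp.single_eq_same, if_pos hq'Γ,
              if_neg (fun h => hq'T (Finset.mem_of_mem_erase h))]; rfl
          rw [Finsupp.single_eq_of_ne hRq']
          by_cases h1 : R ∈ T.erase p₀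
          · rw [if_pos h1, if_pos (hTΓ (Finset.mem_of_mem_erase h1))]; rfl
          · rw [if_neg h1]; split_ifs <;> omega)
      rw [Finset.card_erase_of_mem hp₀, hTc,
        show ind Γ - Finsupp.single q (1 : ℤ) - Finsupp.single q' 1 =
          ind Γ - (Finsupp.single q 1 + Finsupp.single q' 1) by abel, htr, ← sub_sub D, hva] at hdd
      rw [show ind Γ - Finsupp.single q (1 : ℤ) - Finsupp.single q' 1 =
          ind Γ - (Finsupp.single q 1 + Finsupp.single q' 1) by abel] at hone
      omega
    obtain ⟨hbp₀, hbT⟩ := Finset.mem_erase.1 hb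
    obtain ⟨a, haT, hab⟩ : ∃ a ∈ T, a ≠ b ∧ a ≠ p₀ := by
      obtain ⟨a, ha⟩ := Finset.card_pos.1 (show 0 < ((T.erase p₀).erase b).card by
        rw [Finset.card_erase_of_mem hb, Finset.card_erase_of_mem hp₀]; omega)
      obtain ⟨h1, h2⟩ := Finset.mem_erase.1 ha
      obtain ⟨h3, h4⟩ := Finset.mem_erase.1 h2
      exact ⟨a, h4, h1, h3⟩
    obtain ⟨u, hu1, hu2⟩ := hu q hqΓ hqT
    refine ⟨q, q', hqΓ, hqT, hq'Γ, hq'T, u, f a * hh b, hu1, hsub q _ hqΓ hqT
      (hprod _ _ (hfΓ a haT) (hhΓ b hbT) fun p hp => ?_) ?_, hu2, ?_, hqq.symm⟩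
    · by_cases h : p = a
      · exact Or.inr (hhT b hbT p hp (h ▸ hab.1) (h ▸ hab.2))
      · exact Or.inl (hoff a haT p hp h)
    · rw [map_mul, hall a haT q hqΓ hqT]
      exact (mul_le_mul' le_rfl (hc b hbT)).trans_eq (mul_one _)
    · rw [map_mul, hall a haT q' hq'Γ hq'T, hbq', ← exp_add]; rfl
  obtain ⟨hu, hv, hu2, hv2, hne⟩ := hvv
  -- the double of the series is too big
  have hnn2 : ind Γ ≤ ind Γ + ind Γ - ind T - Finsupp.single q 1 - Finsupp.single q' 1 := by
    intro R
    rw [Finsupp.sub_apply, Finsupp.sub_apply, Finsupp.sub_apply, Finsupp.add_apply, ind_apply,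
      ind_apply]
    rcases eq_or_ne R q with rfl | hRq
    · rw [Finsupp.single_eq_same, Finsupp.single_eq_of_ne hne.symm, if_pos hqΓ, if_neg hqT]; rfl
    rw [Finsupp.single_eq_of_ne hRq]
    rcases eq_or_ne R q' with rfl | hRq'
    · rw [Finsupp.single_eq_same, if_pos hq'Γ, if_neg hq'T]; rfl
    rw [Finsupp.single_eq_of_ne hRq']
    by_cases h1 : R ∈ T
    · rw [if_pos h1, if_pos (hTΓ h1)]; rfl
    · rw [if_neg h1]; split_ifs <;> omega
  have hsq := drop_ind hK (E := ind Γ + ind Γ) (T := T) (fun p => f p * f p) (fun p hp R => by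
      have h := hfL p hp R
      rw [hval] at h
      rw [Finsupp.sub_apply, Finsupp.add_apply, ind_apply, ind_apply, map_mul]
      refine (mul_le_mul' h h).trans ?_
      rw [← exp_add, exp_le_exp]
      by_cases h1 : R ∈ T.erase p
      · rw [if_pos h1, if_pos (hTΓ (Finset.mem_of_mem_erase h1))]; omega
      · rw [if_neg h1]; omega)
    (fun p hp => by
      rw [Finsupp.add_apply, hΓ1 p hp, map_mul, hfp p hp, exp_add])
  have hd1 := drop_single hK hu (P := q) (by
    rw [Finsupp.sub_apply, Finsupp.add_apply, ind_apply, ind_apply, if_pos hqΓ, if_neg hqT, hu2]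
    rfl)
  have hd2 := drop_single hK hv (P := q') (by
    rw [Finsupp.sub_apply, Finsupp.sub_apply, Finsupp.add_apply, ind_apply, ind_apply, if_pos hq'Γ,
      if_neg hq'T, Finsupp.single_eq_of_ne hne, hv2]
    rfl)
  have hlow := ell_le_of_le hK hnn2
  have hdeg2 : _root_.FunFld.Divisor.deg (ind Γ + ind Γ) = 4 * (r : ℤ) + 2 := by
    rw [deg_add, deg_ind hK, hΓd]; push_cast; ring
  have hrr := FunFld.Weil.riemann_roch hK hW (ind Γ + ind Γ)
  rcases Nat.lt_or_ge (ℓ (W - (ind Γ + ind Γ))) 2 with h | h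
  · omega
  · have := hCl _ (by omega) h
    omega

end Groth.Agent.Lib.CurveFF.CliffordIndexOne
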