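import Groth.Agent.Lib.CurveFF.DivisorEmb
import Groth.Agent.Lib.CurveFF.CliffordIndexOne
import Groth.Agent.Lib.CurveFF.Hyp

/-!
Curves of Clifford index one are trigonal or plane quintics.
-/

noncomputable section
set_option autoImplicit false
universe u

open CategoryTheory AlgebraicGeometry
open Groth.Agent.Lib.FunFld.Degree

namespace Groth.Agent.Lib.CurveFF.CliffordOneCurve

attribute [local instance] Curv2.stalkAlgebra

variable {k : Type u} [Field k] [IsAlgClosed k] [CharZero k] {X : Scheme.{u}}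
  [X.Over (Spec (CommRingCat.of k))] [IsIntegral X] [IsProper (X ↘ Spec (CommRingCat.of k))]

theorem trigonal_or_quintic (h : CurveHyp X)
    (hex : ∃ M : X.Modules, PicF.IsInvertible M ∧ 2 ≤ Module.finrank k (Coh.HH X M 0) ∧
      2 ≤ Module.finrank k (Coh.HH X M 1) ∧ Curv2.deg k X M 1 = 2 * (Module.finrank k (Coh.HH X M 0) : ℤ) - 1)
    (hmin : ∀ M : X.Modules, PicF.IsInvertible M → 2 ≤ Module.finrank k (Coh.HH X M 0) →
      2 ≤ Module.finrank k (Coh.HH X M 1) → 2 * (Module.finrank k (Coh.HH X M 0) : ℤ) - 1 ≤ Curv2.deg k X M 1) :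
    (∃ (L : X.Modules) (s : Fin 2 → LinSer.Sect X L), LinSer.IsLinSer k X L 3 1 s) ∨
      (Curv2.genus k X = 6 ∧ ∃ i : X ⟶ CohB1.ProjSpace 2 k, IsClosedImmersion i ∧
        i ≫ CohB1.ProjSpace.toSpec 2 k = X ↘ Spec (CommRingCat.of k)) := by
  have h0 := Curves.GlobalSections.finrank_h0_structure k X
  have hK := isFunctionField (k := k) h h0
  obtain ⟨W, hW⟩ := FunFld.Weil.exists_isCanonical hK
  have h1 : ∀ (M : X.Modules) (R : LineDiv.Rep M),
      Module.finrank k (Coh.HH X M 1) = _root_.FunFld.ell (W - R.div h hK) := by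
    intro M R
    have hg := genus_eq (k := k) h h0
    have hrr := FunFld.Weil.riemann_roch hK hW (R.div h hK)
    have hd := R.deg_eq (k := k) h hK
    have hf := R.finrank_h0 (k := k) h hK
    rw [Curv2.deg, Curves.Euler.euler_eq (Curves.Degree.isGood (k := k) h.dim.le R.inv).vanish,
      Curves.Euler.euler_eq (Curves.Degree.isGood (k := k) h.dim.le
        (PicLoc.isInvertible_structureModule X)).vanish] at hd
    simp only [Curves.Euler.hdim] at hd
    rw [Curv2.genus] at hg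
    push_cast at hd
    omega
  have hCl : ∀ D, 2 ≤ _root_.FunFld.ell D → 2 ≤ _root_.FunFld.ell (W - D) →
      2 * (_root_.FunFld.ell D : ℤ) - 1 ≤ D.deg := by
    intro D h2 h2'
    obtain ⟨M, R, hR, hd⟩ := LineDiv.exists_line h hK D
    have hh := hmin M R.inv (by rw [R.finrank_h0 h hK, hR]; exact h2) (by rw [h1 M R, hR]; exact h2')
    rwa [R.finrank_h0 h hK, hR, hd] at hh
  obtain ⟨M, hM, hM0, hM1, hMd⟩ := hex
  obtain ⟨R⟩ := LineDiv.nonempty_rep hM
  rw [R.finrank_h0 h hK] at hM0 hMd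
  rw [h1 M R] at hM1
  rw [R.deg_eq h hK] at hMd
  rcases CliffordIndexOne.trigonal_or_quintic hK hW hCl
    ⟨_root_.FunFld.ell (R.div h hK) - 1, by omega, R.div h hK, by omega, by omega, hM1⟩ with
    ⟨D, hl, hd, -⟩ | ⟨hg, D, hl, -, hb, hv⟩
  · exact .inl (DivisorEmb.exists_linSer h hK D (d := 3) (r := 1) (by rw [hd]; rfl) hl.ge)
  · obtain ⟨L, R', i, -, hi, hik, -⟩ := DivisorEmb.exists_embedding h hK D (n := 2) hl one_le_two
      (fun P => by rw [hb, hl]; omega) (fun P Q => by rw [hv, hl])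
    exact .inr ⟨(genus_eq h h0).trans hg, i, hi, hik⟩

end Groth.Agent.Lib.CurveFF.CliffordOneCurve
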