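import Groth.Agent.Lib.CurveFF.CliffordEq

/-!
Clifford's bound for every divisor of degree below that of a canonical one.
-/

noncomputable section
set_option autoImplicit false
universe u

open CategoryTheory AlgebraicGeometry
open Groth.Agent.Lib.FunFld.Degree

namespace Groth.Agent.Lib.CurveFF.CliffordEq

attribute [local instance] Curv2.stalkAlgebra

variable {k : Type u} [Field k] [IsAlgClosed k] {X : Scheme.{u}}
  [X.Over (Spec (CommRingCat.of k))] [IsIntegral X] [IsProper (X ↘ Spec (CommRingCat.of k))]
  (h : CurveHyp X) (hK : _root_.FunFld.IsFunctionField k X.functionField)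

include h hK

theorem bound {C D : _root_.FunFld.Divisor k X.functionField}
    (hC : _root_.FunFld.IsCanonical k X.functionField C) (hD : 0 < _root_.FunFld.ell D)
    (hdeg : D.deg < C.deg) :
    2 * (_root_.FunFld.ell D : ℤ) ≤ D.deg + 2 ∧
      (2 * (_root_.FunFld.ell D : ℤ) = D.deg + 2 → 2 ≤ _root_.FunFld.ell D →
        0 < _root_.FunFld.ell (C - D)) := by
  have hrr := FunFld.Weil.riemann_roch hK hC D
  have hCd := FunFld.Weil.deg_canonical hK hC
  have hCl := FunFld.Weil.ell_canonical hK hC
  rcases Nat.eq_zero_or_pos (_root_.FunFld.ell (C - D)) with h0 | hpos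
  · refine ⟨by omega, fun he h2 => ?_⟩
    omega
  · have hadd := ell_add_le h hK hD (B := C - D) hpos
    rw [add_sub_cancel] at hadd
    exact ⟨by omega, fun _ _ => hpos⟩

end Groth.Agent.Lib.CurveFF.CliffordEq
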