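import Groth.Agent.Lib.CurveFF.Drop

/-!
The pencil trick and dimensions of series on a genus nine field of Clifford index three.
-/

noncomputable section
set_option autoImplicit false
universe u v

open WithZero
open Groth.Agent.Lib.FunFld Groth.Agent.Lib.FunFld.Degree Groth.Agent.Lib.CurveFF.Drop

namespace Groth.Agent.Lib.CurveFF.CliffordThree

variable {k : Type u} {K : Type v} [Field k] [Field K] [Algebra k K]

local notation "Dv" => _root_.FunFld.Divisor k K
local notation "ℓ" => _root_.FunFld.ell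

/-- The base point free pencil trick. -/
theorem pencil_trick (hK : _root_.FunFld.IsFunctionField k K) (E : Dv) {f : K} (hf : f ≠ 0) :
    2 * ℓ E ≤ ℓ (E + poleDiv (k := k) f) + ℓ (E - poleDiv (k := k) f) := by
  set F := poleDiv (k := k) f
  have hpole : ∀ P, F P = max (-P.ord f) 0 := fun P => poleDiv_apply hK f P
  have := finiteDimensional_L hK E
  have := finiteDimensional_L hK (E + F)
  have := finiteDimensional_L hK (E - F)
  have h1 : ∀ a ∈ _root_.FunFld.L E, a ∈ _root_.FunFld.L (E + F) := fun a ha =>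
    L_mono (le_add_of_nonneg_right fun P => (le_max_right _ _).trans_eq (hpole P).symm) ha
  have h2 : ∀ b ∈ _root_.FunFld.L E, b * f ∈ _root_.FunFld.L (E + F) := fun b hb P => by
    rw [map_mul, Finsupp.add_apply, exp_add]
    refine mul_le_mul' (hb P) ?_
    rw [Place.val_eq_exp P hf, exp_le_exp, hpole]
    omega
  let φ : (_root_.FunFld.L E × _root_.FunFld.L E) →ₗ[k] _root_.FunFld.L (E + F) :=
    { toFun := fun p => ⟨p.1 + p.2 * f, add_mem (h1 _ p.1.2) (h2 _ p.2.2)⟩
      map_add' := fun p q => Subtype.ext (by simp; ring)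
      map_smul' := fun c p => Subtype.ext (by simp [Algebra.smul_def]; ring) }
  have hker : ∀ p : φ.ker, (p.1.2 : K) ∈ _root_.FunFld.L (E - F) := by
    rintro ⟨⟨a, b⟩, hp⟩
    have he : (a : K) + b * f = 0 := congrArg Subtype.val (LinearMap.mem_ker.1 hp)
    intro P
    rw [Finsupp.sub_apply, hpole]
    rcases lt_or_ge (P.ord f) 0 with hP | hP
    · rcases eq_or_ne (b : K) 0 with hb | hb
      · simp [hb]
      have h3 := (mem_L_iff_ord.1 a.2).resolve_left (fun ha => hb (by
        rw [ha, zero_add] at he; exact (mul_eq_zero.1 he).resolve_right hf)) P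
      rw [show (a : K) = -((b : K) * f) by linear_combination he, Place.ord_neg,
        Place.ord_mul P hb hf] at h3
      show P.1 (b : K) ≤ _
      rw [Place.val_eq_exp P hb, exp_le_exp]
      omega
    · refine (b.2 P).trans (exp_le_exp.2 ?_)
      omega
  have hinj : Function.Injective (LinearMap.codRestrict (_root_.FunFld.L (E - F))
      ((Submodule.subtype _).comp ((LinearMap.snd k _ _).comp φ.ker.subtype)) hker) := by
    rw [injective_iff_map_eq_zero]
    rintro ⟨⟨a, b⟩, hp⟩ h
    have hb : (b : K) = 0 := congrArg Subtype.val h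
    have he : (a : K) + b * f = 0 := congrArg Subtype.val (LinearMap.mem_ker.1 hp)
    rw [hb, zero_mul, add_zero] at he
    exact Subtype.ext (Prod.ext (Subtype.ext he) (Subtype.ext hb))
  have hk := LinearMap.finrank_le_finrank_of_injective hinj
  have hr := Submodule.finrank_le φ.range
  have hs := φ.finrank_range_add_finrank_ker
  rw [Module.finrank_prod] at hs
  show 2 * Module.finrank k (_root_.FunFld.L E) ≤ Module.finrank k (_root_.FunFld.L (E + F)) +
    Module.finrank k (_root_.FunFld.L (E - F))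
  omega

variable [IsAlgClosed k] (hK : _root_.FunFld.IsFunctionField k K) {W : _root_.FunFld.Divisor k K}
  (hW : _root_.FunFld.IsCanonical k K W) (hg : _root_.FunFld.genus k K = 9)
  (hmin : ∀ D : _root_.FunFld.Divisor k K, 2 ≤ _root_.FunFld.ell D →
    2 ≤ _root_.FunFld.ell (W - D) → 2 * (_root_.FunFld.ell D : ℤ) + 1 ≤ D.deg)
include hK hW hg hmin

theorem ell_le {E : Dv} {n : ℕ} (hn : (n = 2 ∧ E.deg = 2) ∨ (n = 5 ∧ E.deg = 10) ∨
    (n = 6 ∧ E.deg = 12) ∨ (n = 9 ∧ E.deg = 15)) : ℓ E < n := by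
  by_contra hlt
  have hrr := FunFld.Weil.riemann_roch hK hW E
  rw [hg] at hrr
  have := hmin E (by omega) (by omega)
  omega

/-- A complete pencil of degree five is the polar divisor of a function. -/
theorem exists_function {D : Dv} (hd : D.deg = 5) (hl : ℓ D = 2) :
    ∃ f a : K, f ≠ 0 ∧ a ≠ 0 ∧ poleDiv (k := k) f = D + _root_.FunFld.div k a := by
  obtain ⟨F, a, hF, ha, hDF, hFd⟩ := FunFld.SmallGenus.exists_nonneg hK (E := D) (by omega)
  have hlF : ℓ F = 2 := by
    rw [← hl, hDF, FunFld.Riemann.ell_add_div hK F ha]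
  have := finiteDimensional_L hK F
  obtain ⟨f, hf, hfn⟩ : ∃ f ∈ _root_.FunFld.L F, f ∉ _root_.FunFld.L (0 : Dv) := by
    by_contra hc
    push Not at hc
    have := finiteDimensional_L hK (0 : Dv)
    have h := Submodule.finrank_mono (show _root_.FunFld.L F ≤ _root_.FunFld.L (0 : Dv) from hc)
    change ℓ F ≤ ℓ (0 : Dv) at h
    rw [ell_zero hK] at h
    omega
  have hf0 : f ≠ 0 := fun e => hfn (e ▸ zero_mem _)
  refine ⟨f, a⁻¹, hf0, inv_ne_zero ha, ?_⟩
  have hle : poleDiv (k := k) f ≤ F := fun P => by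
    rw [poleDiv_apply hK]
    have := (mem_L_iff_ord.1 hf).resolve_left hf0 P
    have := hF P
    rw [Finsupp.coe_zero, Pi.zero_apply] at this
    omega
  have h2 : 2 ≤ ℓ (poleDiv (k := k) f) := by
    have h0 : (0 : Dv) ≤ poleDiv (k := k) f := fun P => by
      rw [poleDiv_apply hK, Finsupp.coe_zero, Pi.zero_apply]; omega
    have hm : f ∈ _root_.FunFld.L (poleDiv (k := k) f) := mem_L_iff_ord.2 (Or.inr fun P => by
      rw [poleDiv_apply hK]; omega)
    have := finiteDimensional_L hK (poleDiv (k := k) f)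
    have hlt := Submodule.finrank_lt_finrank_of_lt (lt_of_le_of_ne (L_mono h0) fun e => hfn (e ▸ hm))
    change ℓ (0 : Dv) < ℓ (poleDiv (k := k) f) at hlt
    rw [ell_zero hK] at hlt
    omega
  have hrr := FunFld.Weil.riemann_roch hK hW (poleDiv (k := k) f)
  rw [hg] at hrr
  have hdeg := deg_mono hle
  rw [hFd, hd] at hdeg
  have h5 := hmin _ h2 (by omega)
  have heq : poleDiv (k := k) f = F := by
    have h0 : 0 ≤ F - poleDiv (k := k) f := sub_nonneg.2 hle
    have := FunFld.SmallGenus.eq_zero_of_nonneg hK h0 (by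
      rw [deg_sub, hFd, hd]; omega)
    exact (sub_eq_zero.1 this).symm
  rw [heq, hDF]
  ext P
  simp only [Finsupp.add_apply, div_apply hK, Place.ord_inv]
  ring

omit hmin hg hW [IsAlgClosed k] in
theorem ell_add {D E : Dv} {a : K} (ha : a ≠ 0) :
    ℓ (E + (D + _root_.FunFld.div k a)) = ℓ (E + D) ∧
      ℓ (E - (D + _root_.FunFld.div k a)) = ℓ (E - D) := by
  refine ⟨by rw [← add_assoc, FunFld.Riemann.ell_add_div hK _ ha], ?_⟩
  rw [show E - (D + _root_.FunFld.div k a) = E - D + _root_.FunFld.div k a⁻¹ by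
    ext P; simp only [Finsupp.sub_apply, Finsupp.add_apply, div_apply hK, Place.ord_inv]; ring,
    FunFld.Riemann.ell_add_div hK _ (inv_ne_zero ha)]

theorem ell_sub_eq_one {H D : Dv} (hH : H.deg = 7) (hlH : ℓ H = 3) (hd : D.deg = 5) (hl : ℓ D = 2) :
    ℓ (H - D) = 1 := by
  obtain ⟨f, a, hf, ha, he⟩ := exists_function hK hW hg hmin hd hl
  have h := pencil_trick hK H hf
  rw [he, (ell_add hK ha).1, (ell_add hK ha).2, hlH] at h
  have h1 := ell_le hK hW hg hmin (E := H + D) (n := 6) (by rw [deg_add]; omega)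
  have h2 := ell_le hK hW hg hmin (E := H - D) (n := 2) (by rw [deg_sub]; omega)
  omega

theorem ell_add_eq_four {D₁ D₂ : Dv} (hd₁ : D₁.deg = 5) (hl₁ : ℓ D₁ = 2) (hd₂ : D₂.deg = 5)
    (hl₂ : ℓ D₂ = 2) (hne : ℓ (D₁ - D₂) = 0) : ℓ (D₁ + D₂) = 4 := by
  obtain ⟨f, a, hf, ha, he⟩ := exists_function hK hW hg hmin hd₂ hl₂
  have h := pencil_trick hK D₁ hf
  rw [he, (ell_add hK ha).1, (ell_add hK ha).2, hl₁, hne] at h
  have h1 := ell_le hK hW hg hmin (E := D₁ + D₂) (n := 5) (by rw [deg_add]; omega)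
  omega

theorem ell_multiples {D : Dv} (hd : D.deg = 5) (hl : ℓ D = 2) :
    (ℓ (D + D) = 3 ∨ ℓ (D + D) = 4) ∧ (ℓ (D + D + D) = 7 ∨ ℓ (D + D + D) = 8) ∧
      (ℓ (D + D) = 3 → ℓ (D + D + D) = 7) := by
  obtain ⟨f, a, hf, ha, he⟩ := exists_function hK hW hg hmin hd hl
  have h := pencil_trick hK D hf
  rw [he, (ell_add hK ha).1, (ell_add hK ha).2, hl, sub_self, ell_zero hK] at h
  have h1 := ell_le hK hW hg hmin (E := D + D) (n := 5) (by rw [deg_add]; omega)
  have h2 := ell_le hK hW hg hmin (E := D + D + D) (n := 9) (by rw [deg_add, deg_add]; omega)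
  have hrr2 := FunFld.Weil.riemann_roch hK hW (D + D)
  have hrr3 := FunFld.Weil.riemann_roch hK hW (D + D + D)
  rw [hg, deg_add] at hrr2
  rw [hg, deg_add, deg_add] at hrr3
  refine ⟨by omega, by omega, fun h3 => ?_⟩
  by_contra h7
  obtain ⟨G, b, hG, hb, hGe, -⟩ := FunFld.SmallGenus.exists_nonneg hK (E := W - (D + D + D)) (by omega)
  have h4 : ℓ D ≤ ℓ (W - (D + D)) := by
    rw [show W - (D + D) = (W - (D + D + D)) + D by abel, hGe,
      show G + _root_.FunFld.div k b + D = D + G + _root_.FunFld.div k b by abel,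
      FunFld.Riemann.ell_add_div hK _ hb]
    exact ell_le_of_le hK (le_add_of_nonneg_right hG)
  omega

end Groth.Agent.Lib.CurveFF.CliffordThree
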