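import Groth.Agent.Lib.CurveFF.DivisorEmb
import Groth.Agent.Lib.CurveFF.Genus
import Groth.Agent.Lib.CurveFF.Hyp

/-!
First cohomology of a line bundle as the residual Riemann-Roch space.
-/

noncomputable section
set_option autoImplicit false
universe u

open CategoryTheory AlgebraicGeometry

namespace Groth.Agent.Lib.CurveFF.H1Div

attribute [local instance] Curv2.stalkAlgebra

variable {k : Type u} [Field k] [IsAlgClosed k] {X : Scheme.{u}}
  [X.Over (Spec (CommRingCat.of k))] [IsIntegral X] [IsProper (X ↘ Spec (CommRingCat.of k))]
  (h : CurveHyp X) (hK : _root_.FunFld.IsFunctionField k X.functionField)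

include h hK in
theorem finrank_h1 {W : _root_.FunFld.Divisor k X.functionField}
    (hW : _root_.FunFld.IsCanonical k X.functionField W) {M : X.Modules} (R : LineDiv.Rep M) :
    Module.finrank k (Coh.HH X M 1) = _root_.FunFld.ell (W - R.div h hK) := by
  have h0 := Curves.GlobalSections.finrank_h0_structure k X
  have hg := genus_eq (k := k) h h0
  have hrr := FunFld.Weil.riemann_roch hK hW (R.div h hK)
  have hd := R.deg_eq (k := k) h hK
  have hf := R.finrank_h0 (k := k) h hK
  rw [Curv2.deg, Curves.Euler.euler_eq (Curves.Degree.isGood (k := k) h.dim.le R.inv).vanish,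
    Curves.Euler.euler_eq (Curves.Degree.isGood (k := k) h.dim.le
      (PicLoc.isInvertible_structureModule X)).vanish] at hd
  simp only [Curves.Euler.hdim] at hd
  rw [Curv2.genus] at hg
  push_cast at hd
  omega

end Groth.Agent.Lib.CurveFF.H1Div
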