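import Groth.Agent.Lib.CurveFF.CliffordThree
import Groth.Agent.Lib.CurveFF.H1Div
import Groth.Agent.Lib.CurveFF.LineTensor

/-!
Clifford index three read off the function field.
-/

noncomputable section
set_option autoImplicit false
universe u

open CategoryTheory AlgebraicGeometry

namespace Groth.Agent.Lib.CurveFF.CliffordThreeCurve

attribute [local instance] Curv2.stalkAlgebra

variable {k : Type u} [Field k] [IsAlgClosed k] {X : Scheme.{u}}
  [X.Over (Spec (CommRingCat.of k))] [IsIntegral X] [IsProper (X ↘ Spec (CommRingCat.of k))]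
  (h : CurveHyp X) (hK : _root_.FunFld.IsFunctionField k X.functionField)

include h hK in
/-- The minimality of the index holds for all divisors. -/
theorem hmin_field {W : _root_.FunFld.Divisor k X.functionField}
    (hW : _root_.FunFld.IsCanonical k X.functionField W)
    (hmin : ∀ M : X.Modules, PicF.IsInvertible M → 2 ≤ Module.finrank k (Coh.HH X M 0) →
      2 ≤ Module.finrank k (Coh.HH X M 1) → 2 * (Module.finrank k (Coh.HH X M 0) : ℤ) + 1 ≤ Curv2.deg k X M 1)
    (D : _root_.FunFld.Divisor k X.functionField) (h0 : 2 ≤ _root_.FunFld.ell D)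
    (h1 : 2 ≤ _root_.FunFld.ell (W - D)) : 2 * (_root_.FunFld.ell D : ℤ) + 1 ≤ D.deg := by
  obtain ⟨M, R, hR, hd⟩ := LineDiv.exists_line h hK D
  have := hmin M R.inv (by rwa [R.finrank_h0 h hK, hR]) (by rwa [H1Div.finrank_h1 h hK hW R, hR])
  rwa [R.finrank_h0 h hK, hR, hd] at this

/-- The divisor of the unit module is zero. -/
theorem trivRep_div : (LineDiv.trivRep (PicLoc.isInvertible_structureModule X)).div h hK = 0 := by
  ext Q
  obtain ⟨y, rfl⟩ := placeOf_surjective (k := k) h Q
  rw [LineDiv.Rep.div_placeOf, LineDiv.trivRep_e]; rfl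

/-- The square and cube of a module have the double and triple divisor. -/
theorem exists_rep_pow {L : X.Modules} (R : LineDiv.Rep L) :
    (∃ S : LineDiv.Rep (CohB1.tensorPow L 2), S.div h hK = R.div h hK + R.div h hK) ∧
    ∃ S : LineDiv.Rep (CohB1.tensorPow L 3), S.div h hK = R.div h hK + R.div h hK + R.div h hK := by
  let T := LineDiv.trivRep (PicLoc.isInvertible_structureModule X)
  have e1 : ∀ {M : X.Modules} (S : LineDiv.Rep M),
      (S.mul R).div h hK = S.div h hK + R.div h hK := fun S => LineDiv.Rep.div_mul h hK S R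
  have e2 : (T.mul R).div h hK = R.div h hK := by rw [e1, trivRep_div, zero_add]
  exact ⟨⟨(T.mul R).mul R, by rw [← e2]; exact (e1 _).trans (by rw [e2])⟩,
    ⟨((T.mul R).mul R).mul R, (e1 _).trans (by rw [e1, e2])⟩⟩

end Groth.Agent.Lib.CurveFF.CliffordThreeCurve
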