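import Groth.Agent.Lib.CurveFF.LineExist
import Groth.Agent.Lib.CurveFF.PencilUnique
import Groth.Agent.Lib.Modules.StalkModule

/-!
Invertible subsheaves of an invertible module.
-/

noncomputable section
set_option autoImplicit false
set_option linter.style.haveILetI false
universe u

open CategoryTheory AlgebraicGeometry WithZero

namespace Groth.Agent.Lib.CurveFF.SubLine

open LineDiv
open Modules.StalkModule (stalkMapₗ)

attribute [local instance] Curv2.stalkAlgebra

variable {k : Type u} [Field k] {X : Scheme.{u}} [X.Over (Spec (CommRingCat.of k))] [IsIntegral X]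
  [IsProper (X ↘ Spec (CommRingCat.of k))] (h : CurveHyp X)
  (hK : _root_.FunFld.IsFunctionField k X.functionField) {L M : X.Modules}

theorem mono_of_stalk {φ : L ⟶ M} (hφ : ∀ x, Function.Injective (stalkMapₗ φ x)) : Mono φ :=
  ⟨fun {Z} a b e => Modules.StalkModule.hom_ext_stalkMapₗ fun x => LinearMap.ext fun v => hφ x (by
    have := congrArg (fun ψ => stalkMapₗ ψ x v) e
    simpa only [Modules.StalkModule.stalkMapₗ_comp, LinearMap.comp_apply] using this)⟩

include h hK in
/-- A section of the difference gives an embedding. -/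
theorem exists_mono (R : Rep L) (S : Rep M) {z : X.functionField} (hz0 : z ≠ 0)
    (hz : z ∈ _root_.FunFld.L (S.div h hK - R.div h hK)) : ∃ φ : L ⟶ M, Mono φ := by
  obtain ⟨ψ, hψ⟩ := exists_hom h R S z fun x => by
    have h1 := (FunFld.Degree.mem_L_iff_ord.1 hz).resolve_left hz0 (placeOf k h x)
    rw [Finsupp.sub_apply, R.div_placeOf, S.div_placeOf] at h1
    rw [FunFld.Place.val_eq_exp (placeOf k h x) hz0, ← exp_add, exp_le_exp]
    omega
  refine ⟨ψ, mono_of_stalk fun x a b hab => R.pr_injective x ?_⟩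
  have := congrArg (S.pr x) hab
  rw [hψ, hψ] at this
  exact mul_left_cancel₀ hz0 this

include h hK in
/-- A proper invertible subsheaf has smaller degree. -/
theorem deg_lt_of_mono (hL : PicF.IsInvertible L) (hM : PicF.IsInvertible M) (φ : L ⟶ M) [Mono φ]
    (hφ : ¬ IsIso φ) : Curv2.deg k X L 1 < Curv2.deg k X M 1 := by
  obtain ⟨S⟩ := nonempty_rep hM
  have h0 : φ ≠ 0 := fun e => by
    obtain ⟨R⟩ := nonempty_rep hL
    have h1 : (𝟙 L : L ⟶ L) = 0 := by
      rw [← cancel_mono φ, e]; simp
    have h2 := congrArg (fun ψ => stalkMapₗ ψ (genericPoint X) (R.gen (genericPoint X))) h1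
    simp only [Modules.StalkModule.stalkMapₗ_id, Modules.StalkModule.stalkMapₗ_zero, LinearMap.id_apply,
      LinearMap.zero_apply] at h2
    exact R.gen_ne (genericPoint X) (by rw [h2, map_zero])
  let R := S.src hL h0
  have hc : ∀ x v, S.pr x (stalkMapₗ φ x v) = R.pr x v := S.src_pr hL h0
  have hle : R.div h hK ≤ S.div h hK := fun P => by
    obtain ⟨x, rfl⟩ := placeOf_surjective (k := k) h P
    rw [R.div_placeOf, S.div_placeOf]
    exact e_le_of_hom h hc x
  rw [R.deg_eq h hK, S.deg_eq h hK]
  refine lt_of_le_of_ne (FunFld.Degree.deg_mono hle) fun e => hφ ?_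
  have heq := Pencil.eq_of_le_of_deg_eq hK hle e
  refine (Modules.StalkModule.isIso_iff_stalkMapₗ_bijective φ).2 fun x => ⟨fun a b hab => ?_, ?_⟩
  · refine R.pr_injective x ?_
    rw [← hc, ← hc, hab]
  · intro w
    rcases SmoothCurve.Curve.eq_genericPoint_or_isClosed h.dim x with rfl | hx
    · exact (bijective_generic hL hM h0).2 w
    · obtain ⟨v, hv⟩ := (R.mem_iff (k := k) h ⟨x, hx⟩ (S.pr x w)).2 (by
        have h1 := (S.mem_iff (k := k) h ⟨x, hx⟩ (S.pr x w)).1 ⟨w, rfl⟩
        have h2 := DFunLike.congr_fun heq (placeOf k h ⟨x, hx⟩)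
        rw [R.div_placeOf, S.div_placeOf] at h2
        rwa [h2])
      exact ⟨v, S.pr_injective x ((hc x v).trans hv)⟩

end Groth.Agent.Lib.CurveFF.SubLine
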