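import Groth.Agent.Lib.CurveFF.CliffordOneCurve
import Groth.Agent.Lib.CurveFF.CliffordSub
import Groth.Agent.Lib.CurveFF.OmegaRep
import Groth.Agent.Lib.CurveFF.SubLine

/-!
Clifford bounds for curves without pencils of small degree, and subsheaves of the canonical one.
-/

noncomputable section
set_option autoImplicit false
set_option linter.style.haveILetI false
universe u

open CategoryTheory AlgebraicGeometry Opposite
open Groth.Agent.Lib.FunFld.Degree

namespace Groth.Agent.Lib.CurveFF.CliffordTwo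

attribute [local instance] Curv2.stalkAlgebra

variable {k : Type u} [Field k] {X : Scheme.{u}}
  [X.Over (Spec (CommRingCat.of k))] [IsIntegral X] [IsProper (X ↘ Spec (CommRingCat.of k))]
  (h : CurveHyp X) (hK : _root_.FunFld.IsFunctionField k X.functionField)

local notation "Ω" => Omega.sheaf (X ↘ Spec (CommRingCat.of k))

include h hK in
theorem clifford_one [IsAlgClosed k] {C : _root_.FunFld.Divisor k X.functionField}
    (hC : _root_.FunFld.IsCanonical k X.functionField C)
    (hno : ¬ ∃ (N : X.Modules) (t : Fin 2 → LinSer.Sect X N), LinSer.IsLinSer k X N 2 1 t)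
    {D : _root_.FunFld.Divisor k X.functionField} (h2 : 2 ≤ _root_.FunFld.ell D)
    (h2' : 2 ≤ _root_.FunFld.ell (C - D)) : 2 * (_root_.FunFld.ell D : ℤ) - 1 ≤ D.deg := by
  have hdeg : D.deg < C.deg := by
    obtain ⟨F, a, hF, ha, hFe, hFd⟩ := FunFld.SmallGenus.exists_nonneg hK (E := C - D) (by omega)
    have h1 := deg_nonneg hF
    rcases h1.eq_or_lt with h0 | h0
    · obtain rfl : F = 0 := FunFld.SmallGenus.eq_zero_of_nonneg hK hF h0.symm
      rw [hFe, FunFld.Riemann.ell_add_div hK _ ha, ell_zero hK] at h2'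
      omega
    · rw [hFd, deg_sub] at h0
      omega
  have hb := (CliffordEq.bound h hK hC (D := D) (by omega) hdeg).1
  by_contra hlt
  obtain ⟨N, hNd, hNl, -⟩ := CliffordEq.exists_multiple h hK hC (D := D) (by omega) (by omega)
    (fun ⟨g, hg', hge⟩ => by
      have := FunFld.Riemann.ell_add_div hK (0 : _root_.FunFld.Divisor k X.functionField) hg'
      rw [zero_add, ← hge, ell_zero hK] at this
      omega)
    (fun ⟨g, hg', hge⟩ => by
      rw [hge, deg_add, deg_div hK] at hdeg
      omega) (by omega)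
  exact hno (DivisorEmb.exists_linSer h hK N (d := 2) (r := 1) hNd hNl)

include h hK in
theorem clifford_two [IsAlgClosed k] [CharZero k] {C : _root_.FunFld.Divisor k X.functionField}
    (hC : _root_.FunFld.IsCanonical k X.functionField C)
    (hno : ¬ ∃ (N : X.Modules) (t : Fin 2 → LinSer.Sect X N), LinSer.IsLinSer k X N 2 1 t)
    (hnt : ¬ ∃ (N : X.Modules) (t : Fin 2 → LinSer.Sect X N), LinSer.IsLinSer k X N 3 1 t)
    (hpl : Curv2.genus k X = 6 → ∀ i : X ⟶ CohB1.ProjSpace 2 k, IsClosedImmersion i →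
      i ≫ CohB1.ProjSpace.toSpec 2 k ≠ X ↘ Spec (CommRingCat.of k))
    {D : _root_.FunFld.Divisor k X.functionField} (h2 : 2 ≤ _root_.FunFld.ell D)
    (h2' : 2 ≤ _root_.FunFld.ell (C - D)) : 2 * (_root_.FunFld.ell D : ℤ) ≤ D.deg := by
  have h1 := clifford_one h hK hC hno h2 h2'
  by_contra hlt
  rcases CliffordIndexOne.trigonal_or_quintic hK hC (fun E hE hE' => clifford_one h hK hC hno hE hE')
    ⟨_root_.FunFld.ell D - 1, by omega, D, by omega, by omega, h2'⟩ with
    ⟨E, hl, hd, -⟩ | ⟨hg, E, hl, -, hb, hv⟩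
  · exact hnt (DivisorEmb.exists_linSer h hK E (d := 3) (r := 1) (by rw [hd]; rfl) hl.ge)
  · obtain ⟨L, R', i, -, hi, hik, -⟩ := DivisorEmb.exists_embedding h hK E (n := 2) hl one_le_two
      (fun P => by rw [hb, hl]; omega) (fun P Q => by rw [hv, hl])
    exact hpl ((genus_eq h (Curves.GlobalSections.finrank_h0_structure k X)).trans hg) i hi hik

include h hK in
/-- Sections factoring through an invertible subsheaf of the canonical sheaf. -/
theorem exists_data [IsAlgClosed k] {M : X.Modules} (hM : PicF.IsInvertible M) (ι : M ⟶ Ω) [Mono ι]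
    {m : ℕ} (w : Fin m → LinSer.Sect X Ω) (hw : LinSer.LinIndep k X Ω w)
    (hfac : ∀ j, ∃ v : LinSer.Sect X M, (ι.val.app (op ⊤)).hom v = w j) :
    ∃ (C D : _root_.FunFld.Divisor k X.functionField), _root_.FunFld.IsCanonical k X.functionField C ∧
      Curv2.deg k X Ω 1 = C.deg ∧ Curv2.deg k X M 1 = D.deg ∧ m ≤ _root_.FunFld.ell D ∧
      1 ≤ _root_.FunFld.ell (C - D) ∧ D.deg ≤ C.deg := by
  obtain ⟨S, hS⟩ := OmegaRep.exists_rep h hK
  obtain ⟨R₀⟩ := LineDiv.nonempty_rep hM
  have hι : ι ≠ 0 := fun e => by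
    have h1 : (𝟙 M : M ⟶ M) = 0 := by
      rw [← cancel_mono ι, e]; simp
    have h2 := congrArg (fun ψ => Modules.StalkModule.stalkMapₗ ψ (genericPoint X)
      (R₀.gen (genericPoint X))) h1
    simp only [Modules.StalkModule.stalkMapₗ_id, Modules.StalkModule.stalkMapₗ_zero, LinearMap.id_apply,
      LinearMap.zero_apply] at h2
    exact R₀.gen_ne (genericPoint X) (by rw [h2, map_zero])
  let R := S.src hM hι
  have hle : R.div h hK ≤ S.div h hK := fun P => by
    obtain ⟨x, rfl⟩ := placeOf_surjective (k := k) h P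
    rw [R.div_placeOf, S.div_placeOf]
    exact LineDiv.e_le_of_hom h (fun y v => S.src_pr hM hι y v) x
  refine ⟨S.div h hK, R.div h hK, hS, S.deg_eq h hK, R.deg_eq h hK, ?_,
    Drop.one_le_ell hK (sub_nonneg.2 hle), deg_mono hle⟩
  choose v hv using hfac
  letI := Curves.GlobalSections.secModule k M
  have hvi : LinearIndependent k (fun j => (show (M.val.obj (op ⊤) : Type u) from v j)) := by
    refine Fintype.linearIndependent_iff.2 fun c hc i => congrFun (hw c ?_) i
    have h1 := congrArg (fun t => (ι.val.app (op ⊤)).hom t) hc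
    refine Eq.trans ?_ (h1.trans (map_zero (ι.val.app (op ⊤)).hom))
    show _ = (ι.val.app (op ⊤)).hom (∑ j, (Coh.toGlobal (X ↘ Spec (CommRingCat.of k)) (c j)) • v j)
    rw [map_sum]
    exact Finset.sum_congr rfl fun j _ => by
      rw [← hv j]; exact (LinearMap.map_smul (ι.val.app (op ⊤)).hom _ _).symm
  obtain ⟨eQ⟩ := R.nonempty_h0_equiv h hK
  let e' := (Curves.GlobalSections.h0Linear k M).symm.trans eQ
  haveI := FunFld.Degree.finiteDimensional_L hK (R.div h hK)
  haveI : Module.Finite k (M.val.obj (Opposite.op ⊤) : Type u) := Module.Finite.equiv e'.symm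
  have := hvi.fintype_card_le_finrank
  rwa [Fintype.card_fin, e'.finrank_eq] at this

end Groth.Agent.Lib.CurveFF.CliffordTwo
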