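import Groth.Agent.Lib.CurveFF.DivisorEmb
import Groth.Agent.Lib.Curves.SepCriterion

/-!
A finite map from a curve which separates points and tangent directions is a closed immersion.
-/

noncomputable section
set_option autoImplicit false
set_option linter.style.haveILetI false
universe u

open CategoryTheory CategoryTheory.Limits AlgebraicGeometry Opposite TopologicalSpace WithZero
open Groth.Agent.Lib.Curves.SepCriterion

namespace Groth.Agent.Lib.CurveFF.ClosedImmersionCrit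

attribute [local instance] Curv2.stalkAlgebra

variable {k : Type u} [Field k] [IsAlgClosed k]

omit [IsAlgClosed k] in
/-- A maximal ideal of an affine open is a closed point. -/
theorem exists_point {Y : Scheme.{u}} [JacobsonSpace Y] {D : Y.Opens} (hD : IsAffineOpen D)
    (M : Ideal Γ(Y, D)) [hM : M.IsMaximal] :
    ∃ (y : Y) (_ : IsClosed ({y} : Set Y)) (hyD : y ∈ D), (hD.primeIdealOf ⟨y, hyD⟩).asIdeal = M := by
  let p : PrimeSpectrum Γ(Y, D) := ⟨M, hM.isPrime⟩
  have hyD : hD.fromSpec p ∈ D := hD.range_fromSpec.subset ⟨p, rfl⟩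
  refine ⟨hD.fromSpec p, ?_, hyD, congrArg PrimeSpectrum.asIdeal
    (hD.fromSpec.isOpenEmbedding.injective (hD.fromSpec_primeIdealOf ⟨_, hyD⟩))⟩
  refine isClosed_singleton_of_isLocallyClosed_singleton ?_
  have h := ((PrimeSpectrum.isClosed_singleton_iff_isMaximal p).mpr hM).isLocallyClosed.image
    hD.fromSpec.isOpenEmbedding.isInducing
    ((congrArg IsLocallyClosed hD.range_fromSpec).mpr D.2.isLocallyClosed)
  exact (congrArg IsLocallyClosed Set.image_singleton).mp h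

omit [IsAlgClosed k] in
theorem mem_prime_iff {Y : Scheme.{u}} {D : Y.Opens} (hD : IsAffineOpen D) {y : Y} (hyD : y ∈ D)
    (a : Γ(Y, D)) : a ∈ (hD.primeIdealOf ⟨y, hyD⟩).asIdeal ↔
      ¬ IsUnit (Y.presheaf.germ D y hyD a) := by
  rw [← Y.mem_basicOpen a y hyD]
  have h : hD.primeIdealOf ⟨y, hyD⟩ ∈ hD.fromSpec ⁻¹ᵁ Y.basicOpen a ↔ y ∈ Y.basicOpen a := by
    show hD.fromSpec (hD.primeIdealOf ⟨y, hyD⟩) ∈ Y.basicOpen a ↔ _
    rw [hD.fromSpec_primeIdealOf]
  rw [← h, hD.fromSpec_preimage_basicOpen]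
  exact (not_not.symm)

variable {X Z : Scheme.{u}} [X.Over (Spec (CommRingCat.of k))] [Z.Over (Spec (CommRingCat.of k))]
  [IsIntegral X] [IsProper (X ↘ Spec (CommRingCat.of k))]
  [LocallyOfFiniteType (Z ↘ Spec (CommRingCat.of k))]

omit [IsAlgClosed k] in
theorem val_lt_one_iff (h : CurveHyp X) (x : CPt X) (a : X.presheaf.stalk x.1) :
    (placeOf k h x).1 (algebraMap (X.presheaf.stalk x.1) X.functionField a) < 1 ↔ ¬ IsUnit a := by
  haveI := h.dvr x.1 x.2
  set φ := algebraMap (X.presheaf.stalk x.1) X.functionField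
  have hle : ∀ b, (placeOf k h x).1 (φ b) ≤ 1 := fun b => val_placeAt_le_one_iff.2 ⟨b, rfl⟩
  refine ⟨fun hlt hu => ?_, fun hnu => lt_of_le_of_ne (hle a) fun he => hnu ?_⟩
  · obtain ⟨b, hb⟩ := hu.exists_right_inv
    have h1 : (placeOf k h x).1 (φ a) * (placeOf k h x).1 (φ b) = 1 := by
      rw [← map_mul, ← map_mul, hb, map_one, map_one]
    have h2 := (mul_le_mul' (le_refl ((placeOf k h x).1 (φ a))) (hle b)).trans_eq (mul_one _)
    rw [h1] at h2
    exact absurd h2 (not_le.2 hlt)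
  · obtain ⟨b, hb⟩ := val_placeAt_le_one_iff.1
      (show (placeAt k x.1).1 (φ a)⁻¹ ≤ 1 by
        show (placeOf k h x).1 (φ a)⁻¹ ≤ 1
        rw [map_inv₀, he, inv_one])
    refine IsUnit.of_mul_eq_one b (FaithfulSMul.algebraMap_injective (X.presheaf.stalk x.1) X.functionField ?_)
    have hne : φ a ≠ 0 := fun e => by rw [e, map_zero] at he; exact zero_ne_one he
    rw [map_mul, hb, map_one]
    exact mul_inv_cancel₀ hne

/-- The criterion. -/
theorem isClosedImmersion (h : CurveHyp X) (r : X ⟶ Z) [IsFinite r]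
    (hr : r ≫ (Z ↘ Spec (CommRingCat.of k)) = X ↘ Spec (CommRingCat.of k))
    (hinj : ∀ x x' : CPt X, r x.1 = r x'.1 → x = x')
    (htan : ∀ x : CPt X, ∃ a : Z.presheaf.stalk (r x.1), (placeOf k h x).1
      (algebraMap (X.presheaf.stalk x.1) X.functionField (r.stalkMap x.1 a)) = exp (-1)) :
    IsClosedImmersion r := by
  classical
  have : JacobsonSpace Z := LocallyOfFiniteType.jacobsonSpace (Z ↘ Spec (CommRingCat.of k))
  have : JacobsonSpace X := LocallyOfFiniteType.jacobsonSpace (X ↘ Spec (CommRingCat.of k))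
  refine IsZariskiLocalAtTarget.of_iSup_eq_top (P := @IsClosedImmersion)
    (fun D : Z.affineOpens => (D : Z.Opens)) (iSup_affineOpens_eq_top Z) fun D => ?_
  obtain ⟨D, hD⟩ := D
  replace hD : IsAffineOpen D := hD
  have hU : IsAffineOpen (r ⁻¹ᵁ D) := hD.preimage r
  have : IsAffine ((D : Z.Opens) : Scheme.{u}) := hD
  have : IsAffine ((r ⁻¹ᵁ D : X.Opens) : Scheme.{u}) := hU
  change IsClosedImmersion (r ∣_ D)
  refine IsClosedImmersion.of_surjective_of_isAffine _ ?_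
  have e : (r ∣_ D).appTop = D.topIso.hom ≫ r.app D ≫ (r ⁻¹ᵁ D).topIso.inv := by
    rw [← Scheme.Hom.resLE_eq_morphismRestrict, ← Scheme.Hom.appLE_eq_app]
    exact Scheme.Hom.resLE_app_top _ _
  change Function.Surjective (r ∣_ D).appTop
  rw [e]
  refine (ConcreteCategory.bijective_of_isIso (r ⁻¹ᵁ D).topIso.inv).2.comp
    (Function.Surjective.comp ?_ (ConcreteCategory.bijective_of_isIso D.topIso.hom).2)
  let _ : Algebra Γ(Z, D) Γ(X, r ⁻¹ᵁ D) := (r.app D).hom.toAlgebra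
  have : Module.Finite Γ(Z, D) Γ(X, r ⁻¹ᵁ D) := r.finite_app D hD
  let N : Submodule Γ(Z, D) Γ(X, r ⁻¹ᵁ D) := LinearMap.range (Algebra.linearMap _ _)
  suffices hN : N = ⊤ by
    exact fun b => LinearMap.mem_range.mp (hN ▸ Submodule.mem_top : b ∈ N)
  rw [← Submodule.Quotient.subsingleton_iff, ← Module.annihilator_eq_top_iff (R := Γ(Z, D))]
  by_contra hne
  obtain ⟨M, hM, hle⟩ := Ideal.exists_le_maximal _ hne
  haveI := hM
  obtain ⟨y, hy, hyD, hMy⟩ := exists_point hD M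
  set I := Ideal.map (r.app D).hom M with hI
  -- maximal ideals above `M` are fibre points
  have habove : ∀ q : Ideal Γ(X, r ⁻¹ᵁ D), q.IsMaximal → I ≤ q →
      ∃ (x : X) (_ : IsClosed ({x} : Set X)) (hx : x ∈ r ⁻¹ᵁ D),
        (hU.primeIdealOf ⟨x, hx⟩).asIdeal = q ∧ r x = y := by
    intro q hq hIq
    haveI := hq
    obtain ⟨x, hx, hxU, hxq⟩ := exists_point hU q
    refine ⟨x, hx, hxU, hxq, ?_⟩
    have hMle : M ≤ (hD.primeIdealOf ⟨r x, hxU⟩).asIdeal := fun a ha => by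
      rw [mem_prime_iff hD hxU]
      intro hu
      have h1 : r.app D a ∈ (hU.primeIdealOf ⟨x, hxU⟩).asIdeal := hxq ▸ hIq (Ideal.mem_map_of_mem _ ha)
      rw [mem_prime_iff hU hxU] at h1
      refine h1 ?_
      rw [← Scheme.Hom.germ_stalkMap_apply r D x hxU a]
      exact hu.map (r.stalkMap x).hom
    have heq := hM.eq_of_le (hD.primeIdealOf ⟨r x, hxU⟩).isPrime.ne_top hMle
    have h2 : hD.primeIdealOf ⟨r x, hxU⟩ = hD.primeIdealOf ⟨y, hyD⟩ :=
      PrimeSpectrum.ext (heq.symm.trans hMy.symm)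
    have h3 := congrArg hD.fromSpec h2
    rwa [hD.fromSpec_primeIdealOf, hD.fromSpec_primeIdealOf] at h3
  have hconst : ∀ b : Γ(X, r ⁻¹ᵁ D), ∃ c : k, b - r.app D (scl (k := k) Z D c) ∈ I := by
    intro b
    by_cases htop : I = ⊤
    · exact ⟨0, htop ▸ Submodule.mem_top⟩
    obtain ⟨q₀, hq₀, hIq₀⟩ := Ideal.exists_le_maximal _ htop
    obtain ⟨x, hx, hxU, -, hxy⟩ := habove q₀ hq₀ hIq₀
    obtain ⟨c, hc⟩ := exists_scalar (k := k) hU hx hxU b
    refine ⟨c, ?_⟩
    rw [app_scl r hr]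
    set v := b - scl (k := k) X (r ⁻¹ᵁ D) c with hv
    by_contra hvI
    let J : Ideal Γ(X, r ⁻¹ᵁ D) := I.colon {v}
    have hIJ : I ≤ J := fun a ha => Submodule.mem_colon_singleton.2 (I.mul_mem_right v ha)
    have hJ : J ≠ ⊤ := fun e => hvI (by
      have h1 := Submodule.mem_colon_singleton.1 (show (1 : Γ(X, r ⁻¹ᵁ D)) ∈ J from e ▸ Submodule.mem_top)
      rwa [one_smul] at h1)
    obtain ⟨q, hq, hJq⟩ := Ideal.exists_le_maximal _ hJ
    obtain ⟨x', hx', hxU', hxq, hxy'⟩ := habove q hq (hIJ.trans hJq)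
    obtain rfl : x = x' := congrArg Subtype.val (hinj ⟨x, hx⟩ ⟨x', hx'⟩ (hxy.trans hxy'.symm))
    obtain ⟨a, ha⟩ := htan ⟨x, hx⟩
    haveI := h.dvr x hx
    set φ := algebraMap (X.presheaf.stalk x) X.functionField
    -- fractions
    let gD : Γ(Z, D) → Z.presheaf.stalk (r x) := Z.presheaf.germ D (r x) hxU
    let gU : Γ(X, r ⁻¹ᵁ D) → X.presheaf.stalk x := X.presheaf.germ (r ⁻¹ᵁ D) x hxU
    letI := TopCat.Presheaf.algebra_section_stalk Z.presheaf (⟨r x, hxU⟩ : D)
    letI := TopCat.Presheaf.algebra_section_stalk X.presheaf (⟨x, hxU⟩ : (r ⁻¹ᵁ D : X.Opens))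
    have := hD.isLocalization_stalk ⟨r x, hxU⟩
    have := hU.isLocalization_stalk ⟨x, hxU⟩
    obtain ⟨⟨α, σ⟩, hασ⟩ := IsLocalization.surj (hD.primeIdealOf ⟨r x, hxU⟩).asIdeal.primeCompl a
    have hα : α ∈ M := by
      have hMr : (hD.primeIdealOf ⟨r x, hxU⟩).asIdeal = M := by
        subst hxy
        exact hMy
      rw [← hMr, mem_prime_iff hD hxU]
      intro hu
      have hlt : (placeOf k h ⟨x, hx⟩).1 (φ (r.stalkMap x a)) < 1 := by
        rw [ha, ← exp_zero, exp_lt_exp]; norm_num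
      rw [val_lt_one_iff h ⟨x, hx⟩] at hlt
      refine hlt (IsUnit.map (r.stalkMap x).hom (isUnit_of_mul_isUnit_left (y := gD σ.1) ?_))
      have : gD α = a * gD σ.1 := hασ.symm
      exact this ▸ hu
    have hvx : (placeOf k h ⟨x, hx⟩).1 (φ (gU v)) < 1 := by
      rw [val_lt_one_iff h ⟨x, hx⟩, ← mem_prime_iff hU hxU]
      exact hc
    obtain ⟨c', hc'⟩ : ∃ c' : X.presheaf.stalk x, φ c' = φ (gU v) / φ (r.stalkMap x a) := by
      refine val_placeAt_le_one_iff (k := k).1 ?_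
      show (placeOf k h ⟨x, hx⟩).1 (φ (gU v) / φ (r.stalkMap x a)) ≤ 1
      rw [map_div₀, ha]
      rcases eq_or_ne (φ (gU v)) 0 with h0 | h0
      · rw [h0, map_zero, zero_div]; exact zero_le_one
      · rw [FunFld.Place.val_eq_exp _ h0, ← exp_zero, exp_lt_exp] at hvx
        rw [FunFld.Place.val_eq_exp _ h0, ← exp_sub, ← exp_zero, exp_le_exp]
        omega
    have hne : φ (r.stalkMap x a) ≠ 0 := fun e => by
      rw [e, map_zero] at ha; exact exp_ne_zero ha.symm
    have hmul : gU v = r.stalkMap x a * c' := by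
      apply FaithfulSMul.algebraMap_injective (X.presheaf.stalk x) X.functionField
      show φ (gU v) = φ (r.stalkMap x a * c')
      rw [map_mul, hc', mul_div_cancel₀ _ hne]
    obtain ⟨⟨β, w⟩, hβw⟩ := IsLocalization.surj (hU.primeIdealOf ⟨x, hxU⟩).asIdeal.primeCompl c'
    have hσ : gU (r.app D σ.1) = r.stalkMap x (gD σ.1) :=
      (Scheme.Hom.germ_stalkMap_apply r D x hxU σ.1).symm
    have hαg : gU (r.app D α) = r.stalkMap x a * gU (r.app D σ.1) := by
      rw [hσ, ← map_mul]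
      refine (Scheme.Hom.germ_stalkMap_apply r D x hxU α).symm.trans ?_
      exact congrArg _ hασ.symm
    have hkey : (w.1 * r.app D σ.1) * v = r.app D α * β := by
      haveI : Nonempty (r ⁻¹ᵁ D : X.Opens) := ⟨⟨x, hxU⟩⟩
      apply germ_injective_of_isIntegral X x hxU
      show gU _ = gU _
      have hb : gU β = c' * gU w.1 := hβw.symm
      simp only [gU, map_mul] at hαg hb hmul ⊢
      rw [hmul, hαg, hb]
      ring
    have hmemJ : w.1 * r.app D σ.1 ∈ J := Submodule.mem_colon_singleton.2 (by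
      rw [smul_eq_mul, hkey]
      exact I.mul_mem_right _ (Ideal.mem_map_of_mem _ hα))
    have hmemq : w.1 * r.app D σ.1 ∈ (hU.primeIdealOf ⟨x, hxU⟩).asIdeal := hxq.ge (hJq hmemJ)
    rcases (hU.primeIdealOf ⟨x, hxU⟩).isPrime.mem_or_mem hmemq with hw | hs
    · exact w.2 hw
    · rw [mem_prime_iff hU hxU] at hs
      refine hs ?_
      show IsUnit (gU (r.app D σ.1))
      rw [hσ]
      exact (not_not.1 (fun hn => σ.2 ((mem_prime_iff hD hxU _).2 hn))).map (r.stalkMap x).hom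
  have hin : (⊤ : Submodule Γ(Z, D) (Γ(X, r ⁻¹ᵁ D) ⧸ N)) ≤ M • ⊤ := by
    intro q _
    obtain ⟨b, rfl⟩ := N.mkQ_surjective q
    obtain ⟨c, hc⟩ := hconst b
    have h0 : N.mkQ (r.app D (scl (k := k) Z D c)) = 0 :=
      (Submodule.Quotient.mk_eq_zero N).mpr ⟨_, rfl⟩
    rw [show N.mkQ b = N.mkQ (b - r.app D (scl (k := k) Z D c)) by rw [map_sub, h0, sub_zero]]
    rw [hI, show Ideal.map (r.app D).hom M = M.map (algebraMap Γ(Z, D) Γ(X, r ⁻¹ᵁ D)) from rfl] at hc
    exact (Submodule.map_smul'' M ⊤ N.mkQ).le.trans (Submodule.smul_mono le_rfl le_top)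
      (Submodule.mem_map_of_mem (by
        rw [Ideal.smul_top_eq_map (S := Γ(X, r ⁻¹ᵁ D)) M]
        exact hc))
  obtain ⟨s, hs1, hs0⟩ := Submodule.exists_sub_one_mem_and_smul_eq_zero_of_fg_of_le_smul M ⊤
    Module.Finite.fg_top hin
  have hsM : s ∈ M := hle (Module.mem_annihilator.mpr fun q => hs0 q Submodule.mem_top)
  exact hM.ne_top ((Ideal.eq_top_iff_one M).mpr (sub_sub_cancel s 1 ▸ M.sub_mem hsM hs1))

end Groth.Agent.Lib.CurveFF.ClosedImmersionCrit
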