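import Groth.Agent.Lib.FunFld.Weil
import Groth.Agent.Lib.FunFld.SmallGenus
import Groth.Agent.Lib.FunFld.Rational
import Groth.Agent.Lib.FunFld.Bound

/-!
Sums of distinct places and how the dimension of a Riemann-Roch space drops along them.
-/

noncomputable section
set_option autoImplicit false
universe u v

open WithZero
open Groth.Agent.Lib.FunFld Groth.Agent.Lib.FunFld.Degree

namespace Groth.Agent.Lib.CurveFF.Drop

variable {k : Type u} {K : Type v} [Field k] [Field K] [Algebra k K]

local notation "Dv" => _root_.FunFld.Divisor k K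
local notation "Pl" => _root_.FunFld.Place k K

/-- The sum of the places of a finite set. -/
def ind (T : Finset Pl) : Dv := ∑ P ∈ T, Finsupp.single P 1

theorem ind_apply [DecidableEq Pl] (T : Finset Pl) (P : Pl) :
    (ind T) P = if P ∈ T then 1 else 0 := by
  rw [ind, Finsupp.finsetSum_apply]
  by_cases h : P ∈ T
  · rw [if_pos h, Finset.sum_eq_single P (fun Q _ hQ => Finsupp.single_eq_of_ne hQ.symm)
      (fun h' => absurd h h'), Finsupp.single_eq_same]
  · rw [if_neg h]
    exact Finset.sum_eq_zero fun Q hQ => Finsupp.single_eq_of_ne fun e => h (e ▸ hQ)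

theorem ind_nonneg (T : Finset Pl) : 0 ≤ ind T :=
  Finset.sum_nonneg fun _ _ => Finsupp.single_nonneg.2 zero_le_one

theorem deg_ind [IsAlgClosed k] (hK : _root_.FunFld.IsFunctionField k K) (T : Finset Pl) :
    (ind T).deg = T.card := by
  classical
  induction T using Finset.induction with
  | empty => rw [ind, Finset.sum_empty, Finset.card_empty, deg_zero]; rfl
  | insert P T hP ih =>
    rw [ind, Finset.sum_insert hP, Finset.card_insert_of_notMem hP, deg_add, deg_single,
      FunFld.Rational.deg_eq_one hK P]
    rw [ind] at ih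
    omega

theorem mem_L_iff_val {E : Dv} {x : K} : x ∈ _root_.FunFld.L E ↔ ∀ P : Pl, P.1 x ≤ exp (E P) :=
  Iff.rfl

theorem ell_le_of_le (hK : _root_.FunFld.IsFunctionField k K) {A B : Dv} (h : A ≤ B) :
    _root_.FunFld.ell A ≤ _root_.FunFld.ell B := by
  have := finiteDimensional_L hK B
  exact Submodule.finrank_mono (L_mono h)

theorem one_le_ell (hK : _root_.FunFld.IsFunctionField k K) {E : Dv} (h : 0 ≤ E) :
    1 ≤ _root_.FunFld.ell E :=
  (ell_zero hK).symm.le.trans (ell_le_of_le hK h)

theorem sub_single_le (E : Dv) (P : Pl) : E - Finsupp.single P 1 ≤ E :=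
  sub_le_self _ (Finsupp.single_nonneg.2 zero_le_one)

theorem ell_le_sub_single [IsAlgClosed k] (hK : _root_.FunFld.IsFunctionField k K) (E : Dv)
    (P : Pl) : _root_.FunFld.ell E ≤ _root_.FunFld.ell (E - Finsupp.single P 1) + 1 := by
  have := finiteDimensional_L hK (E - Finsupp.single P 1)
  have h := (step hK (E - Finsupp.single P 1) P).2
  rwa [sub_add_cancel, FunFld.Rational.deg_eq_one hK P] at h

theorem ell_le_sub_ind [IsAlgClosed k] (hK : _root_.FunFld.IsFunctionField k K) (E : Dv)
    (T : Finset Pl) : _root_.FunFld.ell E ≤ _root_.FunFld.ell (E - ind T) + T.card := by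
  classical
  induction T using Finset.induction with
  | empty => rw [ind, Finset.sum_empty, sub_zero]; omega
  | insert P T hP ih =>
    have h := ell_le_sub_single hK (E - ind T) P
    rw [show E - ind T - Finsupp.single P 1 = E - ind (insert P T) by
      rw [ind, ind, Finset.sum_insert hP]; abel] at h
    rw [Finset.card_insert_of_notMem hP]
    omega

/-- A function with exactly the allowed pole at a place. -/
theorem drop_single (hK : _root_.FunFld.IsFunctionField k K) {E : Dv} {P : Pl} {f : K}
    (hf : f ∈ _root_.FunFld.L E) (he : P.1 f = exp (E P)) :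
    _root_.FunFld.ell (E - Finsupp.single P 1) + 1 ≤ _root_.FunFld.ell E := by
  have := finiteDimensional_L hK E
  refine Submodule.finrank_lt_finrank_of_lt (lt_of_le_of_ne (L_mono (sub_single_le E P)) fun e => ?_)
  rw [← e] at hf
  have := hf P
  rw [he, Finsupp.sub_apply, Finsupp.single_eq_same, exp_le_exp] at this
  omega

/-- Functions with exactly the allowed pole at one place of a set and less at the others. -/
theorem drop_ind [DecidableEq Pl] (hK : _root_.FunFld.IsFunctionField k K) {E : Dv}
    {T : Finset Pl} (f : Pl → K) (hf : ∀ p ∈ T, f p ∈ _root_.FunFld.L (E - ind (T.erase p)))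
    (he : ∀ p ∈ T, p.1 (f p) = exp (E p)) :
    _root_.FunFld.ell (E - ind T) + T.card ≤ _root_.FunFld.ell E := by
  induction T using Finset.induction with
  | empty => rw [ind, Finset.sum_empty, sub_zero, Finset.card_empty]; rfl
  | insert P T hP ih =>
    have h1 := ih (fun p hp => by
        refine L_mono ?_ (hf p (Finset.mem_insert_of_mem hp))
        intro Q
        simp only [Finsupp.sub_apply, ind_apply, Finset.mem_erase, Finset.mem_insert]
        split_ifs <;> simp_all)
      (fun p hp => he p (Finset.mem_insert_of_mem hp))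
    have h2 := drop_single hK (E := E - ind T) (P := P) (f := f P)
      (by simpa [Finset.erase_insert hP] using hf P (Finset.mem_insert_self P T))
      (by rw [he P (Finset.mem_insert_self P T), Finsupp.sub_apply, ind_apply, if_neg hP, sub_zero])
    rw [show E - ind T - Finsupp.single P 1 = E - ind (insert P T) by
      rw [ind, ind, Finset.sum_insert hP]; abel] at h2
    rw [Finset.card_insert_of_notMem hP]
    omega

/-- A place with a simple pole function alone forces genus zero. -/
theorem no_single_pole [IsAlgClosed k] (hK : _root_.FunFld.IsFunctionField k K)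
    (hg : 0 < _root_.FunFld.genus k K) (P : Pl) (f : K)
    (hf : f ∈ _root_.FunFld.L (Finsupp.single P (1 : ℤ))) : P.1 f ≤ 1 := by
  by_contra hlt
  have h1 : P.1 f = exp ((Finsupp.single P (1 : ℤ)) P) := by
    refine le_antisymm (hf P) ?_
    have h0 : f ≠ 0 := fun e => hlt (by rw [e, map_zero]; exact zero_le_one)
    rw [Place.val_eq_exp P h0, Finsupp.single_eq_same, exp_le_exp]
    rw [Place.val_eq_exp P h0, ← exp_zero, exp_le_exp] at hlt
    omega
  have h2 := drop_single hK hf h1
  rw [sub_self, ell_zero hK, FunFld.Rational.ell_single_one_eq_one hK hg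
    (FunFld.Rational.deg_eq_one hK P)] at h2
  omega

end Groth.Agent.Lib.CurveFF.Drop
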