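import Groth.Agent.Lib.CurveFF.TwoQuotients
import Groth.Agent.Lib.CurveFF.Drop
import Groth.Agent.Lib.FunFld.Hasse.Param
import Groth.Agent.Lib.FunFld.LinSys.Chart

/-!
When two subfields of index two attain the genus bound.
-/

noncomputable section
set_option autoImplicit false
set_option linter.style.haveILetI false
universe u v

open IntermediateField WithZero
open Groth.Agent.Lib.FunFld Groth.Agent.Lib.FunFld.Degree

namespace Groth.Agent.Lib.CurveFF.TwoQuotientsSharp

variable {k : Type u} [Field k] {K : Type v} [Field K] [Algebra k K]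

local notation "Pl" => _root_.FunFld.Place k K
local notation "ℓ" => _root_.FunFld.ell

/-- `z` vanishes on the divisor `R + R'`. -/
def Vanish (R R' : _root_.FunFld.Place k K) (z : K) : Prop :=
  R.1 z ≤ exp (-((Finsupp.single R (1 : ℤ) + Finsupp.single R' 1 : _root_.FunFld.Divisor k K) R)) ∧
    R'.1 z ≤ exp (-((Finsupp.single R (1 : ℤ) + Finsupp.single R' 1 : _root_.FunFld.Divisor k K) R'))

/-- A subfield does not separate `R` and `R'`. -/
def Glued (F : IntermediateField k K) (R R' : _root_.FunFld.Place k K) : Prop :=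
  ∀ z ∈ F, R.1 z ≤ 1 → ∃ c : k, Vanish R R' (z - algebraMap k K c)

theorem vanish_add {R R' : Pl} {z w : K} (hz : Vanish R R' z) (hw : Vanish R R' w) :
    Vanish R R' (z + w) :=
  ⟨R.1.map_add_le hz.1 hw.1, R'.1.map_add_le hz.2 hw.2⟩

theorem vanish_mul {R R' : Pl} {z w : K} (hz : Vanish R R' z) (hw : R.1 w ≤ 1) (hw' : R'.1 w ≤ 1) :
    Vanish R R' (z * w) := by
  constructor
  · rw [map_mul]; exact (mul_le_mul' hz.1 hw).trans_eq (mul_one _)
  · rw [map_mul]; exact (mul_le_mul' hz.2 hw').trans_eq (mul_one _)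

theorem val_le_one_of_vanish {R R' : Pl} {z : K} {c : k} (h : Vanish R R' (z - algebraMap k K c)) :
    R.1 z ≤ 1 ∧ R'.1 z ≤ 1 := by
  classical
  have key : ∀ (S : Pl), S.1 (z - algebraMap k K c) ≤
      exp (-((Finsupp.single R (1 : ℤ) + Finsupp.single R' 1 : _root_.FunFld.Divisor k K) S)) → S.1 z ≤ 1 := by
    intro S hS
    have h1 : S.1 (z - algebraMap k K c) ≤ 1 := hS.trans (by
      rw [← exp_zero, exp_le_exp]
      have h0' : (0 : _root_.FunFld.Divisor k K) ≤ Finsupp.single R (1 : ℤ) + Finsupp.single R' 1 :=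
        add_nonneg (Finsupp.single_nonneg.2 zero_le_one) (Finsupp.single_nonneg.2 zero_le_one)
      have h0 : (0 : ℤ) ≤ (Finsupp.single R (1 : ℤ) + Finsupp.single R' 1 : _root_.FunFld.Divisor k K) S :=
        h0' S
      omega)
    have := S.1.map_add_le h1 (S.2.1 c)
    rwa [sub_add_cancel] at this
  exact ⟨key R h.1, key R' h.2⟩

/-- Two functions on the second field, independent over the first, and the space they span. -/
theorem exists_space [IsAlgClosed k] (hK : _root_.FunFld.IsFunctionField k K)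
    {F G : IntermediateField k K} [FiniteDimensional F K] [FiniteDimensional G K]
    (hF : _root_.FunFld.IsFunctionField k F) (hG : _root_.FunFld.IsFunctionField k G)
    {R R' : Pl} {P : _root_.FunFld.Place k F} {e e₁ e₂ : ℕ} {Q₁ Q₂ : _root_.FunFld.Place k G}
    (he : _root_.FunFld.IsOverWith R P e) (he' : _root_.FunFld.IsOverWith R' P e)
    (he₁ : _root_.FunFld.IsOverWith R Q₁ e₁) (he₂ : _root_.FunFld.IsOverWith R' Q₂ e₂)
    (A : _root_.FunFld.Divisor k F) (BG : _root_.FunFld.Divisor k G) {z₁ z₂ : G}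
    (hz₁0 : z₁ ≠ 0) (hz₂0 : z₂ ≠ 0) (hz₁L : z₁ ∈ _root_.FunFld.L BG) (hz₂L : z₂ ∈ _root_.FunFld.L BG)
    (hs₁ : Q₁.ord z₁ < Q₁.ord z₂) (hs₂ : Q₂.ord z₂ < Q₂.ord z₁) :
    ∃ V : Submodule k K, V ≤ _root_.FunFld.L (_root_.FunFld.conorm K A + _root_.FunFld.conorm K BG) ∧
      2 * _root_.FunFld.ell A ≤ Module.finrank k V ∧
      ∀ w ∈ V, ∃ f f' : F, f ∈ _root_.FunFld.L A ∧ f' ∈ _root_.FunFld.L A ∧
        w = (f : K) * (z₁ : K) + (f' : K) * (z₂ : K) := by
  classical
  set D : _root_.FunFld.Divisor k K := _root_.FunFld.conorm K A + _root_.FunFld.conorm K BG with hD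
  have hmem : ∀ (f : F) (z : G), f ∈ _root_.FunFld.L A → z ∈ _root_.FunFld.L BG →
      (f : K) * (z : K) ∈ _root_.FunFld.L D := by
    intro f z hf hz
    rcases eq_or_ne f 0 with rfl | hf0
    · simp
    rcases eq_or_ne z 0 with rfl | hz0
    · simp
    refine mem_L_iff_ord.2 (Or.inr fun S => ?_)
    obtain ⟨PS, eS, -, hS⟩ := Ext.exists_place_below hF S
    obtain ⟨QS, dS, -, hS'⟩ := Ext.exists_place_below hG S
    have hf1 := (mem_L_iff_ord.1 hf).resolve_left hf0 PS
    have hz1 := (mem_L_iff_ord.1 hz).resolve_left hz0 QS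
    have e1 := Ext.ord_map hS f
    have e2 := Ext.ord_map hS' z
    change S.ord (f : K) = _ at e1
    change S.ord (z : K) = _ at e2
    rw [hD, Finsupp.add_apply, Ext.conorm_apply hF A hS, Ext.conorm_apply hG BG hS',
      Place.ord_mul S (fun e => hf0 (Subtype.ext e)) (fun e => hz0 (Subtype.ext e)), e1, e2]
    have h1 : (eS : ℤ) * -A PS ≤ (eS : ℤ) * PS.ord f := mul_le_mul_of_nonneg_left hf1 (by positivity)
    have h2 : (dS : ℤ) * -BG QS ≤ (dS : ℤ) * QS.ord z := mul_le_mul_of_nonneg_left hz1 (by positivity)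
    linarith
  haveI := finiteDimensional_L hF A
  let Φ : (_root_.FunFld.L A × _root_.FunFld.L A) →ₗ[k] K :=
    { toFun := fun p => ((p.1.1 : F) : K) * (z₁ : K) + ((p.2.1 : F) : K) * (z₂ : K)
      map_add' := fun p q => by
        change ((p.1.1 + q.1.1 : F) : K) * (z₁ : K) + ((p.2.1 + q.2.1 : F) : K) * (z₂ : K) = _
        push_cast
        ring
      map_smul' := fun c p => by
        change ((c • p.1.1 : F) : K) * (z₁ : K) + ((c • p.2.1 : F) : K) * (z₂ : K) = c • _
        rw [IntermediateField.coe_smul, IntermediateField.coe_smul, smul_mul_assoc, smul_mul_assoc,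
          ← smul_add] }
  have hΦ : Function.Injective Φ := by
    refine (injective_iff_map_eq_zero Φ).2 fun p hp => ?_
    have h0 : ((p.1.1 : F) : K) * (z₁ : K) = -(((p.2.1 : F) : K) * (z₂ : K)) :=
      eq_neg_of_add_eq_zero_left hp
    have hz₁K : (z₁ : K) ≠ 0 := fun e => hz₁0 (Subtype.ext e)
    have hz₂K : (z₂ : K) ≠ 0 := fun e => hz₂0 (Subtype.ext e)
    have hp2 : p.2.1 = 0 := by
      by_contra hne2
      have hp2K : ((p.2.1 : F) : K) ≠ 0 := fun e => hne2 (Subtype.ext e)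
      have hp1K : ((p.1.1 : F) : K) ≠ 0 := fun e => by
        rw [e, zero_mul, eq_comm, neg_eq_zero] at h0
        exact mul_ne_zero hp2K hz₂K h0
      have a1 := congrArg R.ord h0
      have a2 := congrArg R'.ord h0
      rw [Place.ord_neg, Place.ord_mul R hp1K hz₁K, Place.ord_mul R hp2K hz₂K] at a1
      rw [Place.ord_neg, Place.ord_mul R' hp1K hz₁K, Place.ord_mul R' hp2K hz₂K] at a2
      have b1 := Ext.ord_map he p.1.1
      have b2 := Ext.ord_map he p.2.1
      have b3 := Ext.ord_map he' p.1.1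
      have b4 := Ext.ord_map he' p.2.1
      have c1 := Ext.ord_map he₁ z₁
      have c2 := Ext.ord_map he₁ z₂
      have c3 := Ext.ord_map he₂ z₁
      have c4 := Ext.ord_map he₂ z₂
      change R.ord ((p.1.1 : F) : K) = _ at b1
      change R.ord ((p.2.1 : F) : K) = _ at b2
      change R'.ord ((p.1.1 : F) : K) = _ at b3
      change R'.ord ((p.2.1 : F) : K) = _ at b4
      change R.ord (z₁ : K) = _ at c1
      change R.ord (z₂ : K) = _ at c2
      change R'.ord (z₁ : K) = _ at c3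
      change R'.ord (z₂ : K) = _ at c4
      have p1 : (0 : ℤ) < e₁ := by exact_mod_cast Ext.pos_of_isOverWith he₁
      have p2 : (0 : ℤ) < e₂ := by exact_mod_cast Ext.pos_of_isOverWith he₂
      have q1 : (e₁ : ℤ) * Q₁.ord z₁ < (e₁ : ℤ) * Q₁.ord z₂ := mul_lt_mul_of_pos_left hs₁ p1
      have q2 : (e₂ : ℤ) * Q₂.ord z₂ < (e₂ : ℤ) * Q₂.ord z₁ := mul_lt_mul_of_pos_left hs₂ p2
      linarith
    have hp1 : p.1.1 = 0 := by
      rw [hp2] at h0
      have : ((p.1.1 : F) : K) * (z₁ : K) = 0 := h0.trans (by simp)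
      exact Subtype.ext ((mul_eq_zero.1 this).resolve_right hz₁K)
    exact Prod.ext (Subtype.ext hp1) (Subtype.ext hp2)
  refine ⟨LinearMap.range Φ, ?_, ?_, ?_⟩
  · rintro _ ⟨p, rfl⟩
    exact add_mem (hmem _ _ p.1.2 hz₁L) (hmem _ _ p.2.2 hz₂L)
  · rw [LinearMap.finrank_range_of_inj hΦ, Module.finrank_prod]
    show 2 * _root_.FunFld.ell A ≤ _root_.FunFld.ell A + _root_.FunFld.ell A
    omega
  · rintro _ ⟨p, rfl⟩
    exact ⟨p.1.1, p.2.1, p.1.2, p.2.2, rfl⟩

variable [IsAlgClosed k]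

/-- A fibre of the first field in general position for the second. -/
theorem exists_fibre (hK : _root_.FunFld.IsFunctionField k K) (h2 : (2 : k) ≠ 0)
    {F G : IntermediateField k K} [FiniteDimensional F K] [FiniteDimensional G K]
    (hF : _root_.FunFld.IsFunctionField k F) (hG : _root_.FunFld.IsFunctionField k G)
    (hF2 : Module.finrank F K = 2) (hG2 : Module.finrank G K = 2) (hne : F ≠ G)
    (sQ : Finset (_root_.FunFld.Place k G)) :
    ∃ (R R' : Pl) (P : _root_.FunFld.Place k F) (e e₁ e₂ : ℕ) (Q₁ Q₂ : _root_.FunFld.Place k G),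
      _root_.FunFld.IsOverWith R P e ∧ _root_.FunFld.IsOverWith R' P e ∧
      _root_.FunFld.IsOverWith R Q₁ e₁ ∧ _root_.FunFld.IsOverWith R' Q₂ e₂ ∧
      Q₁ ≠ Q₂ ∧ Q₁ ∉ sQ ∧ Q₂ ∉ sQ := by
  classical
  haveI := GenusOneInvol.isSeparable_of_two_ne_zero (E := F) (L := K)
    (fun e => h2 ((algebraMap k F).injective ((map_ofNat _ 2).trans (e.trans (map_zero _).symm)))) hF2
  obtain ⟨φ, hfix, hφφ⟩ := TwoQuotients.exists_invol hF2
  obtain ⟨y, hyG, hyφ⟩ : ∃ y ∈ G, φ y ≠ y := by
    by_contra hc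
    push Not at hc
    exact hne (IntermediateField.eq_of_le_of_finrank_eq' (fun z hz => (hfix z).1 (hc z hz))
      (hG2.trans hF2.symm)).symm
  let t : _root_.FunFld.Place k G → K := fun Q => ((FunFld.Place.unif Q : G) : K)
  -- the place
  obtain ⟨R, hR⟩ := LinSer.Basic.exists_place_notMem hK ((_root_.FunFld.div k y).support ∪
    (_root_.FunFld.div k (φ y)).support ∪ (_root_.FunFld.div k (y - φ y)).support ∪
    (sQ.biUnion fun Q => (_root_.FunFld.div k (t Q)).support ∪ (_root_.FunFld.div k (φ (t Q))).support))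
  simp only [Finset.mem_union, Finset.mem_biUnion, not_or, not_exists, not_and,
    Finsupp.mem_support_iff, not_not, div_apply hK] at hR
  obtain ⟨R', hR'⟩ := InvolFF.exists_conj φ R
  obtain ⟨P, e, -, he⟩ := Ext.exists_place_below hF R
  have he' : _root_.FunFld.IsOverWith R' P e := fun x => by
    rw [hR', ← he x]
    exact congrArg R.1 ((hfix (x : K)).2 x.2)
  obtain ⟨Q₁, e₁, -, he₁⟩ := Ext.exists_place_below hG R
  obtain ⟨Q₂, e₂, -, he₂⟩ := Ext.exists_place_below hG R'
  have hnot : ∀ (S : Pl) (Q : _root_.FunFld.Place k G) (d : ℕ), _root_.FunFld.IsOverWith S Q d →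
      (∀ T ∈ sQ, S.ord (t T) = 0) → Q ∉ sQ := by
    intro S Q d hS h0 hQ
    have h1 := Ext.ord_map hS (FunFld.Place.unif Q : G)
    change S.ord (t Q) = _ at h1
    rw [h0 Q hQ, Place.ord_eq_of_val_eq_exp Q (FunFld.Place.val_unif Q)] at h1
    have := Ext.pos_of_isOverWith hS
    omega
  have hQ : Q₁ ≠ Q₂ := by
    intro hQQ
    subst hQQ
    let yG : G := ⟨y, hyG⟩
    have hy1 : R.1 y ≤ 1 := (Place.val_le_one_iff R).2 hR.1.1.1.ge
    obtain ⟨c, hdiff⟩ := Hasse.Param.isDegOne hK R y hy1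
    have h1 : R.1 (y - algebraMap k K c) = Q₁.1 (yG - algebraMap k G c) ^ e₁ :=
      (congrArg R.1 (map_sub (algebraMap G K) yG (algebraMap k G c)).symm).trans (he₁ _)
    have hQlt : Q₁.1 (yG - algebraMap k G c) < 1 := by
      by_contra hge
      push Not at hge
      exact absurd (h1 ▸ hdiff) (not_lt.2 (one_le_pow₀ hge))
    have h3 : R.1 (φ y - algebraMap k K c) < 1 := by
      have h4 : R'.1 (y - algebraMap k K c) = Q₁.1 (yG - algebraMap k G c) ^ e₂ :=
        (congrArg R'.1 (map_sub (algebraMap G K) yG (algebraMap k G c)).symm).trans (he₂ _)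
      have h5 : R'.1 (y - algebraMap k K c) < 1 :=
        h4 ▸ pow_lt_one₀ zero_le hQlt (Ext.pos_of_isOverWith he₂).ne'
      rwa [hR', map_sub, φ.commutes] at h5
    have h6 : R.1 (y - φ y) < 1 := by
      rw [show y - φ y = (y - algebraMap k K c) - (φ y - algebraMap k K c) by ring]
      exact R.1.map_sub_lt hdiff h3
    rcases (Place.val_lt_one_iff R).1 h6 with h7 | h7
    · exact hyφ (sub_eq_zero.1 h7).symm
    · rw [hR.1.2] at h7; omega
  refine ⟨R, R', P, e, e₁, e₂, Q₁, Q₂, he, he', he₁, he₂, hQ,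
    hnot R Q₁ e₁ he₁ fun T hT => (hR.2 T hT).1, hnot R' Q₂ e₂ he₂ fun T hT => ?_⟩
  rw [Place.ord_def, hR', ← Place.ord_def]
  exact (hR.2 T hT).2

theorem exists_drop (hK : _root_.FunFld.IsFunctionField k K) :
    ∀ (n : ℕ) (C : _root_.FunFld.Divisor k K), n ≤ ℓ C →
      ∃ E : _root_.FunFld.Divisor k K, 0 ≤ E ∧ E.deg = n ∧ ℓ (C - E) + n ≤ ℓ C := by
  classical
  intro n
  induction n with
  | zero => exact fun C _ => ⟨0, le_rfl, deg_zero, by rw [sub_zero]; rfl⟩
  | succ n ih =>
    intro C hn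
    obtain ⟨E, hE, hEd, hEl⟩ := ih C (by omega)
    have hpick : ∃ P : Pl, ℓ (C - E - Finsupp.single P 1) + (n + 1) ≤ ℓ C := by
      rcases Nat.eq_zero_or_pos (ℓ (C - E)) with h0 | hpos
      · obtain ⟨P⟩ := Riemann.nonempty_place hK
        refine ⟨P, ?_⟩
        have := Drop.ell_le_of_le hK (Drop.sub_single_le (C - E) P)
        omega
      · obtain ⟨z, hz0, hz⟩ := Riemann.exists_ne_zero_of_ell_pos hpos
        obtain ⟨P, hP⟩ := LinSer.Basic.exists_place_notMem hK
          ((C - E).support ∪ (_root_.FunFld.div k z).support)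
        simp only [Finset.mem_union, not_or, Finsupp.mem_support_iff, not_not, div_apply hK] at hP
        refine ⟨P, ?_⟩
        have := Drop.drop_single hK hz (P := P) (by rw [Place.val_eq_exp P hz0, hP.1, hP.2]; rfl)
        omega
    obtain ⟨P, hP⟩ := hpick
    exact ⟨E + Finsupp.single P 1, add_nonneg hE (Finsupp.single_nonneg.2 zero_le_one),
      by rw [deg_add, deg_single, hEd, Rational.deg_eq_one hK P]; push_cast; ring,
      by rw [← sub_sub]; exact hP⟩

variable (hK : _root_.FunFld.IsFunctionField k K) (h2 : (2 : k) ≠ 0)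
  {F G : IntermediateField k K} [FiniteDimensional F K] [FiniteDimensional G K]
  (hF : _root_.FunFld.IsFunctionField k F) (hG : _root_.FunFld.IsFunctionField k G)
  (hF2 : Module.finrank F K = 2) (hG2 : Module.finrank G K = 2) (hne : F ≠ G)

include hK h2 hF hG hF2 hG2 hne

/-- A non-hyperelliptic quotient improves the bound. -/
theorem genus_le_of_not_hyperelliptic (hgG : 2 ≤ _root_.FunFld.genus k G)
    (hno : ∀ E : _root_.FunFld.Divisor k G, E.deg = 2 → _root_.FunFld.ell E ≤ 1) :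
    (_root_.FunFld.genus k K : ℤ) ≤ 2 * _root_.FunFld.genus k F + 2 * _root_.FunFld.genus k G - 1 := by
  classical
  obtain ⟨R, R', P, e, e₁, e₂, Q₁, Q₂, he, he', he₁, he₂, hQ, -, -⟩ :=
    exists_fibre hK h2 hF hG hF2 hG2 hne ∅
  obtain ⟨W, hW⟩ := Weil.exists_isCanonical hG
  set gG := _root_.FunFld.genus k G with hgGd
  have hWd := Weil.deg_canonical hG hW
  have hd1 := Rational.deg_eq_one hG
  have h12 : _root_.FunFld.ell (W - Finsupp.single Q₁ 1 - Finsupp.single Q₂ 1) + 2 ≤ gG := by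
    have hrr := Weil.riemann_roch hG hW (Finsupp.single Q₁ 1 + Finsupp.single Q₂ 1)
    rw [deg_add, deg_single, deg_single, hd1, hd1, ← sub_sub] at hrr
    have := hno (Finsupp.single Q₁ 1 + Finsupp.single Q₂ 1) (by
      rw [deg_add, deg_single, deg_single, hd1, hd1]; rfl)
    push_cast at hrr
    omega
  have hWl := Weil.ell_canonical hG hW
  have h12' : _root_.FunFld.ell (W - Finsupp.single Q₁ 1 - Finsupp.single Q₂ 1) = gG - 2 := by
    have := Drop.ell_le_sub_single hG W Q₁
    have := Drop.ell_le_sub_single hG (W - Finsupp.single Q₁ 1) Q₂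
    omega
  obtain ⟨E, hE, hEd, hEl⟩ := exists_drop hG (gG - 2) (W - Finsupp.single Q₁ 1 - Finsupp.single Q₂ 1)
    h12'.ge
  obtain ⟨BG, hBG⟩ : ∃ BG, BG = W - E := ⟨_, rfl⟩
  have hBl : 2 ≤ _root_.FunFld.ell BG := by
    have hrr := Weil.riemann_roch hG hW E
    have hEpos := Drop.one_le_ell hG hE
    rw [hEd, ← hBG] at hrr
    omega
  have h0 : _root_.FunFld.ell (BG - Finsupp.single Q₁ 1 - Finsupp.single Q₂ 1) = 0 := by
    rw [show BG - Finsupp.single Q₁ (1 : ℤ) - Finsupp.single Q₂ 1 =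
      W - Finsupp.single Q₁ 1 - Finsupp.single Q₂ 1 - E by rw [hBG]; abel]
    omega
  have hfun : ∀ Q Q' : _root_.FunFld.Place k G, Q ≠ Q' →
      _root_.FunFld.ell (BG - Finsupp.single Q 1 - Finsupp.single Q' 1) = 0 →
      ∃ z : G, z ≠ 0 ∧ z ∈ _root_.FunFld.L BG ∧ -BG Q + 1 ≤ Q.ord z ∧ Q'.ord z = -BG Q' := by
    intro Q Q' hQQ h0'
    have := Drop.ell_le_sub_single hG BG Q
    obtain ⟨z, hz0, hz⟩ := Riemann.exists_ne_zero_of_ell_pos
      (D := BG - Finsupp.single Q 1) (by omega)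
    have h1 := (mem_L_iff_ord.1 hz).resolve_left hz0
    have h3 := h1 Q
    have h4 := h1 Q'
    rw [Finsupp.sub_apply, Finsupp.single_eq_same] at h3
    rw [Finsupp.sub_apply, Finsupp.single_eq_of_ne hQQ.symm, sub_zero] at h4
    refine ⟨z, hz0, L_mono (Drop.sub_single_le BG Q) hz, by omega, ?_⟩
    refine le_antisymm ?_ h4
    by_contra hlt
    have hmem : z ∈ _root_.FunFld.L (BG - Finsupp.single Q 1 - Finsupp.single Q' 1) :=
      mem_L_iff_ord.2 (Or.inr fun T => by
        have h5 := h1 T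
        rw [Finsupp.sub_apply] at h5 ⊢
        rcases eq_or_ne T Q' with rfl | hT
        · rw [Finsupp.sub_apply, Finsupp.single_eq_same, Finsupp.single_eq_of_ne hQQ.symm] at *
          omega
        · rw [Finsupp.sub_apply, Finsupp.single_eq_of_ne hT, sub_zero]; exact h5)
    haveI := finiteDimensional_L hG (BG - Finsupp.single Q 1 - Finsupp.single Q' 1)
    rw [show _root_.FunFld.L (BG - Finsupp.single Q 1 - Finsupp.single Q' 1) = ⊥ from
      Submodule.finrank_eq_zero.1 h0'] at hmem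
    exact hz0 ((Submodule.mem_bot k).1 hmem)
  obtain ⟨z₂, hz₂0, hz₂L, hz₂1, hz₂2⟩ := hfun Q₁ Q₂ hQ h0
  obtain ⟨z₁, hz₁0, hz₁L, hz₁2, hz₁1⟩ := hfun Q₂ Q₁ hQ.symm (by
    rw [sub_right_comm]; exact h0)
  let gF := _root_.FunFld.genus k F
  let gK := _root_.FunFld.genus k K
  let m : ℕ := 2 * gF + gK
  let A : _root_.FunFld.Divisor k F := Finsupp.single P (m : ℤ)
  obtain ⟨V, hV, hVl, -⟩ := exists_space hK hF hG he he' he₁ he₂ A BG hz₁0 hz₂0 hz₁L hz₂L
    (by omega) (by omega)
  let D : _root_.FunFld.Divisor k K := _root_.FunFld.conorm K A + _root_.FunFld.conorm K BG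
  haveI := finiteDimensional_L hK D
  have hcount := Submodule.finrank_mono hV
  change Module.finrank k V ≤ _root_.FunFld.ell D at hcount
  have hAd : A.deg = m := by rw [deg_single, Rational.deg_eq_one hF]; simp
  have hA := Weil.ell_eq_of_deg_ge hF (D := A) (by rw [hAd]; push_cast [m]; omega)
  have hBGd : BG.deg = (gG : ℤ) := by rw [hBG, deg_sub, hWd, hEd]; omega
  have hDd : D.deg = 2 * (m : ℤ) + 2 * (gG : ℤ) := by
    rw [deg_add, Ext.deg_conorm hF, Ext.deg_conorm hG, hF2, hG2, hAd, hBGd]; rfl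
  have hD := Weil.ell_eq_of_deg_ge hK (D := D) (by rw [hDd]; push_cast [m]; omega)
  rw [hAd] at hA
  rw [hDd] at hD
  omega

/-- Two places glued by both subfields improve the bound. -/
theorem genus_le_of_glued {S S' : Pl} (hSF : Glued F S S') (hSG : Glued G S S') :
    _root_.FunFld.genus k K ≤ 2 * _root_.FunFld.genus k F + 2 * _root_.FunFld.genus k G := by
  classical
  obtain ⟨PS, eS, -, hS⟩ := Ext.exists_place_below hF S
  obtain ⟨PS', eS', -, hS'⟩ := Ext.exists_place_below hF S'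
  obtain ⟨QS, dS, -, hdS⟩ := Ext.exists_place_below hG S
  obtain ⟨QS', dS', -, hdS'⟩ := Ext.exists_place_below hG S'
  obtain ⟨R, R', P, e, e₁, e₂, Q₁, Q₂, he, he', he₁, he₂, hQ, hQ₁, hQ₂⟩ :=
    exists_fibre hK h2 hF hG hF2 hG2 hne {QS, QS'}
  obtain ⟨PA, hPA⟩ := LinSer.Basic.exists_place_notMem hF ({PS, PS'} : Finset _)
  simp only [Finset.mem_insert, Finset.mem_singleton, not_or] at hQ₁ hQ₂ hPA
  obtain ⟨B, hBd, hB0, hBs⟩ := TwoQuotients.exists_nonspecial hG {Q₁, Q₂, QS, QS'}
  have hfun : ∀ Q Q' : _root_.FunFld.Place k G, Q ≠ Q' → B Q = 0 → B Q' = 0 →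
      ∃ z : G, z ≠ 0 ∧ Q.ord z = -1 ∧ 0 ≤ Q'.ord z ∧
        z ∈ _root_.FunFld.L (B + Finsupp.single Q 1) := by
    intro Q Q' hQQ hBQ hBQ'
    have hl := Riemann.riemann hG (B + Finsupp.single Q 1)
    rw [deg_add, deg_single, Rational.deg_eq_one hG, hBd] at hl
    push_cast at hl
    obtain ⟨z, hz0, hz⟩ := Riemann.exists_ne_zero_of_ell_pos
      (D := B + Finsupp.single Q 1) (by omega)
    have h1 := (mem_L_iff_ord.1 hz).resolve_left hz0
    refine ⟨z, hz0, le_antisymm ?_ ?_, ?_, hz⟩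
    · by_contra hlt
      have hzB : z ∈ _root_.FunFld.L B := mem_L_iff_ord.2 (Or.inr fun T => by
        rcases eq_or_ne T Q with rfl | hT
        · rw [hBQ]; omega
        · have := h1 T
          rw [Finsupp.add_apply, Finsupp.single_eq_of_ne hT, add_zero] at this
          exact this)
      haveI := finiteDimensional_L hG B
      rw [show _root_.FunFld.L B = ⊥ from Submodule.finrank_eq_zero.1 hB0] at hzB
      exact hz0 ((Submodule.mem_bot k).1 hzB)
    · have := h1 Q
      rw [Finsupp.add_apply, hBQ, Finsupp.single_eq_same] at this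
      omega
    · have := h1 Q'
      rw [Finsupp.add_apply, hBQ', Finsupp.single_eq_of_ne hQQ.symm] at this
      omega
  obtain ⟨z₁, hz₁0, hz₁1, hz₁2, hz₁L⟩ := hfun Q₁ Q₂ hQ (hBs _ (by simp)) (hBs _ (by simp))
  obtain ⟨z₂, hz₂0, hz₂1, hz₂2, hz₂L⟩ := hfun Q₂ Q₁ hQ.symm (hBs _ (by simp)) (hBs _ (by simp))
  let BG : _root_.FunFld.Divisor k G := B + Finsupp.single Q₁ 1 + Finsupp.single Q₂ 1
  have hz₁B : z₁ ∈ _root_.FunFld.L BG :=
    L_mono (le_add_of_nonneg_right (Finsupp.single_nonneg.2 zero_le_one)) hz₁L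
  have hz₂B : z₂ ∈ _root_.FunFld.L BG :=
    L_mono (by
      intro T
      have h0 : (0 : ℤ) ≤ (Finsupp.single Q₁ (1 : ℤ)) T :=
        (Finsupp.single_nonneg.2 zero_le_one : (0 : _root_.FunFld.Divisor k G) ≤ Finsupp.single Q₁ 1) T
      simp only [BG, Finsupp.add_apply]
      omega) hz₂L
  let gF := _root_.FunFld.genus k F
  let gG := _root_.FunFld.genus k G
  let gK := _root_.FunFld.genus k K
  let m : ℕ := 2 * gF + gK + 1
  let A : _root_.FunFld.Divisor k F := Finsupp.single PA (m : ℤ)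
  obtain ⟨V, hV, hVl, hVf⟩ := exists_space hK hF hG he he' he₁ he₂ A BG hz₁0 hz₂0 hz₁B hz₂B
    (by omega) (by omega)
  let D : _root_.FunFld.Divisor k K := _root_.FunFld.conorm K A + _root_.FunFld.conorm K BG
  -- the divisor avoids the glued places
  have hBGS : BG QS = 0 := by
    simp only [BG, Finsupp.add_apply]
    rw [hBs _ (by simp), Finsupp.single_eq_of_ne (Ne.symm hQ₁.1),
      Finsupp.single_eq_of_ne (Ne.symm hQ₂.1)]
    rfl
  have hBGS' : BG QS' = 0 := by
    simp only [BG, Finsupp.add_apply]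
    rw [hBs _ (by simp), Finsupp.single_eq_of_ne (Ne.symm hQ₁.2),
      Finsupp.single_eq_of_ne (Ne.symm hQ₂.2)]
    rfl
  have hAS : A PS = 0 := Finsupp.single_eq_of_ne (Ne.symm hPA.1)
  have hAS' : A PS' = 0 := Finsupp.single_eq_of_ne (Ne.symm hPA.2)
  have hDS : D S = 0 := by
    show (_root_.FunFld.conorm K A + _root_.FunFld.conorm K BG) S = 0
    rw [Finsupp.add_apply, Ext.conorm_apply hF A hS, Ext.conorm_apply hG BG hdS, hAS, hBGS]; simp
  have hDS' : D S' = 0 := by
    show (_root_.FunFld.conorm K A + _root_.FunFld.conorm K BG) S' = 0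
    rw [Finsupp.add_apply, Ext.conorm_apply hF A hS', Ext.conorm_apply hG BG hdS', hAS', hBGS']; simp
  have hregF : ∀ f : F, f ∈ _root_.FunFld.L A → ∃ c : k, Vanish S S' ((f : K) - algebraMap k K c) :=
    fun f hf => hSF f f.2 (by
      rw [show S.1 (f : K) = PS.1 f ^ eS from hS f]
      exact pow_le_one₀ zero_le ((hf PS).trans_eq (by rw [hAS]; rfl)))
  have hregG : ∀ z : G, z ∈ _root_.FunFld.L BG → ∃ c : k, Vanish S S' ((z : K) - algebraMap k K c) :=
    fun z hz => hSG z z.2 (by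
      rw [show S.1 (z : K) = QS.1 z ^ dS from hdS z]
      exact pow_le_one₀ zero_le ((hz QS).trans_eq (by rw [hBGS]; rfl)))
  have hprod : ∀ (f : F) (z : G), f ∈ _root_.FunFld.L A → z ∈ _root_.FunFld.L BG →
      ∃ c : k, Vanish S S' ((f : K) * (z : K) - algebraMap k K c) := by
    intro f z hf hz
    obtain ⟨a, ha⟩ := hregF f hf
    obtain ⟨b, hb⟩ := hregG z hz
    refine ⟨a * b, ?_⟩
    rw [show (f : K) * (z : K) - algebraMap k K (a * b) =
      ((f : K) - algebraMap k K a) * (z : K) + ((z : K) - algebraMap k K b) * algebraMap k K a by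
        rw [map_mul]; ring]
    exact vanish_add (vanish_mul ha (val_le_one_of_vanish hb).1 (val_le_one_of_vanish hb).2)
      (vanish_mul hb (S.2.1 a) (S'.2.1 a))
  have hAd : A.deg = m := by rw [deg_single, Rational.deg_eq_one hF]; simp
  have hA := Weil.ell_eq_of_deg_ge hF (D := A) (by rw [hAd]; push_cast [m]; omega)
  have hBGd : BG.deg = (gG : ℤ) + 1 := by
    rw [deg_add, deg_add, deg_single, deg_single, Rational.deg_eq_one hG, Rational.deg_eq_one hG, hBd]
    ring
  have hDd : D.deg = 2 * (m : ℤ) + 2 * ((gG : ℤ) + 1) := by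
    rw [deg_add, Ext.deg_conorm hF, Ext.deg_conorm hG, hF2, hG2, hAd, hBGd]; rfl
  -- a section separating the glued places
  haveI := finiteDimensional_L hK D
  have hd1 := Rational.deg_eq_one hK
  have e1 := Weil.ell_eq_of_deg_ge hK (D := D - Finsupp.single S' 1) (by
    rw [deg_sub, deg_single, hd1, hDd]; push_cast [m]; omega)
  have e2 := Weil.ell_eq_of_deg_ge hK (D := D - Finsupp.single S' 1 - Finsupp.single S 1) (by
    rw [deg_sub, deg_sub, deg_single, deg_single, hd1, hd1, hDd]; push_cast [m]; omega)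
  rw [deg_sub (D - Finsupp.single S' 1), deg_single, hd1] at e2
  haveI := finiteDimensional_L hK (D - Finsupp.single S' 1 - Finsupp.single S 1)
  obtain ⟨u, hu, hu'⟩ : ∃ u ∈ _root_.FunFld.L (D - Finsupp.single S' 1),
      u ∉ _root_.FunFld.L (D - Finsupp.single S' 1 - Finsupp.single S 1) := by
    by_contra hcon
    simp only [not_exists, not_and, not_not] at hcon
    have h := Submodule.finrank_mono hcon
    change _root_.FunFld.ell _ ≤ _root_.FunFld.ell _ at h
    push_cast at e2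
    omega
  have huV : u ∉ V := by
    intro huV
    obtain ⟨f, f', hf, hf', rfl⟩ := hVf u huV
    obtain ⟨a, ha⟩ := hprod f z₁ hf hz₁B
    obtain ⟨b, hb⟩ := hprod f' z₂ hf' hz₂B
    have hv := vanish_add ha hb
    rw [show (f : K) * (z₁ : K) - algebraMap k K a + ((f' : K) * (z₂ : K) - algebraMap k K b) =
      (f : K) * (z₁ : K) + (f' : K) * (z₂ : K) - algebraMap k K (a + b) by rw [map_add]; ring] at hv
    set w := (f : K) * (z₁ : K) + (f' : K) * (z₂ : K)
    have hwS' : S'.1 w < 1 := by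
      refine (hu S').trans_lt ?_
      rw [← exp_zero, exp_lt_exp, Finsupp.sub_apply, Finsupp.single_eq_same, hDS']
      norm_num
    have hE : (1 : ℤ) ≤ (Finsupp.single S (1 : ℤ) + Finsupp.single S' 1 : _root_.FunFld.Divisor k K) S' := by
      rw [Finsupp.add_apply, Finsupp.single_eq_same]
      have : (0 : ℤ) ≤ (Finsupp.single S (1 : ℤ)) S' := Finsupp.single_nonneg.2 zero_le_one S'
      omega
    have hab : a + b = 0 := by
      refine LinSys.Chart.const_unique S' (hv.2.trans_lt ?_) (by rwa [map_zero, sub_zero])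
      rw [← exp_zero, exp_lt_exp]; omega
    rw [hab, map_zero, sub_zero] at hv
    refine hu' fun T => ?_
    rw [Finsupp.sub_apply, Finsupp.sub_apply]
    rcases eq_or_ne T S with rfl | hTS
    · refine hv.1.trans (exp_le_exp.2 ?_)
      simp only [Finsupp.add_apply, Finsupp.single_eq_same, hDS]
      omega
    · rw [Finsupp.single_eq_of_ne hTS, sub_zero]
      have h := hu T
      rwa [Finsupp.sub_apply] at h
  have hlt : V < _root_.FunFld.L D := lt_of_le_of_ne hV fun e =>
    huV (e.symm ▸ L_mono (Drop.sub_single_le D S') hu)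
  have hcount := Submodule.finrank_lt_finrank_of_lt hlt
  change Module.finrank k V < _root_.FunFld.ell D at hcount
  have hD := Weil.ell_eq_of_deg_ge hK (D := D) (by rw [hDd]; push_cast [m]; omega)
  rw [hAd] at hA
  rw [hDd] at hD
  omega

end Groth.Agent.Lib.CurveFF.TwoQuotientsSharp
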