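import Groth.Agent.Lib.CurveFF.CoverField
import Groth.Agent.Lib.CurveFF.ClosedImmersionCrit
import Groth.Agent.Lib.CurveFF.TwoQuotientsSharp
import Groth.Agent.Lib.CurveMaps.Basic
import Groth.Agent.Lib.CurveFF.CliffordGenusNine

/-!
Places along a finite cover of curves.
-/

noncomputable section
set_option autoImplicit false
set_option linter.style.haveILetI false
universe u

open CategoryTheory AlgebraicGeometry IntermediateField WithZero
open Groth.Agent.Lib.FunFld.Degree

namespace Groth.Agent.Lib.CurveFF.CoverPlaces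

attribute [local instance] Curv2.stalkAlgebra

variable {k : Type u} [Field k] {X P : Scheme.{u}} [X.Over (Spec (CommRingCat.of k))]
  [P.Over (Spec (CommRingCat.of k))] [IsIntegral X] [IsIntegral P]
  [IsProper (X ↘ Spec (CommRingCat.of k))] [IsProper (P ↘ Spec (CommRingCat.of k))]
  (hX : CurveHyp X) (hP : CurveHyp P) (f : X ⟶ P) (e : f (genericPoint X) = genericPoint P)

include e

theorem val_kMap (x : CPt X) (y : CPt P) (hxy : f x.1 = y.1) (w : P.functionField) :
    ((placeOf k hP y).1 w ≤ 1 → (placeOf k hX x).1 (FieldExt.kMap f e w) ≤ 1) ∧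
      ((placeOf k hP y).1 w < 1 → (placeOf k hX x).1 (FieldExt.kMap f e w) < 1) := by
  obtain ⟨y, hy⟩ := y
  dsimp only at hxy
  subst hxy
  have hlift : (placeOf k hP ⟨f x.1, hy⟩).1 w ≤ 1 →
      ∃ a, algebraMap (P.presheaf.stalk (f x.1)) P.functionField a = w := fun h => by
    haveI := hP.dvr (f x.1) hy
    exact val_placeAt_le_one_iff (k := k).1 h
  refine ⟨fun h => ?_, fun h => ?_⟩
  · obtain ⟨a, rfl⟩ := hlift h
    rw [FieldExt.kMap_algebraMap]
    haveI := hX.dvr x.1 x.2
    exact val_placeAt_le_one_iff.2 ⟨_, rfl⟩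
  · obtain ⟨a, rfl⟩ := hlift h.le
    rw [FieldExt.kMap_algebraMap, ClosedImmersionCrit.val_lt_one_iff hX x]
    rw [ClosedImmersionCrit.val_lt_one_iff hP ⟨f x.1, hy⟩] at h
    exact fun hu => h ((isUnit_map_iff (f.stalkMap x.1).hom a).1 hu)

variable [IsAlgClosed k]

/-- Two points with the same image, or a point where the map has no parameter, are glued. -/
theorem glued (hf : f ≫ (P ↘ Spec (CommRingCat.of k)) = X ↘ Spec (CommRingCat.of k))
    (x x' : CPt X) (y : CPt P) (hx : f x.1 = y.1) (hx' : f x'.1 = y.1)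
    (ht : x = x' → ∀ w, (placeOf k hP y).1 w < 1 →
      (placeOf k hX x).1 (FieldExt.kMap f e w) ≠ exp (-1)) :
    TwoQuotientsSharp.Glued (CoverField.field f hf e).fieldRange (placeOf k hX x) (placeOf k hX x') := by
  classical
  have hKP := isFunctionField (k := k) hP (Curves.GlobalSections.finrank_h0_structure k P)
  rintro _ ⟨w, rfl⟩ hreg
  change (placeOf k hX x).1 (FieldExt.kMap f e w) ≤ 1 at hreg
  have hw : (placeOf k hP y).1 w ≤ 1 := by
    by_contra hlt
    push Not at hlt
    have h1 := (val_kMap hX hP f e x y hx w⁻¹).2 (by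
      rw [map_inv₀]; exact inv_lt_one_of_one_lt₀ hlt)
    rw [map_inv₀, map_inv₀] at h1
    rcases eq_or_ne ((placeOf k hX x).1 (FieldExt.kMap f e w)) 0 with h0 | h0
    · have hw0 : w = 0 := by
        rw [map_eq_zero] at h0
        exact (FieldExt.kMap f e).injective (h0.trans (map_zero _).symm)
      rw [hw0, map_zero] at hlt
      exact absurd hlt (not_lt.2 zero_le_one)
    · exact absurd hreg (not_le.2 (by rwa [inv_lt_one₀ (zero_lt_iff.2 h0)] at h1))
  obtain ⟨c, hc⟩ := FunFld.Hasse.Param.isDegOne hKP (placeOf k hP y) w hw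
  refine ⟨c, ?_⟩
  set z := CoverField.field f hf e w - algebraMap k X.functionField c with hz
  have hzw : z = FieldExt.kMap f e (w - algebraMap k P.functionField c) := by
    rw [hz, ← (CoverField.field f hf e).commutes c, ← map_sub]
    rfl
  have h1 : (placeOf k hX x).1 z < 1 := hzw ▸ (val_kMap hX hP f e x y hx _).2 hc
  have h2 : (placeOf k hX x').1 z < 1 := hzw ▸ (val_kMap hX hP f e x' y hx' _).2 hc
  have conv : ∀ (R : _root_.FunFld.Place k X.functionField), R.1 z < 1 → R.1 z ≤ exp (-1) := by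
    intro R h
    rw [FunFld.Place.val_le_exp_iff]
    exact ((FunFld.Place.val_lt_one_iff R).1 h).imp id fun h => by omega
  rcases eq_or_ne x x' with rfl | hne
  · have h3 : (placeOf k hX x).1 z ≤ exp (-(2 : ℤ)) := by
      have h4 := conv _ h1
      have hn := hzw ▸ ht rfl _ hc
      rcases eq_or_ne z 0 with h0 | h0
      · rw [h0, map_zero]; exact zero_le
      · rw [FunFld.Place.val_eq_exp _ h0, exp_le_exp] at h4 ⊢
        rw [FunFld.Place.val_eq_exp _ h0, Ne, exp_inj] at hn
        omega
    constructor <;> (rw [Finsupp.add_apply, Finsupp.single_eq_same]; exact h3)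
  · have hne' : placeOf k hX x ≠ placeOf k hX x' := fun h => hne (placeOf_injective hX h)
    constructor
    · rw [Finsupp.add_apply, Finsupp.single_eq_same, Finsupp.single_eq_of_ne hne']
      exact conv _ h1
    · rw [Finsupp.add_apply, Finsupp.single_eq_same, Finsupp.single_eq_of_ne hne'.symm]
      exact conv _ h2

omit e [IsAlgClosed k] [IsProper (P ↘ Spec (CommRingCat.of k))] [IsProper (X ↘ Spec (CommRingCat.of k))] in
/-- A parameter of a factor is a parameter. -/
theorem exists_stalk {Z : Scheme.{u}} (r : X ⟶ Z) (p : Z ⟶ P) (f : X ⟶ P) (hf : r ≫ p = f)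
    (e : f (genericPoint X) = genericPoint P) (hP : CurveHyp P) (x : X) (y : CPt P) (hxy : f x = y.1)
    (w : P.functionField) (hw : (placeOf k hP y).1 w ≤ 1) :
    ∃ a : Z.presheaf.stalk (r x), algebraMap (X.presheaf.stalk x) X.functionField (r.stalkMap x a) =
      FieldExt.kMap f e w := by
  obtain ⟨y, hy⟩ := y
  dsimp only at hxy
  subst hxy
  subst hf
  haveI := hP.dvr _ hy
  obtain ⟨b, rfl⟩ := val_placeAt_le_one_iff (k := k).1 hw
  refine ⟨p.stalkMap (r x) b, ?_⟩
  rw [FieldExt.kMap_algebraMap, Scheme.Hom.stalkMap_comp]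
  rfl

omit [IsIntegral X] [IsIntegral P] [IsProper (X ↘ Spec (CommRingCat.of k))]
  [IsProper (P ↘ Spec (CommRingCat.of k))] e in
/-- A pencil of degree two passes to an isomorphic field. -/
theorem exists_g12 {K G : Type u} [Field K] [Field G] [Algebra k K] [Algebra k G]
    (hKP : _root_.FunFld.IsFunctionField k K) (hG : _root_.FunFld.IsFunctionField k G) (ε : K ≃ₐ[k] G)
    {E : _root_.FunFld.Divisor k G} (hd : E.deg = 2) (hl : 2 ≤ _root_.FunFld.ell E) :
    ∃ D : _root_.FunFld.Divisor k K, D.deg = 2 ∧ 2 ≤ _root_.FunFld.ell D := by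
  obtain ⟨E₀, a, hE₀, ha, hEe, hEd⟩ := FunFld.SmallGenus.exists_nonneg hG (E := E) (by omega)
  rw [hEe, FunFld.Riemann.ell_add_div hG _ ha] at hl
  obtain ⟨z, hz, hzr⟩ : ∃ z ∈ _root_.FunFld.L E₀, z ∉ _root_.FunFld.L (0 : _root_.FunFld.Divisor k G) := by
    by_contra hcon
    simp only [not_exists, not_and, not_not] at hcon
    haveI := finiteDimensional_L_zero hG
    have h := Submodule.finrank_mono hcon
    change _root_.FunFld.ell _ ≤ _root_.FunFld.ell _ at h
    rw [ell_zero hG] at h
    omega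
  have hz0 : z ≠ 0 := fun e => hzr (e ▸ zero_mem _)
  obtain ⟨Q, hQ⟩ : ∃ Q : _root_.FunFld.Place k G, Q.ord z < 0 := by
    by_contra hcon
    simp only [not_exists, not_lt] at hcon
    exact hzr (mem_L_iff_ord.2 (Or.inr fun Q => by simpa using hcon Q))
  have hzt : Transcendental k z := FunFld.Existence.transcendental_of_ord_ne_zero hG Q (by omega)
  have hle : poleDiv (k := k) z ≤ E₀ := fun R => by
    rw [poleDiv_apply hG]
    have h1 := ((mem_L_iff_ord.1 hz).resolve_left hz0) R
    have h2 : (0 : ℤ) ≤ E₀ R := hE₀ R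
    omega
  have hdeg := deg_mono hle
  rw [deg_poleDiv hG hzt, hEd, hd] at hdeg
  -- transport
  obtain ⟨w, rfl⟩ := ε.surjective z
  letI : Algebra K G := ε.toAlgHom.toRingHom.toAlgebra
  haveI : IsScalarTower k K G := IsScalarTower.of_algebraMap_eq fun c => (ε.commutes c).symm
  have h1 : Module.finrank K G = 1 :=
    (AlgEquiv.ofBijective (Algebra.ofId K G) ε.bijective).toLinearEquiv.finrank_eq.symm.trans
      (Module.finrank_self _)
  have hwt : Transcendental k w := fun halg => hzt (halg.algHom ε.toAlgHom)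
  have h2 := FunFld.Ext.finrank_adjoin_map (k := k) (K := K) (K' := G) w
  rw [h1, mul_one] at h2
  change Module.finrank (adjoin k ({ε w} : Set G)) G = _ at h2
  rw [h2] at hdeg
  have hpd : (poleDiv (k := k) w).deg ≤ 2 := by rw [deg_poleDiv hKP hwt]; exact hdeg
  have hl2 : 2 ≤ _root_.FunFld.ell (poleDiv (k := k) w) :=
    QuadricPencils.two_le_ell_poleDiv hKP fun c hc =>
      hwt (hc ▸ isAlgebraic_algebraMap c)
  exact CliffordGenusNine.pad hKP hl2 (n := 2) hpd

end Groth.Agent.Lib.CurveFF.CoverPlaces
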