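import Groth.Agent.Lib.CurveFF.CanonicalEmb
import Groth.Agent.Lib.CurveFF.SubLine

/-!
Linear series and embeddings of a curve given by divisors of its function field.
-/

noncomputable section
set_option autoImplicit false
set_option linter.style.haveILetI false
universe u

open CategoryTheory CategoryTheory.Limits AlgebraicGeometry TopologicalSpace Opposite
open Groth.Agent.Lib.FunFld.Degree

namespace Groth.Agent.Lib.CurveFF.DivisorEmb

attribute [local instance] Curv2.stalkAlgebra

variable {k : Type u} [Field k] {X : Scheme.{u}}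
  [X.Over (Spec (CommRingCat.of k))] [IsIntegral X] [IsProper (X ↘ Spec (CommRingCat.of k))]
  (h : CurveHyp X) (hK : _root_.FunFld.IsFunctionField k X.functionField)

include h hK in
/-- A divisor with `r + 1` sections carries a linear series. -/
theorem exists_linSer (D : _root_.FunFld.Divisor k X.functionField) {d r : ℕ}
    (hd : D.deg = d) (hr : r + 1 ≤ _root_.FunFld.ell D) :
    ∃ (L : X.Modules) (s : Fin (r + 1) → LinSer.Sect X L), LinSer.IsLinSer k X L d r s := by
  obtain ⟨P, Q, hQ, hPd⟩ := LineDiv.exists_line h hK D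
  letI := Curves.GlobalSections.secModule k P
  obtain ⟨eQ⟩ := Q.nonempty_h0_equiv h hK
  let e' := (Curves.GlobalSections.h0Linear k P).symm.trans eQ
  haveI := FunFld.Degree.finiteDimensional_L hK (Q.div h hK)
  haveI : Module.Finite k (P.val.obj (Opposite.op ⊤) : Type u) := Module.Finite.equiv e'.symm
  obtain ⟨s, hs2⟩ := exists_linearIndependent_of_le_finrank (R := k)
    (M := (P.val.obj (Opposite.op ⊤) : Type u)) (n := r + 1) (by
      rw [e'.finrank_eq, hQ]; exact hr)
  exact ⟨P, s, Q.inv, by rw [hPd, hd], fun c hc => funext fun i =>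
    Fintype.linearIndependent_iff.1 hs2 c hc i⟩

include h in
/-- An ideal missing the generic point is minus an effective divisor. -/
theorem exists_rep_ideal (J : X.IdealSheafData) (hJ : genericPoint X ∉ (J.support : Set X)) :
    ∃ A : LineDiv.Rep (ClSub.idealMod J), A.div h hK ≤ 0 := by
  have hI := IdealInv.isInvertible (k := k) h J hJ
  let T := LineDiv.trivRep (PicLoc.isInvertible_structureModule X)
  let φ : ClSub.idealMod J ⟶ Coh.structureModule X := ClSub.idealModι J
  haveI : Mono φ := inferInstanceAs (Mono (kernel.ι (ClSub.toSubscheme J)))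
  obtain ⟨R⟩ := LineDiv.nonempty_rep hI
  have hφ : φ ≠ 0 := fun e => by
    have h1 : (𝟙 (ClSub.idealMod J) : ClSub.idealMod J ⟶ ClSub.idealMod J) = 0 := by
      rw [← cancel_mono φ, e]; simp
    have h2 := congrArg (fun ψ => Modules.StalkModule.stalkMapₗ ψ (genericPoint X)
      (R.gen (genericPoint X))) h1
    simp only [Modules.StalkModule.stalkMapₗ_id, Modules.StalkModule.stalkMapₗ_zero, LinearMap.id_apply,
      LinearMap.zero_apply] at h2
    exact R.gen_ne (genericPoint X) (by rw [h2, map_zero])
  refine ⟨T.src hI hφ, fun P => ?_⟩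
  obtain ⟨x, rfl⟩ := placeOf_surjective (k := k) h P
  rw [(T.src hI hφ).div_placeOf]
  exact (LineDiv.e_le_of_hom h (fun y v => T.src_pr hI hφ y v) x).trans_eq (LineDiv.trivRep_e h _ x)

variable [IsAlgClosed k]

include h hK in
/-- A very ample divisor embeds the curve. -/
theorem exists_embedding (D : _root_.FunFld.Divisor k X.functionField) {n : ℕ}
    (hn : _root_.FunFld.ell D = n + 1) (h2 : 1 ≤ n)
    (hb : ∀ P, _root_.FunFld.ell (D - Finsupp.single P 1) < _root_.FunFld.ell D)
    (hv : ∀ P Q, _root_.FunFld.ell (D - Finsupp.single P 1 - Finsupp.single Q 1) + 2 ≤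
      _root_.FunFld.ell D) :
    ∃ (L : X.Modules) (R : LineDiv.Rep L) (i : X ⟶ CohB1.ProjSpace n k),
      R.div h hK = D ∧ IsClosedImmersion i ∧
      i ≫ CohB1.ProjSpace.toSpec n k = X ↘ Spec (CommRingCat.of k) ∧
      Nonempty ((Scheme.Modules.pullback i).obj (Twist.twistProjSpace n k 1) ≅ L) := by
  obtain ⟨L, R, hR, -⟩ := LineDiv.exists_line h hK D
  haveI := Curves.GlobalSections.isNoetherian_of_proper k X
  have hgg : Curv2.IsGloballyGenerated L := by
    rw [Curves.PointIdeal.isGloballyGenerated_iff (k := k) h.dim.le R.inv]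
    intro x hx
    obtain ⟨J, hJ⟩ := IdealInv.exists_rep_point h hK ⟨x, hx⟩
    show Module.finrank k _ < Module.finrank k _
    rw [(J.mul R).finrank_h0 h hK, R.finrank_h0 h hK, J.div_mul, hJ, hR, neg_add_eq_sub]
    exact hb _
  have hsep : Curves.SepCriterion.Separates k L := by
    intro J hJ hle
    obtain ⟨A, hA⟩ := exists_rep_ideal h hK J hJ
    have hI := IdealInv.isInvertible (k := k) h J hJ
    have hd : (A.div h hK).deg = -(Curves.Euler.hdim k X (ClSub.quotMod J) 0 : ℤ) := by
      rw [← A.deg_eq, Curves.Degree.deg_idealMod h.dim.le hI hJ]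
    change Module.finrank k _ ≤ Module.finrank k _ + 1 at hle
    rw [(A.mul R).finrank_h0 h hK, R.finrank_h0 h hK, A.div_mul, hR] at hle
    by_contra hlen
    push Not at hlen
    set E := -A.div h hK with hE
    have hE0 : 0 ≤ E := neg_nonneg.2 hA
    have hEd : 2 ≤ E.deg := by rw [hE, deg_neg, hd]; omega
    obtain ⟨P, hP⟩ : ∃ P, 1 ≤ E P := by
      by_contra hcon
      simp only [not_exists, not_le] at hcon
      have := deg_mono (show E ≤ 0 from fun P => Int.lt_add_one_iff.1 (hcon P))
      rw [FunFld.Degree.deg_zero] at this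
      omega
    obtain ⟨Q, hQ⟩ : ∃ Q, 1 ≤ (E - Finsupp.single P 1 : _root_.FunFld.Divisor k X.functionField) Q := by
      by_contra hcon
      simp only [not_exists, not_le] at hcon
      have := deg_mono (show (E - Finsupp.single P 1 : _root_.FunFld.Divisor k X.functionField) ≤ 0
        from fun Q => Int.lt_add_one_iff.1 (hcon Q))
      rw [FunFld.Degree.deg_zero, deg_sub, deg_single, FunFld.Rational.deg_eq_one hK P] at this
      omega
    have hle2 : A.div h hK + D ≤ D - Finsupp.single P 1 - Finsupp.single Q 1 := by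
      intro T
      rw [Finsupp.sub_apply] at hQ
      have h0 : (0 : ℤ) ≤ E T := hE0 T
      have hET : E T = -A.div h hK T := by rw [hE, Finsupp.neg_apply]
      clear_value E
      clear hE
      classical
      simp only [Finsupp.add_apply, Finsupp.sub_apply, Finsupp.single_apply] at hQ ⊢
      split_ifs at hQ ⊢ <;> subst_vars <;> first | omega | contradiction
    haveI := finiteDimensional_L hK (D - Finsupp.single P 1 - Finsupp.single Q 1)
    have h4 := Submodule.finrank_mono (L_mono hle2)
    have h5 := hv P Q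
    change _root_.FunFld.ell _ ≤ _root_.FunFld.ell _ at h4
    omega
  letI := Curves.GlobalSections.secModule k L
  haveI : Module.Finite k (L.val.obj (op ⊤) : Type u) := by
    haveI := (Curves.Degree.isGood (k := k) h.dim.le R.inv).fin₀
    exact Module.Finite.equiv (Curves.GlobalSections.h0Linear k L)
  have hfr : Module.finrank k (L.val.obj (op ⊤) : Type u) = n + 1 :=
    (Curves.GlobalSections.h0Linear k L).finrank_eq.symm.trans ((R.finrank_h0 h hK).trans (hR.symm ▸ hn))
  let b := Module.finBasisOfFinrankEq k (L.val.obj (op ⊤) : Type u) hfr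
  let s : Fin (n + 1) → Γ(L, ⊤) := fun i => b i
  obtain ⟨r, hr, τ, hτ⟩ := ProjMor.Poly.exists_map n k (X ↘ Spec (CommRingCat.of k)) L R.inv s
    (Curves.VeryAmple.generatedBy_of_span hgg s b.span_eq)
  refine ⟨L, R, r, hR, ?_, hr, ⟨τ⟩⟩
  letI : (CohB1.ProjSpace n k).Over (Spec (CommRingCat.of k)) := ⟨CohB1.ProjSpace.toSpec n k⟩
  haveI := ProjSpace.Basic.isProper_toSpec n k
  haveI : LocallyOfFiniteType (CohB1.ProjSpace n k ↘ Spec (CommRingCat.of k)) :=
    inferInstanceAs (LocallyOfFiniteType (CohB1.ProjSpace.toSpec n k))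
  haveI : IsSeparated (CohB1.ProjSpace n k ↘ Spec (CommRingCat.of k)) :=
    inferInstanceAs (IsSeparated (CohB1.ProjSpace.toSpec n k))
  refine Curves.SepCriterion.isClosedImmersion r hr h.dim R.inv s b.span_eq ?_ ?_ hsep
  · show 2 ≤ Module.finrank k (Coh.HH X L 0)
    rw [R.finrank_h0 h hK, hR, hn]; omega
  · intro x
    exact Curves.VeryAmple.exists_charts s r τ hτ x

end Groth.Agent.Lib.CurveFF.DivisorEmb
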