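import Groth.Agent.Lib.CurveFF.GenusZeroSub
import Groth.Agent.Lib.CurveFF.MapOfField
import Groth.Agent.Lib.CurveFF.Consts
import Groth.Agent.Lib.CurveFF.Genus

/-!
The subfield of a double cover of a genus zero curve.
-/

noncomputable section
set_option autoImplicit false
set_option linter.style.haveILetI false
universe u

open CategoryTheory AlgebraicGeometry IntermediateField

namespace Groth.Agent.Lib.CurveFF.DoubleUnique

attribute [local instance] Curv2.stalkAlgebra

variable {k : Type u} [Field k] {C P : Scheme.{u}} [C.Over (Spec (CommRingCat.of k))]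
  [P.Over (Spec (CommRingCat.of k))] [IsIntegral C] [IsIntegral P]
  [IsProper (C ↘ Spec (CommRingCat.of k))] [IsProper (P ↘ Spec (CommRingCat.of k))]
  [Smooth (P ↘ Spec (CommRingCat.of k))] [GeometricallyConnected (P ↘ Spec (CommRingCat.of k))]

/-- The field map of a morphism. -/
def fieldHom (f : C ⟶ P) (hf : f ≫ (P ↘ Spec (CommRingCat.of k)) = C ↘ Spec (CommRingCat.of k))
    (e : f (genericPoint C) = genericPoint P) : P.functionField →ₐ[k] C.functionField :=
  { FieldExt.kMap f e with commutes' := AutoMap.kMap_const f hf e }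

/-- The subfield of a degree two map to a curve of genus zero. -/
theorem facts (hC : _root_.FunFld.IsFunctionField k C.functionField) (hP : topologicalKrullDim P = 1)
    (hg : Curv2.genus k P = 0) (f : C ⟶ P) [IsFinite f] [Flat f]
    (hf : f ≫ (P ↘ Spec (CommRingCat.of k)) = C ↘ Spec (CommRingCat.of k))
    (hr : ∀ y, f.finrank y = 2) (e : f (genericPoint C) = genericPoint P) :
    FiniteDimensional (fieldHom f hf e).fieldRange C.functionField ∧
      _root_.FunFld.IsFunctionField k (fieldHom f hf e).fieldRange ∧
      _root_.FunFld.genus k (fieldHom f hf e).fieldRange = 0 ∧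
      Module.finrank (fieldHom f hf e).fieldRange C.functionField = 2 := by
  have hc := curveHyp_of_smooth k hP
  have h0 := finrank_h0_eq_one k P
  have hKP := isFunctionField (k := k) hc h0
  let θ := fieldHom f hf e
  let ε : P.functionField ≃ₐ[k] θ.fieldRange := AlgEquiv.ofInjectiveField θ
  have ht : ∃ x ∈ θ.fieldRange, Transcendental k x := by
    obtain ⟨t, ht⟩ := FunFld.Riemann.exists_transcendental hKP
    exact ⟨θ t, ⟨t, rfl⟩, fun halg => ht ((isAlgebraic_algHom_iff θ θ.injective).1 halg)⟩
  obtain ⟨hfd, hF⟩ := H81.FunFldSub.finiteDimensional_over hC θ.fieldRange ht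
  refine ⟨hfd, hF, ?_, ?_⟩
  · letI : Algebra P.functionField θ.fieldRange := ε.toAlgHom.toRingHom.toAlgebra
    haveI : IsScalarTower k P.functionField θ.fieldRange :=
      IsScalarTower.of_algebraMap_eq fun c => (ε.commutes c).symm
    rw [← GenusZeroSub.genus_eq_of_surjective hKP hF ε.surjective, ← genus_eq hc h0, hg]
  · have h2 := (FieldExt.finrank_eq f e).1
    rw [← MapOfField.finrank_eq f e (genericPoint P), hr] at h2
    refine Eq.trans ?_ h2
    letI := (FieldExt.kMap f e).toAlgebra
    exact (Algebra.finrank_eq_of_equiv_equiv ε.toRingEquiv (RingEquiv.refl C.functionField)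
      (RingHom.ext fun _ => rfl)).symm

end Groth.Agent.Lib.CurveFF.DoubleUnique
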