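import Groth.Agent.Lib.CurveFF.Drop
import Groth.Agent.Lib.FunFld.Different.Basic
import Groth.Agent.Lib.FunFld.Res.Omega
import Groth.Agent.H81.Diff.Basic
import Groth.Agent.Lib.FunFld.Hasse.Param
import Groth.Agent.Lib.CurveFF.CoverPlaces
import Groth.Agent.H34.SmoothCurveStalk
import Groth.Agent.Lib.AlgSpDecent.SpecOrder

/-!
A function whose differential has zeros only where it has zeros or poles.
-/

noncomputable section
set_option autoImplicit false
universe u v

open CategoryTheory AlgebraicGeometry TopologicalSpace WithZero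
open Groth.Agent.Lib.FunFld Groth.Agent.Lib.FunFld.Degree

namespace Groth.Agent.Lib.CurveFF.EtaleTwo

attribute [local instance] Curv2.stalkAlgebra

/-- A function etale away from zero and infinity has one zero, one pole, and the field is rational. -/
theorem of_unramified {k : Type u} [Field k] [IsAlgClosed k] [CharZero k] {K : Type u} [Field K]
    [Algebra k K] (hK : _root_.FunFld.IsFunctionField k K) {T : K} (hT : Transcendental k T)
    (hun : ∀ Q : _root_.FunFld.Place k K, Q.ord T = 0 →
      ∃ c : k, Q.1 (T - algebraMap k K c) = exp (-1)) :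
    _root_.FunFld.genus k K = 0 ∧
      (∀ Q Q' : _root_.FunFld.Place k K, 0 < Q.ord T → 0 < Q'.ord T → Q = Q') ∧
      ∀ Q Q' : _root_.FunFld.Place k K, Q.ord T < 0 → Q'.ord T < 0 → Q = Q' := by
  classical
  have hT0 := Bound.ne_zero_of_transcendental hT
  have hsep := Hasse.Separable.exists_isSep hK
  choose t ht0 ht using fun Q : _root_.FunFld.Place k K => Place.exists_uniformizer Q
  choose Φ hΦ hΦt using fun Q => Hasse.Param.exists_expansion hK (ht Q)
  obtain ⟨Z, hZ⟩ := Existence.exists_zero hK hT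
  obtain ⟨P, hP⟩ := Existence.exists_pole hK hT
  have hv : ∀ Q, Q.ord T ≠ 0 →
      Valued.v (LocRes.D k (Φ Q T)) = exp (-(Q.ord T - 1)) := fun Q hQ =>
    (Different.val_D (n := Q.ord T) ((hΦ Q).1 T |>.trans (Place.val_eq_exp Q hT0))).1
      (Int.cast_ne_zero.2 hQ)
  have hv0 : ∀ Q, Q.ord T = 0 → Valued.v (LocRes.D k (Φ Q T)) = 1 := by
    intro Q hQ
    obtain ⟨c, hc⟩ := hun Q hQ
    rw [← (H81.Diff.Basic.isSep_uniformizer hK hsep (hΦ Q) hc).1, map_sub, map_sub,
      LocRes.map_algebraMap, LocRes.D_apply k (HahnSeries.C _), LocRes.derivative_C, sub_zero]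
  have hDT : KaehlerDifferential.D k K T ≠ 0 := fun h0 => by
    have h1 := hv Z hZ.ne'
    rw [Res.SepRes.D_eq_zero_of_kaehler (Φ Z) h0, map_zero] at h1
    exact exp_ne_zero h1.symm
  obtain ⟨C, hC, hCT⟩ := Res.Omega.exists_canonical (F := fun _ => k) Φ hΦ hK hsep
    (inv_ne_zero hT0) hDT
  set S := (finite_support_ord hK T).toFinset with hS
  have hval : C = -Drop.ind S := by
    ext Q
    rw [hCT, Finsupp.neg_apply, Drop.ind_apply, LocRes.ordDiff, LocRes.vDiff, map_mul, (hΦ Q).1,
      Place.val_eq_exp Q (inv_ne_zero hT0), Place.ord_inv]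
    rcases eq_or_ne (Q.ord T) 0 with h | h
    · rw [hv0 Q h, h, if_neg (by simp [hS, h]), mul_one, log_exp]; simp
    · rw [hv Q h, ← exp_add, log_exp, if_pos (by simp [hS, h])]; ring
  have hdeg := Weil.deg_canonical hK hC
  rw [hval, deg_neg, Drop.deg_ind hK] at hdeg
  have hmem : ∀ Q : _root_.FunFld.Place k K, Q.ord T ≠ 0 → Q ∈ S := fun Q h => by simp [hS, h]
  have h2 : ({Z, P} : Finset (_root_.FunFld.Place k K)) ⊆ S := by
    intro Q hQ
    simp only [Finset.mem_insert, Finset.mem_singleton] at hQ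
    rcases hQ with rfl | rfl
    exacts [hmem _ hZ.ne', hmem _ hP.ne]
  have hZP : Z ≠ P := fun h => by rw [h] at hZ; omega
  have h3 := Finset.card_le_card h2
  rw [Finset.card_pair hZP] at h3
  have hS2 : S = {Z, P} := (Finset.eq_of_subset_of_card_le h2 (by rw [Finset.card_pair hZP]; omega)).symm
  refine ⟨by omega, fun Q Q' h h' => ?_, fun Q Q' h h' => ?_⟩
  · have a := hmem Q h.ne'
    have b := hmem Q' h'.ne'
    simp only [hS2, Finset.mem_insert, Finset.mem_singleton] at a b
    rcases a with rfl | rfl <;> rcases b with rfl | rfl <;> first | rfl | omega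
  · have a := hmem Q h.ne
    have b := hmem Q' h'.ne
    simp only [hS2, Finset.mem_insert, Finset.mem_singleton] at a b
    rcases a with rfl | rfl <;> rcases b with rfl | rfl <;> first | rfl | omega

variable {k : Type u} [Field k]

/-- A smooth connected proper scheme of relative dimension one is a curve. -/
theorem curveHyp_of_relDim (X : Scheme.{u}) [X.Over (Spec (CommRingCat.of k))] [IsIntegral X]
    [IsProper (X ↘ Spec (CommRingCat.of k))]
    [SmoothOfRelativeDimension 1 (X ↘ Spec (CommRingCat.of k))] : CurveHyp X := by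
  have hdvr : ∀ x : X, IsClosed ({x} : Set X) → IsDiscreteValuationRing (X.presheaf.stalk x) := by
    intro x hx
    obtain ⟨-, -, hd, h⟩ := Groth.Agent.H34.SmoothCurveStalk.closedPoint_facts k X x hx
      ⟨⊤, trivial, smoothOfRelativeDimension_comp 0 1 _ _⟩
    exact h
  refine ⟨?_, hdvr⟩
  haveI : IsLocallyNoetherian X :=
    LocallyOfFiniteType.isLocallyNoetherian (X ↘ Spec (CommRingCat.of k))
  haveI := Curves.GlobalSections.isNoetherian_of_proper k X
  letI := specializationPreorder X
  have hcl : ∀ z : X, ∃ c : X, IsClosed ({c} : Set X) ∧ z ⤳ c := fun z => by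
    obtain ⟨c, hc, hc'⟩ := IsClosed.exists_closed_singleton (isClosed_closure (s := ({z} : Set X)))
      ⟨z, subset_closure rfl⟩
    exact ⟨c, hc', specializes_iff_mem_closure.2 hc⟩
  have hone : ∀ c : X, IsClosed ({c} : Set X) →
      (AlgSpDecent.SpecOrder.cohtPt c : WithBot ℕ∞) = 1 := by
    intro c hc
    haveI := hdvr c hc
    refine (AlgebraicGeometry.ringKrullDim_stalk_eq_coheight c).symm.trans ?_
    exact IsDiscreteValuationRing.ringKrullDim_eq_one _
  rw [AlgSpDecent.SpecOrder.topologicalKrullDim_eq_iSup]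
  refine le_antisymm (iSup_le fun z => ?_) ?_
  · obtain ⟨c, hc, hzc⟩ := hcl z
    rw [← hone c hc]
    exact WithBot.coe_le_coe.2 (Order.coheight_anti (show c ≤ z from hzc))
  · obtain ⟨c, hc, -⟩ := hcl (genericPoint X)
    rw [← hone c hc]
    exact le_iSup (fun z : X => (AlgSpDecent.SpecOrder.cohtPt z : WithBot ℕ∞)) c

variable [IsAlgClosed k] {X P : Scheme.{u}} [X.Over (Spec (CommRingCat.of k))]
  [P.Over (Spec (CommRingCat.of k))] [IsIntegral X] [IsIntegral P]
  [IsProper (X ↘ Spec (CommRingCat.of k))] [IsProper (P ↘ Spec (CommRingCat.of k))]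

/-- A parameter below pulls back to a parameter at an unramified point. -/
theorem val_uniformizer (hX : CurveHyp X) (hP : CurveHyp P) (f : X ⟶ P) [LocallyOfFiniteType f]
    (e : f (genericPoint X) = genericPoint P) (x : CPt X) (y : CPt P) (hxy : f x.1 = y.1)
    (hu : (f.stalkMap x.1).hom.FormallyUnramified) (w : P.functionField)
    (hw : (placeOf k hP y).1 w = exp (-1)) :
    (placeOf k hX x).1 (FieldExt.kMap f e w) = exp (-1) := by
  obtain ⟨y, hy⟩ := y
  dsimp only at hxy
  subst hxy
  set Q := placeOf k hX x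
  set R := placeOf k hP ⟨f x.1, hy⟩
  haveI := hP.dvr (f x.1) hy
  haveI := hX.dvr x.1 x.2
  let Oy := P.presheaf.stalk (f x.1)
  let Ox := X.presheaf.stalk x.1
  letI : Algebra Oy Ox := (f.stalkMap x.1).hom.toAlgebra
  haveI : IsLocalHom (algebraMap Oy Ox) := inferInstanceAs <| IsLocalHom (f.stalkMap x.1).hom
  haveI : Algebra.EssFiniteType Oy Ox := LocallyOfFiniteType.stalkMap f x.1
  haveI : Algebra.FormallyUnramified Oy Ox := hu
  obtain ⟨a, rfl⟩ := (mem_O_placeOf hP ⟨f x.1, hy⟩).1 (show R.1 w ≤ 1 by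
    rw [hw, ← exp_zero, exp_le_exp]; norm_num)
  rw [FieldExt.kMap_algebraMap]
  obtain ⟨z, hz⟩ := Place.exists_val_eq_exp Q (-1)
  obtain ⟨s, rfl⟩ := (mem_O_placeOf hX x).1 (show Q.1 z ≤ 1 by rw [hz, ← exp_zero, exp_le_exp]; norm_num)
  have hlt : Q.1 (algebraMap Ox X.functionField s) < 1 := by
    rw [hz, ← exp_zero, exp_lt_exp]; norm_num
  have hs : s ∈ IsLocalRing.maximalIdeal Ox := (IsLocalRing.mem_maximalIdeal _).2 ((ClosedImmersionCrit.val_lt_one_iff hX x s).1 hlt)
  rw [← Algebra.FormallyUnramified.map_maximalIdeal (R := Oy) (S := Ox)] at hs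
  have hle : IsLocalRing.maximalIdeal Oy ≤ Ideal.span {a} := by
    intro b hb
    have hb' : R.1 (algebraMap Oy P.functionField b) ≤ exp (-1) := by
      have h1 : R.1 (algebraMap Oy P.functionField b) < 1 :=
        (ClosedImmersionCrit.val_lt_one_iff hP ⟨f x.1, hy⟩ b).2 ((IsLocalRing.mem_maximalIdeal _).1 hb)
      rw [Place.val_le_exp_iff]
      exact ((Place.val_lt_one_iff R).1 h1).imp id fun h => by omega
    obtain ⟨r, hr⟩ := (mem_O_placeOf hP ⟨f x.1, hy⟩).1 (show R.1 (algebraMap Oy P.functionField b /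
        algebraMap Oy P.functionField a) ≤ 1 by
      rw [map_div₀, hw]; exact (div_le_one₀ exp_pos).2 hb')
    have ha0 : algebraMap Oy P.functionField a ≠ 0 := fun h0 => by
      rw [h0, map_zero] at hw; exact exp_ne_zero hw.symm
    refine Ideal.mem_span_singleton.2 ⟨r, IsFractionRing.injective Oy P.functionField ?_⟩
    rw [map_mul, hr, mul_div_cancel₀ _ ha0]
  obtain ⟨r, hr⟩ := Ideal.mem_span_singleton.1
    (show s ∈ Ideal.span {algebraMap Oy Ox a} from by
      rw [← Set.image_singleton (f := algebraMap Oy Ox) (a := a), ← Ideal.map_span]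
      exact Ideal.map_mono hle hs)
  refine le_antisymm ?_ ?_
  · have h1 : R.1 (algebraMap Oy P.functionField a) < 1 := by
      rw [hw, ← exp_zero, exp_lt_exp]; norm_num
    have h2 := (CoverPlaces.val_kMap hX hP f e x ⟨f x.1, hy⟩ rfl _).2 h1
    rw [FieldExt.kMap_algebraMap] at h2
    rw [Place.val_le_exp_iff]
    exact ((Place.val_lt_one_iff Q).1 h2).imp id fun h => by omega
  · rw [← hz, hr, map_mul, map_mul]
    exact mul_le_of_le_one_right' ((mem_O_placeOf hX x).2 ⟨r, rfl⟩)

end Groth.Agent.Lib.CurveFF.EtaleTwo
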