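import Groth.Agent.Lib.CurveFF.Genus
import Groth.Agent.Lib.CurveFF.ClosedImmersionCrit
import Groth.Agent.Lib.CurveFF.Consts
import Groth.Agent.Lib.FunFld.Weil
import Mathlib.AlgebraicGeometry.AlgClosed.Basic

/-!
Evaluation of sections at rational points and independence at general points.
-/

noncomputable section
set_option autoImplicit false
set_option linter.style.haveILetI false
universe u

open CategoryTheory CategoryTheory.Limits AlgebraicGeometry TopologicalSpace WithZero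

namespace Groth.Agent.Lib.CurveFF.GeneralPoints

attribute [local instance] Curv2.stalkAlgebra

open Groth.Agent.Lib.Curves.PolePoint (cst)

variable {k : Type u} [Field k] {X : Scheme.{u}}

/-- The value of a section at a rational point. -/
def ev {V : X.Opens} (p : Spec (CommRingCat.of k) ⟶ X) (hp : ⊤ ≤ p ⁻¹ᵁ V) : Γ(X, V) →+* k :=
  (p.appLE V ⊤ hp ≫ (Scheme.ΓSpecIso (CommRingCat.of k)).hom).hom

theorem ev_ne_zero_iff {V : X.Opens} (p : Spec (CommRingCat.of k) ⟶ X) (hp : ⊤ ≤ p ⁻¹ᵁ V) (s : Γ(X, V)) :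
    ev p hp s ≠ 0 ↔ p (IsLocalRing.closedPoint k) ∈ X.basicOpen s := by
  have h : ev p hp s = (Scheme.ΓSpecIso (CommRingCat.of k)).hom (p.appLE V ⊤ hp s) := rfl
  rw [h, ← isUnit_iff_ne_zero]
  constructor
  · intro hu
    have hu' : IsUnit (p.appLE V ⊤ hp s) := by
      have := hu.map (Scheme.ΓSpecIso (CommRingCat.of k)).inv.hom
      rwa [Iso.hom_inv_id_apply] at this
    have h1 : IsLocalRing.closedPoint k ∈ (Spec (CommRingCat.of k)).basicOpen (p.appLE V ⊤ hp s) := by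
      rw [Scheme.basicOpen_of_isUnit _ hu']; trivial
    rw [Scheme.basicOpen_appLE] at h1
    exact h1.2
  · intro hm
    have h1 : IsLocalRing.closedPoint k ∈ (Spec (CommRingCat.of k)).basicOpen (p.appLE V ⊤ hp s) := by
      rw [Scheme.basicOpen_appLE]
      exact ⟨trivial, hm⟩
    by_contra hnu
    have h0 : p.appLE V ⊤ hp s = 0 := by
      rw [isUnit_iff_ne_zero, ne_eq, not_not] at hnu
      have := congrArg (Scheme.ΓSpecIso (CommRingCat.of k)).inv hnu
      rwa [Iso.hom_inv_id_apply, map_zero] at this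
    rw [h0, Scheme.basicOpen_zero] at h1
    exact h1

variable [X.Over (Spec (CommRingCat.of k))]

theorem ev_cst {V : X.Opens} (p : Spec (CommRingCat.of k) ⟶ X)
    (hp' : p ≫ (X ↘ Spec (CommRingCat.of k)) = 𝟙 _) (hp : ⊤ ≤ p ⁻¹ᵁ V) (c : k) :
    ev p hp (cst k V c) = c := by
  have h : (X ↘ Spec (CommRingCat.of k)).appLE ⊤ V le_top ≫ p.appLE V ⊤ hp = 𝟙 _ := by
    have hid : ∀ (q : Spec (CommRingCat.of k) ⟶ Spec (CommRingCat.of k)), q = 𝟙 _ →
        ∀ e, q.appLE ⊤ ⊤ e = 𝟙 _ := by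
      rintro q rfl e
      exact (congrArg (_ ≫ ·) ((Spec (CommRingCat.of k)).presheaf.map_id _)).trans (Category.comp_id _)
    exact (Scheme.Hom.appLE_comp_appLE p (X ↘ Spec (CommRingCat.of k)) ⊤ V ⊤ le_top hp).trans
      (hid _ hp' _)
  show (Scheme.ΓSpecIso (CommRingCat.of k)).hom (p.appLE V ⊤ hp
    ((X ↘ Spec (CommRingCat.of k)).appLE ⊤ V le_top ((Scheme.ΓSpecIso (CommRingCat.of k)).inv c))) = c
  rw [← CommRingCat.comp_apply (f := (X ↘ Spec (CommRingCat.of k)).appLE ⊤ V le_top), h]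
  exact Iso.inv_hom_id_apply (Scheme.ΓSpecIso (CommRingCat.of k)) c

variable [IsAlgClosed k] [IsIntegral X] [IsProper (X ↘ Spec (CommRingCat.of k))]

/-- A nonzero section is nonzero at some rational point. -/
theorem exists_point {V : X.Opens} {s : Γ(X, V)} (hs : s ≠ 0) :
    ∃ (p : Spec (CommRingCat.of k) ⟶ X) (hp : ⊤ ≤ p ⁻¹ᵁ V),
      p ≫ (X ↘ Spec (CommRingCat.of k)) = 𝟙 _ ∧ ev p hp s ≠ 0 := by
  haveI : JacobsonSpace X := LocallyOfFiniteType.jacobsonSpace (X ↘ Spec (CommRingCat.of k))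
  have hne : (X.basicOpen s : Set X).Nonempty := by
    by_contra h
    exact hs ((AlgebraicGeometry.basicOpen_eq_bot_iff s).1
      (Opens.ext (Set.not_nonempty_iff_eq_empty.1 h)))
  obtain ⟨y, hy, hyc⟩ := nonempty_inter_closedPoints hne (X.basicOpen s).2.isLocallyClosed
  obtain ⟨⟨p, hp'⟩, hpy⟩ := (pointEquivClosedPoint (X ↘ Spec (CommRingCat.of k))).surjective ⟨y, hyc⟩
  have hpy' : p (IsLocalRing.closedPoint k) = y := congrArg Subtype.val hpy
  have hp : ⊤ ≤ p ⁻¹ᵁ V := fun z _ => by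
    show p z ∈ V
    rw [Subsingleton.elim z (IsLocalRing.closedPoint k), hpy']
    exact X.basicOpen_le s hy
  exact ⟨p, hp, hp', (ev_ne_zero_iff p hp s).2 (hpy' ▸ hy)⟩

/-- A linear combination of sections. -/
def comb {V : X.Opens} {g : ℕ} (s : Fin g → Γ(X, V)) (c : Fin g → k) : Γ(X, V) :=
  ∑ a, cst k V (c a) * s a

omit [IsAlgClosed k] [IsIntegral X] [IsProper (X ↘ Spec (CommRingCat.of k))] in
theorem ev_comb {V : X.Opens} {g : ℕ} (s : Fin g → Γ(X, V)) (c : Fin g → k)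
    (p : Spec (CommRingCat.of k) ⟶ X) (hp' : p ≫ (X ↘ Spec (CommRingCat.of k)) = 𝟙 _)
    (hp : ⊤ ≤ p ⁻¹ᵁ V) : ev p hp (comb s c) = ∑ a, c a * ev p hp (s a) := by
  simp only [comb, map_sum, map_mul, ev_cst p hp' hp]

/-- Independent sections have independent values at suitable points. -/
theorem exists_points {V : X.Opens} {g : ℕ} (s : Fin g → Γ(X, V))
    (hind : ∀ c : Fin g → k, comb s c = 0 → c = 0) :
    ∀ n : ℕ, n ≤ g → ∃ (P : Fin n → (Spec (CommRingCat.of k) ⟶ X)) (hP : ∀ b, ⊤ ≤ P b ⁻¹ᵁ V),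
      (∀ b, P b ≫ (X ↘ Spec (CommRingCat.of k)) = 𝟙 _) ∧
      ∀ y : Fin n → k, ∃ c : Fin g → k, ∀ b, ∑ a, c a * ev (P b) (hP b) (s a) = y b := by
  intro n
  induction n with
  | zero => exact fun _ => ⟨Fin.elim0, fun b => b.elim0, fun b => b.elim0, fun y => ⟨0, fun b => b.elim0⟩⟩
  | succ n ih =>
    intro hn
    obtain ⟨P, hP, hP', hspan⟩ := ih (by omega)
    let T : (Fin g → k) →ₗ[k] (Fin n → k) :=
      LinearMap.pi fun b => ∑ a, (ev (P b) (hP b) (s a)) • LinearMap.proj a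
    have hT : ∀ c b, T c b = ∑ a, c a * ev (P b) (hP b) (s a) := fun c b => by
      simp [T, LinearMap.sum_apply, mul_comm]
    have hker : LinearMap.ker T ≠ ⊥ := fun h => by
      have := LinearMap.finrank_le_finrank_of_injective (LinearMap.ker_eq_bot.1 h)
      simp at this
      omega
    obtain ⟨c₀, hc₀, hne⟩ := (Submodule.ne_bot_iff _).1 hker
    obtain ⟨Q, hQ, hQ', hQne⟩ := exists_point (k := k) (s := comb s c₀) fun h => hne (hind c₀ h)
    rw [ev_comb s c₀ Q hQ' hQ] at hQne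
    refine ⟨Fin.snoc P Q, fun b => ?_, fun b => ?_, fun y => ?_⟩
    · induction b using Fin.lastCases <;> simp [hQ, hP]
    · induction b using Fin.lastCases <;> simp [hQ', hP']
    obtain ⟨c, hc⟩ := hspan fun b => y b.castSucc
    let t : k := (y (Fin.last n) - ∑ a, c a * ev Q hQ (s a)) / ∑ a, c₀ a * ev Q hQ (s a)
    refine ⟨fun a => c a + t * c₀ a, fun b => ?_⟩
    have hz : ∀ b, ∑ a, c₀ a * ev (P b) (hP b) (s a) = 0 := fun b => by
      rw [← hT]; exact congrFun (LinearMap.mem_ker.1 hc₀) b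
    simp only [add_mul, mul_assoc, Finset.sum_add_distrib, ← Finset.mul_sum]
    induction b using Fin.lastCases with
    | last =>
      simp only [Fin.snoc_last]
      rw [div_mul_cancel₀ _ hQne]
      ring
    | cast b =>
      simp only [Fin.snoc_castSucc]
      rw [hz, mul_zero, add_zero, hc]

end Groth.Agent.Lib.CurveFF.GeneralPoints
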