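import Groth.Agent.Lib.FunFld.Rational
import Groth.Agent.Lib.FunFld.Weil
import Groth.Agent.Lib.CurveFF.GenusZeroSub
import Groth.Agent.Lib.FunFld.Hasse.Param
import Groth.Agent.H81.FunFldSub
import Groth.Agent.S12576
import Groth.Agent.Lib.FunFld.Different.Basic
import Mathlib.LinearAlgebra.Dimension.Basic
import Mathlib.FieldTheory.PurelyInseparable.Tower

/-!
Genus and changes of the base of a function field over an algebraically closed field.
-/

noncomputable section
set_option autoImplicit false
universe u v w

open WithZero
open Groth.Agent.Lib.FunFld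

namespace Groth.Agent.Lib.CurveFF.GenusMono

variable {k : Type u} [Field k] [IsAlgClosed k] {K K' : Type v} [Field K] [Field K'] [Algebra k K]
  [Algebra k K']

/-- The genus is invariant under isomorphisms that are semilinear over `k`. -/
theorem genus_eq_of_semilinear (hK : _root_.FunFld.IsFunctionField k K)
    (hK' : _root_.FunFld.IsFunctionField k K') (θ : K ≃+* K') (σ : k ≃+* k)
    (hθ : ∀ c, θ (algebraMap k K c) = algebraMap k K' (σ c)) :
    _root_.FunFld.genus k K = _root_.FunFld.genus k K' := by
  classical
  let Φ : _root_.FunFld.Place k K' ≃ _root_.FunFld.Place k K :=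
    { toFun := fun P => ⟨P.1.comap θ.toRingHom,
        fun c => by rw [Valuation.comap_apply]; exact (hθ c).symm ▸ P.2.1 (σ c),
        fun γ => by
          obtain ⟨z, rfl⟩ := P.2.2 γ
          exact ⟨θ.symm z, by rw [Valuation.comap_apply]; exact congrArg P.1 (θ.apply_symm_apply z)⟩⟩
      invFun := fun P => ⟨P.1.comap θ.symm.toRingHom,
        fun c => by
          rw [Valuation.comap_apply]
          have h1 : θ.symm (algebraMap k K' c) = algebraMap k K (σ.symm c) := by
            rw [RingEquiv.symm_apply_eq, hθ, RingEquiv.apply_symm_apply]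
          exact h1.symm ▸ P.2.1 (σ.symm c),
        fun γ => by
          obtain ⟨z, rfl⟩ := P.2.2 γ
          exact ⟨θ z, by rw [Valuation.comap_apply]; exact congrArg P.1 (θ.symm_apply_apply z)⟩⟩
      left_inv := fun P => Subtype.ext (Valuation.ext fun z => by
        show P.1 (θ (θ.symm z)) = P.1 z
        rw [RingEquiv.apply_symm_apply])
      right_inv := fun P => Subtype.ext (Valuation.ext fun z => by
        show P.1 (θ.symm (θ z)) = P.1 z
        rw [RingEquiv.symm_apply_apply]) }
  let ΦD : _root_.FunFld.Divisor k K' ≃ _root_.FunFld.Divisor k K :=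
    (Finsupp.domCongr Φ).toEquiv
  have hval : ∀ (D : _root_.FunFld.Divisor k K') (P : _root_.FunFld.Place k K'),
      ΦD D (Φ P) = D P := fun D P => by
    show Finsupp.equivMapDomain Φ D (Φ P) = D P
    rw [Finsupp.equivMapDomain_apply, Equiv.symm_apply_apply]
  have hdeg : ∀ D : _root_.FunFld.Divisor k K', (ΦD D).deg = D.deg := fun D => by
    show (Finsupp.equivMapDomain Φ D).sum (fun P n => n * (P.deg : ℤ)) = D.sum fun P n => n * (P.deg : ℤ)
    rw [Finsupp.sum_equivMapDomain]
    exact Finsupp.sum_congr fun P _ => by rw [Rational.deg_eq_one hK, Rational.deg_eq_one hK']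
  have hell : ∀ D : _root_.FunFld.Divisor k K', _root_.FunFld.ell (ΦD D) = _root_.FunFld.ell D := by
    intro D
    have hmem : ∀ z, z ∈ _root_.FunFld.L (ΦD D) ↔ θ z ∈ _root_.FunFld.L D := by
      intro z
      refine ⟨fun h P => ?_, fun h Q => ?_⟩
      · have h1 := h (Φ P)
        rw [hval] at h1
        exact h1
      · obtain ⟨P, rfl⟩ := Φ.surjective Q
        rw [hval]
        exact h P
    let e : _root_.FunFld.L (ΦD D) ≃+ _root_.FunFld.L D :=
      { toFun := fun z => ⟨θ z.1, (hmem z.1).1 z.2⟩
        invFun := fun z => ⟨θ.symm z.1, (hmem _).2 (by rw [θ.apply_symm_apply]; exact z.2)⟩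
        left_inv := fun z => Subtype.ext (θ.symm_apply_apply z.1)
        right_inv := fun z => Subtype.ext (θ.apply_symm_apply z.1)
        map_add' := fun z z' => Subtype.ext (map_add θ z.1 z'.1) }
    have h := rank_eq_of_equiv_equiv σ e σ.bijective fun c z => Subtype.ext (by
      show θ (c • z.1) = σ c • θ z.1
      rw [Algebra.smul_def, Algebra.smul_def, map_mul, hθ])
    exact congrArg Cardinal.toNat h
  show sSup _ = sSup _
  congr 1
  ext n
  constructor
  · rintro ⟨D, rfl⟩
    obtain ⟨E, rfl⟩ := ΦD.surjective D
    exact ⟨E, by simp only [hdeg, hell]⟩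
  · rintro ⟨D, rfl⟩
    exact ⟨ΦD D, by simp only [hdeg, hell]⟩

/-- A purely inseparable extension of function fields preserves the genus. -/
theorem genus_eq_of_purelyInseparable (hK : _root_.FunFld.IsFunctionField k K) :
    ∀ (n : ℕ) (E : IntermediateField k K), Module.finrank E K ≤ n → (∃ x ∈ E, Transcendental k x) →
      IsPurelyInseparable E K → _root_.FunFld.genus k E = _root_.FunFld.genus k K := by
  classical
  intro n
  induction n with
  | zero =>
    intro E hn ht _
    haveI := (H81.FunFldSub.finiteDimensional_over hK E ht).1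
    have := Module.finrank_pos (R := E) (M := K)
    omega
  | succ n ih =>
    intro E hn ht hpi
    obtain ⟨hfd, hKE⟩ := H81.FunFldSub.finiteDimensional_over hK E ht
    haveI := hfd
    by_cases htop : E = ⊤
    · exact GenusZeroSub.genus_eq_of_surjective hKE hK fun z => ⟨⟨z, htop ▸ IntermediateField.mem_top⟩, rfl⟩
    -- the characteristic is positive
    have hnsep : ¬ Algebra.IsSeparable E K := fun hs => by
      refine htop (SetLike.ext fun z => ⟨fun _ => IntermediateField.mem_top, fun _ => ?_⟩)
      obtain ⟨w, rfl⟩ := IsPurelyInseparable.surjective_algebraMap_of_isSeparable E K z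
      exact w.2
    obtain ⟨p, hpc⟩ := CharP.exists k
    have hp0 : p ≠ 0 := by
      rintro rfl
      haveI := CharP.charP_to_charZero k
      haveI : CharZero E := charZero_of_injective_algebraMap (algebraMap k E).injective
      exact hnsep inferInstance
    haveI : Fact p.Prime := ⟨(CharP.char_is_prime_or_zero k p).resolve_right hp0⟩
    haveI : CharP K p := charP_of_injective_algebraMap (algebraMap k K).injective p
    haveI : ExpChar K p := .prime Fact.out
    haveI : ExpChar k p := .prime Fact.out
    haveI : PerfectRing k p := PerfectField.toPerfectRing p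
    have hsep := Hasse.Separable.exists_isSep hK
    have hpow : ∀ c : k, ∃ b : k, frobenius K p (algebraMap k K b) = algebraMap k K c := fun c => by
      obtain ⟨b, hb⟩ := (frobeniusEquiv k p).surjective c
      exact ⟨b, by rw [← RingHom.map_frobenius]; exact congrArg _ hb⟩
    let P0 : IntermediateField k K := (frobenius K p).fieldRange.toIntermediateField fun c => by
      obtain ⟨b, hb⟩ := hpow c
      exact ⟨_, hb⟩
    have hEP : ∀ e ∈ E, ∃ y : K, frobenius K p y = e := by
      intro e he
      have hDe : KaehlerDifferential.D k K e = 0 := by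
        by_contra hne
        have hs : Algebra.IsSeparable (IntermediateField.adjoin k ({e} : Set K)) K :=
          Hasse.Separable.isSep_of_D_ne_zero hK hsep hne
        let i : IntermediateField.adjoin k ({e} : Set K) →+* E :=
          (IntermediateField.inclusion (IntermediateField.adjoin_le_iff.2
            (Set.singleton_subset_iff.2 he))).toRingHom
        letI := i.toAlgebra
        haveI : IsScalarTower (IntermediateField.adjoin k ({e} : Set K)) E K :=
          IsScalarTower.of_algebraMap_eq fun _ => rfl
        haveI := hs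
        exact hnsep (Algebra.isSeparable_tower_top_of_isSeparable (IntermediateField.adjoin k ({e} : Set K)) E K)
      have h1 : e ∈ H81.FunFldSep.powField k K p := (H81.FunFldSep.mem_powField_iff hK hsep e).2 hDe
      have h2 : H81.FunFldSep.powField k K p ≤ P0 := IntermediateField.adjoin_le_iff.2 (by
        rintro _ ⟨y, rfl⟩; exact ⟨y, rfl⟩)
      exact h2 h1
    let E' : IntermediateField k K := (Subfield.comap (frobenius K p) E.toSubfield).toIntermediateField
      fun c => by
        show frobenius K p (algebraMap k K c) ∈ E
        rw [← RingHom.map_frobenius]; exact E.algebraMap_mem _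
    have hmem' : ∀ y : K, y ∈ E' ↔ frobenius K p y ∈ E := fun y => Iff.rfl
    have hle : E ≤ E' := fun e he => (hmem' e).2 (pow_mem he p)
    have hlt : E ≠ E' := by
      intro heq
      refine htop (SetLike.ext fun z => ⟨fun _ => IntermediateField.mem_top, fun _ => ?_⟩)
      haveI : CharP E p := charP_of_injective_algebraMap (algebraMap k E).injective p
      haveI : ExpChar E p := .prime Fact.out
      obtain ⟨m, w, hw⟩ := IsPurelyInseparable.pow_mem E p z
      suffices ∀ m (z : K), z ^ p ^ m ∈ E → z ∈ E from this m z (hw ▸ w.2)
      intro m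
      induction m with
      | zero => intro z h; simpa using h
      | succ m ihm =>
        intro z h
        have h1 : z ^ p ^ m ∈ E' := (hmem' _).2 (by
          rw [frobenius_def, ← pow_mul, ← pow_succ]; exact h)
        rw [← heq] at h1
        exact ihm z h1
    obtain ⟨x, hx, hxt⟩ := ht
    have ht' : ∃ x ∈ E', Transcendental k x := ⟨x, hle hx, hxt⟩
    obtain ⟨hfd', hKE'⟩ := H81.FunFldSub.finiteDimensional_over hK E' ht'
    haveI := hfd'
    letI : Algebra E E' := (IntermediateField.inclusion hle).toRingHom.toAlgebra
    haveI : IsScalarTower E E' K := IsScalarTower.of_algebraMap_eq fun _ => rfl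
    have hdec : Module.finrank E' K ≤ n := by
      have hmul := Module.finrank_mul_finrank E E' K
      haveI : FiniteDimensional E E' := Module.Finite.left E E' K
      have h1 : 1 ≤ Module.finrank E' K := Module.finrank_pos
      have h2 : Module.finrank E E' ≠ 1 := fun h1' => hlt (by
        refine le_antisymm hle fun y hy => ?_
        obtain ⟨c, hc⟩ := exists_smul_eq_of_finrank_eq_one h1' (one_ne_zero (α := E')) ⟨y, hy⟩
        rw [Algebra.smul_def, mul_one] at hc
        have : (c : K) = y := congrArg Subtype.val hc
        exact this ▸ c.2)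
      have h3 : 0 < Module.finrank E E' := Module.finrank_pos
      have h4 : 2 * Module.finrank E' K ≤ Module.finrank E E' * Module.finrank E' K :=
        Nat.mul_le_mul_right _ (by omega)
      omega
    have hpi' : IsPurelyInseparable E' K := IsPurelyInseparable.tower_top E E' K
    rw [← ih E' hdec ht' hpi']
    -- Frobenius
    let θ : E' ≃+* E := RingEquiv.ofBijective
      (((frobenius K p).comp E'.val.toRingHom).codRestrict E fun y => y.2)
      ⟨fun a b h => Subtype.ext (frobenius_inj K p (congrArg Subtype.val h)), fun e => by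
        obtain ⟨y, hy⟩ := hEP e.1 e.2
        exact ⟨⟨y, (hmem' y).2 (hy ▸ e.2)⟩, Subtype.ext hy⟩⟩
    exact (genus_eq_of_semilinear hKE' hKE θ (frobeniusEquiv k p) fun c => Subtype.ext
      (RingHom.map_frobenius (algebraMap k K) p c).symm).symm

/-- The genus does not drop along a separable extension. -/
theorem genus_le_of_separable {F : Type v} [Field F] [Algebra k F] [Algebra F K] [IsScalarTower k F K]
    [FiniteDimensional F K] [Algebra.IsSeparable F K] (hF : _root_.FunFld.IsFunctionField k F)
    (hK : _root_.FunFld.IsFunctionField k K) :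
    _root_.FunFld.genus k F ≤ _root_.FunFld.genus k K := by
  classical
  choose tF _ htF using fun P : _root_.FunFld.Place k F => Lib.FunFld.Place.exists_uniformizer P
  choose tK _ htK using fun Q : _root_.FunFld.Place k K => Lib.FunFld.Place.exists_uniformizer Q
  choose φ hφ _ using fun P => Hasse.Param.exists_expansion hF (htF P)
  choose ψ hψ _ using fun Q => Hasse.Param.exists_expansion hK (htK Q)
  choose below e hee he using fun Q : _root_.FunFld.Place k K => Ext.exists_place_below hF Q
  have hsF := Hasse.Separable.exists_isSep hF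
  obtain ⟨x, hx⟩ := hsF
  have hxt : Transcendental k x := fun halg => by
    obtain ⟨c, rfl⟩ := hF.2 x halg
    obtain ⟨t, ht⟩ := Riemann.exists_transcendental hF
    have h2 : ∀ z ∈ IntermediateField.adjoin k ({algebraMap k F c} : Set F), IsAlgebraic k z := by
      intro z hz
      rw [IntermediateField.adjoin_simple_eq_bot_iff.2 (IntermediateField.algebraMap_mem _ c),
        IntermediateField.mem_bot] at hz
      obtain ⟨d, rfl⟩ := hz
      exact isAlgebraic_algebraMap d
    haveI : Algebra.IsSeparable (IntermediateField.adjoin k ({algebraMap k F c} : Set F)) F := hx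
    haveI : Algebra.IsAlgebraic k (IntermediateField.adjoin k ({algebraMap k F c} : Set F)) :=
      ⟨fun z => (isAlgebraic_algHom_iff (IntermediateField.val _) Subtype.val_injective).1 (h2 z.1 z.2)⟩
    haveI : Algebra.IsAlgebraic k F :=
      Algebra.IsAlgebraic.trans k (IntermediateField.adjoin k ({algebraMap k F c} : Set F)) F
    exact ht (Algebra.IsAlgebraic.isAlgebraic t)
  have hDx := H81.FunFldSep.D_ne_zero_of_isSep hxt hx
  have hvF : ∀ P, LocRes.vDiff (φ P) 1 x ≠ 0 := fun P => by
    rw [Different.vDiff_one, Valuation.ne_zero_iff]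
    exact Res.SepRes.D_ne_zero_of_isSep (hφ P) hx
  obtain ⟨hfin, heq⟩ := Groth.Agent.S12576.result k k F K hF (H81.FunFldSep.isGeometric hF) hK (fun _ => k) φ hφ
    (fun _ => k) ψ hψ below e he x hvF
    fun Q => Different.vDiff_map_ne_zero hF ⟨x, hx⟩ (hψ Q) hDx
  have hnn : 0 ≤ ∑ᶠ Q, LocRes.diffExp (φ (below Q)) (ψ Q) (e Q) x * (Q.deg : ℤ) := by
    refine finsum_nonneg fun Q => mul_nonneg ?_ (Int.natCast_nonneg _)
    obtain ⟨h1, h2⟩ := Different.tame_wild (he Q) hF ⟨x, hx⟩ (hφ (below Q)) (hψ Q) (hvF (below Q))
    by_cases hd : ringChar F ∣ e Q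
    · have := h2 hd; omega
    · have := h1 hd; have := hee Q; omega
  rw [Module.finrank_self, Nat.cast_one, one_mul, one_mul] at heq
  have hpos : (1 : ℤ) ≤ Module.finrank F K := by exact_mod_cast Module.finrank_pos
  rcases Nat.eq_zero_or_pos (_root_.FunFld.genus k F) with h0 | h0
  · omega
  have : (0 : ℤ) ≤ 2 * (_root_.FunFld.genus k F : ℤ) - 2 := by omega
  nlinarith

/-- The genus does not drop along a finite extension of function fields. -/
theorem genus_le (hK : _root_.FunFld.IsFunctionField k K) (F : IntermediateField k K)
    (ht : ∃ x ∈ F, Transcendental k x) :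
    _root_.FunFld.genus k F ≤ _root_.FunFld.genus k K := by
  obtain ⟨hfd, hF⟩ := H81.FunFldSub.finiteDimensional_over hK F ht
  haveI := hfd
  let E : IntermediateField k K := (separableClosure F K).restrictScalars k
  obtain ⟨x, hx, hxt⟩ := ht
  have htE : ∃ x ∈ E, Transcendental k x := ⟨x, (separableClosure F K).algebraMap_mem ⟨x, hx⟩, hxt⟩
  obtain ⟨hfdE, hE⟩ := H81.FunFldSub.finiteDimensional_over hK E htE
  haveI : Algebra.IsAlgebraic F K := inferInstance
  have hFE : F ≤ E := fun y hy => (separableClosure F K).algebraMap_mem ⟨y, hy⟩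
  letI : Algebra F E := (IntermediateField.inclusion hFE).toRingHom.toAlgebra
  haveI : IsScalarTower F E K := IsScalarTower.of_algebraMap_eq fun _ => rfl
  haveI : IsScalarTower k F E := IsScalarTower.of_algebraMap_eq fun _ => Subtype.ext rfl
  haveI hpi : IsPurelyInseparable E K := by
    obtain ⟨q, hq⟩ := ExpChar.exists k
    haveI := expChar_of_injective_algebraMap (algebraMap k E).injective q
    haveI := expChar_of_injective_algebraMap (algebraMap k (separableClosure F K)).injective q
    refine (isPurelyInseparable_iff_pow_mem E q).2 fun z => ?_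
    obtain ⟨m, w, hw⟩ := IsPurelyInseparable.pow_mem (separableClosure F K) q z
    exact ⟨m, ⟨w.1, w.2⟩, hw⟩
  have h1 := genus_eq_of_purelyInseparable hK (Module.finrank E K) E le_rfl htE hpi
  haveI : FiniteDimensional F E := Module.Finite.left F E K
  haveI : Algebra.IsSeparable F E := ⟨fun z => by
    have hz : IsSeparable F z.1 := mem_separableClosure_iff.1 z.2
    show (minpoly F z).Separable
    rw [← minpoly.algebraMap_eq (show Function.Injective (algebraMap E K) from Subtype.val_injective) z]
    exact hz⟩
  exact h1 ▸ genus_le_of_separable (K := E) hF hE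

end Groth.Agent.Lib.CurveFF.GenusMono
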