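import Groth.Agent.Lib.CurveFF.GenusMono
import Groth.Agent.Lib.CurveFF.CoverField
import Groth.Agent.Lib.CurveFF.Genus
import Groth.Agent.Lib.Curves.GlobalSections

/-!
The genus does not drop along dominant morphisms of regular curves.
-/

noncomputable section
set_option autoImplicit false
universe u

open CategoryTheory AlgebraicGeometry

namespace Groth.Agent.Lib.CurveFF.GenusMonoCurve

attribute [local instance] Curv2.stalkAlgebra

variable {k : Type u} [Field k] [IsAlgClosed k] {X Y : Scheme.{u}}
  [X.Over (Spec (CommRingCat.of k))] [Y.Over (Spec (CommRingCat.of k))] [IsIntegral X] [IsIntegral Y]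
  [IsProper (X ↘ Spec (CommRingCat.of k))] [IsProper (Y ↘ Spec (CommRingCat.of k))]

theorem genus_le (hX : CurveHyp X) (hY : CurveHyp Y) (f : X ⟶ Y)
    (hf : f ≫ (Y ↘ Spec (CommRingCat.of k)) = X ↘ Spec (CommRingCat.of k))
    (e : f (genericPoint X) = genericPoint Y) : Curv2.genus k Y ≤ Curv2.genus k X := by
  have h0X := Curves.GlobalSections.finrank_h0_structure k X
  have h0Y := Curves.GlobalSections.finrank_h0_structure k Y
  have hKX := isFunctionField (k := k) hX h0X
  have hKY := isFunctionField (k := k) hY h0Y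
  let θ := CoverField.field f hf e
  let ε : Y.functionField ≃ₐ[k] θ.fieldRange := AlgEquiv.ofInjectiveField θ
  have ht : ∃ x ∈ θ.fieldRange, Transcendental k x := by
    obtain ⟨t, ht⟩ := FunFld.Riemann.exists_transcendental hKY
    exact ⟨θ t, ⟨t, rfl⟩, fun halg => ht ((isAlgebraic_algHom_iff θ θ.injective).1 halg)⟩
  obtain ⟨-, hF⟩ := H81.FunFldSub.finiteDimensional_over hKX θ.fieldRange ht
  letI : Algebra Y.functionField θ.fieldRange := ε.toAlgHom.toRingHom.toAlgebra
  haveI : IsScalarTower k Y.functionField θ.fieldRange :=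
    IsScalarTower.of_algebraMap_eq fun c => (ε.commutes c).symm
  rw [genus_eq hY h0Y, genus_eq hX h0X,
    GenusZeroSub.genus_eq_of_surjective hKY hF ε.surjective]
  exact GenusMono.genus_le hKX θ.fieldRange ht

end Groth.Agent.Lib.CurveFF.GenusMonoCurve
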