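import Groth.Agent.Lib.CurveFF.GenusOneInvol
import Groth.Agent.Lib.CurveFF.InvolutionFF
import Groth.Agent.Lib.CurveFF.PencilDim

/-!
Any two pencils of degree two on a curve of genus one are conjugate.
-/

noncomputable section
set_option autoImplicit false
set_option linter.style.haveILetI false
universe u v

open CategoryTheory AlgebraicGeometry IntermediateField
open Groth.Agent.Lib.FunFld.Degree
open Groth.Agent.Lib.FunFld.Place (ord_mul ord_one ord_inv)

namespace Groth.Agent.Lib.CurveFF.GenusOneDouble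

section Field

variable {k : Type u} {K : Type v} [Field k] [Field K] [Algebra k K] [IsAlgClosed k]

theorem two_ne_zero_adjoin (h2 : (2 : k) ≠ 0) (E : IntermediateField k K) : (2 : E) ≠ 0 := fun e =>
  h2 ((algebraMap k E).injective ((map_ofNat _ 2).trans (e.trans (map_zero _).symm)))

/-- A pencil of degree two in genus one has a double fibre. -/
theorem exists_double_fibre (hK : _root_.FunFld.IsFunctionField k K)
    (hg : _root_.FunFld.genus k K = 1) (h2 : (2 : k) ≠ 0) {x : K}
    (hx : Module.finrank (adjoin k ({x} : Set K)) K = 2) :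
    ∃ (A : _root_.FunFld.Place k K) (f : K), f ≠ 0 ∧
      Finsupp.single A (1 : ℤ) + Finsupp.single A 1 = poleDiv (k := k) x + _root_.FunFld.div k f := by
  let E := adjoin k ({x} : Set K)
  obtain ⟨φ, hφx, hφφ, hφne⟩ := PencilInvol.exists_aut hx
    (GenusOneInvol.isSeparable_of_two_ne_zero (two_ne_zero_adjoin h2 E) hx)
  have hinv : InvolFF.Invol φ := ⟨hφφ, hφne, h2⟩
  haveI : FiniteDimensional E K := Module.finite_of_finrank_eq_succ hx
  have hle : E ≤ InvolFF.fixedF φ := adjoin_simple_le_iff.2 hφx
  have heq : E = InvolFF.fixedF φ := IntermediateField.eq_of_le_of_finrank_eq' hle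
    (hx.trans (InvolFF.finrank_two hinv).symm)
  have ht := H81.DoubleCover.transcendental_of_finrank hK hx
  have hE : _root_.FunFld.IsFunctionField k E :=
    (H81.FunFldSub.finiteDimensional_over hK E ⟨x, mem_adjoin_simple_self k x, ht⟩).2
  let g : E := ⟨x, mem_adjoin_simple_self k x⟩
  have hgtop : adjoin k ({g} : Set E) = ⊤ := by
    apply IntermediateField.map_injective E.val
    rw [adjoin_map, Set.image_singleton, ← AlgHom.fieldRange_eq_map, IntermediateField.fieldRange_val]
    rfl
  have hg0 : _root_.FunFld.genus k E = 0 :=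
    FunFld.Rational.genus_eq_zero_of_adjoin_eq_top hE hgtop
  obtain ⟨-, hform⟩ := InvolFF.genus_eq hinv hK
  rw [← heq, hg, hg0] at hform
  haveI : Nonempty {Q : _root_.FunFld.Place k K // InvolFF.IsFix φ Q} := by
    by_contra hne
    rw [not_nonempty_iff] at hne
    rw [Nat.card_of_isEmpty] at hform
    omega
  obtain ⟨A, hA⟩ := Classical.arbitrary {Q : _root_.FunFld.Place k K // InvolFF.IsFix φ Q}
  exact ⟨A, (PencilInvol.orbit_equiv hK hx φ hφx hφne A A fun z => (hA z).symm).1⟩

/-- A change of places carries the pencil of one double fibre to that of another. -/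
theorem map_mem (hK : _root_.FunFld.IsFunctionField k K) (hg : _root_.FunFld.genus k K = 1)
    {x y : K} (hx : Module.finrank (adjoin k ({x} : Set K)) K = 2)
    (hy : Module.finrank (adjoin k ({y} : Set K)) K = 2) {A B : _root_.FunFld.Place k K} {f g : K}
    (hf : f ≠ 0) (hfe : Finsupp.single A (1 : ℤ) + Finsupp.single A 1 =
      poleDiv (k := k) x + _root_.FunFld.div k f)
    (hg' : g ≠ 0) (hge : Finsupp.single B (1 : ℤ) + Finsupp.single B 1 =
      poleDiv (k := k) y + _root_.FunFld.div k g)
    (ψ : K ≃ₐ[k] K) (hψ : ∀ R : _root_.FunFld.Place k K, ∃ R' : _root_.FunFld.Place k K,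
      (∀ z, R'.1 z = R.1 (ψ z)) ∧ (R' = B ↔ R = A)) :
    ψ y ∈ adjoin k ({x} : Set K) := by
  classical
  have hxt := H81.DoubleCover.transcendental_of_finrank hK hx
  have hyt := H81.DoubleCover.transcendental_of_finrank hK hy
  -- pole sections
  have hLy : ∀ {t : K}, Transcendental k t → ∀ P : _root_.FunFld.Place k K,
      0 ≤ P.ord t + poleDiv (k := k) t P := fun {t} _ P => by
    rw [poleDiv_apply hK]
    omega
  have key : ∀ z : K, (∀ P : _root_.FunFld.Place k K, 0 ≤ P.ord z + poleDiv (k := k) y P) → z ≠ 0 →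
      ψ (z / g) * f ∈ _root_.FunFld.L (poleDiv (k := k) x) := by
    intro z hz hz0
    refine mem_L_iff_ord.2 (Or.inr fun R => ?_)
    obtain ⟨R', hR', hRB⟩ := hψ R
    have hord : R.ord (ψ (z / g)) = R'.ord (z / g) := by
      unfold _root_.FunFld.Place.ord; rw [hR']
    have hzg : z / g ≠ 0 := div_ne_zero hz0 hg'
    rw [ord_mul R ((map_ne_zero ψ).2 hzg) hf, hord, div_eq_mul_inv,
      ord_mul R' hz0 (inv_ne_zero hg'), ord_inv]
    have h1 := DFunLike.congr_fun hfe R
    have h2 := DFunLike.congr_fun hge R'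
    rw [Finsupp.add_apply, Finsupp.add_apply, FunFld.Degree.div_apply hK] at h1 h2
    have h3 := hz R'
    rcases eq_or_ne R A with hRA | hRA
    · have hR'B := hRB.2 hRA
      rw [hRA, Finsupp.single_eq_same] at h1
      rw [hR'B, Finsupp.single_eq_same] at h2
      rw [hR'B] at h3 ⊢
      rw [hRA]
      omega
    · rw [Finsupp.single_eq_of_ne hRA] at h1
      rw [Finsupp.single_eq_of_ne fun e => hRA (hRB.1 e)] at h2
      omega
  -- the pencil of `x`
  have hdeg : (poleDiv (k := k) x).deg = 2 := by rw [deg_poleDiv hK hxt, hx]; rfl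
  have hl := FunFld.SmallGenus.ell_genus_one hK hg (D := poleDiv (k := k) x) (by omega)
  rw [hdeg] at hl
  have hli : LinearIndependent k ![(1 : K), x] := by
    rw [LinearIndependent.pair_iff]
    intro s t hst
    have ht0 : t = 0 := by
      by_contra ht0
      have hx' : x = algebraMap k K (-(s / t)) := by
        rw [Algebra.smul_def, Algebra.smul_def, mul_one] at hst
        have htK : algebraMap k K t ≠ 0 := (map_ne_zero _).2 ht0
        rw [map_neg, map_div₀]
        field_simp
        linear_combination hst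
      exact hxt (hx'.symm ▸ isAlgebraic_algebraMap (R := k) (A := K) (-(s / t)))
    rw [ht0, zero_smul, add_zero, smul_eq_zero] at hst
    exact ⟨hst.resolve_right one_ne_zero, ht0⟩
  haveI := finiteDimensional_L hK (poleDiv (k := k) x)
  have hone : (1 : K) ∈ _root_.FunFld.L (poleDiv (k := k) x) :=
    mem_L_iff_ord.2 (Or.inr fun P => by rw [ord_one, poleDiv_apply hK]; omega)
  have hxm : x ∈ _root_.FunFld.L (poleDiv (k := k) x) :=
    mem_L_iff_ord.2 (Or.inr fun P => by linarith [hLy hxt P])
  have hspan : _root_.FunFld.L (poleDiv (k := k) x) = Submodule.span k (Set.range ![(1 : K), x]) := by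
    refine (Submodule.eq_of_le_of_finrank_le (Submodule.span_le.2 ?_) ?_).symm
    · rintro _ ⟨i, rfl⟩
      fin_cases i
      exacts [hone, hxm]
    · rw [finrank_span_eq_card hli, Fintype.card_fin]
      show _root_.FunFld.ell (poleDiv (k := k) x) ≤ 2
      omega
  have hsub : ∀ w ∈ _root_.FunFld.L (poleDiv (k := k) x), w ∈ adjoin k ({x} : Set K) := by
    intro w hw
    rw [hspan] at hw
    refine (Submodule.span_le (p := (adjoin k ({x} : Set K)).toSubalgebra.toSubmodule).2 ?_ hw :)
    rintro _ ⟨i, rfl⟩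
    fin_cases i
    exacts [(adjoin k ({x} : Set K)).one_mem, mem_adjoin_simple_self k x]
  have hy0 : y ≠ 0 := fun e => hyt (e ▸ isAlgebraic_zero)
  have h1 := hsub _ (key 1 (fun P => by rw [ord_one, poleDiv_apply hK]; omega) one_ne_zero)
  have h2 := hsub _ (key y (hLy hyt) hy0)
  have hyq : ψ y = ψ (y / g) * f / (ψ (1 / g) * f) := by
    have hgψ : ψ g ≠ 0 := (map_ne_zero ψ).2 hg'
    simp only [map_div₀, map_one]
    field_simp
  rw [hyq]
  exact div_mem h2 h1

end Field

attribute [local instance] Curv2.stalkAlgebra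

variable {k : Type u} [Field k] [IsAlgClosed k] {X : Scheme.{u}} [X.Over (Spec (CommRingCat.of k))]
  [IsIntegral X] [IsProper (X ↘ Spec (CommRingCat.of k))]

/-- An automorphism exchanging two pencils of degree two. -/
theorem exists_conj (h : CurveHyp X) (hK : _root_.FunFld.IsFunctionField k X.functionField)
    (hg : _root_.FunFld.genus k X.functionField = 1) (h2 : (2 : k) ≠ 0) {x y : X.functionField}
    (hx : Module.finrank (adjoin k ({x} : Set X.functionField)) X.functionField = 2)
    (hy : Module.finrank (adjoin k ({y} : Set X.functionField)) X.functionField = 2) :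
    ∃ σ : X ≅ X, σ.hom ≫ (X ↘ Spec (CommRingCat.of k)) = X ↘ Spec (CommRingCat.of k) ∧
      σ.hom ≫ σ.hom = 𝟙 X ∧ ∃ e : σ.hom (genericPoint X) = genericPoint X,
        ∀ z, z ∈ adjoin k ({y} : Set X.functionField) ↔
          FieldExt.kMap σ.hom e z ∈ adjoin k ({x} : Set X.functionField) := by
  haveI : X.IsSeparated :=
    ⟨by rw [← Limits.terminal.comp_from (X ↘ Spec (CommRingCat.of k))]; infer_instance⟩
  obtain ⟨A, f, hf, hfe⟩ := exists_double_fibre hK hg h2 hx
  obtain ⟨B, g, hg', hge⟩ := exists_double_fibre hK hg h2 hy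
  obtain ⟨a, rfl⟩ := placeOf_surjective (k := k) h A
  obtain ⟨b, rfl⟩ := placeOf_surjective (k := k) h B
  obtain ⟨σ, hσ, hσσ, hab, -, -⟩ := GenusOneInvol.exists_swap h hK hg
    (fun t ht => GenusOneInvol.isSeparable_of_two_ne_zero (two_ne_zero_adjoin h2 _) ht) a b
  let ψ := AutoMap.autAlg σ.hom hσ hσσ
  have hinv : ∀ p, σ.hom (σ.hom p) = p := fun p => by rw [← Scheme.Hom.comp_apply, hσσ]; rfl
  have hplace : ∀ R : _root_.FunFld.Place k X.functionField, ∀ c d : CPt X, σ.hom c.1 = d.1 →
      ∃ R' : _root_.FunFld.Place k X.functionField,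
        (∀ z, R'.1 z = R.1 (ψ z)) ∧ (R' = placeOf k h d ↔ R = placeOf k h c) := by
    intro R c d hcd
    obtain ⟨r, rfl⟩ := placeOf_surjective (k := k) h R
    refine ⟨placeOf k h ⟨σ.hom r.1, AutoMap.isClosed_image σ.hom hσσ r⟩,
      fun z => AutoMap.placeOf_image h σ.hom hσ hσσ r z, fun e => ?_, fun e => ?_⟩
    · have e' : σ.hom r.1 = d.1 := congrArg Subtype.val (placeOf_injective h e)
      refine congrArg _ (Subtype.ext ?_)
      rw [← hinv r.1, e', ← hcd, hinv]
    · have e' : r = c := placeOf_injective h e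
      subst e'
      exact congrArg _ (Subtype.ext hcd)
  have h1 := map_mem hK hg hx hy hf hfe hg' hge ψ fun R => hplace R a b hab
  have h3 := map_mem hK hg hy hx hg' hge hf hfe ψ fun R =>
    hplace R b a (by rw [← hab, hinv])
  refine ⟨σ, hσ, hσσ, AutoMap.genericPoint_fixed hσσ, fun z => ⟨fun hz => ?_, fun hz => ?_⟩⟩
  · have : adjoin k ({y} : Set X.functionField) ≤ (adjoin k ({x} : Set X.functionField)).comap ψ.toAlgHom :=
      adjoin_simple_le_iff.2 h1
    exact this hz
  · have : adjoin k ({x} : Set X.functionField) ≤ (adjoin k ({y} : Set X.functionField)).comap ψ.toAlgHom :=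
      adjoin_simple_le_iff.2 h3
    have h4 : ψ (FieldExt.kMap σ.hom _ z) ∈ adjoin k ({y} : Set X.functionField) := this hz
    rwa [← AutoMap.autAlg_apply σ.hom hσ hσσ, AutoMap.autAlg_autAlg] at h4

end Groth.Agent.Lib.CurveFF.GenusOneDouble
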