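import Groth.Agent.Lib.CurveFF.PencilInvol
import Groth.Agent.Lib.CurveFF.AutoMap
import Groth.Agent.Lib.CurveFF.MapOfField

/-!
An involution of a curve of genus one carrying one given point to another.
-/

noncomputable section
set_option autoImplicit false
set_option linter.style.haveILetI false
universe u

open CategoryTheory AlgebraicGeometry IntermediateField
open Groth.Agent.Lib.FunFld.Degree

namespace Groth.Agent.Lib.CurveFF.GenusOneInvol

attribute [local instance] Curv2.stalkAlgebra

variable {k : Type u} [Field k] [IsAlgClosed k] {X : Scheme.{u}} [X.Over (Spec (CommRingCat.of k))]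
  [IsIntegral X] [IsProper (X ↘ Spec (CommRingCat.of k))]

/-- In genus one any two points are exchanged by the involution of their pencil. -/
theorem exists_swap (h : CurveHyp X) (hK : _root_.FunFld.IsFunctionField k X.functionField)
    (hg : _root_.FunFld.genus k X.functionField = 1)
    (hsep : ∀ t : X.functionField,
      Module.finrank (adjoin k ({t} : Set X.functionField)) X.functionField = 2 →
        Algebra.IsSeparable (adjoin k ({t} : Set X.functionField)) X.functionField)
    (P Q : CPt X) :
    ∃ σ : X ≅ X, σ.hom ≫ (X ↘ Spec (CommRingCat.of k)) = X ↘ Spec (CommRingCat.of k) ∧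
      σ.hom ≫ σ.hom = 𝟙 X ∧ σ.hom P.1 = Q.1 ∧ σ.hom ≠ 𝟙 X ∧
      ∀ R R' : CPt X, σ.hom R.1 = R'.1 → ∃ f : X.functionField, f ≠ 0 ∧
        Finsupp.single (placeOf k h R) (1 : ℤ) + Finsupp.single (placeOf k h R') 1 =
          Finsupp.single (placeOf k h P) (1 : ℤ) + Finsupp.single (placeOf k h Q) 1 +
            _root_.FunFld.div k f := by
  haveI : X.IsSeparated :=
    ⟨by rw [← Limits.terminal.comp_from (X ↘ Spec (CommRingCat.of k))]; infer_instance⟩
  let p := placeOf k h P
  let q := placeOf k h Q
  let D : _root_.FunFld.Divisor k X.functionField := Finsupp.single p 1 + Finsupp.single q 1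
  have hd : D.deg = 2 := by
    rw [deg_add, deg_single, deg_single, FunFld.Rational.deg_eq_one hK, FunFld.Rational.deg_eq_one hK]
    rfl
  have hD : (0 : _root_.FunFld.Divisor k X.functionField) ≤ D :=
    add_nonneg (Finsupp.single_nonneg.2 zero_le_one) (Finsupp.single_nonneg.2 zero_le_one)
  have hl := FunFld.SmallGenus.ell_genus_one hK hg (D := D) (by omega)
  obtain ⟨t, ht, htk⟩ := Pencil.exists_not_mem (V := _root_.FunFld.L D)
    (W := k ∙ (1 : X.functionField)) (by
      rw [finrank_span_singleton (one_ne_zero (α := X.functionField))]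
      show 1 < _root_.FunFld.ell D
      omega)
  have htk' : t ∉ Set.range (algebraMap k X.functionField) := by
    rintro ⟨c, rfl⟩
    exact htk (Submodule.mem_span_singleton.2 ⟨c, (Algebra.algebraMap_eq_smul_one c).symm⟩)
  obtain ⟨-, h2, hpole⟩ := Pencil.pole_eq hK (by omega) hD hd ht htk'
  obtain ⟨φ, hφt, hφφ, hφne⟩ := PencilInvol.exists_aut h2 (hsep t h2)
  obtain ⟨i, hi, e, he⟩ := MapOfField.exists_iso h h φ
  have e2 : (i.hom ≫ i.hom) (genericPoint X) = genericPoint X := by
    rw [Scheme.Hom.comp_apply, e, e]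
  have hii : i.hom ≫ i.hom = 𝟙 X := AutoMap.ext_of_kMap (g := 𝟙 X) e2 rfl fun z => by
    rw [AutoMap.kMap_comp i.hom i.hom e e e2, he, he, hφφ]
    exact (AutoMap.kMap_id rfl z).symm
  have hne : i.hom ≠ 𝟙 X := fun e1 => by
    obtain ⟨z, hz⟩ := hφne
    exact hz ((he z).symm.trans ((AutoMap.kMap_congr e1 e rfl z).trans (AutoMap.kMap_id rfl z)))
  -- the image of a point
  have himg : ∀ x : CPt X, ∀ y : CPt X, i.hom x.1 = y.1 → ∀ z,
      (placeOf k h y).1 z = (placeOf k h x).1 (φ z) := by
    intro x y hxy z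
    have h1 := AutoMap.placeOf_image h i.hom hi hii x z
    rw [AutoMap.autAlg_apply] at h1
    have hy : y = ⟨i.hom x.1, AutoMap.isClosed_image i.hom hii x⟩ := Subtype.ext hxy.symm
    rw [hy, h1]
    exact congrArg (placeOf k h x).1 (he z)
  have hPQ : i.hom P.1 = Q.1 := by
    obtain ⟨y, hy⟩ : ∃ y : CPt X, i.hom P.1 = y.1 := ⟨⟨_, AutoMap.isClosed_image i.hom hii P⟩, rfl⟩
    have hneg : p.ord t < 0 := by
      have h1 := DFunLike.congr_fun hpole p
      rw [poleDiv_apply hK, Finsupp.add_apply, Finsupp.single_eq_same] at h1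
      have : (0 : ℤ) ≤ (Finsupp.single q (1 : ℤ)) p := Finsupp.single_nonneg.2 zero_le_one p
      omega
    have h2' := (PencilInvol.orbit_equiv hK h2 φ hφt hφne p (placeOf k h y) (himg P y hy)).2 hneg
    rw [hpole] at h2'
    have h3 : placeOf k h y = q :=
      Finsupp.single_left_injective one_ne_zero (add_left_cancel h2')
    rw [hy, (placeEquiv (k := k) h).injective (a₁ := y) (a₂ := Q) h3]
  refine ⟨i, hi, hii, hPQ, hne, fun R R' hR => ?_⟩
  obtain ⟨f, hf, hfe⟩ :=
    (PencilInvol.orbit_equiv hK h2 φ hφt hφne _ (placeOf k h R') (himg R R' hR)).1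
  exact ⟨f, hf, by rw [hfe, hpole]⟩

end Groth.Agent.Lib.CurveFF.GenusOneInvol

namespace Groth.Agent.Lib.CurveFF.GenusOneInvol

/-- A quadratic extension is separable when `2 ≠ 0`. -/
theorem isSeparable_of_two_ne_zero {E L : Type*} [Field E] [Field L] [Algebra E L] (h2 : (2 : E) ≠ 0)
    (hd : Module.finrank E L = 2) : Algebra.IsSeparable E L := by
  haveI : FiniteDimensional E L := Module.finite_of_finrank_eq_succ hd
  refine (Algebra.isSeparable_def E L).2 fun z => ?_
  have hi : IsIntegral E z := Algebra.IsIntegral.isIntegral z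
  have h1 := minpoly.natDegree_pos hi
  have h3 := (minpoly.natDegree_le (A := E) z).trans hd.le
  refine (Polynomial.separable_iff_derivative_ne_zero (minpoly.irreducible hi)).2 fun h0 => ?_
  have hc := congrArg (fun p => Polynomial.coeff p ((minpoly E z).natDegree - 1)) h0
  simp only [Polynomial.coeff_derivative, Polynomial.coeff_zero] at hc
  rcases (show (minpoly E z).natDegree = 1 ∨ (minpoly E z).natDegree = 2 by omega) with hn | hn
  · rw [hn] at hc
    have hm := (minpoly.monic hi).coeff_natDegree
    rw [hn] at hm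
    simp [hm] at hc
  · rw [hn] at hc
    have hm := (minpoly.monic hi).coeff_natDegree
    rw [hn] at hm
    norm_num [hm] at hc
    exact h2 hc

end Groth.Agent.Lib.CurveFF.GenusOneInvol
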