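import Groth.Agent.Lib.CurveFF.KaehlerRank
import Groth.Agent.Lib.CurveFF.Hyp
import Groth.Agent.Lib.CurveFF.Genus
import Groth.Agent.Lib.Curves.GlobalSections
import Groth.Agent.Lib.Curves.SepCriterion
import Groth.Agent.Lib.FunFld.Existence
import Groth.Agent.Lib.FunFld.Degree
import Mathlib.RingTheory.Unramified.Field

/-!
Fibres of a function with nonzero differential are mostly étale over the base field.
-/

noncomputable section
set_option autoImplicit false
set_option linter.style.haveILetI false
universe u

open CategoryTheory AlgebraicGeometry TopologicalSpace IntermediateField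
open scoped nonZeroDivisors
open Groth.Agent.Lib.FunFld Groth.Agent.Lib.FunFld.Degree

namespace Groth.Agent.Lib.CurveFF.GoodFibre

attribute [local instance] Curv2.stalkAlgebra Curv2.resAlgebra

variable {k : Type u} [Field k] {X : Scheme.{u}} [X.Over (Spec (CommRingCat.of k))] [IsIntegral X]
  [IsProper (X ↘ Spec (CommRingCat.of k))] [Smooth (X ↘ Spec (CommRingCat.of k))]

/-- An open on which a function with nonzero differential has separable closed fibres. -/
theorem exists_open (hdim : topologicalKrullDim X = 1) (h : CurveHyp X) {x : X.functionField}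
    (hx : KaehlerDifferential.D k X.functionField x ≠ 0) :
    ∃ U : X.Opens, genericPoint X ∈ U ∧ ∀ y : CPt X, y.1 ∈ U → ∀ c : k,
      (placeOf k h y).1 (x - algebraMap k X.functionField c) < 1 →
      FiniteDimensional k (X.residueField y.1) → Algebra.IsSeparable k (X.residueField y.1) := by
  haveI := Curves.GlobalSections.noetherianSpace_of_proper k X
  obtain ⟨hfin, hle⟩ := finrank_kaehler_le_one (X := X) k hdim
  haveI := hfin
  have h1 : Module.finrank X.functionField (Ω[X.functionField⁄k]) = 1 :=
    le_antisymm hle (Module.finrank_pos_iff_exists_ne_zero.2 ⟨_, hx⟩)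
  obtain ⟨V, hV, a₀, ha₀⟩ := X.presheaf.exists_germ_eq x
  obtain ⟨U, hU, hηU, hUV⟩ := exists_isAffineOpen_mem_and_subset (x := genericPoint X) (U := V) hV
  let a : Γ(X, U) := X.presheaf.map (homOfLE hUV).op a₀
  have ha : X.presheaf.germ U (genericPoint X) hηU a = x :=
    (X.presheaf.germ_res_apply (homOfLE hUV) _ hηU a₀).trans ha₀
  letI : Algebra k Γ(X, U) := (Curves.PolePoint.cst k U).toAlgebra
  haveI : Algebra.FiniteType k Γ(X, U) :=
    RingHom.finiteType_algebraMap.1 (Curves.SepCriterion.scl_finiteType (k := k) hU)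
  haveI : Nonempty U := ⟨⟨_, hηU⟩⟩
  haveI := functionField_isFractionRing_of_isAffineOpen X U hU
  haveI : IsScalarTower k Γ(X, U) X.functionField :=
    IsScalarTower.of_algebraMap_eq fun r => (germ_cst hηU r).symm
  have hax : algebraMap Γ(X, U) X.functionField a = x := ha
  let φ := KaehlerDifferential.map k k Γ(X, U) X.functionField
  obtain ⟨G, hG⟩ := (Module.Finite.fg_top (R := Γ(X, U)) (M := Ω[Γ(X, U)⁄k]))
  have hrel : ∀ ω : Ω[Γ(X, U)⁄k], ∃ b α : Γ(X, U), b ≠ 0 ∧
      b • ω = α • KaehlerDifferential.D k Γ(X, U) a := by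
    intro ω
    obtain ⟨r, hr⟩ := (finrank_eq_one_iff_of_nonzero' _ hx).1 h1 (φ ω)
    obtain ⟨α, β, hβ, rfl⟩ := IsFractionRing.div_surjective (A := Γ(X, U)) r
    have hβ' : algebraMap Γ(X, U) X.functionField β ≠ 0 := IsFractionRing.to_map_ne_zero_of_mem_nonZeroDivisors hβ
    have h2 : φ (β • ω) = φ (α • KaehlerDifferential.D k Γ(X, U) a) := by
      rw [map_smul, map_smul, ← hr, KaehlerDifferential.map_D, hax]
      rw [← algebraMap_smul X.functionField β, ← algebraMap_smul X.functionField α, smul_smul,
        mul_div_cancel₀ _ hβ']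
    obtain ⟨s, hs⟩ := IsLocalizedModule.exists_of_eq (S := Γ(X, U)⁰) h2
    refine ⟨(s : Γ(X, U)) * β, (s : Γ(X, U)) * α,
      mul_ne_zero (nonZeroDivisors.ne_zero s.2) (nonZeroDivisors.ne_zero hβ), ?_⟩
    rw [mul_smul, mul_smul]
    exact hs
  choose b α hb hbα using hrel
  let B : Γ(X, U) := ∏ ω ∈ G, b ω
  have hB : B ≠ 0 := Finset.prod_ne_zero_iff.2 fun ω _ => hb ω
  refine ⟨X.basicOpen B, ?_, fun y hy c hc hfd => ?_⟩
  · rw [Scheme.mem_basicOpen _ _ _ hηU]
    refine IsUnit.mk0 _ fun h0 => hB ?_
    exact IsFractionRing.injective Γ(X, U) X.functionField (h0.trans (map_zero _).symm)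
  have hyU : y.1 ∈ U := X.basicOpen_le B hy
  haveI := hfd
  let ev : Γ(X, U) →+* X.residueField y.1 := (X.evaluation U y.1 hyU).hom
  letI : Algebra Γ(X, U) (X.residueField y.1) := ev.toAlgebra
  have hevc : ∀ r : k, ev (algebraMap k Γ(X, U) r) = algebraMap k (X.residueField y.1) r := fun r =>
    congrArg (X.residue y.1).hom (X.presheaf.germ_res_apply (homOfLE le_top) y.1 hyU _)
  haveI : IsScalarTower k Γ(X, U) (X.residueField y.1) :=
    IsScalarTower.of_algebraMap_eq fun r => (hevc r).symm
  have heva : ev a = algebraMap k (X.residueField y.1) c := by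
    rw [← sub_eq_zero, ← hevc, ← map_sub]
    haveI := h.dvr y.1 y.2
    show (X.residue y.1).hom (X.presheaf.germ U y.1 hyU (a - algebraMap k Γ(X, U) c)) = 0
    by_contra hne
    have hu := Scheme.algebraMap_germ_eq_germToFunctionField (X := X) hyU (a - algebraMap k Γ(X, U) c)
    obtain ⟨u, hu'⟩ : IsUnit (X.presheaf.germ U y.1 hyU (a - algebraMap k Γ(X, U) c)) := by
      by_contra hnu
      exact hne ((IsLocalRing.residue_eq_zero_iff _).2 hnu)
    have hxc : algebraMap (X.presheaf.stalk y.1) X.functionField u = x - algebraMap k X.functionField c := by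
      rw [hu', hu]
      show algebraMap Γ(X, U) X.functionField (a - algebraMap k Γ(X, U) c) = _
      rw [map_sub, hax, ← IsScalarTower.algebraMap_apply]
    have h2 : (placeOf k h y).1 (algebraMap (X.presheaf.stalk y.1) X.functionField (u⁻¹ : (X.presheaf.stalk y.1)ˣ)) ≤ 1 :=
      (mem_O_placeOf h y).2 ⟨_, rfl⟩
    have h3 := mul_lt_one_of_lt_of_le hc h2
    rw [← hxc, ← map_mul, ← map_mul, Units.mul_inv, map_one, map_one] at h3
    exact lt_irrefl _ h3
  have hevB : ∀ ω ∈ G, ev (b ω) ≠ 0 := fun ω hω h0 => by
    have h2 : ev B = 0 := by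
      show ev (∏ ω ∈ G, b ω) = 0
      rw [map_prod]
      exact Finset.prod_eq_zero hω h0
    exact (IsLocalRing.residue_eq_zero_iff _).1 h2 ((Scheme.mem_basicOpen _ _ _ hyU).1 hy)
  let ψ := KaehlerDifferential.map k k Γ(X, U) (X.residueField y.1)
  have hψ : ∀ m, ψ m = 0 := by
    suffices hle : (⊤ : Submodule Γ(X, U) (Ω[Γ(X, U)⁄k])) ≤ LinearMap.ker ψ from
      fun m => LinearMap.mem_ker.1 (hle Submodule.mem_top)
    rw [← hG, Submodule.span_le]
    intro ω hω
    have h2 := congrArg ψ (hbα ω)
    rw [map_smul, map_smul, KaehlerDifferential.map_D,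
      show algebraMap Γ(X, U) (X.residueField y.1) a = algebraMap k (X.residueField y.1) c from heva,
      Derivation.map_algebraMap, smul_zero, ← algebraMap_smul (X.residueField y.1) (b ω),
      smul_eq_zero] at h2
    exact h2.resolve_left (hevB ω hω)
  have hD : ∀ z : X.residueField y.1, KaehlerDifferential.D k (X.residueField y.1) z = 0 := by
    intro z
    obtain ⟨s, rfl⟩ := X.residue_surjective y.1 z
    letI := TopCat.Presheaf.algebra_section_stalk X.presheaf (⟨y.1, hyU⟩ : U)
    haveI := hU.isLocalization_stalk ⟨y.1, hyU⟩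
    obtain ⟨⟨p, q⟩, hpq⟩ := IsLocalization.surj (hU.primeIdealOf ⟨y.1, hyU⟩).asIdeal.primeCompl s
    have h0 : ∀ r, KaehlerDifferential.D k (X.residueField y.1) (ev r) = 0 := fun r => by
      have := KaehlerDifferential.map_D k k Γ(X, U) (X.residueField y.1) r
      rw [hψ] at this
      exact this.symm
    have hpq' : (X.residue y.1).hom s * ev q = ev p :=
      (map_mul (X.residue y.1).hom s _).symm.trans (congrArg (X.residue y.1).hom hpq)
    have hq : ev q ≠ 0 := fun h2 =>
      (IsLocalRing.residue_eq_zero_iff _).1 h2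
        (IsLocalization.map_units (X.presheaf.stalk y.1) q)
    have h3 := congrArg (KaehlerDifferential.D k (X.residueField y.1)) hpq'
    rw [Derivation.leibniz, h0, h0, smul_zero, zero_add, smul_eq_zero] at h3
    exact h3.resolve_left hq
  haveI : Subsingleton (Ω[X.residueField y.1⁄k]) := by
    have htop : (⊤ : Submodule (X.residueField y.1) (Ω[X.residueField y.1⁄k])) ≤ ⊥ := by
      rw [← KaehlerDifferential.span_range_derivation, Submodule.span_le]
      rintro _ ⟨z, rfl⟩
      exact hD z
    exact subsingleton_of_forall_eq 0 fun m => (Submodule.mem_bot _).1 (htop Submodule.mem_top)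
  haveI : Algebra.FormallyUnramified k (X.residueField y.1) :=
    (Algebra.formallyUnramified_iff k _).2 ‹_›
  exact Algebra.FormallyUnramified.isSeparable k _

/-- A function with nonzero differential bounded by an effective divisor of degree `d` gives a
separable point of degree at most `d`. -/
theorem exists_point (hdim : topologicalKrullDim X = 1)
    (h0 : Module.finrank k (Coh.HH X (Coh.structureModule X) 0) = 1) (h : CurveHyp X) [Infinite k]
    {W : _root_.FunFld.Divisor k X.functionField} (hW : 0 ≤ W) {x : X.functionField}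
    (hxW : x ∈ _root_.FunFld.L W) (hx : KaehlerDifferential.D k X.functionField x ≠ 0) :
    ∃ y : X, IsClosed ({y} : Set X) ∧ Algebra.IsSeparable k (X.residueField y) ∧
      (Module.finrank k (X.residueField y) : ℤ) ≤ W.deg ∧ FiniteDimensional k (X.residueField y) := by
  classical
  have hK := isFunctionField (k := k) h h0
  haveI := Curves.GlobalSections.noetherianSpace_of_proper k X
  obtain ⟨U, hη, hU⟩ := exists_open hdim h hx
  have hfin : Set.Finite {y : CPt X | y.1 ∉ U} :=
    (SmoothCurve.Curve.finite_of_isClosed hdim U.2.isClosed_compl (fun hm => hm hη)).preimage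
      Subtype.val_injective.injOn
  have hsub : ∀ y : CPt X, {c : k | (placeOf k h y).1 (x - algebraMap k X.functionField c) < 1}.Subsingleton := by
    intro y c hc c' hc'
    by_contra hne
    have h1 := (placeOf k h y).1.map_sub_lt hc hc'
    rw [sub_sub_sub_cancel_left, ← map_sub,
      FunFld.Place.val_algebraMap _ (sub_ne_zero.2 (Ne.symm hne))] at h1
    exact lt_irrefl _ h1
  obtain ⟨c, hc⟩ := (hfin.biUnion fun y _ => (hsub y).finite).infinite_compl.nonempty
  simp only [Set.mem_compl_iff, Set.mem_iUnion, exists_prop, not_exists, not_and,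
    Set.mem_ofPred_eq] at hc
  let t := x - algebraMap k X.functionField c
  have ht : Transcendental k t := FunFld.Bound.transcendental_of_not_mem_range hK fun ⟨e, he⟩ => hx (by
    rw [show x = algebraMap k X.functionField (e + c) by
      rw [map_add, he]; exact (sub_add_cancel x _).symm]
    exact Derivation.map_algebraMap _ _)
  obtain ⟨P, hP⟩ := FunFld.Existence.exists_zero hK ht
  obtain ⟨y, rfl⟩ := placeOf_surjective (k := k) h P
  have hlt : (placeOf k h y).1 t < 1 := (FunFld.Place.val_lt_one_iff _).2 (Or.inr hP)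
  have hyU : y.1 ∈ U := by
    by_contra hn
    exact hc y hn hlt
  have htW : t ∈ _root_.FunFld.L W := by
    refine sub_mem hxW (L_mono hW ?_)
    rw [L_zero hK, Submodule.one_eq_range]
    exact ⟨c, rfl⟩
  have hd : ((placeOf k h y).deg : ℤ) ≤ W.deg := by
    have h1 : Finsupp.single (placeOf k h y) (1 : ℤ) ≤ zeroDiv (k := k) t :=
      Finsupp.le_def.2 fun Q => by
        rw [zeroDiv_apply hK]
        rcases eq_or_ne Q (placeOf k h y) with rfl | hQ
        · rw [Finsupp.single_eq_same]; exact le_max_of_le_left hP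
        · rw [Finsupp.single_eq_of_ne hQ]; exact le_max_right _ _
    have h2 : poleDiv (k := k) t ≤ W := Finsupp.le_def.2 fun Q => by
      rw [poleDiv_apply hK]
      refine max_le ?_ (Finsupp.le_def.1 hW Q)
      rcases mem_L_iff_ord.1 htW with h' | h'
      · exact absurd h' (FunFld.Bound.ne_zero_of_transcendental ht)
      · linarith [h' Q]
    have h3 := deg_mono h1
    have h4 := deg_mono h2
    rw [deg_single, one_mul, deg_zeroDiv hK ht] at h3
    rw [deg_poleDiv hK ht] at h4
    exact h3.trans h4
  rw [deg_placeOf] at hd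
  haveI : FiniteDimensional k (X.residueField y.1) :=
    Module.finite_of_finrank_pos (by rw [← deg_placeOf h]; exact FunFld.Existence.deg_pos hK _)
  exact ⟨y.1, y.2, hU y hyU c hlt inferInstance, hd, inferInstance⟩

/-- Over a perfect field every point is separable. -/
theorem exists_point_perfect (h0 : Module.finrank k (Coh.HH X (Coh.structureModule X) 0) = 1)
    (h : CurveHyp X) [PerfectField k]
    {W : _root_.FunFld.Divisor k X.functionField} (hW : 0 ≤ W) (hWd : 0 < W.deg) :
    ∃ y : X, IsClosed ({y} : Set X) ∧ Algebra.IsSeparable k (X.residueField y) ∧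
      (Module.finrank k (X.residueField y) : ℤ) ≤ W.deg ∧ FiniteDimensional k (X.residueField y) := by
  classical
  have hK := isFunctionField (k := k) h h0
  obtain ⟨P, hP⟩ := Finsupp.ne_iff.1 (fun h0 : W = 0 => by rw [h0, deg_zero] at hWd; omega)
  obtain ⟨y, rfl⟩ := placeOf_surjective (k := k) h P
  have h1 : Finsupp.single (placeOf k h y) (1 : ℤ) ≤ W := Finsupp.le_def.2 fun Q => by
    have h2 := Finsupp.le_def.1 hW Q
    rcases eq_or_ne Q (placeOf k h y) with rfl | hQ
    · simp only [Finsupp.coe_zero, Pi.zero_apply, ne_eq] at h2 hP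
      rw [Finsupp.single_eq_same]; omega
    · rw [Finsupp.single_eq_of_ne hQ]; exact h2
  have hd := deg_mono h1
  rw [deg_single, one_mul, deg_placeOf] at hd
  haveI : FiniteDimensional k (X.residueField y.1) :=
    Module.finite_of_finrank_pos (by rw [← deg_placeOf h]; exact FunFld.Existence.deg_pos hK _)
  exact ⟨y.1, y.2, inferInstance, hd, inferInstance⟩

end Groth.Agent.Lib.CurveFF.GoodFibre
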