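import Groth.Agent.H2.Rigid.SmoothDense
import Groth.Agent.Lib.Curves.GenusZero
import Groth.Agent.Lib.CurveBundle.SmoothField

/-!
Regular closed points of curves over algebraically closed fields and sections not vanishing there.
-/

noncomputable section
set_option autoImplicit false
universe u

open CategoryTheory CategoryTheory.Limits AlgebraicGeometry TopologicalSpace Opposite
open scoped TensorProduct
open Groth.Agent.Lib.TensorMod Groth.Agent.Lib.TensorMod.Dual Groth.Agent.Lib.TensorMod.Gen
  Groth.Agent.Lib.Curves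

namespace Groth.Agent.Lib.CurveFF.GoodPoints

variable {k : Type u} [Field k] [IsAlgClosed k]

theorem isGeometricallyReduced (A : Type u) [CommRing A] [Algebra k A] [_root_.IsReduced A] :
    Algebra.IsGeometricallyReduced k A := by
  rw [Algebra.isGeometricallyReduced_field_iff]
  let e : AlgebraicClosure k ≃ₐ[k] k := (AlgEquiv.ofBijective (Algebra.ofId k (AlgebraicClosure k))
    IsAlgClosed.algebraMap_bijective_of_isIntegral).symm
  let φ : AlgebraicClosure k ⊗[k] A ≃ₐ[k] A :=
    (Algebra.TensorProduct.congr e AlgEquiv.refl).trans (Algebra.TensorProduct.lid k A)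
  exact isReduced_of_injective φ.toAlgHom φ.injective

variable {X : Scheme.{u}} [X.Over (Spec (CommRingCat.of k))]
  [IsProper (X ↘ Spec (CommRingCat.of k))] [IsIntegral X]

attribute [local instance] Curv2.stalkAlgebra

include k in
/-- Every nonempty open contains a closed point with principal local ring. -/
theorem exists_good_point (hdim : topologicalKrullDim X ≤ 1) (U : X.Opens)
    (hU : (U : Set X).Nonempty) :
    ∃ x ∈ U, IsClosed ({x} : Set X) ∧ IsPrincipalIdealRing (X.presheaf.stalk x) := by
  let c := X ↘ Spec (CommRingCat.of k)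
  haveI : IsLocallyNoetherian X := LocallyOfFiniteType.isLocallyNoetherian c
  haveI : LocallyOfFinitePresentation c :=
    LocallyOfFinitePresentation.iff_locallyOfFiniteType.2 inferInstance
  have hη : genericPoint X ∈ U := ((genericPoint_spec X).mem_open_set_iff U.2).2 (by simpa using hU)
  have hηs : genericPoint X ∈ c.smoothLocus := by
    haveI := isGeometricallyReduced (k := k) (X.presheaf.stalk (genericPoint X))
    exact H2.Rigid.SmoothDense.mem_smoothLocus k X _ (Field.toIsField X.functionField)
  let W : X.Opens := c.smoothLocus ⊓ U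
  haveI : JacobsonSpace X := LocallyOfFiniteType.jacobsonSpace c
  obtain ⟨x, hxW, hx⟩ : ∃ x ∈ (W : Set X), IsClosed ({x} : Set X) :=
    nonempty_inter_closedPoints (⟨_, hηs, hη⟩ : (W : Set X).Nonempty) W.2.isLocallyClosed
  refine ⟨x, hxW.2, hx, ?_⟩
  letI : (W : Scheme.{u}).Over (Spec (CommRingCat.of k)) := ⟨W.ι ≫ c⟩
  haveI : LocallyOfFinitePresentation ((W : Scheme.{u}) ↘ Spec (CommRingCat.of k)) :=
    show LocallyOfFinitePresentation (W.ι ≫ c) from inferInstance
  haveI : Smooth ((W : Scheme.{u}) ↘ Spec (CommRingCat.of k)) := by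
    rw [← Scheme.Hom.smoothLocus_eq_top_iff]
    refine top_unique fun w _ => ?_
    have hw : (c.stalkMap (W.ι w)).hom.FormallySmooth := w.2.1
    change ((W.ι ≫ c).stalkMap w).hom.FormallySmooth
    rw [Scheme.Hom.stalkMap_comp]
    exact RingHom.FormallySmooth.comp hw
      (RingHom.FormallySmooth.of_bijective (ConcreteCategory.bijective_of_isIso (W.ι.stalkMap w)))
  have hdW : topologicalKrullDim (W : Scheme.{u}) ≤ 1 :=
    (Topology.IsEmbedding.subtypeVal.isInducing.topologicalKrullDim_le
      (f := (Subtype.val : W → X))).trans hdim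
  have hxc : IsClosed ({⟨x, hxW⟩} : Set (W : Scheme.{u})) := by
    have h1 : IsClosed ((Subtype.val : W → X) ⁻¹' {x}) := hx.preimage continuous_subtype_val
    have e : (Subtype.val : W → X) ⁻¹' {x} = ({⟨x, hxW⟩} : Set W) :=
      Set.ext fun z => by
        simp only [Set.mem_preimage, Set.mem_singleton_iff]
        exact (Subtype.ext_iff (a2 := ⟨x, hxW⟩)).symm
    exact e ▸ h1
  haveI := (CurveBundle.SmoothField.closed_stalk k (X := (W : Scheme.{u})) hdW hxc).2
  exact IsPrincipalIdealRing.of_surjective (W.stalkIso ⟨x, hxW⟩).commRingCatIsoToRingEquiv.toRingHom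
    (W.stalkIso ⟨x, hxW⟩).commRingCatIsoToRingEquiv.surjective

omit [IsAlgClosed k] [X.Over (Spec (CommRingCat.of k))] [IsProper (X ↘ Spec (CommRingCat.of k))] in
/-- A nonzero section generates on a nonempty open. -/
theorem exists_open_span {L : X.Modules} (hL : PicF.IsInvertible L) {t : Γ(L, ⊤)} (ht : t ≠ 0) :
    ∃ U : X.Opens, (U : Set X).Nonempty ∧ ∀ x ∈ U,
      Submodule.span (X.presheaf.stalk x) {L.presheaf.germ ⊤ x trivial t} = ⊤ := by
  by_contra hcon
  push Not at hcon
  have hone : ∀ x : X, ∃ (U : X.Opens), x ∈ U ∧ rs L (le_top : U ≤ ⊤) t = 0 := by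
    intro x
    obtain ⟨U, e, hxU, he⟩ := Gen.isInvertible_iff.1 hL x
    refine ⟨U, hxU, ?_⟩
    obtain ⟨b, hb⟩ := (he U le_rfl).2 (rs L le_top t)
    simp only [rs_self] at hb
    by_cases hb0 : X.basicOpen b = ⊥
    · rw [← hb, (basicOpen_eq_bot_iff b).1 hb0, zero_smul]
    · exfalso
      have hne : (X.basicOpen b : Set X).Nonempty :=
        Set.nonempty_iff_ne_empty.2 fun h => hb0 (Opens.ext (by simpa using h))
      obtain ⟨y, hy, hys⟩ := hcon _ hne
      have hyU : y ∈ U := X.basicOpen_le b hy
      have hu : IsUnit (X.presheaf.germ U y hyU b) := (X.mem_basicOpen b y hyU).1 hy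
      apply hys
      rw [eq_top_iff]
      intro v _
      obtain ⟨W, hyW, m, rfl⟩ := TopCat.Presheaf.germ_exist (F := L.presheaf) v
      obtain ⟨c, hc⟩ := (he (W ⊓ U) inf_le_right).2 (rs L inf_le_left m)
      simp only at hc
      have hyWU : y ∈ W ⊓ U := ⟨hyW, hyU⟩
      have h1 : L.presheaf.germ W y hyW m =
          X.presheaf.germ _ y hyWU c • L.presheaf.germ U y hyU e := by
        rw [← TopCat.Presheaf.germ_res_apply L.presheaf
          (homOfLE (inf_le_left : W ⊓ U ≤ W)) y hyWU m,
          ← TopCat.Presheaf.germ_res_apply L.presheaf (homOfLE (inf_le_right : W ⊓ U ≤ U)) y hyWU e,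
          ← Modules.StalkModule.germ_smul]
        exact congrArg _ hc.symm
      have h2 : L.presheaf.germ ⊤ y trivial t =
          X.presheaf.germ U y hyU b • L.presheaf.germ U y hyU e := by
        rw [← Modules.StalkModule.germ_smul, hb]
        exact (TopCat.Presheaf.germ_res_apply L.presheaf (homOfLE (le_top : U ≤ ⊤)) y hyU t).symm
      obtain ⟨d, hd⟩ := hu.exists_left_inv
      rw [h1, Submodule.mem_span_singleton]
      exact ⟨X.presheaf.germ _ y hyWU c * d, by rw [h2, smul_smul, mul_assoc, hd, mul_one]⟩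
  choose U hU hz using hone
  apply ht
  refine TopCat.Presheaf.section_ext (⟨L.presheaf, L.isSheaf⟩ : TopCat.Sheaf Ab X.toTopCat) ⊤ t 0
    fun x _ => ?_
  rw [map_zero]
  exact (TopCat.Presheaf.germ_res_apply L.presheaf (homOfLE (le_top : U x ≤ ⊤)) x (hU x) t).symm.trans
    ((congrArg _ (hz x)).trans (map_zero _))

omit [IsAlgClosed k] [X.Over (Spec (CommRingCat.of k))] [IsProper (X ↘ Spec (CommRingCat.of k))]
  [IsIntegral X] in
/-- A generating section does not vanish at the point. -/
theorem evQ_ne_zero {L : X.Modules} (hL : PicF.IsInvertible L) {x : X}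
    (hx : IsClosed ({x} : Set X)) (t : Γ(L, ⊤))
    (hs : Submodule.span (X.presheaf.stalk x) {L.presheaf.germ ⊤ x trivial t} = ⊤) :
    (PointIdeal.evQ hx L).app ⊤ t ≠ 0 := by
  intro h0
  have hxs : x ∈ CohB1.support (CohB1.tensorMod (ClSub.quotMod (PointIdeal.ptI hx)) L) := by
    rw [PointIdeal.support_twist_quot hx hL]; rfl
  haveI := PointIdeal.epi_evQ hx hL
  refine hxs (subsingleton_of_forall_eq 0 fun w => ?_)
  obtain ⟨v, rfl⟩ :=
    (Modules.StalkModule.epi_iff_stalkMapₗ_surjective (PointIdeal.evQ hx L)).1 inferInstance x w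
  obtain ⟨a, rfl⟩ := Submodule.mem_span_singleton.1
    (hs ▸ Submodule.mem_top : v ∈ Submodule.span _ {L.presheaf.germ ⊤ x trivial t})
  rw [map_smul]
  exact (congrArg (a • ·) ((Modules.StalkModule.stalkMapₗ_germ (PointIdeal.evQ hx L) (U := ⊤) trivial t).trans
    ((congrArg _ h0).trans (map_zero _)))).trans (smul_zero a)

/-- Twisting down at a suitable regular point drops `h⁰` by one and keeps the Euler characteristic
in step. -/
theorem exists_step (hdim : topologicalKrullDim X = 1) {L : X.Modules} (hL : PicF.IsInvertible L)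
    (hs : 0 < Euler.hdim k X L 0) :
    ∃ L' : X.Modules, PicF.IsInvertible L' ∧ Euler.hdim k X L' 0 + 1 = Euler.hdim k X L 0 ∧
      Euler.hdim k X L' 1 = Euler.hdim k X L 1 := by
  have hd := hdim.le
  haveI := GlobalSections.isNoetherian_of_proper k X
  haveI : Nontrivial (Coh.HH X L 0) := Module.nontrivial_of_finrank_pos (R := k) hs
  haveI := Clifford.nontrivial_sections (L := L) ‹_›
  obtain ⟨t, ht⟩ := exists_ne (0 : (L.val.obj (op ⊤) : Type u))
  obtain ⟨U, hU, hspan⟩ := exists_open_span hL (t := t) ht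
  obtain ⟨x, hxU, hx, hP⟩ := exists_good_point (k := k) hd U hU
  have hne := evQ_ne_zero hL hx t (hspan x hxU)
  have hI := GenusZero.isInvertible_ptI hdim hx hP
  refine ⟨_, Invertible.isInvertible_tensorMod hI hL, ?_⟩
  have hb := PointIdeal.hdim_twist_ideal_point (k := k) hx hd hL
  have hq := PointIdeal.hdim_quot_point_algClosed (k := k) hx hd
  have hlt : Euler.hdim k X (CohB1.tensorMod (ClSub.idealMod (PointIdeal.ptI hx)) L) 0 ≠
      Euler.hdim k X L 0 := fun he => hne ((PointIdeal.hdim_eq_iff (k := k) hx hd hL).1 he t)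
  have h1 : Euler.hdim k X (CohB1.tensorMod (ClSub.idealMod (PointIdeal.ptI hx)) L) 0 + 1 =
      Euler.hdim k X L 0 := by omega
  refine ⟨h1, ?_⟩
  have hgs : genericPoint X ∉ ((PointIdeal.ptI hx).support : Set X) :=
    IdealTwist.genericPoint_not_mem hdim (by
      rw [PointIdeal.support_ptI]
      exact topologicalKrullDim_zero_of_discreteTopology ({x} : Set X))
  have he := IdealTwist.euler_twist_ideal (k := k) hd hgs hL
  rw [Euler.euler_eq (IdealTwist.isGood_twist (k := k) hd _ hL).vanish,
    Euler.euler_eq (Degree.isGood (k := k) hd hL).vanish, hq] at he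
  omega

/-- Invertible modules of every degree. -/
theorem exists_deg (hdim : topologicalKrullDim X = 1) (n : ℕ) :
    ∃ L : X.Modules, PicF.IsInvertible L ∧ Curv2.deg k X L 1 = n := by
  have hd := hdim.le
  haveI := GlobalSections.isNoetherian_of_proper k X
  obtain ⟨x, -, hx, hP⟩ := exists_good_point (k := k) hd ⊤ ⟨genericPoint X, trivial⟩
  have hI := GenusZero.isInvertible_ptI hdim hx hP
  obtain ⟨A, hA, ⟨eA⟩⟩ := Invertible.exists_inverse hI
  have hgs : genericPoint X ∉ ((PointIdeal.ptI hx).support : Set X) :=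
    IdealTwist.genericPoint_not_mem hdim (by
      rw [PointIdeal.support_ptI]
      exact topologicalKrullDim_zero_of_discreteTopology ({x} : Set X))
  have hA1 : Curv2.deg k X A 1 = 1 := by
    have h := Degree.deg_tensor (k := k) hd hI hA
    rw [Euler.deg_eq_of_iso eA, Degree.deg_structureModule, Degree.deg_idealMod hd hI hgs,
      PointIdeal.hdim_quot_point_algClosed hx hd] at h
    omega
  induction n with
  | zero => exact ⟨_, PicLoc.isInvertible_structureModule X, by simpa using Degree.deg_structureModule⟩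
  | succ n ih =>
    obtain ⟨L, hL, hLd⟩ := ih
    exact ⟨_, Invertible.isInvertible_tensorMod hA hL, by
      rw [Degree.deg_tensor hd hA hL, hA1, hLd]; push_cast; ring⟩

end Groth.Agent.Lib.CurveFF.GoodPoints
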