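import Groth.Agent.Lib.CurveFF.NondegMap
import Groth.Agent.Lib.LefPen45.HypSheaf

/-!
Hypersurfaces containing the image of a curve: a form whose value at the coordinate functions
vanishes has the curve in its zero scheme.
-/

noncomputable section
set_option autoImplicit false
set_option linter.style.haveILetI false
universe u

open CategoryTheory CategoryTheory.Limits AlgebraicGeometry TopologicalSpace Opposite WithZero
open Groth.Agent.Lib.TensorMod Groth.Agent.Lib.TensorMod.Gen
open Groth.Agent.Lib.ProjSpace Groth.Agent.Lib.Ample.GenLocus Groth.Agent.Lib.ProjMor.Sec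
open Groth.Agent.Lib.TensorMod.Dual Groth.Agent.Lib.TensorMod.Basic
open Groth.Agent.Lib.FunFld.Degree

namespace Groth.Agent.Lib.CurveFF.HypContain

attribute [local instance] Curv2.stalkAlgebra

variable {k : Type u} [Field k] {n : ℕ} {X : Scheme.{u}} [IsIntegral X]

local notation "𝒜" => CohB1.polyGrading n k

/-- The value at the generic point of a polynomial dehomogenised in the chart `T_l ≠ 0`. -/
def val (i : X ⟶ CohB1.ProjSpace n k) (l : Fin (n + 1))
    (hη : genericPoint X ∈ i ⁻¹ᵁ LefPen.chart n k l) :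
    MvPolynomial (Fin (n + 1)) k →+* X.functionField :=
  ((X.presheaf.germ (i ⁻¹ᵁ LefPen.chart n k l) (genericPoint X) hη).hom.comp
      (i.app (LefPen.chart n k l)).hom).comp
    ((Proj.awayToSection 𝒜 (MvPolynomial.X l)).hom.comp ((Charts.fromPoly k l).comp (Charts.dehom k l)))

theorem dehom_eq {d : ℕ} (G : LefPen.Form n k d) (l : Fin (n + 1)) :
    LefPen.dehom G l = Proj.awayToSection 𝒜 (MvPolynomial.X l)
      (Charts.fromPoly k l (Charts.dehom k l G.1)) := by
  refine congrArg (Proj.awayToSection 𝒜 (MvPolynomial.X l)) ?_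
  refine HomogeneousLocalization.val_injective _ ?_
  erw [HomogeneousLocalization.Away.val_mk]
  rw [Localization.mk_eq_mk', eq_comm, IsLocalization.eq_mk'_iff_mul_eq, mul_comm]
  simpa using Charts.fromPoly_dehom_of_isHomogeneous l (m := d)
    (show (G.1 : MvPolynomial (Fin (n + 1)) k).IsHomogeneous d from G.2)

theorem val_form (i : X ⟶ CohB1.ProjSpace n k) (l : Fin (n + 1))
    (hη : genericPoint X ∈ i ⁻¹ᵁ LefPen.chart n k l) {d : ℕ} (G : LefPen.Form n k d) :
    val i l hη G.1 = X.presheaf.germ (i ⁻¹ᵁ LefPen.chart n k l) (genericPoint X) hη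
      (i.app (LefPen.chart n k l) (LefPen.dehom G l)) := by
  rw [dehom_eq]; rfl

/-- A form with vanishing value in one chart vanishes on the curve. -/
theorem hypIdeal_le_ker (i : X ⟶ CohB1.ProjSpace n k) [QuasiCompact i] (l : Fin (n + 1))
    (hη : genericPoint X ∈ i ⁻¹ᵁ LefPen.chart n k l) {d : ℕ} (G : LefPen.Form n k d)
    (h0 : val i l hη G.1 = 0) : LefPen.hypIdeal G ≤ i.ker := by
  refine Scheme.IdealSheafData.le_of_iSup_eq_top (fun j => LefPen45.HypSheaf.chartAff k j)
    (Basic.iSup_basicOpen_X_eq_top n k) fun j => ?_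
  rw [LefPen45.HypSheaf.hypIdeal_chart, Scheme.Hom.ker_apply, Ideal.span_le,
    Set.singleton_subset_iff, SetLike.mem_coe, RingHom.mem_ker]
  rcases ((i ⁻¹ᵁ LefPen.chart n k j : X.Opens) : Set X).eq_empty_or_nonempty with he | hne
  · haveI : Subsingleton Γ(X, i ⁻¹ᵁ LefPen.chart n k j) := by
      rw [show i ⁻¹ᵁ LefPen.chart n k j = ⊥ from Opens.ext he]; infer_instance
    exact Subsingleton.elim _ _
  have hηj : genericPoint X ∈ i ⁻¹ᵁ LefPen.chart n k j :=
    ((genericPoint_spec X).mem_open_set_iff (i ⁻¹ᵁ LefPen.chart n k j).2).2 (by simpa using hne)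
  haveI : Nonempty (i ⁻¹ᵁ LefPen.chart n k j : X.Opens) := ⟨⟨_, hηj⟩⟩
  refine germ_injective_of_isIntegral X _ hηj ?_
  rw [map_zero]
  -- pass to the overlap
  have hW : genericPoint X ∈ i ⁻¹ᵁ (LefPen.chart n k j ⊓ LefPen.chart n k l) := ⟨hηj, hη⟩
  have e := LefPen45.HypSheaf.dehom_res G l j (LefPen.chart n k j ⊓ LefPen.chart n k l)
    inf_le_right inf_le_left
  have key : ∀ (U : (CohB1.ProjSpace n k).Opens) (hU : LefPen.chart n k j ⊓ LefPen.chart n k l ≤ U)
      (s : Γ(CohB1.ProjSpace n k, U)),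
      X.presheaf.germ (i ⁻¹ᵁ (LefPen.chart n k j ⊓ LefPen.chart n k l)) (genericPoint X) hW
        (i.app _ ((CohB1.ProjSpace n k).presheaf.map (homOfLE hU).op s)) =
      X.presheaf.germ (i ⁻¹ᵁ U) (genericPoint X) (hU hW) (i.app U s) := by
    intro U hU s
    have h1 := congrArg (fun t => t.hom s) (i.naturality (homOfLE hU).op)
    refine (congrArg _ h1).trans ?_
    exact TopCat.Presheaf.germ_res_apply X.presheaf _ _ hW _
  rw [← key _ inf_le_left, e, map_mul, map_mul, key _ inf_le_right, ← val_form i l hη G, h0,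
    mul_zero]

variable [X.Over (Spec (CommRingCat.of k))]

theorem val_C (i : X ⟶ CohB1.ProjSpace n k)
    (hi : i ≫ CohB1.ProjSpace.toSpec n k = X ↘ Spec (CommRingCat.of k)) (l : Fin (n + 1))
    (hη : genericPoint X ∈ i ⁻¹ᵁ LefPen.chart n k l) (c : k) :
    val i l hη (MvPolynomial.C c) = algebraMap k X.functionField c := by
  let V : (CohB1.ProjSpace n k).Opens := Proj.basicOpen 𝒜 (MvPolynomial.X l)
  let U : X.Opens := i ⁻¹ᵁ V
  have h1 := congrArg (fun t => t c)
    (congrArg CommRingCat.Hom.hom (Embedded.constants_chart (k := k) (n := n) l))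
  have h1' : Proj.awayToSection 𝒜 (MvPolynomial.X l) (Charts.constHom k l c) =
      (CohB1.ProjSpace.toSpec n k).appLE ⊤ V le_top ((Scheme.ΓSpecIso (CommRingCat.of k)).inv c) := h1
  show X.presheaf.germ U (genericPoint X) hη (i.app V (Proj.awayToSection 𝒜 (MvPolynomial.X l)
    (Charts.fromPoly k l (Charts.dehom k l (MvPolynomial.C c))))) = _
  rw [show Charts.dehom k l (MvPolynomial.C c) = MvPolynomial.C c by simp [Charts.dehom],
    Charts.fromPoly_C]
  refine (congrArg (fun z => X.presheaf.germ U (genericPoint X) hη (i.app V z)) h1').trans ?_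
  have h2 : i.app V ((CohB1.ProjSpace.toSpec n k).appLE ⊤ V le_top
      ((Scheme.ΓSpecIso (CommRingCat.of k)).inv c)) =
      X.presheaf.map (homOfLE (le_top : U ≤ ⊤)).op (Coh.toGlobal (X ↘ Spec (CommRingCat.of k)) c) := by
    have key : ∀ (p : X ⟶ Spec (CommRingCat.of k)), i ≫ CohB1.ProjSpace.toSpec n k = p →
        (i ≫ CohB1.ProjSpace.toSpec n k).appLE ⊤ U le_top = p.appLE ⊤ U le_top := by
      rintro p rfl; rfl
    have h3 := key _ hi
    rw [← Scheme.Hom.appLE_comp_appLE i (CohB1.ProjSpace.toSpec n k) ⊤ V U le_top le_rfl,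
      Scheme.Hom.appLE_eq_app i] at h3
    exact congrArg (fun t => t.hom ((Scheme.ΓSpecIso (CommRingCat.of k)).inv c)) h3
  exact (congrArg _ h2).trans (TopCat.Presheaf.germ_res_apply X.presheaf _ _ hη _)

/-- Coordinate functions of a map to projective space: they have poles bounded by the divisor of
`O(1)`, and a form vanishing on them vanishes on the image. -/
theorem exists_coords [IsAlgClosed k] [IsProper (X ↘ Spec (CommRingCat.of k))] (h : CurveHyp X)
    (hK : _root_.FunFld.IsFunctionField k X.functionField) (ψ : X ⟶ CohB1.ProjSpace n k)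
    [QuasiCompact ψ] (hψk : ψ ≫ CohB1.ProjSpace.toSpec n k = X ↘ Spec (CommRingCat.of k)) :
    ∃ (z : Fin (n + 1) → X.functionField) (D : _root_.FunFld.Divisor k X.functionField),
      D.deg = Curv2.deg k X ((Scheme.Modules.pullback ψ).obj (Twist.twistProjSpace n k 1)) 1 ∧
      (∀ j, z j ∈ _root_.FunFld.L D) ∧
      ∀ {d : ℕ} (G : LefPen.Form n k d), MvPolynomial.aeval z G.1 = 0 →
        LefPen.hypIdeal G ≤ ψ.ker := by
  classical
  let el : Fin (n + 1) → 𝒜 1 := fun i => ⟨MvPolynomial.X i, MvPolynomial.isHomogeneous_X k i⟩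
  let L := (Scheme.Modules.pullback ψ).obj (Twist.twistProjSpace n k 1)
  have hinv : PicF.IsInvertible (Twist.twist 𝒜 1) :=
    ProjTilde.Invertible.twist_isInvertible_of_cover (fun y => by
      obtain ⟨c, hc⟩ := ProjMor.Main.cover (ProjMor.Poly.lin_mem n k) (ProjMor.Poly.adjoin_lin n k) y
      exact ⟨c, c.2, hc⟩) 1
  have hL : PicF.IsInvertible L := PicLoc.isInvertible_pullback ψ hinv
  obtain ⟨R⟩ := LineDiv.nonempty_rep hL
  obtain ⟨l, hl⟩ : ∃ l, ψ (genericPoint X) ∈ Proj.basicOpen 𝒜 (MvPolynomial.X l) :=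
    Opens.mem_iSup.mp ((Basic.iSup_basicOpen_X_eq_top n k).ge trivial)
  let V : (CohB1.ProjSpace n k).Opens := Proj.basicOpen 𝒜 (MvPolynomial.X l)
  let U : X.Opens := ψ ⁻¹ᵁ V
  have hη : genericPoint X ∈ U := hl
  let sec : 𝒜 1 → Γ(L, ⊤) := fun b =>
    ProjUP.pullSec ψ (Twist.twistProjSpace n k 1) (ProjMor.Frame.g 𝒜 b)
  let gs : Γ(L, ⊤) → X.functionField := fun t =>
    R.coord (L.presheaf.germ ⊤ (genericPoint X) trivial t)
  let φ : MvPolynomial (Fin (n + 1)) k →+* X.functionField := val ψ l hη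
  -- the ratio
  have hrel : ∀ b : 𝒜 1, gs (sec b) = φ (b : MvPolynomial (Fin (n + 1)) k) * gs (sec (el l)) := by
    intro b
    have hfr : ProjMor.Frame.fr 𝒜 (el l) b = Proj.awayToSection 𝒜 (MvPolynomial.X l)
        (Charts.fromPoly k l (Charts.dehom k l (b : MvPolynomial (Fin (n + 1)) k))) := by
      refine congrArg (Proj.awayToSection 𝒜 (MvPolynomial.X l)) ?_
      refine HomogeneousLocalization.val_injective _ ?_
      erw [HomogeneousLocalization.Away.val_mk]
      rw [Localization.mk_eq_mk', eq_comm, IsLocalization.eq_mk'_iff_mul_eq, mul_comm]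
      simpa using Charts.fromPoly_dehom_of_isHomogeneous l (m := 1)
        (show (b : MvPolynomial (Fin (n + 1)) k).IsHomogeneous 1 from b.2)
    have h1 := ProjMor.Embed.ratio_of_iso (a := el l) (b := b) (va := sec (el l)) (vb := sec b)
      (Iso.refl L) rfl rfl (U := U) le_rfl
    have h2 := congrArg (fun v => R.coord (L.presheaf.germ U (genericPoint X) hη v)) h1
    refine Eq.trans ?_ (h2.trans ?_)
    · exact congrArg R.coord (TopCat.Presheaf.germ_res_apply L.presheaf _ _ hη (sec b)).symm
    · rw [Modules.StalkModule.germ_smul, map_smul, smul_eq_mul]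
      refine congrArg₂ (fun a b : X.functionField => a * b) ?_
        (congrArg R.coord (TopCat.Presheaf.germ_res_apply L.presheaf _ _ hη (sec (el l))))
      refine (congrArg (fun t => X.presheaf.germ U (genericPoint X) hη
        (t (ProjMor.Frame.fr 𝒜 (el l) b))) (Scheme.Hom.appLE_eq_app ψ)).trans ?_
      rw [hfr]
      rfl
  -- non-vanishing
  have hgen : IsGen L U (rs L le_top (sec (el l))) := by
    have hle : U ≤ locus (sec (el l)) := by
      rw [show U = ψ ⁻¹ᵁ Proj.basicOpen 𝒜 (el l : MvPolynomial (Fin (n + 1)) k) from rfl,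
        ← ProjMor.Frame.locus_g (ProjMor.Main.cover (ProjMor.Poly.lin_mem n k) (ProjMor.Poly.adjoin_lin n k)) (el l)]
      exact (locus_pullback hinv ψ _).ge
    have h' := (isGen_locus (sec (el l))).res hle
    rwa [rs_rs] at h'
  have hgl : gs (sec (el l)) ≠ 0 := fun h0 => by
    have hg0 : L.presheaf.germ U (genericPoint X) hη (rs L (le_top : U ≤ ⊤) (sec (el l))) =
        L.presheaf.germ U (genericPoint X) hη 0 := by
      rw [map_zero]
      exact R.coord.injective (((congrArg R.coord (TopCat.Presheaf.germ_res_apply L.presheaf _ _ hη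
        (sec (el l)))).trans h0).trans (map_zero R.coord).symm)
    obtain ⟨W, hW, i₁, i₂, hW0⟩ := TopCat.Presheaf.germ_eq L.presheaf _ hη hη _ _ hg0
    rw [map_zero] at hW0
    haveI : Nonempty W := ⟨⟨_, hW⟩⟩
    refine one_ne_zero (α := Γ(X, W)) ((hgen W i₁.le).1 ?_)
    simp only [one_smul, zero_smul]
    exact hW0
  have hφ : ∀ p, φ p = MvPolynomial.aeval (fun j => φ (MvPolynomial.X j)) p := by
    intro p
    refine DFunLike.congr_fun (MvPolynomial.ringHom_ext (f := φ)
      (g := (MvPolynomial.aeval (R := k) (fun j => φ (MvPolynomial.X j))).toRingHom) (fun c => ?_)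
      fun j => ?_) p
    · show φ (MvPolynomial.C c) = MvPolynomial.aeval (R := k) (fun j => φ (MvPolynomial.X j)) (MvPolynomial.C c)
      rw [MvPolynomial.aeval_C]; exact val_C ψ hψk l hη c
    · show φ (MvPolynomial.X j) = MvPolynomial.aeval (R := k) (fun j => φ (MvPolynomial.X j)) (MvPolynomial.X j)
      rw [MvPolynomial.aeval_X]
  refine ⟨fun j => φ (MvPolynomial.X j), R.div (k := k) h hK + _root_.FunFld.div k (gs (sec (el l))),
    ?_, fun i P => ?_, fun G hG => hypIdeal_le_ker ψ l hη G ((hφ G.1).trans hG)⟩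
  · rw [FunFld.Degree.deg_add, FunFld.Degree.deg_div hK, add_zero, R.deg_eq h hK]
  · show P.1 (φ (MvPolynomial.X i)) ≤ _
    have h1 : gs (sec (el i)) ∈ _root_.FunFld.L (R.div (k := k) h hK) :=
      CanonicalEmb.coord_germ_mem h R hK (sec (el i))
    have h2 := h1 P
    rw [show gs (sec (el i)) = φ (MvPolynomial.X i) * gs (sec (el l)) from hrel (el i), map_mul,
      FunFld.Place.val_eq_exp P hgl] at h2
    rw [Finsupp.add_apply, div_apply hK, exp_add]
    have h3 := mul_le_mul' h2 (le_refl (exp (P.ord (gs (sec (el l))))))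
    rwa [mul_assoc, ← exp_add, neg_add_cancel, exp_zero, mul_one] at h3

/-- Products of `d` functions with poles bounded by `D` have poles bounded by `d • D`. -/
theorem aeval_mem_L (hK : _root_.FunFld.IsFunctionField k X.functionField)
    {z : Fin (n + 1) → X.functionField} {D : _root_.FunFld.Divisor k X.functionField}
    (hz : ∀ j, z j ∈ _root_.FunFld.L D) :
    ∀ {d : ℕ} (G : LefPen.Form n k d), MvPolynomial.aeval z G.1 ∈ _root_.FunFld.L (d • D) := by
  intro d G
  have hG : G.1 ∈ MvPolynomial.homogeneousSubmodule (Fin (n + 1)) k 1 ^ d := by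
    rw [MvPolynomial.homogeneousSubmodule_one_pow]; exact G.2
  generalize G.1 = p at hG ⊢
  clear G
  induction d generalizing p with
  | zero =>
    rw [pow_zero, Submodule.mem_one] at hG
    obtain ⟨r, rfl⟩ := hG
    rw [AlgHom.commutes, zero_smul, L_zero hK, Submodule.one_eq_range]
    exact ⟨r, rfl⟩
  | succ d ih =>
    rw [pow_succ'] at hG
    refine Submodule.mul_induction_on hG (fun m hm x hx => ?_) (fun a b ha hb => ?_)
    · rw [map_mul]
      have hm' : MvPolynomial.aeval z m ∈ _root_.FunFld.L D := by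
        rw [MvPolynomial.homogeneousSubmodule_one_eq_span_X] at hm
        refine Submodule.span_induction ?_ (by simp) (fun a b _ _ ha hb => ?_) (fun c a _ ha => ?_) hm
        · rintro _ ⟨j, rfl⟩; simpa using hz j
        · rw [map_add]; exact add_mem ha hb
        · rw [map_smul]; exact Submodule.smul_mem _ c ha
      intro P
      rw [map_mul, show (d + 1) • D = D + d • D by rw [succ_nsmul'], Finsupp.add_apply, exp_add]
      exact mul_le_mul' (hm' P) (ih x hx P)
    · rw [map_add]; exact add_mem ha hb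

end Groth.Agent.Lib.CurveFF.HypContain
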