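import Mathlib.RingTheory.Kaehler.Basic
import Mathlib.RingTheory.Etale.Kaehler
import Mathlib.RingTheory.Derivation.MapCoeffs
import Mathlib.RingTheory.Localization.Module
import Mathlib.Algebra.Polynomial.Derivation
import Mathlib.Algebra.CharP.Two

/-!
Square roots in characteristic two: derivations and differentials of `k[X] ⊕ k[X] y`, `y² = p`.
-/

noncomputable section
set_option autoImplicit false
universe u

open Polynomial
open scoped nonZeroDivisors

namespace Groth.Agent.Lib.CurveFF.SqRoot

variable {k A : Type u} [Field k] [CommRing A] [Algebra k A] {t y : A}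
  (hy : Function.Bijective fun r : k[X] × k[X] => aeval t r.1 + aeval t r.2 * y)
  {p : k[X]} (hrel : y ^ 2 = aeval t p)

/-- The coordinates in the basis `1, y`. -/
def coords : A → k[X] × k[X] := (Equiv.ofBijective _ hy).symm

theorem coords_spec (a : A) : aeval t (coords hy a).1 + aeval t (coords hy a).2 * y = a :=
  (Equiv.ofBijective _ hy).apply_symm_apply a

theorem coords_eq {a : A} {r : k[X] × k[X]} (h : aeval t r.1 + aeval t r.2 * y = a) :
    coords hy a = r :=
  hy.1 ((coords_spec hy a).trans h.symm)

theorem coords_add (a b : A) : coords hy (a + b) = coords hy a + coords hy b :=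
  coords_eq hy (by
    rw [Prod.fst_add, Prod.snd_add, map_add, map_add]
    conv_rhs => rw [← coords_spec hy a, ← coords_spec hy b]
    ring)

theorem coords_smul (c : k) (a : A) : coords hy (c • a) = c • coords hy a :=
  coords_eq hy (by
    rw [Prod.smul_fst, Prod.smul_snd, map_smul, map_smul]
    conv_rhs => rw [← coords_spec hy a]
    rw [smul_add, smul_mul_assoc])

include hrel in
theorem coords_mul (a b : A) :
    coords hy (a * b) = ((coords hy a).1 * (coords hy b).1 + (coords hy a).2 * (coords hy b).2 * p,
      (coords hy a).1 * (coords hy b).2 + (coords hy a).2 * (coords hy b).1) :=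
  coords_eq hy (by
    conv_rhs => rw [← coords_spec hy a, ← coords_spec hy b]
    simp only [map_add, map_mul]
    linear_combination (aeval t (coords hy a).2 * aeval t (coords hy b).2) * -hrel)

include hy hrel in
/-- With `dp = 0` modulo `I` there is a derivation to `A / I` sending `t ↦ 1`, `y ↦ 0`. -/
theorem exists_derivation (I : Ideal A) (hI : aeval t (derivative p) ∈ I) :
    ∃ D : Derivation k A (A ⧸ I), D t = 1 ∧ D y = 0 := by
  let F : A → A := fun a => aeval t (derivative (coords hy a).1) + aeval t (derivative (coords hy a).2) * y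
  have hmul : ∀ a b : A, F (a * b) - (a * F b + b * F a) ∈ I := fun a b => by
    have : F (a * b) - (a * F b + b * F a) =
        aeval t (derivative p) * (aeval t (coords hy a).2 * aeval t (coords hy b).2) := by
      conv_lhs => enter [2, 1, 1]; rw [← coords_spec hy a]
      conv_lhs => enter [2, 2, 1]; rw [← coords_spec hy b]
      simp only [F, coords_mul hy hrel, derivative_add, derivative_mul, map_add, map_mul]
      linear_combination -(aeval t (derivative (coords hy a).2) * aeval t (coords hy b).2 +
        aeval t (derivative (coords hy b).2) * aeval t (coords hy a).2) * hrel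
    rw [this]
    exact I.mul_mem_right _ hI
  let L : A →ₗ[k] A ⧸ I :=
    { toFun := fun a => Ideal.Quotient.mk I (F a)
      map_add' := fun a b => by
        rw [← map_add]
        congr 1
        simp only [F, coords_add, Prod.fst_add, Prod.snd_add, derivative_add, map_add]
        ring
      map_smul' := fun c a => by
        simp only [F, coords_smul, Prod.smul_fst, Prod.smul_snd, derivative_smul, map_smul,
          RingHom.id_apply, smul_mul_assoc, ← smul_add]
        exact (Ideal.Quotient.mkₐ k I).toLinearMap.map_smul c _ }
  have hL : ∀ a b, L (a * b) = a • L b + b • L a := fun a b => by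
    show Ideal.Quotient.mk I (F (a * b)) =
      Ideal.Quotient.mk I a * Ideal.Quotient.mk I (F b) + Ideal.Quotient.mk I b * Ideal.Quotient.mk I (F a)
    rw [← map_mul, ← map_mul, ← map_add]
    exact (Ideal.Quotient.mk_eq_mk_iff_sub_mem _ _).2 (hmul a b)
  refine ⟨Derivation.mk' L hL, ?_, ?_⟩
  · show Ideal.Quotient.mk I (F t) = 1
    have : coords hy t = (X, 0) := coords_eq hy (by simp)
    simp [F, this]
  · show Ideal.Quotient.mk I (F y) = 0
    have : coords hy y = (0, 1) := coords_eq hy (by simp)
    simp [F, this]

include hy hrel in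
/-- In characteristic two there is a derivation sending `t ↦ 0`, `y ↦ 1`. -/
theorem exists_derivation_y [CharP A 2] : ∃ D : Derivation k A A, D t = 0 ∧ D y = 1 := by
  let L : A →ₗ[k] A :=
    { toFun := fun a => aeval t (coords hy a).2
      map_add' := fun a b => by rw [coords_add, Prod.snd_add, map_add]
      map_smul' := fun c a => by rw [coords_smul, Prod.smul_snd, map_smul, RingHom.id_apply] }
  have hL : ∀ a b, L (a * b) = a • L b + b • L a := fun a b => by
    show aeval t (coords hy (a * b)).2 = a * aeval t (coords hy b).2 + b * aeval t (coords hy a).2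
    conv_rhs => enter [1, 1]; rw [← coords_spec hy a]
    conv_rhs => enter [2, 1]; rw [← coords_spec hy b]
    have h2 : (2 : A) = 0 := CharTwo.two_eq_zero
    simp only [coords_mul hy hrel, map_add, map_mul]
    linear_combination -(aeval t (coords hy a).2 * aeval t (coords hy b).2 * y) * h2
  refine ⟨Derivation.mk' L hL, ?_, ?_⟩
  · show aeval t (coords hy t).2 = 0
    rw [coords_eq hy (r := (X, 0)) (by simp)]
    simp
  · show aeval t (coords hy y).2 = 1
    rw [coords_eq hy (r := (0, 1)) (by simp)]
    simp

include hy hrel in
/-- If the differentials are torsion free, `p'` is a unit constant or zero. -/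
theorem derivative_natDegree_eq_zero [CharP A 2] [IsDomain A] [Module.IsTorsionFree A Ω[A⁄k]] :
    (derivative p).natDegree = 0 := by
  by_contra hd
  have hp0 : derivative p ≠ 0 := fun h => hd (by rw [h, natDegree_zero])
  have hinj : ∀ r : k[X], aeval t r = 0 → r = 0 := fun r hr =>
    (Prod.mk.inj (hy.1 (a₁ := (r, 0)) (a₂ := (0, 0)) (by simp [hr]))).1
  have h1 : aeval t (derivative p) • KaehlerDifferential.D k A t = 0 := by
    have h := congrArg (KaehlerDifferential.D k A) hrel
    rw [Derivation.map_aeval, Derivation.leibniz_pow] at h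
    have h2 : (2 : ℕ) • (y ^ (2 - 1) • KaehlerDifferential.D k A y) = 0 := by
      rw [← Nat.cast_smul_eq_nsmul A, Nat.cast_ofNat, CharTwo.two_eq_zero, zero_smul]
    rw [h2] at h
    exact h.symm
  have h3 : KaehlerDifferential.D k A t = 0 :=
    (smul_eq_zero.1 h1).resolve_left fun h => hp0 (hinj _ h)
  obtain ⟨D, hDt, -⟩ := exists_derivation hy hrel (Ideal.span {aeval t (derivative p)})
    (Ideal.subset_span rfl)
  have h4 := congrArg D.liftKaehlerDifferential h3
  rw [Derivation.liftKaehlerDifferential_comp_D, hDt, map_zero, ← map_one (Ideal.Quotient.mk _),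
    Ideal.Quotient.eq_zero_iff_mem, Ideal.mem_span_singleton] at h4
  obtain ⟨a, ha⟩ := h4
  have h5 : (1, 0) = (derivative p * (coords hy a).1, derivative p * (coords hy a).2) := hy.1 (by
    simp only [map_mul, map_one, map_zero, zero_mul, add_zero]
    conv_lhs => rw [ha, ← coords_spec hy a]
    ring)
  exact hd (natDegree_eq_zero_of_isUnit (IsUnit.of_mul_eq_one _ (Prod.mk.inj h5).1.symm))

end Groth.Agent.Lib.CurveFF.SqRoot
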