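import Groth.Agent.Lib.CurveFF.Genus
import Groth.Agent.Lib.CurveFF.SqRootDerivation
import Mathlib.RingTheory.Smooth.StandardSmoothCotangent
import Mathlib.RingTheory.Etale.Kaehler

/-!
The differentials of the function field of a smooth curve form a space of dimension at most one.
-/

noncomputable section
set_option autoImplicit false
set_option linter.style.haveILetI false
universe u

open CategoryTheory AlgebraicGeometry TopologicalSpace
open Groth.Agent.Lib.Curves.PolePoint (cst)
open scoped nonZeroDivisors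

namespace Groth.Agent.Lib.CurveFF

attribute [local instance] Curv2.stalkAlgebra

variable (k : Type u) [Field k] {X : Scheme.{u}} [X.Over (Spec (CommRingCat.of k))] [IsIntegral X]

theorem finrank_kaehler_le_one [Smooth (X ↘ Spec (CommRingCat.of k))]
    [LocallyOfFiniteType (X ↘ Spec (CommRingCat.of k))] [CompactSpace X]
    (hdim : topologicalKrullDim X = 1) :
    Module.Finite X.functionField (Ω[X.functionField⁄k]) ∧
      Module.finrank X.functionField (Ω[X.functionField⁄k]) ≤ 1 := by
  let c := X ↘ Spec (CommRingCat.of k)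
  obtain ⟨x, -, hx⟩ := (isClosed_univ : IsClosed (Set.univ : Set X)).exists_closed_singleton
    Set.univ_nonempty
  obtain ⟨U, hU, V, hV, hxV, e, hst⟩ := Smooth.exists_isStandardSmooth c x
  obtain rfl : U = ⊤ := by
    ext y
    simp only [Opens.coe_top, Set.mem_univ, iff_true, SetLike.mem_coe]
    rw [Subsingleton.elim y (c.base x)]
    exact e hxV
  have hV' : ((Scheme.ΓSpecIso (CommRingCat.of k)).inv ≫ c.appLE ⊤ V e).hom.IsStandardSmooth :=
    RingHom.isStandardSmooth_respectsIso.2 _
      (Scheme.ΓSpecIso (CommRingCat.of k)).commRingCatIsoToRingEquiv.symm hst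
  letI : Algebra k Γ(X, V) := (cst k V).toAlgebra
  have : Algebra.IsStandardSmooth k Γ(X, V) := hV'
  let q := (hV.primeIdealOf ⟨x, hxV⟩).asIdeal
  have : q.IsMaximal := hV.primeIdealOf_isMaximal_of_isClosed ⟨x, hxV⟩ hx
  letI := TopCat.Presheaf.algebra_section_stalk X.presheaf (⟨x, hxV⟩ : V)
  have : IsLocalization.AtPrime (X.presheaf.stalk x) q := hV.isLocalization_stalk ⟨x, hxV⟩
  obtain ⟨ι, σ, _, _, ⟨P⟩⟩ := Algebra.IsStandardSmooth.out (R := k) (S := Γ(X, V))
  have hn : Algebra.IsStandardSmoothOfRelativeDimension P.dimension k Γ(X, V) :=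
    ⟨⟨ι, σ, ‹_›, ‹_›, P, rfl⟩⟩
  have hle : P.dimension ≤ 1 := by
    have h1 := CurveBundle.SmoothField.le_height k (C := Γ(X, V)) P.dimension q
    have h2 := IsLocalization.AtPrime.ringKrullDim_eq_height q (X.presheaf.stalk x)
    rw [ringKrullDim_stalk_eq_coheight] at h2
    have h3 := (SmoothCurve.Stalk.coheight_le_topologicalKrullDim x).trans hdim.le
    rw [h2] at h3
    exact_mod_cast h1.trans (WithBot.coe_le_coe.mp h3)
  have : Nonempty V := ⟨⟨x, hxV⟩⟩
  have hη : genericPoint X ∈ V := (genericPoint_specializes x).mem_open V.2 hxV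
  have := functionField_isFractionRing_of_isAffineOpen X V hV
  haveI : IsScalarTower k Γ(X, V) X.functionField :=
    IsScalarTower.of_algebraMap_eq fun a => (germ_cst hη a).symm
  have hbc : IsBaseChange X.functionField (KaehlerDifferential.map k k Γ(X, V) X.functionField) :=
    (isLocalizedModule_iff_isBaseChange Γ(X, V)⁰ X.functionField _).1 inferInstance
  haveI : Module.Free Γ(X, V) (Ω[Γ(X, V)⁄k]) := inferInstance
  have hr := Algebra.IsStandardSmoothOfRelativeDimension.rank_kaehlerDifferential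
    (R := k) (S := Γ(X, V)) P.dimension
  refine ⟨Module.Finite.equiv hbc.equiv, ?_⟩
  rw [← hbc.equiv.finrank_eq, Module.finrank_baseChange, Module.finrank_eq_of_rank_eq hr]
  exact hle

/-- A chart `k[X] ⊕ k[X] y`, `y² = p` of a smooth curve has `p' ≠ 0`. -/
theorem derivative_ne_zero [Smooth (X ↘ Spec (CommRingCat.of k))]
    [LocallyOfFiniteType (X ↘ Spec (CommRingCat.of k))] [CompactSpace X]
    (hdim : topologicalKrullDim X = 1) {W : X.Opens} (hW : IsAffineOpen W)
    (hη : genericPoint X ∈ W) :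
    letI : Algebra k Γ(X, W) := (cst k W).toAlgebra
    ∀ [CharP Γ(X, W) 2] {t y : Γ(X, W)} {p : Polynomial k},
      (Function.Bijective fun r : Polynomial k × Polynomial k =>
        Polynomial.aeval t r.1 + Polynomial.aeval t r.2 * y) →
      y ^ 2 = Polynomial.aeval t p → Polynomial.derivative p ≠ 0 := by
  letI : Algebra k Γ(X, W) := (cst k W).toAlgebra
  intro _ t y p hy hrel hp
  have : Nonempty W := ⟨⟨_, hη⟩⟩
  have := functionField_isFractionRing_of_isAffineOpen X W hW
  haveI : IsScalarTower k Γ(X, W) X.functionField :=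
    IsScalarTower.of_algebraMap_eq fun a => (germ_cst hη a).symm
  obtain ⟨E, hEt, hEy⟩ := SqRoot.exists_derivation hy hrel ⊥ (by simp [hp])
  obtain ⟨E', hE't, hE'y⟩ := SqRoot.exists_derivation_y hy hrel
  let q := (RingEquiv.quotientBot Γ(X, W)).toRingHom
  let toK : Γ(X, W) →ₗ[Γ(X, W)] X.functionField := Algebra.linearMap Γ(X, W) X.functionField
  let l1 : Ω[Γ(X, W)⁄k] →ₗ[Γ(X, W)] X.functionField :=
    toK ∘ₗ ((Submodule.quotEquivOfEqBot ⊥ rfl).toLinearMap ∘ₗ E.liftKaehlerDifferential)
  let l2 : Ω[Γ(X, W)⁄k] →ₗ[Γ(X, W)] X.functionField := toK ∘ₗ E'.liftKaehlerDifferential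
  let M := Γ(X, W)⁰
  let φ := KaehlerDifferential.map k k Γ(X, W) X.functionField
  have hu : ∀ s : M, IsUnit ((algebraMap Γ(X, W) (Module.End Γ(X, W) X.functionField)) s) :=
    IsLocalizedModule.map_units (S := M) (Algebra.linearMap Γ(X, W) X.functionField)
  let L1 := (IsLocalizedModule.lift M φ l1 hu).extendScalarsOfIsLocalization M X.functionField
  let L2 := (IsLocalizedModule.lift M φ l2 hu).extendScalarsOfIsLocalization M X.functionField
  let dt := φ (KaehlerDifferential.D k Γ(X, W) t)
  let dy := φ (KaehlerDifferential.D k Γ(X, W) y)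
  have h11 : L1 dt = 1 ∧ L1 dy = 0 ∧ L2 dt = 0 ∧ L2 dy = 1 := by
    refine ⟨?_, ?_, ?_, ?_⟩ <;>
      refine (IsLocalizedModule.lift_apply M φ _ hu _).trans ?_
    · simp [l1, toK, hEt]
      rfl
    · simp [l1, toK, hEy]
    · simp [l2, toK, hE't]
    · simp [l2, toK, hE'y]
  obtain ⟨hfin, hle⟩ := finrank_kaehler_le_one k hdim
  have hli : LinearIndependent X.functionField ![dt, dy] := by
    refine LinearIndependent.pair_iff.2 fun a b hab => ?_
    have e1 := congrArg L1 hab
    have e2 := congrArg L2 hab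
    simp only [map_add, map_smul, map_zero, h11.1, h11.2.1, h11.2.2.1, h11.2.2.2, smul_eq_mul,
      mul_one, mul_zero, add_zero, zero_add] at e1 e2
    exact ⟨e1, e2⟩
  have := hli.fintype_card_le_finrank
  simp only [Fintype.card_fin] at this
  omega

end Groth.Agent.Lib.CurveFF
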