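import Groth.Agent.Lib.CurveFF.PlaneGenusOfDiv
import Groth.Agent.Lib.FunFld.Auto
import Mathlib.FieldTheory.Relrank

/-!
Nonspecial very ample divisors of degree at least `g + 3` on a function field.
-/

noncomputable section
set_option autoImplicit false
universe u v

open WithZero IntermediateField
open Groth.Agent.Lib.FunFld Groth.Agent.Lib.FunFld.Degree

namespace Groth.Agent.Lib.CurveFF.PlaneImage

variable {k : Type u} {K : Type v} [Field k] [Field K] [Algebra k K]

local notation "Pl" => _root_.FunFld.Place k K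
local notation "Dv" => _root_.FunFld.Divisor k K
local notation "ℓ" => _root_.FunFld.ell

/-- The divisor of two places. -/
def pair (P Q : Pl) : Dv := Finsupp.single P 1 + Finsupp.single Q 1

theorem pair_nonneg (P Q : Pl) (R : Pl) : 0 ≤ pair P Q R := by
  classical
  simp only [pair, Finsupp.add_apply, Finsupp.single_apply]
  split_ifs <;> omega

theorem one_le_pair {P Q R : Pl} (hR : R = P ∨ R = Q) : 1 ≤ pair P Q R := by
  classical
  simp only [pair, Finsupp.add_apply, Finsupp.single_apply]
  rcases hR with rfl | rfl <;> simp <;> split_ifs <;> omega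

theorem pair_eq_zero {P Q R : Pl} (hR : ¬ (R = P ∨ R = Q)) : pair P Q R = 0 := by
  classical
  simp only [pair, Finsupp.add_apply, Finsupp.single_apply]
  rw [if_neg (fun e => hR (Or.inl e.symm)), if_neg (fun e => hR (Or.inr e.symm)), add_zero]

theorem sub_pair (D : Dv) (P Q : Pl) :
    D - pair P Q = D - Finsupp.single P 1 - Finsupp.single Q 1 := by
  rw [pair]; abel

theorem val_small_le_one {P Q R : Pl} {z : K} (h : R.1 z ≤ exp (-(pair P Q R))) : R.1 z ≤ 1 :=
  h.trans (by rw [← exp_zero, exp_le_exp]; have := pair_nonneg P Q R; omega)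

/-- The functions with one value to first order along two places. -/
def good (P Q : Pl) : Subalgebra k K where
  carrier := {f | ∃ c : k, ∀ R : Pl, R = P ∨ R = Q →
    R.1 (f - algebraMap k K c) ≤ exp (-(pair P Q R))}
  algebraMap_mem' c := ⟨c, fun R _ => by simp⟩
  add_mem' := by
    rintro f g ⟨a, ha⟩ ⟨b, hb⟩
    refine ⟨a + b, fun R hR => ?_⟩
    rw [map_add, add_sub_add_comm]
    exact (R.1.map_add _ _).trans (max_le (ha R hR) (hb R hR))
  mul_mem' := by
    rintro f g ⟨a, ha⟩ ⟨b, hb⟩
    refine ⟨a * b, fun R hR => ?_⟩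
    have hg : R.1 g ≤ 1 := by
      rw [← sub_add_cancel g (algebraMap k K b)]
      exact (R.1.map_add _ _).trans
        (max_le (val_small_le_one (hb R hR)) (Place.val_algebraMap_le R b))
    rw [show f * g - algebraMap k K (a * b) = (f - algebraMap k K a) * g +
      algebraMap k K a * (g - algebraMap k K b) by rw [map_mul]; ring]
    refine (R.1.map_add _ _).trans (max_le ?_ ?_) <;> rw [map_mul]
    · exact (mul_le_of_le_one_right' hg).trans (ha R hR)
    · exact (mul_le_of_le_one_left' (Place.val_algebraMap_le R a)).trans (hb R hR)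

theorem mem_good {P Q : Pl} {f : K} : f ∈ good P Q ↔ ∃ c : k, ∀ R : Pl, R = P ∨ R = Q →
    R.1 (f - algebraMap k K c) ≤ exp (-(pair P Q R)) := Iff.rfl

/-- A quotient of two functions with one value along two places, regular there. -/
theorem div_mem_good {P Q : Pl} {r s : K} (hr : r ∈ good P Q) (hs : s ∈ good P Q)
    (hsP : P.1 s = 1) : r / s ∈ good P Q := by
  obtain ⟨a, ha⟩ := hr
  obtain ⟨b, hb⟩ := hs
  have hb0 : b ≠ 0 := by
    rintro rfl
    have h := hb P (Or.inl rfl)
    rw [map_zero, sub_zero, hsP, ← exp_zero, exp_le_exp] at h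
    have := one_le_pair (Q := Q) (R := P) (P := P) (Or.inl rfl)
    omega
  have hval : ∀ R : Pl, R = P ∨ R = Q → R.1 s = 1 := fun R hR => by
    rw [← sub_add_cancel s (algebraMap k K b), Valuation.map_add_eq_of_lt_right]
    · exact Place.val_algebraMap R hb0
    · rw [Place.val_algebraMap R hb0]
      refine (hb R hR).trans_lt ?_
      rw [← exp_zero, exp_lt_exp]
      have := one_le_pair hR
      omega
  refine ⟨a / b, fun R hR => ?_⟩
  have hs0 : s ≠ 0 := fun e => by simpa [e] using hval R hR
  have hab : algebraMap k K a = algebraMap k K (a / b) * algebraMap k K b := by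
    rw [← map_mul, div_mul_cancel₀ a hb0]
  rw [show r / s - algebraMap k K (a / b) = ((r - algebraMap k K a) -
      algebraMap k K (a / b) * (s - algebraMap k K b)) / s by
    field_simp; rw [hab]; ring, map_div₀, hval R hR, div_one]
  refine (R.1.map_sub _ _).trans (max_le (ha R hR) ?_)
  rw [map_mul]
  exact (mul_le_of_le_one_left' (Place.val_algebraMap_le R _)).trans (hb R hR)

section

variable [IsAlgClosed k] (hK : _root_.FunFld.IsFunctionField k K)
include hK

theorem deg_single_one (P : Pl) :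
    _root_.FunFld.Divisor.deg (Finsupp.single P (1 : ℤ)) = 1 := by
  rw [deg_single, FunFld.Rational.deg_eq_one hK P]; rfl

/-- Divisors of large degree separate two places. -/
theorem no_sep {P Q : Pl} {E : Dv} (hE : 0 ≤ E) (hP : E P = 0) (hQ : E Q = 0)
    (hd : 2 * (_root_.FunFld.genus k K : ℤ) + 1 ≤ E.deg)
    (hgood : ∀ f ∈ _root_.FunFld.L E, f ∈ good P Q) : False := by
  have := finiteDimensional_L hK (E - pair P Q)
  have hle : _root_.FunFld.L E ≤ k ∙ (1 : K) ⊔ _root_.FunFld.L (E - pair P Q) := by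
    intro f hf
    obtain ⟨c, hc⟩ := hgood f hf
    rw [← add_sub_cancel (algebraMap k K c) f]
    refine Submodule.add_mem_sup (Submodule.mem_span_singleton.2
      ⟨c, by rw [Algebra.smul_def, mul_one]⟩) fun R => ?_
    rw [Finsupp.sub_apply]
    by_cases hR : R = P ∨ R = Q
    · have h0 : E R = 0 := by rcases hR with rfl | rfl <;> assumption
      rw [h0, zero_sub]
      exact hc R hR
    · rw [pair_eq_zero hR, sub_zero]
      refine (R.1.map_sub _ _).trans (max_le (hf R) ((Place.val_algebraMap_le R c).trans ?_))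
      rw [← exp_zero, exp_le_exp]
      exact hE R
  have h1 := (Submodule.finrank_mono hle).trans
    (Submodule.finrank_add_le_finrank_add_finrank _ _)
  rw [finrank_span_singleton one_ne_zero] at h1
  change ℓ E ≤ 1 + ℓ (E - pair P Q) at h1
  have hdp : (E - pair P Q).deg = E.deg - 2 := by
    rw [deg_sub, pair, deg_add, deg_single_one hK, deg_single_one hK]; rfl
  have h2 := FunFld.Weil.ell_eq_of_deg_ge hK (D := E) (by omega)
  have h3 := FunFld.Weil.ell_eq_of_deg_ge hK (D := E - pair P Q) (by omega)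
  omega

/-- A divisor whose functions generate the field separates all but finitely many pairs of places. -/
theorem exists_finset_sep {D : Dv} (hD : 0 ≤ D) (hdeg : 1 ≤ D.deg)
    (hb : ∀ P, ℓ (D - Finsupp.single P 1) + 1 ≤ ℓ D) {t u : K} (ht : t ∈ _root_.FunFld.L D)
    (hu : u ∈ _root_.FunFld.L D) (hgen : adjoin k ({t, u} : Set K) = ⊤) :
    ∃ S : Finset Pl, ∀ P ∉ S, ∀ Q, ℓ (D - Finsupp.single P 1 - Finsupp.single Q 1) + 2 ≤ ℓ D := by
  classical
  set E : Dv := ((2 * _root_.FunFld.genus k K + 1 : ℕ) : ℤ) • D with hE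
  have := finiteDimensional_L hK E
  let b := Module.finBasis k (_root_.FunFld.L E)
  have hfrac : ∀ i, ∃ r ∈ Algebra.adjoin k ({t, u} : Set K), ∃ s ∈ Algebra.adjoin k ({t, u} : Set K),
      s ≠ 0 ∧ (b i : K) = r / s := fun i => by
    obtain ⟨r, hr, s, hs, e⟩ := mem_adjoin_iff_div.1
      (show (b i : K) ∈ adjoin k ({t, u} : Set K) by rw [hgen]; trivial)
    rcases eq_or_ne s 0 with rfl | hs0
    · exact ⟨0, zero_mem _, 1, one_mem _, one_ne_zero, by simpa using e⟩
    · exact ⟨r, hr, s, hs, hs0, e⟩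
  choose r hr s hs hs0 he using hfrac
  refine ⟨D.support ∪ Finset.univ.biUnion fun i => (finite_support_ord hK (s i)).toFinset,
    fun P hP Q => ?_⟩
  simp only [Finset.mem_union, Finset.mem_biUnion, Finset.mem_univ, true_and, Set.Finite.mem_toFinset,
    Function.mem_support, Finsupp.mem_support_iff, not_or, not_exists, not_not] at hP
  obtain ⟨hDP, hsP⟩ := hP
  by_contra hlt
  push Not at hlt
  have h1 := hb P
  have h1' := Drop.ell_le_sub_single hK D P
  have h2' := Drop.ell_le_sub_single hK (D - Finsupp.single P 1) Q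
  have hle := L_mono (k := k) (Drop.sub_single_le (D - Finsupp.single P 1) Q)
  have := finiteDimensional_L hK (D - Finsupp.single P 1)
  have heq : _root_.FunFld.L (D - Finsupp.single P 1 - Finsupp.single Q 1) =
      _root_.FunFld.L (D - Finsupp.single P 1) :=
    Submodule.eq_of_le_of_finrank_le hle (by change ℓ _ ≤ ℓ _; omega)
  have hDQ : D Q = 0 := by
    by_contra hne
    have hmono : D - Finsupp.single P 1 - Finsupp.single Q 1 ≤ D - Finsupp.single Q 1 := by
      rw [sub_right_comm]; exact Drop.sub_single_le _ _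
    have hle' : _root_.FunFld.L (D - Finsupp.single P 1) ≤ _root_.FunFld.L (D - Finsupp.single Q 1) :=
      heq ▸ L_mono hmono
    have := finiteDimensional_L hK (D - Finsupp.single Q 1)
    have hQ := hb Q
    have heq' := Submodule.eq_of_le_of_finrank_le hle' (by change ℓ _ ≤ ℓ _; omega)
    have hone : (1 : K) ∈ _root_.FunFld.L (D - Finsupp.single Q 1) := fun R => by
      rw [map_one, ← exp_zero, exp_le_exp, Finsupp.sub_apply]
      have h0 : 0 ≤ D R := hD R
      rcases eq_or_ne R Q with rfl | hRQ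
      · rw [Finsupp.single_eq_same]; omega
      · rw [Finsupp.single_eq_of_ne hRQ]; omega
    rw [← heq'] at hone
    have := hone P
    rw [map_one, ← exp_zero, exp_le_exp, Finsupp.sub_apply, Finsupp.single_eq_same, hDP] at this
    omega
  have hzero : ∀ R : Pl, R = P ∨ R = Q → D R = 0 := fun R hR => by
    rcases hR with rfl | rfl <;> assumption
  have hvar : ∀ x ∈ _root_.FunFld.L D, x ∈ good P Q := by
    intro x hx
    have hx1 : P.1 x ≤ 1 := by simpa [hDP] using hx P
    obtain ⟨c, hc⟩ := FunFld.Hasse.Param.isDegOne hK P x hx1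
    have hc' : x - algebraMap k K c ∈ _root_.FunFld.L (D - Finsupp.single P 1) := fun R => by
      rw [Finsupp.sub_apply]
      rcases eq_or_ne R P with rfl | hRP
      · rw [Finsupp.single_eq_same, hDP]
        rcases eq_or_ne (x - algebraMap k K c) 0 with h0 | h0
        · rw [h0, map_zero]; exact zero_le
        · rw [Place.val_eq_exp R h0] at hc ⊢
          rw [← exp_zero, exp_lt_exp] at hc
          rw [exp_le_exp]; omega
      · rw [Finsupp.single_eq_of_ne hRP, sub_zero]
        refine (R.1.map_sub _ _).trans (max_le (hx R) ((Place.val_algebraMap_le R c).trans ?_))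
        rw [← exp_zero, exp_le_exp]
        exact hD R
    rw [← heq] at hc'
    refine ⟨c, fun R hR => ?_⟩
    have := hc' R
    rwa [← sub_pair, Finsupp.sub_apply, hzero R hR, zero_sub] at this
  have hA : Algebra.adjoin k ({t, u} : Set K) ≤ good P Q :=
    Algebra.adjoin_le (by
      rintro x (rfl | rfl)
      · exact hvar _ ht
      · exact hvar _ hu)
  refine no_sep hK (P := P) (Q := Q) (E := E) (zsmul_nonneg hD (Int.natCast_nonneg _))
    (by rw [hE, Finsupp.smul_apply, hDP, smul_zero]) (by rw [hE, Finsupp.smul_apply, hDQ, smul_zero])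
    ?_ fun f hf => ?_
  · rw [hE, deg_smul]; push_cast
    nlinarith
  · have hbi : ∀ i, (b i : K) ∈ good P Q := fun i => by
      rw [he i]
      exact div_mem_good (hA (hr i)) (hA (hs i)) (by rw [Place.val_eq_exp P (hs0 i), hsP i, neg_zero, exp_zero])
    have h := congrArg Subtype.val (b.sum_repr ⟨f, hf⟩)
    rw [Submodule.coe_sum] at h
    change _ = f at h
    rw [← h]
    refine (good P Q).sum_mem fun i _ => ?_
    rw [Submodule.coe_smul, Algebra.smul_def]
    exact mul_mem ((good P Q).algebraMap_mem _) (hbi i)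

/-- Outside a finite set a place is not a base point. -/
theorem exists_avoid (D : Dv) :
    ∃ S : Finset Pl, ∀ R ∉ S, ℓ (D - Finsupp.single R 1) ≤ ℓ D - 1 := by
  classical
  rcases Nat.eq_zero_or_pos (ℓ D) with h0 | hpos
  · exact ⟨∅, fun R _ => (Drop.ell_le_of_le hK (Drop.sub_single_le D R)).trans (by omega)⟩
  obtain ⟨f, hf0, hf⟩ := FunFld.Riemann.exists_ne_zero_of_ell_pos hpos
  refine ⟨(D + _root_.FunFld.div k f).support, fun R hR => ?_⟩
  have he : R.1 f = exp (D R) := by
    rw [Finsupp.mem_support_iff, not_not, Finsupp.add_apply, div_apply hK] at hR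
    rw [Place.val_eq_exp R hf0]; congr 1; omega
  have := Drop.drop_single hK hf he
  omega

/-- Finitely many divisors have a common place which is a base point of none of them. -/
theorem exists_place {ι : Type*} (s : Finset ι) (D : ι → Dv) (S : Finset Pl) :
    ∃ R : Pl, R ∉ S ∧ ∀ i ∈ s, ℓ (D i - Finsupp.single R 1) ≤ ℓ (D i) - 1 := by
  classical
  choose T hT using fun i => exists_avoid hK (D i)
  haveI := FunFld.Auto.injective_placeOf (k := k) hK
  obtain ⟨R, hR⟩ := Infinite.exists_notMem_finset (S ∪ s.biUnion T)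
  simp only [Finset.mem_union, Finset.mem_biUnion, not_or, not_exists, not_and] at hR
  exact ⟨R, hR.1, fun i hi => hT i R (hR.2 i hi)⟩

/-- A divisor without base points is the polar divisor of a function. -/
theorem exists_poleDiv_eq {D : Dv} (hD : 0 ≤ D)
    (hb : ∀ P, ℓ (D - Finsupp.single P 1) + 1 ≤ ℓ D) :
    ∃ x ∈ _root_.FunFld.L D, poleDiv (k := k) x = D := by
  classical
  rcases eq_or_ne D 0 with rfl | hD0
  · refine ⟨1, fun R => by rw [map_one, ← exp_zero, exp_le_exp]; rfl, ?_⟩
    ext R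
    rw [poleDiv_apply hK, Place.ord_one]
    rfl
  let p : ↥(D.support) → Submodule k (_root_.FunFld.L D) := fun P =>
    (_root_.FunFld.L (D - Finsupp.single (P : Pl) 1)).comap (_root_.FunFld.L D).subtype
  obtain ⟨⟨x, hx⟩, hxp⟩ := Submodule.exists_forall_notMem_of_forall_ne_top p fun P htop => by
    have hle : _root_.FunFld.L D ≤ _root_.FunFld.L (D - Finsupp.single (P : Pl) 1) :=
      fun w hw => (Submodule.eq_top_iff'.1 htop ⟨w, hw⟩ :)
    have := finiteDimensional_L hK (D - Finsupp.single (P : Pl) 1)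
    have h1 := Submodule.finrank_mono hle
    have h2 := hb P
    change ℓ D ≤ ℓ _ at h1
    omega
  refine ⟨x, hx, Finsupp.ext fun R => ?_⟩
  rw [poleDiv_apply hK]
  have hx0 : x ≠ 0 := by
    rintro rfl
    obtain ⟨P, hP⟩ := Finsupp.support_nonempty_iff.2 hD0
    exact hxp ⟨P, hP⟩ (zero_mem _)
  have hord := (mem_L_iff_ord.1 hx).resolve_left hx0
  have h1 := hord R
  by_cases hR : R ∈ D.support
  · by_contra hne
    apply hxp ⟨R, hR⟩
    show x ∈ _root_.FunFld.L (D - Finsupp.single R 1)
    refine mem_L_iff_ord.2 (Or.inr fun T => ?_)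
    have h2 := hord T
    rw [Finsupp.sub_apply]
    have h3 : 0 ≤ D R := hD R
    rcases eq_or_ne T R with rfl | hTR
    · rw [Finsupp.single_eq_same]; omega
    · rw [Finsupp.single_eq_of_ne hTR]; omega
  · rw [Finsupp.mem_support_iff, not_not] at hR
    omega

theorem deg_poleDiv_pos {x : K} (hd : 1 ≤ (poleDiv (k := k) x).deg) : Transcendental k x := by
  by_contra halg
  have h : poleDiv (k := k) x = 0 := Finsupp.ext fun R => by
    rw [poleDiv_apply hK]
    have : R.ord x = 0 := by
      by_contra hne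
      exact halg (FunFld.Existence.transcendental_of_ord_ne_zero hK R hne)
    rw [this]; rfl
  rw [h, deg_zero] at hd
  omega

/-- Two functions of coprime degrees generate the field. -/
theorem adjoin_eq_top {t u : K} {m : ℕ} (hm : 1 ≤ m) (ht : (poleDiv (k := k) t).deg = m)
    (hu : (poleDiv (k := k) u).deg = m + 1) : adjoin k ({t, u} : Set K) = ⊤ := by
  set F := adjoin k ({t, u} : Set K)
  have key : ∀ x : K, x ∈ ({t, u} : Set K) → 1 ≤ (poleDiv (k := k) x).deg →
      (Module.finrank F K : ℤ) ∣ (poleDiv (k := k) x).deg := by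
    intro x hx hd
    rw [deg_poleDiv hK (deg_poleDiv_pos hK hd), Int.natCast_dvd_natCast]
    have hle : adjoin k ({x} : Set K) ≤ F := adjoin.mono k _ _ (Set.singleton_subset_iff.2 hx)
    exact ⟨_, ((mul_comm _ _).trans (relfinrank_mul_finrank_top hle)).symm⟩
  have h1 := key t (Set.mem_insert _ _) (by rw [ht]; exact_mod_cast hm)
  have h2 := key u (Set.mem_insert_of_mem _ rfl) (by rw [hu]; omega)
  rw [ht] at h1
  rw [hu] at h2
  have h3 : (Module.finrank F K : ℤ) ∣ 1 := (Int.dvd_add_right h1).1 h2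
  have h4 : Module.finrank F K = 1 := by
    have := Int.natCast_dvd_natCast.1 (show (Module.finrank F K : ℤ) ∣ ((1 : ℕ) : ℤ) from h3)
    exact Nat.dvd_one.1 this
  refine eq_top_iff.2 ?_
  rw [← relfinrank_eq_one_iff, relfinrank_top_right]
  exact h4

/-- General effective divisors impose independent conditions on the canonical series. -/
theorem exists_general {C : Dv} (hC : _root_.FunFld.IsCanonical k K C) :
    ∀ n : ℕ, n ≤ _root_.FunFld.genus k K →
      ∃ D : Dv, 0 ≤ D ∧ D.deg = n ∧ ℓ (C - D) + n ≤ _root_.FunFld.genus k K := by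
  intro n
  induction n with
  | zero =>
    exact fun _ => ⟨0, le_rfl, by rw [deg_zero]; rfl, by
      rw [sub_zero, FunFld.Weil.ell_canonical hK hC, add_zero]⟩
  | succ n ih =>
    intro hn
    obtain ⟨D, hD, hd, hl⟩ := ih (by omega)
    obtain ⟨R, -, hR⟩ := exists_place hK Finset.univ (fun _ : Unit => C - D) ∅
    have h := hR () (Finset.mem_univ _)
    refine ⟨D + Finsupp.single R 1, add_nonneg hD (Finsupp.single_nonneg.2 zero_le_one), ?_, ?_⟩
    · rw [deg_add, deg_single_one hK, hd]; push_cast; rfl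
    · rw [← sub_sub]
      omega

/-- There are nonspecial very ample divisors of each degree at least `g + 3`. -/
theorem exists_nonspecial {C : Dv} (hC : _root_.FunFld.IsCanonical k K C) (n : ℕ) :
    ∃ D : Dv, D.deg = (_root_.FunFld.genus k K : ℤ) + 3 + n ∧ ℓ (C - D) = 0 ∧
      ∀ P Q, ℓ (D - Finsupp.single P 1 - Finsupp.single Q 1) + 2 ≤ ℓ D := by
  classical
  set g := _root_.FunFld.genus k K with hg
  have hrr := FunFld.Weil.riemann_roch hK hC
  simp only [← hg] at hrr
  have hs := deg_single_one (k := k) (K := K) hK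
  obtain ⟨D₀, hD₀, hd₀, hl₀⟩ := exists_general hK hC g le_rfl
  have hc₀ : ℓ (C - D₀) = 0 := by omega
  -- first point
  obtain ⟨R₁, hR₁, hR₁'⟩ := exists_place hK D₀.support (fun P => C - D₀ + Finsupp.single P 1) D₀.support
  set D₁ := D₀ + Finsupp.single R₁ 1 with hD₁
  have hp₁ : 0 ≤ D₁ := add_nonneg hD₀ (Finsupp.single_nonneg.2 zero_le_one)
  have hd₁ : D₁.deg = g + 1 := by rw [hD₁, deg_add, hs, hd₀]
  have hc₁ : ℓ (C - D₁) = 0 := by
    have := Drop.ell_le_of_le hK (show C - D₁ ≤ C - D₀ from
      sub_le_sub_left (le_add_of_nonneg_right (Finsupp.single_nonneg.2 zero_le_one)) _)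
    omega
  have he₁ : ℓ D₁ = 2 := by
    have := hrr D₁
    omega
  have one_mem : ∀ E : Dv, 0 ≤ E → (1 : K) ∈ _root_.FunFld.L E := fun E hE R => by
    rw [map_one, ← exp_zero, exp_le_exp]; exact hE R
  have drop_zero : ∀ (E : Dv), 0 ≤ E → ∀ P, E P = 0 → ℓ (E - Finsupp.single P 1) + 1 ≤ ℓ E :=
    fun E hE P hP => Drop.drop_single hK (one_mem E hE) (by rw [map_one, hP, exp_zero])
  have hspec : ∀ P, D₁ P ≠ 0 → ℓ (C - D₁ + Finsupp.single P 1) = 0 := by
    intro P hP
    rcases eq_or_ne P R₁ with rfl | hne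
    · rw [hD₁, show C - (D₀ + Finsupp.single P 1) + Finsupp.single P 1 = C - D₀ by abel]
      exact hc₀
    · have hP0 : P ∈ D₀.support := by
        rw [Finsupp.mem_support_iff]
        rwa [hD₁, Finsupp.add_apply, Finsupp.single_eq_of_ne hne, add_zero] at hP
      have h := hR₁' P hP0
      have h' := Drop.ell_le_sub_single hK (C - D₀ + Finsupp.single P 1) P
      rw [add_sub_cancel_right] at h'
      rw [hD₁, show C - (D₀ + Finsupp.single R₁ 1) + Finsupp.single P 1 =
        C - D₀ + Finsupp.single P 1 - Finsupp.single R₁ 1 by abel]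
      omega
  have hb₁ : ∀ P, ℓ (D₁ - Finsupp.single P 1) + 1 ≤ ℓ D₁ := by
    intro P
    by_cases hP : D₁ P = 0
    · exact drop_zero D₁ hp₁ P hP
    · have h := hrr (D₁ - Finsupp.single P 1)
      rw [deg_sub, hs, hd₁, ← sub_add, hspec P hP] at h
      omega
  obtain ⟨t, ht, htd⟩ := exists_poleDiv_eq hK hp₁ hb₁
  -- second point
  obtain ⟨R₂, hR₂, -⟩ := exists_place hK (∅ : Finset Unit) (fun _ => C) D₁.support
  rw [Finsupp.mem_support_iff, not_not] at hR₂
  set D₂ := D₁ + Finsupp.single R₂ 1 with hD₂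
  have hp₂ : 0 ≤ D₂ := add_nonneg hp₁ (Finsupp.single_nonneg.2 zero_le_one)
  have hd₂ : D₂.deg = g + 2 := by rw [hD₂, deg_add, hs, hd₁]; ring
  have hle₁₂ : D₁ ≤ D₂ := le_add_of_nonneg_right (Finsupp.single_nonneg.2 zero_le_one)
  have hc₂ : ℓ (C - D₂) = 0 := by
    have := Drop.ell_le_of_le hK (show C - D₂ ≤ C - D₁ from sub_le_sub_left hle₁₂ _)
    omega
  have he₂ : ℓ D₂ = 3 := by
    have := hrr D₂
    omega
  have hb₂ : ∀ P, ℓ (D₂ - Finsupp.single P 1) + 1 ≤ ℓ D₂ := by
    intro P
    by_cases hP : D₂ P = 0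
    · exact drop_zero D₂ hp₂ P hP
    rcases eq_or_ne P R₂ with rfl | hne
    · rw [he₂, hD₂, add_sub_cancel_right]
      omega
    · rw [hD₂, Finsupp.add_apply, Finsupp.single_eq_of_ne hne, add_zero] at hP
      have h0 := Drop.ell_le_of_le hK (show C - D₂ + Finsupp.single P 1 ≤ C - D₁ + Finsupp.single P 1 from
        add_le_add (sub_le_sub_left hle₁₂ _) le_rfl)
      rw [hspec P hP] at h0
      have h := hrr (D₂ - Finsupp.single P 1)
      rw [deg_sub, hs, hd₂, ← sub_add] at h
      omega
  obtain ⟨u, hu, hud⟩ := exists_poleDiv_eq hK hp₂ hb₂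
  have hgen := adjoin_eq_top hK (m := g + 1) (t := t) (u := u) (by omega)
    (by rw [htd, hd₁]; push_cast; rfl) (by rw [hud, hd₂]; push_cast; ring)
  obtain ⟨S, hS⟩ := exists_finset_sep hK hp₂ (by omega) hb₂ (L_mono hle₁₂ ht) hu hgen
  -- third point
  obtain ⟨R₃, -, hR₃⟩ := exists_place hK (S ×ˢ S) (fun p => C - D₂ + pair p.1 p.2) ∅
  set D₃ := D₂ + Finsupp.single R₃ 1 with hD₃
  have hd₃ : D₃.deg = g + 3 := by rw [hD₃, deg_add, hs, hd₂]; ring
  have hc₃ : ℓ (C - D₃) = 0 := by
    have := Drop.ell_le_of_le hK (show C - D₃ ≤ C - D₂ from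
      sub_le_sub_left (le_add_of_nonneg_right (Finsupp.single_nonneg.2 zero_le_one)) _)
    omega
  have he₃ : ℓ D₃ = 4 := by
    have := hrr D₃
    omega
  have key : ∀ P Q, P ∉ S → ℓ (D₃ - Finsupp.single P 1 - Finsupp.single Q 1) + 2 ≤ ℓ D₃ := by
    intro P Q hP
    have h := hS P hP Q
    have h' := Drop.ell_le_sub_single hK (D₃ - Finsupp.single P 1 - Finsupp.single Q 1) R₃
    rw [show D₃ - Finsupp.single P 1 - Finsupp.single Q 1 - Finsupp.single R₃ 1 =
      D₂ - Finsupp.single P 1 - Finsupp.single Q 1 by rw [hD₃]; abel] at h'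
    omega
  have hv₃ : ∀ P Q, ℓ (D₃ - Finsupp.single P 1 - Finsupp.single Q 1) + 2 ≤ ℓ D₃ := by
    intro P Q
    by_cases hP : P ∉ S
    · exact key P Q hP
    by_cases hQ : Q ∉ S
    · rw [sub_right_comm]; exact key Q P hQ
    simp only [not_not] at hP hQ
    have h := hR₃ (P, Q) (Finset.mem_product.2 ⟨hP, hQ⟩)
    simp only at h
    have h1 := Drop.ell_le_sub_single hK (C - D₂ + pair P Q) P
    have h2 := Drop.ell_le_sub_single hK (C - D₂ + pair P Q - Finsupp.single P 1) Q
    rw [show C - D₂ + pair P Q - Finsupp.single P 1 - Finsupp.single Q 1 = C - D₂ by rw [pair]; abel,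
      hc₂] at h2
    rw [show C - D₂ + pair P Q - Finsupp.single P 1 =
      C - D₂ + Finsupp.single Q 1 by rw [pair]; abel] at h1 h2
    have hrr' := hrr (D₂ - pair P Q)
    rw [← sub_add, deg_sub, hd₂, pair, deg_add, hs, hs, ← pair] at hrr'
    have h3 := Drop.ell_le_of_le hK (show D₂ - pair P Q ≤ D₂ - Finsupp.single P 1 from
      sub_le_sub_left (le_add_of_nonneg_right (Finsupp.single_nonneg.2 zero_le_one)) _)
    have h4 := hb₂ P
    have h5 := hrr (D₃ - pair P Q)
    rw [← sub_add, deg_sub, hd₃, pair, deg_add, hs, hs, ← pair,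
      show C - D₃ + pair P Q = C - D₂ + pair P Q - Finsupp.single R₃ 1 by rw [hD₃]; abel] at h5
    rw [← sub_pair]
    omega
  -- further points
  induction n with
  | zero => exact ⟨D₃, by rw [hd₃]; simp, hc₃, hv₃⟩
  | succ n ih =>
    obtain ⟨D, hd, hc, hv⟩ := ih
    refine ⟨D + Finsupp.single R₁ 1, by rw [deg_add, hs, hd]; push_cast; ring, ?_, fun P Q => ?_⟩
    · have := Drop.ell_le_of_le hK (show C - (D + Finsupp.single R₁ 1) ≤ C - D from
        sub_le_sub_left (le_add_of_nonneg_right (Finsupp.single_nonneg.2 zero_le_one)) _)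
      omega
    · have hc' := Drop.ell_le_of_le hK (show C - (D + Finsupp.single R₁ 1) ≤ C - D from
        sub_le_sub_left (le_add_of_nonneg_right (Finsupp.single_nonneg.2 zero_le_one)) _)
      have h1 := hrr D
      have h2 := hrr (D + Finsupp.single R₁ 1)
      rw [deg_add, hs] at h2
      have h3 := hv P Q
      have h4 := Drop.ell_le_sub_single hK
        (D + Finsupp.single R₁ 1 - Finsupp.single P 1 - Finsupp.single Q 1) R₁
      rw [show D + Finsupp.single R₁ 1 - Finsupp.single P 1 - Finsupp.single Q 1 - Finsupp.single R₁ 1 =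
        D - Finsupp.single P 1 - Finsupp.single Q 1 by abel] at h4
      omega

/-- A nonspecial very ample divisor has degree at least `g + 3`. -/
theorem genus_add_three_le (hg : 2 ≤ _root_.FunFld.genus k K) {C : Dv}
    (hC : _root_.FunFld.IsCanonical k K C) {D : Dv} (hc : ℓ (C - D) = 0)
    (hv : ∀ P Q, ℓ (D - Finsupp.single P 1 - Finsupp.single Q 1) + 2 ≤ ℓ D) :
    (_root_.FunFld.genus k K : ℤ) + 3 ≤ D.deg := by
  classical
  set g := _root_.FunFld.genus k K with hgd
  by_contra hlt
  have hrr := FunFld.Weil.riemann_roch hK hC D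
  obtain ⟨P₀⟩ := FunFld.Riemann.nonempty_place (k := k) hK
  have h0 := hv P₀ P₀
  obtain ⟨F, x, hF, hx, hDe, hdF⟩ := FunFld.SmallGenus.exists_nonneg hK (show 0 < ℓ D by omega)
  rcases (show ℓ D = 2 ∨ ℓ D = 3 by omega) with h2 | h3
  · obtain ⟨P, hP⟩ : ∃ P, 1 ≤ F P := by
      by_contra hcon
      simp only [not_exists, not_le] at hcon
      have := deg_mono (show F ≤ 0 from fun P => Int.lt_add_one_iff.1 (hcon P))
      rw [FunFld.Degree.deg_zero] at this
      omega
    obtain ⟨Q, hQ⟩ : ∃ Q, 1 ≤ (F - Finsupp.single P 1 : Dv) Q := by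
      by_contra hcon
      simp only [not_exists, not_le] at hcon
      have := deg_mono (show (F - Finsupp.single P 1 : Dv) ≤ 0 from
        fun Q => Int.lt_add_one_iff.1 (hcon Q))
      rw [FunFld.Degree.deg_zero, deg_sub, deg_single_one hK] at this
      omega
    have hnn : 0 ≤ F - Finsupp.single P (1 : ℤ) - Finsupp.single Q 1 := fun T => by
      have h0 : (0 : ℤ) ≤ F T := hF T
      simp only [Finsupp.sub_apply, Finsupp.coe_zero, Pi.zero_apply, Finsupp.single_apply] at hQ ⊢
      split_ifs at hQ ⊢ <;> subst_vars <;> first | omega | contradiction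
    have h := hv P Q
    rw [hDe, show F + _root_.FunFld.div k x - Finsupp.single P (1 : ℤ) - Finsupp.single Q 1 =
      F - Finsupp.single P 1 - Finsupp.single Q 1 + _root_.FunFld.div k x by abel,
      FunFld.Riemann.ell_add_div hK _ hx] at h
    rw [hDe, FunFld.Riemann.ell_add_div hK _ hx] at h2
    have := Drop.one_le_ell hK hnn
    rw [FunFld.Riemann.ell_add_div hK _ hx] at h
    omega
  · have h := PlaneGenusOfDiv.two_genus_eq hK h3 fun P Q => by
      have h' := hv P Q
      have h1 := Drop.ell_le_sub_single hK D P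
      have h2 := Drop.ell_le_sub_single hK (D - Finsupp.single P 1) Q
      omega
    rw [show D.deg = (g : ℤ) + 2 by omega] at h
    nlinarith

end

end Groth.Agent.Lib.CurveFF.PlaneImage
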