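import Groth.Agent.Lib.CurveFF.Embedded
import Groth.Agent.Lib.CurveFF.CanonicalEmb
import Groth.Agent.Lib.CurveFF.PlaneImage
import Groth.Agent.Lib.CurveFF.Genus

/-!
A closed immersion in projective space separates places and tangent directions.
-/

noncomputable section
set_option autoImplicit false
set_option linter.style.haveILetI false
universe u

open CategoryTheory CategoryTheory.Limits AlgebraicGeometry TopologicalSpace Opposite WithZero
open Groth.Agent.Lib.TensorMod Groth.Agent.Lib.TensorMod.Gen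
open Groth.Agent.Lib.ProjSpace Groth.Agent.Lib.Ample.GenLocus Groth.Agent.Lib.ProjMor.Sec
open Groth.Agent.Lib.TensorMod.Dual Groth.Agent.Lib.TensorMod.Basic

namespace Groth.Agent.Lib.CurveFF.VeryAmpleSep

attribute [local instance] Curv2.stalkAlgebra

variable {k : Type u} [Field k] {n : ℕ}

local notation "𝒜" => CohB1.polyGrading n k

variable {X : Scheme.{u}} [X.Over (Spec (CommRingCat.of k))] [IsIntegral X] (h : CurveHyp X)

/-- A generating section has the largest allowed value. -/
theorem val_of_isGen {L : X.Modules} (R : LineDiv.Rep L) {U : X.Opens} {t : Γ(L, ⊤)}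
    (he : IsGen L U (rs L le_top t)) (x : CPt X) (hx : x.1 ∈ U) :
    (placeOf k h x).1 (R.coord (L.presheaf.germ ⊤ (genericPoint X) trivial t)) = exp (R.e k h x) := by
  refine le_antisymm ((R.mem_iff (k := k) h x _).1 ⟨_, R.pr_germ (U := ⊤) (x := x.1) trivial t⟩) ?_
  obtain ⟨W, hxW, m, hm⟩ := TopCat.Presheaf.exists_germ_eq L.presheaf (R.gen x.1)
  have hxV : x.1 ∈ W ⊓ U := ⟨hxW, hx⟩
  have hηV : genericPoint X ∈ W ⊓ U := (genericPoint_specializes x.1).mem_open (W ⊓ U).2 hxV
  obtain ⟨a, ha⟩ := (he (W ⊓ U) inf_le_right).2 (rs L inf_le_left m)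
  change a • rs L inf_le_right (rs L le_top t) = rs L inf_le_left m at ha
  rw [← R.val_gen (k := k) h x, ← hm, R.pr_germ hxW m]
  have h1 := congrArg (fun v => R.coord (L.presheaf.germ (W ⊓ U) (genericPoint X) hηV v)) ha
  simp only [Modules.StalkModule.germ_smul, map_smul, smul_eq_mul, rs_rs] at h1
  have e1 : L.presheaf.germ (W ⊓ U) (genericPoint X) hηV (rs L inf_le_left m) =
      L.presheaf.germ W (genericPoint X) hηV.1 m := TopCat.Presheaf.germ_res_apply L.presheaf _ _ hηV m
  have e2 : L.presheaf.germ (W ⊓ U) (genericPoint X) hηV (rs L le_top t) =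
      L.presheaf.germ ⊤ (genericPoint X) trivial t := TopCat.Presheaf.germ_res_apply L.presheaf _ _ hηV t
  rw [e1, e2] at h1
  rw [← h1, map_mul]
  exact mul_le_of_le_one_left' (val_le_one_of_section h hηV x hxV a)

theorem mem_basicOpen_of_val {U : X.Opens} (a : Γ(X, U)) (hη : genericPoint X ∈ U) (x : CPt X)
    (hx : x.1 ∈ U) (hv : (placeOf k h x).1 (X.presheaf.germ U (genericPoint X) hη a) = 1) :
    x.1 ∈ X.basicOpen a := by
  haveI := h.dvr x.1 x.2
  haveI : Nonempty U := ⟨⟨x.1, hx⟩⟩
  rw [Scheme.mem_basicOpen _ _ _ hx]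
  by_contra hnu
  have h1 : (IsDiscreteValuationRing.maximalIdeal (X.presheaf.stalk x.1)).valuation X.functionField
      (algebraMap _ X.functionField (X.presheaf.germ U x.1 hx a)) < 1 :=
    (IsDedekindDomain.HeightOneSpectrum.valuation_lt_one_iff_mem _ _).2
      ((IsLocalRing.mem_maximalIdeal _).2 hnu)
  rw [Scheme.algebraMap_germ_eq_germToFunctionField (X := X) hx a] at h1
  exact absurd hv (ne_of_lt h1)

include h in
/-- One chart of a closed immersion, in the function field. -/
theorem exists_chart {L : X.Modules} (R : LineDiv.Rep L)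
    (r : X ⟶ CohB1.ProjSpace n k) [IsClosedImmersion r]
    (hr : r ≫ CohB1.ProjSpace.toSpec n k = X ↘ Spec (CommRingCat.of k))
    (τ : (Scheme.Modules.pullback r).obj (Twist.twistProjSpace n k 1) ≅ L)
    (l : Fin (n + 1)) (x₀ : X) (hx₀ : r x₀ ∈ Proj.basicOpen 𝒜 (MvPolynomial.X l)) :
    let gs : Fin (n + 1) → X.functionField := fun j => R.coord (L.presheaf.germ ⊤ (genericPoint X) trivial
      (τ.hom.app ⊤ (ProjUP.pullSec r (Twist.twistProjSpace n k 1) (ProjUP.coord n k j))))
    gs l ≠ 0 ∧ (∀ y : CPt X, r y.1 ∈ Proj.basicOpen 𝒜 (MvPolynomial.X l) →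
      (placeOf k h y).1 (gs l) = exp (R.e k h y) ∧ ∀ j, (placeOf k h y).1 (gs j / gs l) ≤ 1 ∧
        ((placeOf k h y).1 (gs j / gs l) = 1 → r y.1 ∈ Proj.basicOpen 𝒜 (MvPolynomial.X j))) ∧
    ∀ f : X.functionField, (∀ y : CPt X, r y.1 ∈ Proj.basicOpen 𝒜 (MvPolynomial.X l) →
      (placeOf k h y).1 f ≤ 1) → f ∈ Algebra.adjoin k (Set.range fun j => gs j / gs l) := by
  classical
  let el : Fin (n + 1) → 𝒜 1 := fun i => ⟨MvPolynomial.X i, MvPolynomial.isHomogeneous_X k i⟩
  let D : (CohB1.ProjSpace n k).Opens := Proj.basicOpen 𝒜 (MvPolynomial.X l)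
  have hD : IsAffineOpen D := Basic.isAffineOpen_basicOpen_X (R := k) l
  let U : X.Opens := r ⁻¹ᵁ D
  have hU : IsAffineOpen U := hD.preimage r
  have hη : genericPoint X ∈ U := (genericPoint_specializes x₀).mem_open U.2 hx₀
  let s : Fin (n + 1) → Γ(L, ⊤) := fun i =>
    τ.hom.app ⊤ (ProjUP.pullSec r (Twist.twistProjSpace n k 1) (ProjUP.coord n k i))
  let gs : Γ(L, ⊤) → X.functionField := fun t =>
    R.coord (L.presheaf.germ ⊤ (genericPoint X) trivial t)
  have hrel : ∀ j, gs (s j) = X.presheaf.germ U (genericPoint X) hη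
      (r.app D (ProjMor.Frame.fr 𝒜 (el l) (el j))) * gs (s l) := by
    intro j
    have h1 := ProjMor.Embed.ratio_of_iso (a := el l) (b := el j) (va := s l) (vb := s j) τ rfl rfl
      (U := U) le_rfl
    have h2 := congrArg (fun v => R.coord (L.presheaf.germ U (genericPoint X) hη v)) h1
    refine Eq.trans ?_ (h2.trans ?_)
    · exact congrArg R.coord (TopCat.Presheaf.germ_res_apply L.presheaf _ _ hη (s j)).symm
    · rw [Modules.StalkModule.germ_smul, map_smul, smul_eq_mul]
      refine congrArg₂ (fun a b : X.functionField => a * b) ?_ ?_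
      · exact congrArg (fun φ => X.presheaf.germ U (genericPoint X) hη (φ (ProjMor.Frame.fr 𝒜 (el l) (el j))))
          (Scheme.Hom.appLE_eq_app r)
      · exact congrArg R.coord (TopCat.Presheaf.germ_res_apply L.presheaf _ _ hη (s l))
  have hinv : PicF.IsInvertible (Twist.twist 𝒜 1) :=
    ProjTilde.Invertible.twist_isInvertible_of_cover (fun y => by
      obtain ⟨c, hc⟩ := ProjMor.Main.cover (ProjMor.Poly.lin_mem n k) (ProjMor.Poly.adjoin_lin n k) y
      exact ⟨c, c.2, hc⟩) 1
  have hloc : ∀ i, locus (s i) = r ⁻¹ᵁ Proj.basicOpen 𝒜 (MvPolynomial.X i) := fun i => by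
    rw [show r ⁻¹ᵁ Proj.basicOpen 𝒜 (MvPolynomial.X i) =
      r ⁻¹ᵁ Proj.basicOpen 𝒜 (el i : MvPolynomial (Fin (n + 1)) k) from rfl,
      ← ProjMor.Frame.locus_g (ProjMor.Main.cover (ProjMor.Poly.lin_mem n k) (ProjMor.Poly.adjoin_lin n k)) (el i)]
    exact (locus_iso τ _).trans (locus_pullback hinv r _)
  have hle : U ≤ locus (s l) := by
    rw [show U = r ⁻¹ᵁ Proj.basicOpen 𝒜 (el l : MvPolynomial (Fin (n + 1)) k) from rfl,
      ← ProjMor.Frame.locus_g (ProjMor.Main.cover (ProjMor.Poly.lin_mem n k) (ProjMor.Poly.adjoin_lin n k)) (el l)]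
    exact ((locus_iso τ _).trans (locus_pullback hinv r _)).ge
  have hgen : IsGen L U (rs L le_top (s l)) := by
    have h := (isGen_locus (s l)).res hle
    rwa [rs_rs] at h
  have hval : ∀ y : CPt X, y.1 ∈ U → (placeOf k h y).1 (gs (s l)) = exp (R.e k h y) :=
    fun y hy => val_of_isGen h R hgen y hy
  have hne : gs (s l) ≠ 0 := by
    intro h0
    have hg0 : L.presheaf.germ U (genericPoint X) hη (rs L (le_top : U ≤ ⊤) (s l)) =
        L.presheaf.germ U (genericPoint X) hη 0 := by
      rw [map_zero]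
      exact R.coord.injective (((congrArg R.coord (TopCat.Presheaf.germ_res_apply L.presheaf _ _ hη (s l))).trans h0).trans
        (map_zero R.coord).symm)
    obtain ⟨W, hW, i₁, i₂, hW0⟩ := TopCat.Presheaf.germ_eq L.presheaf _ hη hη _ _ hg0
    rw [map_zero] at hW0
    haveI : Nonempty W := ⟨⟨_, hW⟩⟩
    refine one_ne_zero (α := Γ(X, W)) ((hgen W i₁.le).1 ?_)
    simp only [one_smul, zero_smul]
    exact hW0
  have hdiv : ∀ j, gs (s j) / gs (s l) = X.presheaf.germ U (genericPoint X) hη
      (r.app D (ProjMor.Frame.fr 𝒜 (el l) (el j))) := fun j => by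
    rw [div_eq_iff hne, hrel j]
  -- the chart map
  let ψ : MvPolynomial {j : Fin (n + 1) // j ≠ l} k →+* X.functionField :=
    ((X.presheaf.germ U (genericPoint X) hη).hom.comp (r.app D).hom).comp
      ((Proj.awayToSection 𝒜 (MvPolynomial.X l)).hom.comp (Charts.fromPoly k l))
  have hψC : ∀ c, ψ (MvPolynomial.C c) = algebraMap k X.functionField c := by
    intro c
    have h1 := congrArg (fun φ => φ c) (congrArg CommRingCat.Hom.hom (Embedded.constants_chart (k := k) (n := n) l))
    show X.presheaf.germ U (genericPoint X) hη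
      (r.app D (Proj.awayToSection 𝒜 (MvPolynomial.X l) (Charts.fromPoly k l (MvPolynomial.C c)))) = _
    rw [Charts.fromPoly_C]
    have h1' : Proj.awayToSection 𝒜 (MvPolynomial.X l) (Charts.constHom k l c) =
        (CohB1.ProjSpace.toSpec n k).appLE ⊤ D le_top ((Scheme.ΓSpecIso (CommRingCat.of k)).inv c) := h1
    refine (congrArg (fun z => X.presheaf.germ U (genericPoint X) hη (r.app D z)) h1').trans ?_
    have h2 : r.app D ((CohB1.ProjSpace.toSpec n k).appLE ⊤ D le_top
        ((Scheme.ΓSpecIso (CommRingCat.of k)).inv c)) =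
        X.presheaf.map (homOfLE (le_top : U ≤ ⊤)).op (Coh.toGlobal (X ↘ Spec (CommRingCat.of k)) c) := by
      have key : ∀ (p : X ⟶ Spec (CommRingCat.of k)), r ≫ CohB1.ProjSpace.toSpec n k = p →
          (r ≫ CohB1.ProjSpace.toSpec n k).appLE ⊤ U le_top = p.appLE ⊤ U le_top := by
        rintro p rfl; rfl
      have h3 := key _ hr
      rw [← Scheme.Hom.appLE_comp_appLE r (CohB1.ProjSpace.toSpec n k) ⊤ D U le_top le_rfl,
        Scheme.Hom.appLE_eq_app r] at h3
      exact congrArg (fun φ => φ.hom ((Scheme.ΓSpecIso (CommRingCat.of k)).inv c)) h3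
    exact (congrArg _ h2).trans (TopCat.Presheaf.germ_res_apply X.presheaf _ _ hη _)
  have hψX : ∀ j, ψ (MvPolynomial.X j) = gs (s j.1) / gs (s l) := by
    intro j
    show X.presheaf.germ U (genericPoint X) hη
      (r.app D (Proj.awayToSection 𝒜 (MvPolynomial.X l) (Charts.fromPoly k l (MvPolynomial.X j)))) = _
    rw [eq_div_iff hne, hrel j.1]
    refine congrArg (fun z => X.presheaf.germ U (genericPoint X) hη (r.app D z) * gs (s l)) ?_
    refine congrArg (Proj.awayToSection 𝒜 (MvPolynomial.X l)) ?_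
    refine HomogeneousLocalization.val_injective _ ?_
    refine (congrArg HomogeneousLocalization.val (Charts.fromPoly_X l j)).trans ?_
    rw [Charts.val_coord, HomogeneousLocalization.Away.val_mk]
    simp only [pow_one]
    rfl
  have hsurj : ∀ a : Γ(X, U), ∃ p, ψ p = X.presheaf.germ U (genericPoint X) hη a := by
    intro a
    haveI : IsAffine D := hD
    obtain ⟨b, rfl⟩ := r.app_surjective D hD a
    obtain ⟨c, rfl⟩ := (ConcreteCategory.bijective_of_isIso
      (Proj.basicOpenIsoAway 𝒜 (MvPolynomial.X l) (Charts.X_mem_one l) one_pos).hom).2 b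
    obtain ⟨p, rfl⟩ := (Charts.fromPoly_bijective (R := k) l).2 c
    exact ⟨p, rfl⟩
  refine ⟨hne, fun y hy => ⟨hval y hy, fun j => ?_⟩, fun f hf => ?_⟩
  · show (placeOf k h y).1 (gs (s j) / gs (s l)) ≤ 1 ∧
      ((placeOf k h y).1 (gs (s j) / gs (s l)) = 1 → y.1 ∈ r ⁻¹ᵁ Proj.basicOpen 𝒜 (MvPolynomial.X j))
    rw [hdiv j]
    refine ⟨val_le_one_of_section h hη y hy _, fun hv => ?_⟩
    rw [← hloc j]
    have h1 := mem_basicOpen_of_val h _ hη y hy hv
    have hj := ProjMor.Embed.ratio_of_iso (a := el l) (b := el j) (va := s l) (vb := s j) τ rfl rfl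
      (U := U) le_rfl
    have e := locus_inf_eq (m := s j) hgen hj
    have e2 : X.basicOpen (r.appLE D U le_rfl (ProjMor.Frame.fr 𝒜 (el l) (el j))) =
        X.basicOpen (r.app D (ProjMor.Frame.fr 𝒜 (el l) (el j))) :=
      congrArg (fun φ => X.basicOpen (φ (ProjMor.Frame.fr 𝒜 (el l) (el j)))) (Scheme.Hom.appLE_eq_app r)
    exact ((e.trans e2).ge h1).1
  · obtain ⟨a, rfl⟩ := exists_section_of_val h hη f fun y hy => hf y hy
    obtain ⟨p, hp⟩ := hsurj a
    rw [← hp]
    clear hp
    induction p using MvPolynomial.induction_on with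
    | C c => rw [hψC]; exact Subalgebra.algebraMap_mem _ c
    | add a b ha hb => rw [map_add]; exact add_mem ha hb
    | mul_X a j ha =>
      rw [map_mul, hψX]
      exact mul_mem ha (Algebra.subset_adjoin ⟨j.1, rfl⟩)

variable [IsAlgClosed k] [IsProper (X ↘ Spec (CommRingCat.of k))]
  (hK : _root_.FunFld.IsFunctionField k X.functionField)

open Groth.Agent.Lib.FunFld Groth.Agent.Lib.FunFld.Degree in
include h hK in
/-- A very ample divisor separates places and tangent directions. -/
theorem separates_of_embedding {L : X.Modules} (R : LineDiv.Rep L)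
    (r : X ⟶ CohB1.ProjSpace n k) [IsClosedImmersion r]
    (hr : r ≫ CohB1.ProjSpace.toSpec n k = X ↘ Spec (CommRingCat.of k))
    (τ : (Scheme.Modules.pullback r).obj (Twist.twistProjSpace n k 1) ≅ L)
    (P Q : _root_.FunFld.Place k X.functionField) :
    _root_.FunFld.ell (R.div h hK - Finsupp.single P 1 - Finsupp.single Q 1) + 2 ≤
      _root_.FunFld.ell (R.div h hK) := by
  classical
  set A := R.div h hK with hA
  let gs : Fin (n + 1) → X.functionField := fun j => R.coord (L.presheaf.germ ⊤ (genericPoint X) trivial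
    (τ.hom.app ⊤ (ProjUP.pullSec r (Twist.twistProjSpace n k 1) (ProjUP.coord n k j))))
  have hmem : ∀ j, gs j ∈ _root_.FunFld.L A := fun j => CanonicalEmb.coord_germ_mem h R hK _
  have hcov : ∀ y : X, ∃ l, r y ∈ Proj.basicOpen 𝒜 (MvPolynomial.X l) := fun y =>
    Opens.mem_iSup.mp ((Basic.iSup_basicOpen_X_eq_top n k).ge trivial)
  obtain ⟨x, rfl⟩ := placeOf_surjective (k := k) h P
  obtain ⟨y, rfl⟩ := placeOf_surjective (k := k) h Q
  obtain ⟨l, hl⟩ := hcov x.1
  obtain ⟨hne, hch, hgen⟩ := exists_chart h R r hr τ l x.1 hl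
  change gs l ≠ 0 at hne
  set P := placeOf k h x with hP
  set Q := placeOf k h y with hQ
  have hAx : A P = R.e k h x := R.div_placeOf h hK x
  have hAy : A Q = R.e k h y := R.div_placeOf h hK y
  have hexP : P.1 (gs l) = exp (A P) := hAx.symm ▸ (hch x hl).1
  have h1 := Drop.drop_single hK (hmem l) hexP
  by_contra hlt
  push Not at hlt
  have h2 := Drop.ell_le_sub_single hK (A - Finsupp.single P 1) Q
  have := finiteDimensional_L hK (A - Finsupp.single P 1)
  have heq : _root_.FunFld.L (A - Finsupp.single P 1 - Finsupp.single Q 1) =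
      _root_.FunFld.L (A - Finsupp.single P 1) :=
    Submodule.eq_of_le_of_finrank_le (L_mono (Drop.sub_single_le _ _))
      (by change _root_.FunFld.ell _ ≤ _root_.FunFld.ell _; omega)
  -- residues at the first place
  have hvan : ∀ j, ∃ c : k, gs j - algebraMap k X.functionField c * gs l ∈
      _root_.FunFld.L (A - Finsupp.single P 1 - Finsupp.single Q 1) := by
    intro j
    obtain ⟨c, hc⟩ := FunFld.Hasse.Param.isDegOne hK P _ ((hch x hl).2 j).1
    refine ⟨c, ?_⟩
    rw [heq]
    intro T
    rw [Finsupp.sub_apply]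
    rcases eq_or_ne T P with rfl | hTP
    · have h3 : gs j - algebraMap k X.functionField c * gs l =
          (gs j / gs l - algebraMap k X.functionField c) * gs l := by
        rw [sub_mul, div_mul_cancel₀ _ hne]
      rw [Finsupp.single_eq_same, h3, map_mul, hexP,
        show exp (A P - 1) = exp (-1 : ℤ) * exp (A P) by rw [← exp_add, neg_add_eq_sub]]
      refine mul_le_mul' ?_ le_rfl
      rcases eq_or_ne (gs j / gs l - algebraMap k X.functionField c) 0 with h0 | h0
      · rw [h0, map_zero]; exact zero_le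
      · rw [Place.val_eq_exp P h0] at hc ⊢
        rw [← exp_zero, exp_lt_exp] at hc
        rw [exp_le_exp]; omega
    · rw [Finsupp.single_eq_of_ne hTP, sub_zero]
      refine (T.1.map_sub _ _).trans (max_le (hmem j T) ?_)
      rw [map_mul]
      exact (mul_le_of_le_one_left' (Place.val_algebraMap_le T c)).trans (hmem l T)
  have hexQ : Q.1 (gs l) = exp (A Q) := by
    obtain ⟨l', hl'⟩ := hcov y.1
    have hex' : Q.1 (gs l') = exp (A Q) := hAy.symm ▸ ((exists_chart h R r hr τ l' y.1 hl').2.1 y hl').1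
    refine le_antisymm (hmem l Q) (not_lt.1 fun hlt' => ?_)
    obtain ⟨c, hc⟩ := hvan l'
    have hcQ : Q.1 (gs l' - algebraMap k X.functionField c * gs l) < exp (A Q) := by
      refine (hc Q).trans_lt (exp_lt_exp.2 ?_)
      rw [Finsupp.sub_apply, Finsupp.sub_apply, Finsupp.single_eq_same]
      have : (0 : ℤ) ≤ Finsupp.single P (1 : ℤ) Q := (Finsupp.single_nonneg.2 zero_le_one) Q
      omega
    have hcl : Q.1 (algebraMap k X.functionField c * gs l) < exp (A Q) := by
      rw [map_mul]
      exact (mul_le_of_le_one_left' (Place.val_algebraMap_le Q c)).trans_lt hlt'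
    have := Q.1.map_add_lt hcQ hcl
    rw [sub_add_cancel, hex'] at this
    exact lt_irrefl _ this
  have hly : r y.1 ∈ Proj.basicOpen 𝒜 (MvPolynomial.X l) := by
    obtain ⟨l', hl'⟩ := hcov y.1
    obtain ⟨h3, h4⟩ := (exists_chart h R r hr τ l' y.1 hl').2.1 y hl'
    refine (h4 l).2 ?_
    show Q.1 (gs l / gs l') = 1
    rw [map_div₀, hexQ, show Q.1 (gs l') = exp (A Q) from hAy.symm ▸ h3, div_self exp_ne_zero]
  have hexR : ∀ T, T = P ∨ T = Q → T.1 (gs l) = exp (A T) := fun T hT => by
    rcases hT with rfl | rfl <;> assumption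
  have hgood : Algebra.adjoin k (Set.range fun j => gs j / gs l) ≤ PlaneImage.good P Q := by
    refine Algebra.adjoin_le ?_
    rintro _ ⟨j, rfl⟩
    obtain ⟨c, hc⟩ := hvan j
    refine ⟨c, fun T hT => ?_⟩
    rw [show gs j / gs l - algebraMap k X.functionField c =
      (gs j - algebraMap k X.functionField c * gs l) / gs l by field_simp, map_div₀, hexR T hT]
    rw [div_le_iff₀ (zero_lt_iff.2 exp_ne_zero), ← exp_add]
    refine (hc T).trans_eq ?_
    rw [← PlaneImage.sub_pair, Finsupp.sub_apply]
    congr 1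
    ring
  -- a place outside the chart
  obtain ⟨Z, hZ⟩ : ∃ Z : CPt X, r Z.1 ∉ Proj.basicOpen 𝒜 (MvPolynomial.X l) := by
    by_contra hall
    simp only [not_exists, not_not] at hall
    have hconst : ∀ f : X.functionField, (∀ T : _root_.FunFld.Place k X.functionField, T.1 f ≤ 1) →
        ∃ c : k, algebraMap k X.functionField c = f := fun f hf => by
      have hL : f ∈ _root_.FunFld.L (0 : _root_.FunFld.Divisor k X.functionField) := fun T => by
        rw [Finsupp.coe_zero, Pi.zero_apply, exp_zero]; exact hf T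
      rw [FunFld.Degree.L_zero hK] at hL
      simpa [Submodule.mem_span_singleton, Algebra.smul_def] using hL
    have hall' : ∀ (f : X.functionField), f ∈ Algebra.adjoin k (Set.range fun j => gs j / gs l) →
        ∀ T : _root_.FunFld.Place k X.functionField, T.1 f ≤ 1 := fun f hf T => by
      obtain ⟨z, rfl⟩ := placeOf_surjective (k := k) h T
      induction hf using Algebra.adjoin_induction with
      | mem a ha =>
        obtain ⟨j, rfl⟩ := ha
        exact ((hch z (hall z)).2 j).1
      | algebraMap c => exact Place.val_algebraMap_le _ c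
      | add a b _ _ ha hb => exact ((placeOf k h z).1.map_add _ _).trans (max_le ha hb)
      | mul a b _ _ ha hb => rw [map_mul]; exact mul_le_one' ha hb
    -- then every function regular on the chart is constant
    let U : X.Opens := r ⁻¹ᵁ Proj.basicOpen 𝒜 (MvPolynomial.X l)
    have hη : genericPoint X ∈ U := (genericPoint_specializes x.1).mem_open U.2 hl
    haveI : Nonempty U := ⟨⟨x.1, hl⟩⟩
    let D : (CohB1.ProjSpace n k).Opens := Proj.basicOpen 𝒜 (MvPolynomial.X l)
    have hD : IsAffineOpen D := Basic.isAffineOpen_basicOpen_X (R := k) l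
    haveI := functionField_isFractionRing_of_isAffineOpen X U (hD.preimage r)
    have hU : ∀ a : Γ(X, U), ∃ c : k, algebraMap k X.functionField c =
        X.presheaf.germ U (genericPoint X) hη a := fun a =>
      hconst _ (hall' _ (hgen _ fun z hz => val_le_one_of_section h hη z hz a))
    obtain ⟨f, hf⟩ := FunFld.Riemann.exists_transcendental hK
    obtain ⟨a, b, -, rfl⟩ := IsFractionRing.div_surjective (A := Γ(X, U)) f
    obtain ⟨c, hc⟩ := hU a
    obtain ⟨c', hc'⟩ := hU b
    refine hf ?_
    show IsAlgebraic k (X.presheaf.germ U (genericPoint X) hη a / X.presheaf.germ U (genericPoint X) hη b)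
    rw [← hc, ← hc', ← map_div₀]
    exact isAlgebraic_algebraMap _
  refine PlaneImage.no_sep hK (P := P) (Q := Q)
    (E := Finsupp.single (placeOf k h Z) (2 * (_root_.FunFld.genus k X.functionField : ℤ) + 1))
    (Finsupp.single_nonneg.2 (by positivity)) ?_ ?_ ?_ fun f hf => ?_
  · exact Finsupp.single_eq_of_ne fun e => hZ (by rw [← placeOf_injective h e]; exact hl)
  · exact Finsupp.single_eq_of_ne fun e => hZ (by rw [← placeOf_injective h e]; exact hly)
  · rw [deg_single, FunFld.Rational.deg_eq_one hK, Nat.cast_one, mul_one]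
  · refine hgood (hgen f fun z hz => (hf (placeOf k h z)).trans_eq ?_)
    rw [Finsupp.single_eq_of_ne fun e => hZ (by rw [← placeOf_injective h e]; exact hz), exp_zero]

end Groth.Agent.Lib.CurveFF.VeryAmpleSep
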