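import Groth.Agent.Lib.CurveFF.Genus
import Groth.Agent.Lib.CurveFF.Hyp
import Groth.Agent.Lib.CurveFF.LineDiv
import Groth.Agent.Lib.CurveFF.VeryAmpleSep
import Groth.Agent.Lib.Normalization.InFieldGeneric
import Groth.Agent.Lib.Normalization.InFieldVariety
import Groth.Agent.Lib.AffineCompl.Dim
import Groth.Agent.Lib.PushDepth.Sections
import Groth.Agent.Lib.FEt.NormalCover
import Groth.Agent.Lib.Curves.PolePoint
import Groth.Agent.H4.CurveThrough
import Mathlib.FieldTheory.KummerPolynomial
import Mathlib.RingTheory.Discriminant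

/-!
Kummer covers of curves trivialising multiples of a line bundle.
-/

noncomputable section
set_option autoImplicit false
set_option linter.style.haveILetI false
universe u v

open CategoryTheory CategoryTheory.Limits AlgebraicGeometry TopologicalSpace Opposite WithZero
open Groth.Agent.Lib.FunFld Groth.Agent.Lib.FunFld.Degree
open Groth.Agent.Lib.TensorMod Groth.Agent.Lib.TensorMod.Gen Groth.Agent.Lib.Ample.GenLocus
open Groth.Agent.Lib.TensorMod.Dual Groth.Agent.Lib.TensorMod.Basic
open Groth.Agent.Lib.Normalization.InField Groth.Agent.Lib.TensorMod.Pullback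

namespace Groth.Agent.Lib.CurveFF.KummerCover

/-- Extracting an `n`-th root of a unit is unramified for `n` invertible. -/
theorem formallyUnramified_root {A F L : Type u} [CommRing A] [IsDomain A] [IsIntegrallyClosed A]
    [Field F] [Field L] [Algebra A F] [IsFractionRing A F] [Algebra F L] [Algebra A L]
    [IsScalarTower A F L] [Algebra.IsSeparable F L] (pb : PowerBasis F L) (n : ℕ) (hn : 1 ≤ n)
    (hnA : IsUnit (n : A)) (a : A) (ha : IsUnit a) (hroot : pb.gen ^ n = algebraMap A L a)
    (hmin : minpoly F pb.gen = Polynomial.X ^ n - Polynomial.C (algebraMap A F a)) :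
    Algebra.FormallyUnramified A (integralClosure A L) := by
  classical
  haveI : FiniteDimensional F L := pb.finite
  set y := pb.gen with hy
  have hyint : IsIntegral A y := IsIntegral.of_pow (n := n) hn (hroot ▸ isIntegral_algebraMap)
  obtain ⟨a', ha'⟩ := ha.exists_left_inv
  obtain ⟨m, rfl⟩ := Nat.exists_eq_add_of_le' hn
  have hinv : y * (algebraMap A L a' * y ^ m) = 1 := by
    rw [mul_left_comm, ← pow_succ', hroot, ← map_mul, ha', map_one]
  have hiint : IsIntegral A (algebraMap A L a' * y ^ m) := isIntegral_algebraMap.mul (hyint.pow m)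
  obtain ⟨b, hb⟩ := IsIntegrallyClosed.isIntegral_iff.1 (Algebra.isIntegral_norm (R := A) F hyint)
  obtain ⟨b', hb'⟩ := IsIntegrallyClosed.isIntegral_iff.1 (Algebra.isIntegral_norm (R := A) F hiint)
  have hbu : IsUnit b := by
    refine isUnit_iff_exists_inv.2 ⟨b', IsFractionRing.injective A F ?_⟩
    rw [map_mul, hb, hb', ← map_mul, hinv, map_one, map_one]
  have hdiscr : ∃ c : A, IsUnit c ∧ algebraMap A F c = Algebra.discr F pb.basis := by
    refine ⟨(-1) ^ (pb.dim * (pb.dim - 1) / 2) * ((((m + 1 : ℕ) : A)) ^ Module.finrank F L * b ^ m),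
      ((isUnit_one.neg).pow _).mul ((hnA.pow _).mul (hbu.pow _)), ?_⟩
    rw [Algebra.discr_powerBasis_eq_norm, ← hy, hmin]
    simp only [Polynomial.derivative_sub, Polynomial.derivative_X_pow, Polynomial.derivative_C,
      sub_zero, map_mul, Polynomial.aeval_C, map_pow, Polynomial.aeval_X, Nat.add_sub_cancel]
    rw [hb, Algebra.norm_algebraMap]
    simp [pb.finrank]
  obtain ⟨c, hc, hcd⟩ := hdiscr
  obtain ⟨c', hc'⟩ := hc.exists_left_inv
  have hadj : ∀ z : L, IsIntegral A z → z ∈ Algebra.adjoin A ({y} : Set L) := fun z hz => by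
    have h := Algebra.discr_mul_isIntegral_mem_adjoin F hyint hz
    rw [← hcd, ← hy, IsScalarTower.algebraMap_smul] at h
    have h' := Subalgebra.smul_mem _ h c'
    rwa [smul_smul, hc', one_smul] at h'
  let yS : integralClosure A L := ⟨y, hyint⟩
  have htop : Algebra.adjoin A ({yS} : Set (integralClosure A L)) = ⊤ := by
    refine eq_top_iff.2 fun z _ => ?_
    have h := hadj z.1 z.2
    rw [show ({y} : Set L) = (integralClosure A L).val '' {yS} by simp [yS],
      ← AlgHom.map_adjoin] at h
    obtain ⟨w, hw, e⟩ := h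
    have hwz : w = z := Subtype.ext e
    exact hwz ▸ hw
  refine ⟨?_⟩
  have hroot' : yS ^ (m + 1) = algebraMap A (integralClosure A L) a := Subtype.ext hroot
  have hD : (KaehlerDifferential.D A (integralClosure A L)) yS = 0 := by
    have h1 := congrArg (KaehlerDifferential.D A (integralClosure A L)) hroot'
    rw [Derivation.map_algebraMap, Derivation.leibniz_pow, Nat.add_sub_cancel, ← Nat.cast_smul_eq_nsmul (integralClosure A L),
      smul_smul] at h1
    have hu : IsUnit (((m + 1 : ℕ) : integralClosure A L) * yS ^ m) := by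
      refine IsUnit.mul ?_ (IsUnit.pow _ ?_)
      · have := hnA.map (algebraMap A (integralClosure A L))
        rwa [map_natCast] at this
      · exact isUnit_iff_exists_inv.2 ⟨⟨_, hiint⟩, Subtype.ext hinv⟩
    exact hu.smul_eq_zero.1 h1
  have hD0 : KaehlerDifferential.D A (integralClosure A L) = 0 :=
    Derivation.ext_of_adjoin_eq_top _ htop (by
      rintro x rfl
      exact hD)
  refine subsingleton_of_forall_eq 0 fun ω => ?_
  have hω : ω ∈ Submodule.span (integralClosure A L)
      (Set.range (KaehlerDifferential.D A (integralClosure A L))) := by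
    rw [KaehlerDifferential.span_range_derivation]; trivial
  rw [hD0] at hω
  have h0 : Submodule.span (integralClosure A L)
      (Set.range ((0 : Derivation A (integralClosure A L) (Ω[integralClosure A L⁄A])))) = ⊥ := by
    rw [Submodule.span_eq_bot]
    rintro _ ⟨x, rfl⟩
    rfl
  rw [h0] at hω
  exact hω

/-- The field obtained by adjoining an `n`-th root. -/
theorem exists_root_field {K : Type u} [Field K] {n : ℕ} (hn : n.Prime) (hnK : (n : K) ≠ 0) {f : K}
    (hf0 : f ≠ 0) (hpow : ∀ b : K, b ^ n ≠ f) :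
    ∃ (L : Type u) (_ : Field L) (_ : Algebra K L), FiniteDimensional K L ∧ Algebra.IsSeparable K L ∧
      Module.finrank K L = n ∧ ∃ y : L, y ^ n = algebraMap K L f := by
  let p : Polynomial K := Polynomial.X ^ n - Polynomial.C f
  have hirr : Irreducible p := X_pow_sub_C_irreducible_of_prime hn hpow
  haveI := Fact.mk hirr
  let y : AdjoinRoot p := AdjoinRoot.root p
  have h0 : Polynomial.aeval y p = 0 := by rw [AdjoinRoot.aeval_eq, AdjoinRoot.mk_self]
  have hys : _root_.IsSeparable K y := by
    unfold _root_.IsSeparable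
    exact (Polynomial.separable_X_pow_sub_C f hnK hf0).of_dvd (minpoly.dvd _ _ h0)
  refine ⟨AdjoinRoot p, inferInstance, inferInstance, (AdjoinRoot.powerBasis hirr.ne_zero).finite, ?_, ?_, y, ?_⟩
  · haveI := (IntermediateField.isSeparable_adjoin_simple_iff_isSeparable _ _).2 hys
    have htop : IntermediateField.adjoin K ({y} : Set (AdjoinRoot p)) = ⊤ := by
      rw [← IntermediateField.toSubalgebra_inj, IntermediateField.top_toSubalgebra, eq_top_iff,
        ← AdjoinRoot.adjoinRoot_eq_top]
      exact IntermediateField.algebra_adjoin_le_adjoin _ _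
    rw [htop] at this
    exact Algebra.IsSeparable.of_algHom _ _ (IntermediateField.topEquiv (F := K) (E := AdjoinRoot p)).symm.toAlgHom
  · rw [(AdjoinRoot.powerBasis hirr.ne_zero).finrank, AdjoinRoot.powerBasis_dim,
      Polynomial.natDegree_X_pow_sub_C]
  · simpa [p, sub_eq_zero] using h0

section Field

variable {k : Type u} {K : Type u} [Field k] [Field K] [Algebra k K] [IsAlgClosed k]

local notation "Pl" => _root_.FunFld.Place k K
local notation "Dv" => _root_.FunFld.Divisor k K

/-- A function with poles at most `n D`, exact on a finite set of places, and not an `n`-th power. -/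
theorem exists_kummer (hK : _root_.FunFld.IsFunctionField k K) {D : Dv} (hD : 0 < D.deg) (T : Finset Pl) :
    ∃ (n : ℕ) (f : K), n.Prime ∧ (n : k) ≠ 0 ∧ f ≠ 0 ∧ (∀ b : K, b ^ n ≠ f) ∧
      f ∈ _root_.FunFld.L ((n : ℤ) • D) ∧ ∀ P ∈ T, P.1 f = exp ((n : ℤ) * D P) := by
  classical
  set g := _root_.FunFld.genus k K
  obtain ⟨n, hge, hn⟩ := Nat.exists_infinite_primes (ringChar k + 2 * g + 2)
  have hnk : (n : k) ≠ 0 := by
    rw [Ne, ringChar.spec]
    intro h
    rcases hn.eq_one_or_self_of_dvd _ h with h1 | h1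
    · exact CharP.ringChar_ne_one h1
    · omega
  haveI := FunFld.Auto.injective_placeOf (k := k) hK
  obtain ⟨P₀, hP₀⟩ := Infinite.exists_notMem_finset T
  have hdn : 2 * (g : ℤ) + 2 ≤ ((n : ℤ) • D).deg := by
    rw [deg_smul]
    nlinarith
  set E : Dv := (n : ℤ) • D - Finsupp.single P₀ 1 with hE
  let p : ↥(insert P₀ T) → Submodule k (_root_.FunFld.L E) := fun P =>
    (_root_.FunFld.L (E - Finsupp.single (P : Pl) 1)).comap (_root_.FunFld.L E).subtype
  obtain ⟨⟨f, hf⟩, hfp⟩ := Submodule.exists_forall_notMem_of_forall_ne_top p fun P htop => by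
    have hle : _root_.FunFld.L E ≤ _root_.FunFld.L (E - Finsupp.single (P : Pl) 1) :=
      fun w hw => (Submodule.eq_top_iff'.1 htop ⟨w, hw⟩ :)
    have := finiteDimensional_L hK (E - Finsupp.single (P : Pl) 1)
    have h1 := Submodule.finrank_mono hle
    change _root_.FunFld.ell E ≤ _root_.FunFld.ell _ at h1
    have hdE : E.deg = ((n : ℤ) • D).deg - 1 := by
      rw [hE, deg_sub, deg_single, FunFld.Rational.deg_eq_one hK]; rfl
    have hdE' : (E - Finsupp.single (P : Pl) (1 : ℤ)).deg = E.deg - 1 := by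
      rw [deg_sub, deg_single, FunFld.Rational.deg_eq_one hK]; rfl
    have h2 := FunFld.Weil.ell_eq_of_deg_ge hK (D := E) (by omega)
    have h3 := FunFld.Weil.ell_eq_of_deg_ge hK (D := E - Finsupp.single (P : Pl) (1 : ℤ)) (by omega)
    omega
  have hf0 : f ≠ 0 := by
    rintro rfl
    exact hfp ⟨P₀, Finset.mem_insert_self _ _⟩ (zero_mem _)
  have hord := (mem_L_iff_ord.1 hf).resolve_left hf0
  have hex : ∀ P ∈ insert P₀ T, P.ord f = -E P := by
    intro P hP
    by_contra hne
    refine hfp ⟨P, hP⟩ (mem_L_iff_ord.2 (Or.inr fun Q => ?_))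
    have h2 := hord Q
    change _ ≤ Q.ord f
    rw [Finsupp.sub_apply]
    rcases eq_or_ne Q P with rfl | hQP
    · rw [Finsupp.single_eq_same]; omega
    · rw [Finsupp.single_eq_of_ne hQP]; omega
  refine ⟨n, f, hn, hnk, hf0, fun b hb => ?_, L_mono (Drop.sub_single_le _ _) hf, fun P hP => ?_⟩
  · have h := hex P₀ (Finset.mem_insert_self _ _)
    rw [← hb, Place.ord_pow, hE, Finsupp.sub_apply, Finsupp.single_eq_same, Finsupp.smul_apply,
      smul_eq_mul] at h
    have h1 : (n : ℤ) ∣ 1 := ⟨P₀.ord b + D P₀, by linarith⟩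
    have := Int.le_of_dvd one_pos h1
    have := hn.two_le
    omega
  · have h := hex P (Finset.mem_insert_of_mem hP)
    rw [hE, Finsupp.sub_apply, Finsupp.single_eq_of_ne (fun e : P = P₀ => hP₀ (e ▸ hP)), sub_zero,
      Finsupp.smul_apply, smul_eq_mul] at h
    rw [Place.val_eq_exp P hf0]
    congr 1
    omega

end Field

section Sections

attribute [local instance] Curv2.stalkAlgebra

variable {k : Type u} [Field k] {C : Scheme.{u}} [C.Over (Spec (CommRingCat.of k))] [IsIntegral C]

/-- A generator over an open has the largest allowed value at its points. -/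
theorem val_of_isGen_local (h : CurveHyp C) {E : C.Modules} (R : LineDiv.Rep E) {U : C.Opens}
    {t : Γ(E, U)} (he : IsGen E U t) (hη : genericPoint C ∈ U) (x : CPt C) (hx : x.1 ∈ U) :
    (placeOf k h x).1 (R.coord (E.presheaf.germ U (genericPoint C) hη t)) = exp (R.e k h x) := by
  refine le_antisymm ((R.mem_iff (k := k) h x _).1 ⟨_, R.pr_germ hx t⟩) ?_
  obtain ⟨W, hxW, m, hm⟩ := TopCat.Presheaf.exists_germ_eq E.presheaf (R.gen x.1)
  have hxV : x.1 ∈ W ⊓ U := ⟨hxW, hx⟩
  have hηV : genericPoint C ∈ W ⊓ U := (genericPoint_specializes x.1).mem_open (W ⊓ U).2 hxV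
  obtain ⟨a, ha⟩ := (he (W ⊓ U) inf_le_right).2 (rs E inf_le_left m)
  change a • rs E inf_le_right t = rs E inf_le_left m at ha
  rw [← R.val_gen (k := k) h x, ← hm, R.pr_germ hxW m]
  have h1 := congrArg (fun v => R.coord (E.presheaf.germ (W ⊓ U) (genericPoint C) hηV v)) ha
  simp only [Modules.StalkModule.germ_smul, map_smul, smul_eq_mul] at h1
  have e1 : E.presheaf.germ (W ⊓ U) (genericPoint C) hηV (rs E inf_le_left m) =
      E.presheaf.germ W (genericPoint C) hηV.1 m := TopCat.Presheaf.germ_res_apply E.presheaf _ _ hηV m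
  have e2 : E.presheaf.germ (W ⊓ U) (genericPoint C) hηV (rs E inf_le_right t) =
      E.presheaf.germ U (genericPoint C) hη t := TopCat.Presheaf.germ_res_apply E.presheaf _ _ hηV t
  rw [e1, e2] at h1
  rw [← h1, map_mul]
  exact mul_le_of_le_one_left' (val_le_one_of_section h hηV x hxV a)

omit [C.Over (Spec (CommRingCat.of k))] in
theorem coord_gen_ne_zero {E : C.Modules} (R : LineDiv.Rep E) {U : C.Opens}
    {t : Γ(E, U)} (he : IsGen E U t) (hη : genericPoint C ∈ U) :
    R.coord (E.presheaf.germ U (genericPoint C) hη t) ≠ 0 := by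
  intro h0
  have hg0 : E.presheaf.germ U (genericPoint C) hη t = E.presheaf.germ U (genericPoint C) hη 0 := by
    rw [map_zero]
    exact R.coord.injective (h0.trans (map_zero R.coord).symm)
  obtain ⟨W, hW, i₁, i₂, hW0⟩ := TopCat.Presheaf.germ_eq E.presheaf _ hη hη _ _ hg0
  rw [map_zero] at hW0
  haveI : Nonempty W := ⟨⟨_, hW⟩⟩
  refine one_ne_zero (α := Γ(C, W)) ((he W i₁.le).1 ?_)
  simp only [one_smul, zero_smul]
  exact hW0

variable [IsProper (C ↘ Spec (CommRingCat.of k))]

set_option maxHeartbeats 800000 in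
/-- An `n`-th root of a function with poles at most `n D` is a section of the pullback. -/
theorem exists_section (h : CurveHyp C) (hK : _root_.FunFld.IsFunctionField k C.functionField)
    {E : C.Modules} (R : LineDiv.Rep E) {n : ℕ} (hn : n ≠ 0) {f : C.functionField} (hf0 : f ≠ 0)
    (hfL : f ∈ _root_.FunFld.L ((n : ℤ) • R.div h hK)) {L : Type u} [Field L]
    (φ : C.functionField →+* L) (y : L) (hy : y ^ n = φ f) (g : Spec (CommRingCat.of L) ⟶ C)
    (hg : g = Spec.map (CommRingCat.ofHom φ) ≫ C.fromSpecStalk (genericPoint C))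
    [QuasiCompact g] [QuasiSeparated g] :
    ∃ s : Γ((Scheme.Modules.pullback g.fromNormalization).obj E, ⊤), s ≠ 0 := by
  classical
  haveI := isIntegral_normalization g
  have hy0 : y ≠ 0 := fun e => hf0 ((map_eq_zero φ).1 (by rw [← hy, e, zero_pow hn]))
  set ψ := g.fromNormalization with hψ
  set y₀ := g.toNormalization (IsLocalRing.closedPoint L) with hy₀
  have hψy : ψ y₀ = genericPoint C := by
    rw [hy₀, hψ]
    erw [← Scheme.Hom.comp_apply, Scheme.Hom.toNormalization_fromNormalization]
    exact apply_eq φ g hg _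
  have hmem : ∀ V : C.Opens, genericPoint C ∈ V → y₀ ∈ ψ ⁻¹ᵁ V := fun V hV => by
    show ψ y₀ ∈ V
    rwa [hψy]
  let τ : ∀ (O : g.normalization.Opens), y₀ ∈ O → Γ(g.normalization, O) →+* L := fun O hO =>
    (Scheme.stalkClosedPointTo g.toNormalization).hom.comp (g.normalization.presheaf.germ O y₀ hO).hom
  have τres : ∀ (O O' : g.normalization.Opens) (hle : O' ≤ O) (hO' : y₀ ∈ O') (z : Γ(g.normalization, O)),
      τ O' hO' (g.normalization.presheaf.map (homOfLE hle).op z) = τ O (hle hO') z := fun O O' hle hO' z =>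
    congrArg (Scheme.stalkClosedPointTo g.toNormalization).hom
      (g.normalization.presheaf.germ_res_apply (homOfLE hle) y₀ hO' z)
  have τinj : ∀ (O : g.normalization.Opens) (hO : y₀ ∈ O), Function.Injective (τ O hO) := fun O hO =>
    (Normalization.InFieldGeneric.injective_stalkClosedPointTo φ g hg).comp
      (germ_injective_of_isIntegral g.normalization (U := O) y₀ hO)
  have τapp : ∀ (V : C.Opens) (hV : genericPoint C ∈ V) (c : Γ(C, V)),
      τ (ψ ⁻¹ᵁ V) (hmem V hV) (ψ.app V c) = φ (C.presheaf.germ V (genericPoint C) hV c) := by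
    intro V hV c
    obtain ⟨U, hU, hηU, hle⟩ := exists_isAffineOpen_mem_and_subset hV
    haveI : Nonempty U := ⟨⟨_, hηU⟩⟩
    have hnat : g.normalization.presheaf.map (homOfLE ((Opens.map ψ.base).monotone hle)).op (ψ.app V c) =
        ψ.app U (C.presheaf.map (homOfLE hle).op c) := (NatTrans.naturality_apply ψ.c (homOfLE hle).op c).symm
    rw [← τres (ψ ⁻¹ᵁ V) (ψ ⁻¹ᵁ U) ((Opens.map ψ.base).monotone hle) (hmem U hηU), hnat]
    refine (Normalization.InFieldGeneric.stalkClosedPointTo_germ φ g hg hU (hmem U hηU) _).trans ?_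
    letI := algebraK φ U
    refine (congrArg Subtype.val (sectionsEquiv_app φ g hg hU _)).trans ?_
    exact congrArg φ (C.presheaf.germ_res_apply (homOfLE hle) (genericPoint C) hηU c)
  have hgen := isInvertible_iff.1 R.inv
  choose W e hxW he using hgen
  choose U hU hxU hUW using fun x : C => exists_isAffineOpen_mem_and_subset (hxW x)
  have hη : ∀ x, genericPoint C ∈ U x := fun x => (genericPoint_specializes x).mem_open (U x).2 (hxU x)
  let t : ∀ x, Γ(E, U x) := fun x => rs E (hUW x) (e x)
  have ht : ∀ x, IsGen E (U x) (t x) := fun x => (he x).res (hUW x)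
  let gc : C → C.functionField := fun x => R.coord (E.presheaf.germ (U x) (genericPoint C) (hη x) (t x))
  have hgc : ∀ x, gc x ≠ 0 := fun x => coord_gen_ne_zero R (ht x) (hη x)
  have hb : ∀ x, ∃ b : Γ(g.normalization, ψ ⁻¹ᵁ U x), τ _ (hmem _ (hη x)) b = y / φ (gc x) := by
    intro x
    haveI : Nonempty (U x) := ⟨⟨_, hη x⟩⟩
    obtain ⟨a, ha⟩ := exists_section_of_val (k := k) h (hη x) (f / gc x ^ n) fun z hz => by
      rw [map_div₀, map_pow, val_of_isGen_local h R (ht x) (hη x) z hz,
        div_le_one₀ (zero_lt_iff.2 (pow_ne_zero _ exp_ne_zero)), ← exp_nsmul]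
      refine (hfL (placeOf k h z)).trans_eq ?_
      rw [Finsupp.smul_apply, R.div_placeOf h hK z, nsmul_eq_mul, smul_eq_mul]
    letI := algebraK φ (U x)
    have hint : IsIntegral Γ(C, U x) (y / φ (gc x)) := by
      refine IsIntegral.of_pow (n := n) (Nat.pos_of_ne_zero hn) ?_
      have e1 : (y / φ (gc x)) ^ n = algebraMap Γ(C, U x) L a := by
        rw [div_pow, hy, ← map_pow, ← map_div₀]
        exact congrArg φ ha.symm
      rw [e1]
      exact isIntegral_algebraMap
    refine ⟨(sectionsEquiv φ g hg (hU x)).symm ⟨_, hint⟩, ?_⟩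
    refine (Normalization.InFieldGeneric.stalkClosedPointTo_germ φ g hg (hU x) (hmem _ (hη x)) _).trans ?_
    exact congrArg Subtype.val ((sectionsEquiv φ g hg (hU x)).apply_symm_apply _)
  choose b hb using hb
  let F := (Scheme.Modules.pullback ψ).obj E
  let z : ∀ x, Γ(F, ψ ⁻¹ᵁ U x) := fun x => b x • unitSec ψ E (t x)
  have hz : ∀ i j, rs F (inf_le_left : ψ ⁻¹ᵁ U i ⊓ ψ ⁻¹ᵁ U j ≤ ψ ⁻¹ᵁ U i) (z i) =
      rs F (inf_le_right : ψ ⁻¹ᵁ U i ⊓ ψ ⁻¹ᵁ U j ≤ ψ ⁻¹ᵁ U j) (z j) := by
    intro i j
    have hli : ψ ⁻¹ᵁ (U i ⊓ U j) ≤ ψ ⁻¹ᵁ U i := (Opens.map ψ.base).monotone inf_le_left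
    have hlj : ψ ⁻¹ᵁ (U i ⊓ U j) ≤ ψ ⁻¹ᵁ U j := (Opens.map ψ.base).monotone inf_le_right
    show rs F hli (b i • unitSec ψ E (t i)) = rs F hlj (b j • unitSec ψ E (t j))
    have hV : genericPoint C ∈ U i ⊓ U j := ⟨hη i, hη j⟩
    obtain ⟨c, hc⟩ := ((ht i) (U i ⊓ U j) inf_le_left).2 (rs E inf_le_right (t j))
    change c • rs E inf_le_left (t i) = rs E inf_le_right (t j) at hc
    have hcg : C.presheaf.germ (U i ⊓ U j) (genericPoint C) hV c * gc i = gc j := by
      have h1 := congrArg (fun v => R.coord (E.presheaf.germ (U i ⊓ U j) (genericPoint C) hV v)) hc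
      simp only [Modules.StalkModule.germ_smul, map_smul, smul_eq_mul] at h1
      refine Eq.trans ?_ (h1.trans ?_)
      · exact congrArg (fun v => C.presheaf.germ (U i ⊓ U j) (genericPoint C) hV c * R.coord v)
          (TopCat.Presheaf.germ_res_apply E.presheaf _ _ hV (t i)).symm
      · exact congrArg R.coord (TopCat.Presheaf.germ_res_apply E.presheaf _ _ hV (t j))
    have hkey : g.normalization.presheaf.map (homOfLE hli).op (b i) =
        g.normalization.presheaf.map (homOfLE hlj).op (b j) *
          ψ.app (U i ⊓ U j) c := by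
      refine τinj (ψ ⁻¹ᵁ (U i ⊓ U j)) (hmem _ hV) ?_
      rw [map_mul]
      rw [τres _ _ hli (hmem _ hV), τres _ _ hlj (hmem _ hV),
        hb i, hb j, τapp _ hV c]
      rw [← hcg, map_mul]
      field_simp [(map_ne_zero φ).2 (hgc i), (map_ne_zero φ).2 (left_ne_zero_of_mul (hcg.trans_ne (hgc j)))]
    have e1 : rs F hli (unitSec ψ E (t i)) =
        unitSec ψ E (rs E inf_le_left (t i)) := unitSec_rs ψ inf_le_left (t i)
    have e2 : rs F hlj (unitSec ψ E (t j)) =
        ψ.app (U i ⊓ U j) c • unitSec ψ E (rs E inf_le_left (t i)) :=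
      (unitSec_rs ψ inf_le_right (t j)).trans (by rw [← hc, unitSec_smul])
    refine (F.map_smul _ (b i) (unitSec ψ E (t i))).trans (Eq.trans ?_ (F.map_smul _ (b j) (unitSec ψ E (t j))).symm)
    refine (congrArg₂ (· • ·) hkey e1).trans ?_
    rw [← smul_smul]
    exact congrArg _ e2.symm
  obtain ⟨s, hs⟩ := PushDepth.exists_glue F (fun x => ψ ⁻¹ᵁ U x) (O := ⊤) (fun _ => le_top)
    (fun w _ => Opens.mem_iSup.2 ⟨ψ w, hxU (ψ w)⟩) z hz
  refine ⟨s, fun hs0 => ?_⟩
  have h0 : z (genericPoint C) = 0 := by
    rw [← hs (genericPoint C), hs0]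
    exact PushDepth.rs_zero F _
  have h1 : b (genericPoint C) = 0 := by
    apply ((isGen_unitSec ψ (ht (genericPoint C))) _ le_rfl).1
    show b (genericPoint C) • rs _ le_rfl (unitSec ψ E (t (genericPoint C))) = (0 : Γ(g.normalization, _)) • rs _ le_rfl (unitSec ψ E (t (genericPoint C)))
    rw [zero_smul]
    refine Eq.trans (congrArg (b (genericPoint C) • ·) ?_) h0
    exact (congrArg (fun m => F.presheaf.map m (unitSec ψ E (t (genericPoint C)))) (Subsingleton.elim _ (𝟙 _))).trans
      (by rw [F.presheaf.map_id]; rfl)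
  have h2 := hb (genericPoint C)
  rw [h1, map_zero] at h2
  exact (div_ne_zero hy0 ((map_ne_zero φ).2 (hgc _))) h2.symm

end Sections

section Scheme

attribute [local instance] Curv2.stalkAlgebra

variable {k : Type u} [Field k] [IsAlgClosed k] {C : Scheme.{u}} [C.Over (Spec (CommRingCat.of k))]
  [IsIntegral C] [IsProper (C ↘ Spec (CommRingCat.of k))]

set_option maxHeartbeats 1600000 in
/-- A finite cover unramified over given points on which a positive line bundle has a section. -/
theorem exists_cover (h : CurveHyp C) (hK : _root_.FunFld.IsFunctionField k C.functionField)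
    (E : C.Modules) (hE : PicF.IsInvertible E) (hdeg : 0 < Curv2.deg k C E 1) (T : Set C) (hT : T.Finite)
    (hTc : ∀ t ∈ T, t ≠ genericPoint C) :
    ∃ (C' : Scheme.{u}) (ψ : C' ⟶ C), IsFinite ψ ∧ Function.Surjective ψ ∧ IsIntegral C' ∧
      topologicalKrullDim C' = 1 ∧ Smooth (ψ ≫ (C ↘ Spec (CommRingCat.of k))) ∧
      (∀ c : C', ψ c ∈ T → ∃ U : C'.Opens, c ∈ U ∧ FormallyUnramified (U.ι ≫ ψ)) ∧
      ∃ s : Γ((Scheme.Modules.pullback ψ).obj E, ⊤), s ≠ 0 := by
  classical
  obtain ⟨R⟩ := LineDiv.nonempty_rep hE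
  rw [R.deg_eq h hK] at hdeg
  set D := R.div h hK with hDdef
  have hcl : ∀ t ∈ T, IsClosed ({t} : Set C) := fun t ht =>
    (SmoothCurve.Curve.eq_genericPoint_or_isClosed h.dim t).resolve_left (hTc t ht)
  haveI : Fintype T := hT.fintype
  let TP : Finset (_root_.FunFld.Place k C.functionField) :=
    Finset.univ.image fun t : T => placeOf k h ⟨t.1, hcl t.1 t.2⟩
  obtain ⟨n, f, hn, hnk, hf0, hpow, hfL, hfT⟩ := exists_kummer hK hdeg TP
  -- the field
  have hnK : (n : C.functionField) ≠ 0 := by
    rw [← map_natCast (algebraMap k C.functionField)]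
    exact (map_ne_zero _).2 hnk
  obtain ⟨L, _, _, hfin, hsep, hrank, y, hyn⟩ := exists_root_field hn hnK hf0 hpow
  let φ : C.functionField →+* L := algebraMap C.functionField L
  have hnorm : Pi1.IsNormalScheme C := fun w => ⟨inferInstance, by
    rcases SmoothCurve.Curve.eq_genericPoint_or_isClosed h.dim w with rfl | hw
    · exact (inferInstance : IsIntegrallyClosed C.functionField)
    · haveI := h.dvr w hw
      infer_instance⟩
  let gm : Spec (CommRingCat.of L) ⟶ C :=
    Spec.map (CommRingCat.ofHom φ) ≫ C.fromSpecStalk (genericPoint C)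
  haveI : IsFinite gm.fromNormalization :=
    Normalization.InFieldVariety.isFinite_of_locallyOfFiniteType k C L φ
      (RingHom.finite_algebraMap.2 hfin) gm rfl
  haveI hint : IsIntegral gm.normalization := inferInstance
  have hsurj := surjective_fromNormalization φ gm rfl
  refine ⟨gm.normalization, gm.fromNormalization, inferInstance, hsurj, hint,
    (AffineCompl.Dim.topologicalKrullDim_of_finite_surjective _ hsurj).trans h.dim, ?_, ?_, ?_⟩
  · -- smoothness
    haveI : LocallyOfFiniteType (gm.fromNormalization ≫ (C ↘ Spec (CommRingCat.of k))) := inferInstance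
    haveI : IsLocallyNoetherian gm.normalization :=
      LocallyOfFiniteType.isLocallyNoetherian (gm.fromNormalization ≫ (C ↘ Spec (CommRingCat.of k)))
    refine H4.CurveThrough.smooth_of_regular_closed _ fun z hz => ?_
    haveI := (isNormalScheme φ gm rfl z).2
    refine H4.CurveThrough.isRegularLocalRing_of_normal_dimOne _
      (ringKrullDim_stalk_eq_one φ gm rfl z ?_)
    refine Curves.GenusZero.one_le_dim_stalk h.dim ?_
    rw [← Set.image_singleton]
    exact gm.fromNormalization.isClosedMap _ hz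
  · -- unramified
    intro c hc
    let x : CPt C := ⟨_, hcl _ hc⟩
    obtain ⟨z, hz⟩ := Place.exists_val_eq_exp (placeOf k h x) (-D (placeOf k h x))
    have hz0 : z ≠ 0 := fun e => by rw [e, map_zero] at hz; exact exp_ne_zero hz.symm
    set f' := f * z ^ n with hf'
    have hf'x : (placeOf k h x).1 f' = 1 := by
      rw [hf', map_mul, map_pow, hz,
        hfT _ (Finset.mem_image.2 ⟨⟨_, hc⟩, Finset.mem_univ _, rfl⟩), ← exp_nsmul, ← exp_add, ← exp_zero]
      congr 1
      rw [nsmul_eq_mul]
      ring
    haveI := h.dvr x.1 x.2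
    obtain ⟨a₀, ha₀⟩ := (mem_O_placeOf h x).1 (show (placeOf k h x).1 f' ≤ 1 from hf'x.le)
    obtain ⟨W, hxW, b, hb⟩ := TopCat.Presheaf.exists_germ_eq C.presheaf a₀
    haveI : Nonempty W := ⟨⟨x.1, hxW⟩⟩
    have hbη : C.germToFunctionField W b = f' := by
      rw [← Scheme.algebraMap_germ_eq_germToFunctionField (X := C) hxW b, hb]
      exact ha₀
    have hxb : x.1 ∈ C.basicOpen b :=
      VeryAmpleSep.mem_basicOpen_of_val (k := k) h b ((genericPoint_specializes x.1).mem_open W.2 hxW) x hxW
        (by rw [show C.presheaf.germ W (genericPoint C) ((genericPoint_specializes x.1).mem_open W.2 hxW) b = f' from hbη]; exact hf'x)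
    obtain ⟨U, hU, hxU, hUb⟩ := exists_isAffineOpen_mem_and_subset hxb
    haveI : Nonempty U := ⟨⟨x.1, hxU⟩⟩
    have hUW : U ≤ W := (SetLike.coe_subset_coe.1 hUb).trans (C.basicOpen_le b)
    let a : Γ(C, U) := C.presheaf.map (homOfLE hUW).op b
    have hau : IsUnit a := by
      have hab : a = C.presheaf.map (homOfLE (SetLike.coe_subset_coe.1 hUb : U ≤ C.basicOpen b)).op
          (C.presheaf.map (homOfLE (C.basicOpen_le b)).op b) := by
        show _ = (C.presheaf.map _ ≫ C.presheaf.map _) b
        rw [← Functor.map_comp]; rfl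
      rw [hab]
      exact (RingedSpace.isUnit_res_basicOpen C.toLocallyRingedSpace.toRingedSpace b).map _
    have haη : C.germToFunctionField U a = f' := by
      rw [← hbη]
      exact C.presheaf.germ_res_apply (homOfLE hUW) _ ((genericPoint_specializes x.1).mem_open U.2 hxU) b
    letI := algebraK φ U
    letI : Algebra Γ(C, U) C.functionField := (C.germToFunctionField U).hom.toAlgebra
    haveI : IsScalarTower Γ(C, U) C.functionField L := .of_algebraMap_eq fun _ => rfl
    haveI := functionField_isFractionRing_of_isAffineOpen C U hU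
    haveI : IsIntegrallyClosed Γ(C, U) := FEt.NormalCover.isIntegrallyClosed_sections hnorm
    let p' : Polynomial C.functionField := Polynomial.X ^ n - Polynomial.C f'
    have hpow' : ∀ w : C.functionField, w ^ n ≠ f' := fun w hw => hpow (w / z) (by
      rw [div_pow, hw, hf', mul_div_assoc, div_self (pow_ne_zero _ hz0), mul_one])
    have hirr' : Irreducible p' := X_pow_sub_C_irreducible_of_prime hn hpow'
    haveI := Fact.mk hirr'
    haveI := (AdjoinRoot.powerBasis hirr'.ne_zero).finite
    let y' : L := y * φ z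
    have hy'n : y' ^ n = φ f' := by rw [mul_pow, hyn, hf', map_mul, map_pow]
    let ε : AdjoinRoot p' →ₐ[C.functionField] L := AdjoinRoot.liftAlgHom p' (Algebra.ofId _ _) y' (by
      simp [p', hy'n, φ])
    have hbij : Function.Bijective ε := by
      refine ⟨ε.toRingHom.injective, (LinearMap.injective_iff_surjective_of_finrank_eq_finrank
        (f := ε.toLinearMap) ?_).1 ε.toRingHom.injective⟩
      rw [(AdjoinRoot.powerBasis hirr'.ne_zero).finrank, hrank, AdjoinRoot.powerBasis_dim,
        Polynomial.natDegree_X_pow_sub_C]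
    let pb : PowerBasis C.functionField L :=
      (AdjoinRoot.powerBasis hirr'.ne_zero).map (AlgEquiv.ofBijective ε hbij)
    have hgen : pb.gen = y' := by
      show ε (AdjoinRoot.root p') = y'
      exact AdjoinRoot.liftAlgHom_root _ _ _ _
    have hnU : IsUnit (n : Γ(C, U)) := by
      rw [← map_natCast (Curves.PolePoint.cst k U)]
      exact (Ne.isUnit hnk).map _
    have hFU := formallyUnramified_root (A := Γ(C, U)) pb n hn.one_lt.le hnU a hau
      (by rw [hgen, hy'n]; exact (congrArg φ haη).symm)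
      (by
        rw [hgen]
        refine (minpoly.eq_of_irreducible_of_monic hirr' ?_ (Polynomial.monic_X_pow_sub_C _ hn.ne_zero)).symm.trans ?_
        · simp [p', hy'n, φ]
        · show p' = _
          rw [show algebraMap Γ(C, U) C.functionField a = f' from haη])
    refine ⟨gm.fromNormalization ⁻¹ᵁ U, hxU, ?_⟩
    have hV : IsAffineOpen (gm.fromNormalization ⁻¹ᵁ U) := hU.preimage _
    rw [← morphismRestrict_ι]
    haveI : FormallyUnramified (gm.fromNormalization ∣_ U) := by
      haveI : IsAffine U := hU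
      haveI : IsAffine (gm.fromNormalization ⁻¹ᵁ U) := hV
      rw [HasRingHomProperty.iff_of_isAffine (P := @FormallyUnramified),
        ← Scheme.Hom.resLE_eq_morphismRestrict]
      refine (RingHom.FormallyUnramified.respectsIso.arrow_mk_iso_iff
        (arrowResLEAppIso gm.fromNormalization U (gm.fromNormalization ⁻¹ᵁ U) le_rfl)).2 ?_
      rw [← Scheme.Hom.app_eq_appLE]
      have e : (gm.fromNormalization.app U).hom = (sectionsEquiv φ gm rfl hU).symm.toRingHom.comp
          (algebraMap Γ(C, U) (integralClosure Γ(C, U) L)) := by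
        ext r
        apply (sectionsEquiv φ gm rfl hU).injective
        show _ = sectionsEquiv φ gm rfl hU ((sectionsEquiv φ gm rfl hU).symm _)
        rw [RingEquiv.apply_symm_apply]
        exact sectionsEquiv_app φ gm rfl hU r
      rw [e]
      exact RingHom.FormallyUnramified.respectsIso.1 _ _ (RingHom.formallyUnramified_algebraMap.2 hFU)
    exact MorphismProperty.comp_mem _ _ _ (this) (inferInstance : FormallyUnramified U.ι)
  · exact exists_section h hK R hn.ne_zero hf0 hfL φ y hyn gm rfl

end Scheme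

end Groth.Agent.Lib.CurveFF.KummerCover
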