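import Groth.Agent.Lib.CurveFF.LineExist
import Groth.Agent.Lib.CurveFF.LineTensor

/-!
Isomorphic invertible modules have linearly equivalent divisors.
-/

noncomputable section
set_option autoImplicit false
set_option linter.style.haveILetI false
universe u

open CategoryTheory CategoryTheory.Limits AlgebraicGeometry WithZero

namespace Groth.Agent.Lib.CurveFF.LineDiv

attribute [local instance] Curv2.stalkAlgebra

open Modules.StalkModule (stalkMapₗ)

variable {X : Scheme.{u}} [IsIntegral X] {k : Type u} [Field k] [X.Over (Spec (CommRingCat.of k))]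
  [IsProper (X ↘ Spec (CommRingCat.of k))] (h : CurveHyp X)
  (hK : _root_.FunFld.IsFunctionField k X.functionField) {L M : X.Modules}

/-- Two bases of the same module differ by a principal divisor. -/
theorem exists_div_same (R R' : Rep L) :
    ∃ c : X.functionField, c ≠ 0 ∧ R.div h hK = R'.div h hK + _root_.FunFld.div k c := by
  set c : X.functionField := R'.coord (R.coord.symm 1) with hc
  have hrel : ∀ (x : X) (v : L.presheaf.stalk x), R'.pr x v = c * R.pr x v := by
    intro x v
    show R'.coord (RefHull.Generic.toGen L x v) = c * R.coord (RefHull.Generic.toGen L x v)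
    generalize RefHull.Generic.toGen L x v = w
    conv_lhs => rw [← R.coord.symm_apply_apply w,
      show R.coord w = R.coord w • (1 : X.functionField) from (mul_one _).symm, map_smul, map_smul]
    rw [smul_eq_mul, mul_comm]
  have hc0 : c ≠ 0 := fun h0 => by
    have := R'.gen_ne (genericPoint X)
    rw [hrel, h0, zero_mul] at this
    exact this rfl
  refine ⟨c, hc0, ?_⟩
  ext P
  obtain ⟨x, rfl⟩ := placeOf_surjective (k := k) h P
  rw [Finsupp.add_apply, FunFld.Degree.div_apply hK, Rep.div_placeOf, Rep.div_placeOf]
  refine R.e_unique h x fun f => ?_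
  have hv : (placeOf k h x).1 c = exp (-(placeOf k h x).ord c) := FunFld.Place.val_eq_exp _ hc0
  have hiff : (∃ v, R.pr x.1 v = f) ↔ (∃ v, R'.pr x.1 v = c * f) :=
    exists_congr fun v => by
      rw [hrel]
      exact ⟨fun h => by rw [h], fun h => mul_left_cancel₀ hc0 h⟩
  rw [hiff, R'.mem_iff (k := k) h x, map_mul, hv]
  constructor
  · intro hle
    have := mul_le_mul' (le_refl (exp ((placeOf k h x).ord c))) hle
    rwa [← mul_assoc, ← exp_add, add_neg_cancel, exp_zero, one_mul, ← exp_add,
      add_comm ((placeOf k h x).ord c)] at this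
  · intro hle
    refine (mul_le_mul' le_rfl hle).trans_eq ?_
    rw [← exp_add]
    congr 1
    ring

/-- Isomorphic modules have linearly equivalent divisors. -/
theorem exists_div_iso (e : L ≅ M) (R : Rep L) (S : Rep M) :
    ∃ c : X.functionField, c ≠ 0 ∧ R.div h hK = S.div h hK + _root_.FunFld.div k c := by
  have hne : e.hom ≠ 0 := fun h0 => by
    have h1 := congrArg (fun φ => stalkMapₗ φ (genericPoint X) (R.gen (genericPoint X))) e.hom_inv_id
    simp only [h0, Limits.zero_comp, Modules.StalkModule.stalkMapₗ_zero, LinearMap.zero_apply,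
      Modules.StalkModule.stalkMapₗ_id, LinearMap.id_apply] at h1
    exact R.gen_ne (genericPoint X) (by rw [← h1, map_zero])
  obtain ⟨c, hc, heq⟩ := exists_div_same h hK R (S.src R.inv hne)
  refine ⟨c, hc, heq.trans (congrArg (· + _) ?_)⟩
  ext P
  obtain ⟨x, rfl⟩ := placeOf_surjective (k := k) h P
  rw [Rep.div_placeOf, Rep.div_placeOf]
  refine e_eq_of_surjective h (fun y v => S.src_pr R.inv hne y v) x fun w =>
    ⟨stalkMapₗ e.inv x.1 w, ?_⟩
  rw [← LinearMap.comp_apply, ← Modules.StalkModule.stalkMapₗ_comp, e.inv_hom_id,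
    Modules.StalkModule.stalkMapₗ_id, LinearMap.id_apply]

end Groth.Agent.Lib.CurveFF.LineDiv
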