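import Groth.Agent.Lib.CurveFF.Basic
import Groth.Agent.Lib.FunFld.Hasse.Expansion
import Groth.Agent.Lib.FunFld.Hasse.Local
import Mathlib.RingTheory.Kaehler.Basic
import Mathlib.RingTheory.Etale.Kaehler
import Mathlib.RingTheory.Nakayama

/-!
Differentials of discrete valuation rings with residue field the base field.
-/

noncomputable section
set_option autoImplicit false
set_option linter.style.haveILetI false
universe u

open IsLocalRing WithZero

namespace Groth.Agent.Lib.CurveFF.LocalDiff

variable {k O : Type u} [Field k] [CommRing O] [Algebra k O]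

/-- The differential of an element generating the maximal ideal generates. -/
theorem span_D [IsLocalRing O] [Algebra.EssFiniteType k O] (s : O) (hsm : s ∈ maximalIdeal O)
    (hres : ∀ a : O, ∃ (c : k) (b : O), a = algebraMap k O c + s * b) :
    Submodule.span O {KaehlerDifferential.D k O s} = ⊤ := by
  refine eq_top_iff.2 (Submodule.le_of_le_smul_of_le_jacobson_bot
    (Module.Finite.fg_top (R := O) (M := Ω[O⁄k])) (I := maximalIdeal O)
    (maximalIdeal_le_jacobson _) ?_)
  rw [← KaehlerDifferential.span_range_derivation, Submodule.span_le]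
  rintro _ ⟨a, rfl⟩
  obtain ⟨c, b, rfl⟩ := hres a
  rw [map_add, Derivation.map_algebraMap, zero_add, Derivation.leibniz, SetLike.mem_coe, add_comm]
  exact Submodule.add_mem_sup (Submodule.smul_mem _ _ (Submodule.mem_span_singleton_self _))
    (Submodule.smul_mem_smul hsm
      (KaehlerDifferential.span_range_derivation k O ▸ Submodule.mem_top))

/-- The quotient of a valuation ring of a rational place by a principal ideal. -/
theorem finrank_quot {K : Type u} [Field K] [Algebra k K] [Algebra O K] [IsScalarTower k O K]
    [IsFractionRing O K] {P : _root_.FunFld.Place k K}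
    (hO : ∀ z : K, z ∈ P.O ↔ z ∈ (algebraMap O K).range)
    {t : K} (ht : P.1 t = exp (-1)) {ψ : K →ₐ[k] LaurentSeries k}
    (hψ : LocRes.IsExpansionAt P.1 ψ) (hψt : ψ t = HahnSeries.single 1 1)
    (r : O) {m : ℕ} (hr : P.1 (algebraMap O K r) = exp (-(m : ℤ))) :
    Nonempty ((O ⧸ Ideal.span {r}) ≃ₗ[k] (Fin m → k)) := by
  let φ : O →ₗ[k] (Fin m → k) :=
    { toFun := fun a i => (ψ (algebraMap O K a)).coeff (i : ℕ)
      map_add' := fun a b => by ext i; simp
      map_smul' := fun c a => by
        ext i
        simp only [Algebra.smul_def, map_mul, ← IsScalarTower.algebraMap_apply, LocRes.map_algebraMap,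
          Algebra.algebraMap_self, RingHom.id_apply, HahnSeries.C_mul_eq_smul, HahnSeries.coeff_smul,
          smul_eq_mul, Pi.smul_apply] }
  have hker : LinearMap.ker φ = (Ideal.span {r} : Ideal O).restrictScalars k := by
    ext a
    have hle : P.1 (algebraMap O K a) ≤ exp (-(m : ℤ)) ↔ φ a = 0 := by
      rw [FunFld.Hasse.Local.val_le_iff hψ]
      refine ⟨fun h => funext fun i => h _ (by exact_mod_cast i.2), fun h n hn => ?_⟩
      rcases lt_or_ge n 0 with hn0 | hn0
      · have h1 : P.1 (algebraMap O K a) ≤ exp (-(0 : ℤ)) := by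
          rw [neg_zero, exp_zero]; exact (hO _).2 ⟨a, rfl⟩
        exact (FunFld.Hasse.Local.val_le_iff hψ 0).1 h1 n hn0
      · obtain ⟨j, rfl⟩ := Int.eq_ofNat_of_zero_le hn0
        exact congrFun h ⟨j, by omega⟩
    rw [LinearMap.mem_ker, ← hle, Submodule.restrictScalars_mem, Ideal.mem_span_singleton']
    have hr0 : algebraMap O K r ≠ 0 := fun h0 => by
      rw [h0, map_zero] at hr; exact exp_ne_zero hr.symm
    constructor
    · intro h
      obtain ⟨b, hb⟩ := (hO _).1 (show algebraMap O K a / algebraMap O K r ∈ P.O from by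
        show P.1 _ ≤ 1
        rw [map_div₀, hr]
        exact (div_le_one₀ (exp_pos)).2 h)
      exact ⟨b, IsFractionRing.injective O K (by rw [map_mul, hb, div_mul_cancel₀ _ hr0])⟩
    · rintro ⟨b, rfl⟩
      rw [map_mul, map_mul, hr]
      exact mul_le_of_le_one_left' ((hO _).2 ⟨b, rfl⟩)
  have hsurj : Function.Surjective φ := fun f => by
    obtain ⟨s, hs⟩ := (hO t).1 (show P.1 t ≤ 1 by rw [ht, ← exp_zero, exp_le_exp]; norm_num)
    refine ⟨∑ i : Fin m, f i • s ^ (i : ℕ), funext fun j => ?_⟩
    simp only [φ, LinearMap.coe_mk, AddHom.coe_mk, map_sum, HahnSeries.coeff_sum, Finset.sum_apply, Algebra.smul_def,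
      map_mul, map_pow, ← IsScalarTower.algebraMap_apply, hs, LocRes.map_algebraMap,
      Algebra.algebraMap_self, RingHom.id_apply, hψt, HahnSeries.single_pow, one_pow,
      HahnSeries.C_mul_eq_smul, HahnSeries.coeff_smul, smul_eq_mul, HahnSeries.coeff_single]
    rw [Finset.sum_eq_single j (fun i _ hi => by
      have hne : ((j : ℕ) : ℤ) ≠ ((i : ℕ) : ℤ) := fun h => hi (Fin.ext (by exact_mod_cast h.symm))
      simp [hne])
      (fun h => absurd (Finset.mem_univ j) h)]
    simp
  have e : (O ⧸ (Ideal.span {r} : Ideal O).restrictScalars k) ≃ₗ[k] (Fin m → k) :=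
    (Submodule.quotEquivOfEq _ _ hker.symm).trans (φ.quotKerEquivOfSurjective hsurj)
  exact ⟨(Submodule.Quotient.restrictScalarsEquiv k (Ideal.span {r} : Ideal O)).symm.trans e⟩

/-- Relative differentials when `Ω_{O/k}` is free on `D s` and the base contributes `r • D s`. -/
theorem finrank_kaehler {A : Type u} [CommRing A] [Algebra k A] [Algebra A O] [IsScalarTower k A O]
    (s r : O) (hs : Submodule.span O {KaehlerDifferential.D k O s} = ⊤)
    (hinj : ∀ a : O, a • KaehlerDifferential.D k O s = 0 → a = 0)
    (hA : Submodule.span O (Set.range fun a : A => KaehlerDifferential.D k O (algebraMap A O a)) =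
      Submodule.span O {r • KaehlerDifferential.D k O s}) :
    Nonempty (Ω[O⁄A] ≃ₗ[k] O ⧸ Ideal.span {r}) := by
  let π : Ω[O⁄k] →ₗ[O] Ω[O⁄A] := KaehlerDifferential.map k A O O
  have hπ : Function.Surjective π := KaehlerDifferential.map_surjective k A O
  have hk : LinearMap.ker π = Submodule.span O {r • KaehlerDifferential.D k O s} := by
    rw [LinearMap.exact_iff.1 (KaehlerDifferential.exact_mapBaseChange_map k A O), ← hA]
    refine le_antisymm ?_ (Submodule.span_le.2 ?_)
    · rintro _ ⟨x, rfl⟩
      induction x using TensorProduct.induction_on with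
      | zero => simp
      | add x y hx hy => rw [map_add]; exact add_mem hx hy
      | tmul b w =>
        rw [KaehlerDifferential.mapBaseChange_tmul]
        refine Submodule.smul_mem _ _ ?_
        have hw : w ∈ Submodule.span A (Set.range (KaehlerDifferential.D k A)) :=
          KaehlerDifferential.span_range_derivation k A ▸ Submodule.mem_top
        induction hw using Submodule.span_induction with
        | mem z hz =>
          obtain ⟨a, rfl⟩ := hz
          rw [KaehlerDifferential.map_D]
          exact Submodule.subset_span ⟨a, rfl⟩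
        | zero => simp
        | add y z _ _ hy hz => rw [map_add]; exact add_mem hy hz
        | smul a z _ hz =>
          rw [map_smul, ← algebraMap_smul O a]
          exact Submodule.smul_mem _ _ hz
    · rintro _ ⟨a, rfl⟩
      exact ⟨1 ⊗ₜ KaehlerDifferential.D k A a, by
        rw [KaehlerDifferential.mapBaseChange_tmul, one_smul, KaehlerDifferential.map_D]⟩
  let g : O →ₗ[O] Ω[O⁄A] := π.comp (LinearMap.toSpanSingleton O _ (KaehlerDifferential.D k O s))
  have hg : Function.Surjective g := fun y => by
    obtain ⟨z, rfl⟩ := hπ y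
    obtain ⟨a, ha⟩ := Submodule.mem_span_singleton.1 (hs ▸ Submodule.mem_top :
      z ∈ Submodule.span O {KaehlerDifferential.D k O s})
    exact ⟨a, congrArg π ha⟩
  have hgk : LinearMap.ker g = Ideal.span {r} := by
    ext a
    simp only [g, LinearMap.mem_ker, LinearMap.comp_apply, LinearMap.toSpanSingleton_apply]
    rw [← LinearMap.mem_ker, hk, Submodule.mem_span_singleton, Ideal.mem_span_singleton']
    refine exists_congr fun b => ⟨fun h => sub_eq_zero.1 (hinj _ ?_), fun h => ?_⟩
    · rw [sub_smul, ← h, smul_smul, sub_self]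
    · rw [smul_smul, h]
  exact ⟨(((Submodule.quotEquivOfEq _ _ hgk.symm).trans
    (g.quotKerEquivOfSurjective hg)).restrictScalars k).symm⟩

end Groth.Agent.Lib.CurveFF.LocalDiff
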