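import Groth.Agent.Lib.CurveFF.Genus
import Groth.Agent.Lib.Curves.FiniteToP1
import Groth.Agent.Lib.FunFld.Degree
import Groth.Agent.Lib.FunFld.Gen.Degree

/-!
A rational function on a proper regular curve is a morphism to the projective line.
-/

noncomputable section
set_option autoImplicit false
set_option linter.style.haveILetI false
universe u

open CategoryTheory CategoryTheory.Limits AlgebraicGeometry TopologicalSpace Opposite
open Groth.Agent.H34.SplitP1 (P1 U φ φ_bijective)
open Groth.Agent.Lib.ProjSpace Groth.Agent.Lib.ProjSpace.Charts Groth.Agent.Lib.ProjSpace.Basic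
open Groth.Agent.Lib.Curves.PolePoint Groth.Agent.Lib.Curves.FiniteToP1

namespace Groth.Agent.Lib.CurveFF

attribute [local instance] Curv2.stalkAlgebra

theorem toSpecΓ_ext {X : Scheme.{u}} {W : X.Opens} {R : CommRingCat.{u}} {a b : R ⟶ Γ(X, W)}
    (h : W.toSpecΓ ≫ Spec.map a = W.toSpecΓ ≫ Spec.map b) : a = b := by
  have h' := congrArg (fun m : W.toScheme ⟶ Spec R => (Scheme.ΓSpecIso R).inv ≫ m.appTop) h
  simp only [Scheme.Hom.comp_appTop, Scheme.Opens.toSpecΓ_appTop] at h'
  simp only [Scheme.ΓSpecIso_naturality_assoc, Iso.inv_hom_id_assoc] at h'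
  exact (cancel_mono W.topIso.inv).1 h'

variable {k : Type u} [Field k]

variable (k) in
/-- The coordinate ring of a chart of the line. -/
def chartRing (i : Fin 2) : CommRingCat.of (MvPolynomial (Fin 1) k) ⟶ Γ(P1 k, U k i) :=
  CommRingCat.ofHom (chartEquiv k i).toRingHom ≫
    Proj.awayToSection (CohB1.polyGrading 1 k) (MvPolynomial.X i)

theorem chartRing_X (i : Fin 2) : (chartRing k i).hom (MvPolynomial.X 0) = φ k i Polynomial.X := by
  rw [H34.SplitP1.φ_X]
  show (Proj.awayToSection (CohB1.polyGrading 1 k) (MvPolynomial.X i)).hom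
    (chartEquiv k i (MvPolynomial.X 0)) = _
  rw [chartEquiv_X]

/-- A chart of the line, in terms of the affine open it parametrises. -/
theorem chartι_eq (i : Fin 2) (hU : IsAffineOpen (U k i)) :
    Spec.map (chartRing k i) ≫ chartι k i = hU.fromSpec := by
  have e : CommRingCat.ofHom (chartEquiv k i).symm.toRingHom ≫ chartRing k i =
      Proj.awayToSection (CohB1.polyGrading 1 k) (MvPolynomial.X i) :=
    CommRingCat.hom_ext (RingHom.ext fun z =>
      congrArg (Proj.awayToSection (CohB1.polyGrading 1 k) (MvPolynomial.X i)).hom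
        ((chartEquiv k i).apply_symm_apply z))
  have h1 : hU.isoSpec.hom ≫ Spec.map (Proj.awayToSection (CohB1.polyGrading 1 k) (MvPolynomial.X i)) =
      (Proj.basicOpenIsoSpec (CohB1.polyGrading 1 k) (MvPolynomial.X i)
        (X_mem_one i) one_pos).hom := by
    rw [Proj.basicOpenIsoSpec_hom]; rfl
  have h2 : hU.isoSpec.hom ≫ Spec.map (chartRing k i) ≫ chartι k i = (U k i).ι := by
    unfold chartι
    rw [← Category.assoc (Spec.map _), ← Spec.map_comp, e, ← Category.assoc, h1]
    exact (Category.assoc _ _ _).symm.trans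
      ((congrArg (· ≫ (U k i).ι) (Proj.basicOpenIsoSpec (CohB1.polyGrading 1 k) (MvPolynomial.X i)
        (X_mem_one i) one_pos).hom_inv_id).trans (Category.id_comp _))
  exact (Iso.inv_comp_eq _).2 h2.symm |>.symm

variable {X : Scheme.{u}} [X.Over (Spec (CommRingCat.of k))]

/-- The coordinate of a morphism given on an open by a chart. -/
theorem appLE_eq (f : X ⟶ P1 k) {W : X.Opens} (i : Fin 2) (s : Γ(X, W))
    (hf : W.ι ≫ f = toSpec W (evalAt k s) ≫ chartι k i) :
    ∃ e : W ≤ f ⁻¹ᵁ U k i, f.appLE (U k i) W e (φ k i Polynomial.X) = s := by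
  have hle : W ≤ f ⁻¹ᵁ U k i := fun x hx => by
    have h1 : f x = (chartι k i) ((toSpec W (evalAt k s)) ⟨x, hx⟩) :=
      congrArg (fun m : W.toScheme ⟶ P1 k => m ⟨x, hx⟩) hf
    change f x ∈ U k i
    rw [h1]
    exact (opensRange_chartι (R := k) i).le ⟨_, rfl⟩
  refine ⟨hle, ?_⟩
  have hU : IsAffineOpen (U k i) := isAffineOpen_basicOpen_X (R := k) i
  have key : W.toSpecΓ ≫ Spec.map (chartRing k i ≫ f.appLE (U k i) W hle) =
      W.toSpecΓ ≫ Spec.map (CommRingCat.ofHom (evalAt k s)) := by
    apply (cancel_mono (chartι k i)).1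
    calc (W.toSpecΓ ≫ Spec.map (chartRing k i ≫ f.appLE (U k i) W hle)) ≫
          chartι k i
        = (W.toSpecΓ ≫ Spec.map (f.appLE (U k i) W hle)) ≫
          (Spec.map (chartRing k i) ≫ chartι k i) := by
            simp only [Spec.map_comp, Category.assoc]
      _ = f.resLE (U k i) W hle ≫ (U k i).toSpecΓ ≫ hU.fromSpec := by
            rw [chartι_eq i hU, Scheme.Opens.toSpecΓ_SpecMap_appLE, Category.assoc]
      _ = W.ι ≫ f := by rw [IsAffineOpen.toSpecΓ_fromSpec, Scheme.Hom.resLE_comp_ι]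
      _ = _ := hf
  have h := ConcreteCategory.congr_hom (toSpecΓ_ext key) (MvPolynomial.X 0)
  simp only [CommRingCat.comp_apply, CommRingCat.hom_ofHom] at h
  rw [← chartRing_X]
  exact h.trans (MvPolynomial.eval₂Hom_X' _ _ _)

variable [IsIntegral X]

/-- The locus where a rational function is regular. -/
theorem exists_regLocus [IsProper (X ↘ Spec (CommRingCat.of k))] (h : CurveHyp X) (t : X.functionField) :
    ∃ W : X.Opens, genericPoint X ∈ W ∧ ∀ x : CPt X, x.1 ∈ W ↔ (placeOf k h x).1 t ≤ 1 := by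
  have hF := isFF (k := k) h.dim
  let Z : Set X := Subtype.val '' {x : CPt X | ¬ (placeOf k h x).1 t ≤ 1}
  have hfin : Z.Finite := by
    refine Set.Finite.image _ (Set.Finite.subset
      ((FunFld.Gen.Degree.finite_support_ord hF t).preimage (placeOf_injective h).injOn) fun x hx h0 => hx ?_)
    rw [FunFld.Place.val_le_one_iff]
    exact le_of_eq h0.symm
  have hcl : IsClosed Z := by
    rw [← Set.biUnion_of_singleton Z]
    exact hfin.isClosed_biUnion fun z hz => by
      obtain ⟨x, -, rfl⟩ := hz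
      exact x.2
  refine ⟨⟨Zᶜ, hcl.isOpen_compl⟩, fun ⟨x, _, hxe⟩ => ?_, fun x => ?_⟩
  · exact SmoothCurve.Stalk.ne_genericPoint_of_isClosed (by rw [h.dim]; exact one_ne_zero) x.2 hxe
  · show x.1 ∉ Z ↔ _
    refine ⟨fun hx => by_contra fun hn => hx ⟨x, hn, rfl⟩, fun hx ⟨y, hy, hyx⟩ => hy ?_⟩
    rwa [Subtype.ext hyx]

/-- A transcendental function is a finite morphism to the line, with it as coordinate. -/
theorem exists_toP1 [IsProper (X ↘ Spec (CommRingCat.of k))] (h : CurveHyp X) {t : X.functionField}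
    (ht : Transcendental k t) :
    ∃ f : X ⟶ P1 k, f ≫ CohB1.ProjSpace.toSpec 1 k = X ↘ Spec (CommRingCat.of k) ∧ IsFinite f ∧
      f (genericPoint X) = genericPoint (P1 k) ∧
      ∃ hm : genericPoint X ∈ H34.HyperEll.V f 0, DoubleCover.coord f 0 hm = t := by
  have ht0 : t ≠ 0 := fun e => ht (e ▸ isAlgebraic_zero)
  obtain ⟨W0, hη0, hW0⟩ := exists_regLocus (k := k) h t
  obtain ⟨W1, hη1, hW1⟩ := exists_regLocus (k := k) h t⁻¹
  obtain ⟨s0, hs0⟩ := exists_section_of_val (k := k) h hη0 t fun x hx => (hW0 x).1 hx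
  obtain ⟨s1, hs1⟩ := exists_section_of_val (k := k) h hη1 t⁻¹ fun x hx => (hW1 x).1 hx
  let W : Fin 2 → X.Opens := ![W0, W1]
  let g : ∀ i, (W i).toScheme ⟶ P1 k := fun i =>
    match i with
    | ⟨0, _⟩ => toSpec W0 (evalAt k s0) ≫ chartι k (0 : Fin 2)
    | ⟨1, _⟩ => toSpec W1 (evalAt k s1) ≫ chartι k (1 : Fin 2)
  have hcov : ⨆ i, W i = ⊤ := by
    refine top_le_iff.1 fun x _ => ?_
    rcases SmoothCurve.Curve.eq_genericPoint_or_isClosed h.dim x with rfl | hx
    · exact Opens.mem_iSup.2 ⟨0, hη0⟩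
    · rcases (placeOf k h ⟨x, hx⟩).O.mem_or_inv_mem t with h0 | h0
      · exact Opens.mem_iSup.2 ⟨0, (hW0 ⟨x, hx⟩).2 h0⟩
      · exact Opens.mem_iSup.2 ⟨1, (hW1 ⟨x, hx⟩).2 h0⟩
  have h01 : ∀ (V : X.Opens) (h0 : V ≤ W0) (h1 : V ≤ W1),
      X.homOfLE h0 ≫ toSpec W0 (evalAt k s0) ≫ chartι k (0 : Fin 2) =
        X.homOfLE h1 ≫ toSpec W1 (evalAt k s1) ≫ chartι k (1 : Fin 2) := by
    intro V h0 h1
    rw [← Category.assoc, ← Category.assoc, homOfLE_toSpec, homOfLE_toSpec, res_evalAt, res_evalAt,
      toSpec, toSpec, Category.assoc, Category.assoc]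
    congr 1
    refine chart_agree _ _ (RingHom.ext fun r => by simp [evalAt]) ?_
    simp only [evalAt, MvPolynomial.eval₂Hom_X']
    by_cases hne : genericPoint X ∈ V
    · apply germ_injective_of_isIntegral X (genericPoint X) hne
      rw [map_mul, map_one]
      refine (congrArg₂ (· * ·) ((X.presheaf.germ_res_apply (homOfLE h0) _ hne s0).trans hs0)
        ((X.presheaf.germ_res_apply (homOfLE h1) _ hne s1).trans hs1)).trans (mul_inv_cancel₀ ht0)
    · have : V = ⊥ := by
        refine le_bot_iff.1 fun x hx => hne ((genericPoint_specializes x).mem_open V.2 hx)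
      subst this
      exact Subsingleton.elim _ _
  have hcompat : ∀ a b, X.homOfLE (inf_le_left : W a ⊓ W b ≤ W a) ≫ g a =
      X.homOfLE (inf_le_right : W a ⊓ W b ≤ W b) ≫ g b := by
    intro a b
    fin_cases a <;> fin_cases b
    · rfl
    · exact h01 _ inf_le_left inf_le_right
    · exact (h01 _ inf_le_right inf_le_left).symm
    · rfl
  let 𝒰 := X.openCoverOfIsOpenCover W hcov
  let f : X ⟶ P1 k := 𝒰.glueMorphisms g fun a b => by
    refine (cancel_epi (isPullback_opens_inf (W a) (W b)).isoPullback.hom).mp ?_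
    erw [IsPullback.isoPullback_hom_fst_assoc, IsPullback.isoPullback_hom_snd_assoc]
    exact hcompat a b
  have hπ : ∀ i, (W i).ι ≫ f = g i := fun i => 𝒰.ι_glueMorphisms g _ i
  have hover : f ≫ CohB1.ProjSpace.toSpec 1 k = X ↘ Spec (CommRingCat.of k) := by
    refine 𝒰.hom_ext _ _ fun i => ?_
    show (W i).ι ≫ f ≫ _ = (W i).ι ≫ _
    rw [reassoc_of% hπ i]
    rcases i with ⟨_ | _ | n, hn⟩
    · exact toSpec_evalAt_over (k := k) 0 s0
    · exact toSpec_evalAt_over (k := k) 1 s1
    · exact absurd (show n + 1 + 1 < 2 from hn) (by omega)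
  obtain ⟨e, he⟩ := appLE_eq (W := W0) f 0 s0 (hπ 0)
  have hm : genericPoint X ∈ H34.HyperEll.V f 0 := e hη0
  have hcoord : DoubleCover.coord f 0 hm = t := by
    rw [← hs0, ← he]
    exact (X.presheaf.germ_res_apply (homOfLE e) (genericPoint X) hη0
      (f.app (U k 0) (φ k 0 Polynomial.X))).symm
  haveI : IsProper (f ≫ CohB1.ProjSpace.toSpec 1 k) := by rw [hover]; infer_instance
  haveI : IsProper f := IsProper.of_comp f (CohB1.ProjSpace.toSpec 1 k)
  have hdimP : topologicalKrullDim (P1 k) = 1 := by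
    rw [ProjSpace.Dim.topologicalKrullDim_projSpace 1 k, ringKrullDim_eq_zero_of_field]
    simp
  have hU : IsAffineOpen (U k 0) := isAffineOpen_basicOpen_X (R := k) 0
  have hgen : f (genericPoint X) = genericPoint (P1 k) := by
    haveI : Nonempty (U k 0) := ⟨⟨_, hm⟩⟩
    have hbot : (hU.primeIdealOf ⟨f (genericPoint X), hm⟩).asIdeal = ⊥ := by
      refine eq_bot_iff.2 fun r hr => ?_
      obtain ⟨p, rfl⟩ := (φ_bijective k 0).2 r
      letI := TopCat.Presheaf.algebra_section_stalk (P1 k).presheaf (⟨f (genericPoint X), hm⟩ : U k 0)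
      have := hU.isLocalization_stalk ⟨f (genericPoint X), hm⟩
      have hnu : (X.presheaf.germ (H34.HyperEll.V f 0) (genericPoint X) hm).hom
          (H34.HyperEll.chartHom f 0 p) = 0 := by
        by_contra hne
        have hu : IsUnit ((X.presheaf.germ (H34.HyperEll.V f 0) (genericPoint X) hm).hom
            (H34.HyperEll.chartHom f 0 p)) := by
          let _ : Field (X.presheaf.stalk (genericPoint X)) := inferInstanceAs (Field X.functionField)
          exact isUnit_iff_ne_zero.2 hne
        have hu' : f (genericPoint X) ∈ (P1 k).basicOpen (φ k 0 p) := by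
          have : genericPoint X ∈ f ⁻¹ᵁ (P1 k).basicOpen (φ k 0 p) := by
            rw [Scheme.preimage_basicOpen]
            exact (X.mem_basicOpen _ _ hm).2 hu
          exact this
        exact (IsLocalization.AtPrime.to_map_mem_maximal_iff ((P1 k).presheaf.stalk (f (genericPoint X)))
          (hU.primeIdealOf ⟨f (genericPoint X), hm⟩).asIdeal (φ k 0 p)).2 hr
          (((P1 k).mem_basicOpen _ _ hm).1 hu')
      rw [DoubleCover.germ_chartHom f hover, hcoord] at hnu
      rw [Ideal.mem_bot, (transcendental_iff.1 ht) p hnu, map_zero]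
    refine (hU.fromSpec_primeIdealOf ⟨f (genericPoint X), hm⟩).symm.trans (Eq.trans ?_
      (hU.fromSpec_primeIdealOf ⟨genericPoint (P1 k),
        ((genericPoint_spec (P1 k)).mem_open_set_iff (U k 0).isOpen).2 ⟨_, trivial, hm⟩⟩))
    congr 1
    refine PrimeSpectrum.ext (hbot.trans ?_)
    rw [hU.primeIdealOf_genericPoint, genericPoint_eq_bot_of_affine]
    rfl
  haveI := Curves.GlobalSections.noetherianSpace_of_proper k X
  haveI : LocallyQuasiFinite f := LocallyQuasiFinite.of_finite_preimage_singleton f fun y => by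
    rcases SmoothCurve.Curve.eq_genericPoint_or_isClosed hdimP y with rfl | hy
    · refine (Set.finite_singleton (genericPoint X)).subset fun x hx => ?_
      refine (SmoothCurve.Curve.eq_genericPoint_or_isClosed h.dim x).resolve_right fun hc => ?_
      have h1 := f.isClosedMap _ hc
      rw [Set.image_singleton, show f x = genericPoint (P1 k) from hx] at h1
      exact SmoothCurve.Stalk.ne_genericPoint_of_isClosed (by rw [hdimP]; exact one_ne_zero) h1 rfl
    · refine SmoothCurve.Curve.finite_of_isClosed h.dim (hy.preimage f.continuous) fun hc => ?_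
      exact SmoothCurve.Stalk.ne_genericPoint_of_isClosed (by rw [hdimP]; exact one_ne_zero) hy
        (((Set.mem_singleton_iff.1 hc).symm.trans hgen))
  exact ⟨f, hover, IsFinite.of_isProper_of_locallyQuasiFinite f, hgen, hm, hcoord⟩

end Groth.Agent.Lib.CurveFF
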