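import Groth.Agent.Lib.CurveFF.HypContain
import Groth.Agent.Lib.LefPen45.HypSheaf

import Groth.Agent.Lib.CurveFF.CanonRatio
import Groth.Agent.Lib.ProjMor.LinSub

/-!
The coordinate sections of a non-degenerate map are linearly independent.
-/
noncomputable section
set_option autoImplicit false
set_option linter.style.haveILetI false
universe u

open CategoryTheory CategoryTheory.Limits AlgebraicGeometry TopologicalSpace Opposite WithZero
open Groth.Agent.Lib.TensorMod Groth.Agent.Lib.TensorMod.Gen
open Groth.Agent.Lib.ProjSpace Groth.Agent.Lib.Ample.GenLocus Groth.Agent.Lib.ProjMor.Sec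
open Groth.Agent.Lib.TensorMod.Dual Groth.Agent.Lib.TensorMod.Basic
open Groth.Agent.Lib.FunFld.Degree

namespace Groth.Agent.Lib.CurveFF.NondegSections

attribute [local instance] Curv2.stalkAlgebra

variable {k : Type u} [Field k] {n : ℕ} {X : Scheme.{u}} [IsIntegral X]

local notation "𝒜" => CohB1.polyGrading n k

variable [X.Over (Spec (CommRingCat.of k))] [IsProper (X ↘ Spec (CommRingCat.of k))]

/-- If no nonzero section of `O(1)` pulls back to zero, the pullbacks of the coordinates are
linearly independent. -/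
theorem linearIndependent_pullSec (ψ : X ⟶ CohB1.ProjSpace n k)
    (hψk : ψ ≫ CohB1.ProjSpace.toSpec n k = X ↘ Spec (CommRingCat.of k))
    (hnd : Function.Injective (fun s : ProjUP.Γm (Twist.twistProjSpace n k 1) =>
      ProjUP.pullSec ψ (Twist.twistProjSpace n k 1) s)) :
    letI := Curves.GlobalSections.secModule k ((Scheme.Modules.pullback ψ).obj (Twist.twistProjSpace n k 1))
    LinearIndependent k fun j => (show ((((Scheme.Modules.pullback ψ).obj
      (Twist.twistProjSpace n k 1)).val.obj (op ⊤)) : Type u) from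
      ProjUP.pullSec ψ (Twist.twistProjSpace n k 1) (ProjUP.coord n k j)) := by
  classical
  let el : Fin (n + 1) → 𝒜 1 := fun i => ⟨MvPolynomial.X i, MvPolynomial.isHomogeneous_X k i⟩
  let L := (Scheme.Modules.pullback ψ).obj (Twist.twistProjSpace n k 1)
  have hinv : PicF.IsInvertible (Twist.twist 𝒜 1) :=
    ProjTilde.Invertible.twist_isInvertible_of_cover (fun y => by
      obtain ⟨c, hc⟩ := ProjMor.Main.cover (ProjMor.Poly.lin_mem n k) (ProjMor.Poly.adjoin_lin n k) y
      exact ⟨c, c.2, hc⟩) 1
  have hL : PicF.IsInvertible L := PicLoc.isInvertible_pullback ψ hinv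
  obtain ⟨R⟩ := LineDiv.nonempty_rep hL
  obtain ⟨l, hl⟩ : ∃ l, ψ (genericPoint X) ∈ Proj.basicOpen 𝒜 (MvPolynomial.X l) :=
    Opens.mem_iSup.mp ((Basic.iSup_basicOpen_X_eq_top n k).ge trivial)
  let V : (CohB1.ProjSpace n k).Opens := Proj.basicOpen 𝒜 (MvPolynomial.X l)
  let U : X.Opens := ψ ⁻¹ᵁ V
  have hη : genericPoint X ∈ U := hl
  let sec : 𝒜 1 → Γ(L, ⊤) := fun b =>
    ProjUP.pullSec ψ (Twist.twistProjSpace n k 1) (ProjMor.Frame.g 𝒜 b)
  let gs : Γ(L, ⊤) → X.functionField := fun t =>
    R.coord (L.presheaf.germ ⊤ (genericPoint X) trivial t)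
  let φ : MvPolynomial (Fin (n + 1)) k →+* X.functionField := HypContain.val ψ l hη
  -- the ratio
  have hrel : ∀ b : 𝒜 1, gs (sec b) = φ (b : MvPolynomial (Fin (n + 1)) k) * gs (sec (el l)) := by
    intro b
    have hfr : ProjMor.Frame.fr 𝒜 (el l) b = Proj.awayToSection 𝒜 (MvPolynomial.X l)
        (Charts.fromPoly k l (Charts.dehom k l (b : MvPolynomial (Fin (n + 1)) k))) := by
      refine congrArg (Proj.awayToSection 𝒜 (MvPolynomial.X l)) ?_
      refine HomogeneousLocalization.val_injective _ ?_
      erw [HomogeneousLocalization.Away.val_mk]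
      rw [Localization.mk_eq_mk', eq_comm, IsLocalization.eq_mk'_iff_mul_eq, mul_comm]
      simpa using Charts.fromPoly_dehom_of_isHomogeneous l (m := 1)
        (show (b : MvPolynomial (Fin (n + 1)) k).IsHomogeneous 1 from b.2)
    have h1 := ProjMor.Embed.ratio_of_iso (a := el l) (b := b) (va := sec (el l)) (vb := sec b)
      (Iso.refl L) rfl rfl (U := U) le_rfl
    have h2 := congrArg (fun v => R.coord (L.presheaf.germ U (genericPoint X) hη v)) h1
    refine Eq.trans ?_ (h2.trans ?_)
    · exact congrArg R.coord (TopCat.Presheaf.germ_res_apply L.presheaf _ _ hη (sec b)).symm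
    · rw [Modules.StalkModule.germ_smul, map_smul, smul_eq_mul]
      refine congrArg₂ (fun a b : X.functionField => a * b) ?_
        (congrArg R.coord (TopCat.Presheaf.germ_res_apply L.presheaf _ _ hη (sec (el l))))
      refine (congrArg (fun t => X.presheaf.germ U (genericPoint X) hη
        (t (ProjMor.Frame.fr 𝒜 (el l) b))) (Scheme.Hom.appLE_eq_app ψ)).trans ?_
      rw [hfr]
      rfl
  -- non-vanishing
  have hgen : IsGen L U (rs L le_top (sec (el l))) := by
    have hle : U ≤ locus (sec (el l)) := by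
      rw [show U = ψ ⁻¹ᵁ Proj.basicOpen 𝒜 (el l : MvPolynomial (Fin (n + 1)) k) from rfl,
        ← ProjMor.Frame.locus_g (ProjMor.Main.cover (ProjMor.Poly.lin_mem n k) (ProjMor.Poly.adjoin_lin n k)) (el l)]
      exact (locus_pullback hinv ψ _).ge
    have h' := (isGen_locus (sec (el l))).res hle
    rwa [rs_rs] at h'
  have hgl : gs (sec (el l)) ≠ 0 := fun h0 => by
    have hg0 : L.presheaf.germ U (genericPoint X) hη (rs L (le_top : U ≤ ⊤) (sec (el l))) =
        L.presheaf.germ U (genericPoint X) hη 0 := by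
      rw [map_zero]
      exact R.coord.injective (((congrArg R.coord (TopCat.Presheaf.germ_res_apply L.presheaf _ _ hη
        (sec (el l)))).trans h0).trans (map_zero R.coord).symm)
    obtain ⟨W, hW, i₁, i₂, hW0⟩ := TopCat.Presheaf.germ_eq L.presheaf _ hη hη _ _ hg0
    rw [map_zero] at hW0
    haveI : Nonempty W := ⟨⟨_, hW⟩⟩
    refine one_ne_zero (α := Γ(X, W)) ((hgen W i₁.le).1 ?_)
    simp only [one_smul, zero_smul]
    exact hW0
  letI := Curves.GlobalSections.secModule k L
  refine Fintype.linearIndependent_iff.2 fun c hc i => ?_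
  let b : 𝒜 1 := ⟨∑ j, MvPolynomial.C (c j) * MvPolynomial.X j,
    MvPolynomial.IsHomogeneous.sum _ _ _ fun j _ => MvPolynomial.isHomogeneous_C_mul_X (c j) j⟩
  let Φ : (L.val.obj (op ⊤) : Type u) →ₗ[k] X.functionField :=
    { toFun := fun t => CanonRatio.secCoord R t
      map_add' := fun t t' => CanonRatio.secCoord_add R t t'
      map_smul' := fun a t => CanonRatio.secCoord_smul R a t }
  have hb : gs (sec b) = 0 := by
    rw [hrel b]
    have h1 := congrArg Φ hc
    rw [map_sum, map_zero] at h1
    show φ (∑ j, MvPolynomial.C (c j) * MvPolynomial.X j) * gs (sec (el l)) = 0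
    rw [map_sum, Finset.sum_mul, ← h1]
    refine Finset.sum_congr rfl fun j _ => ?_
    rw [map_smul, map_mul, show φ (MvPolynomial.C (c j)) = _ from HypContain.val_C ψ hψk l hη (c j),
      Algebra.smul_def, mul_assoc]
    exact congrArg (algebraMap k X.functionField (c j) * ·) (hrel (el j)).symm
  have hb0 : b = 0 := by
    by_contra hne0
    have hsec : sec b = 0 := CanonRatio.secCoord_injective R (hb.trans (show gs 0 = 0 by
      show R.coord (L.presheaf.germ ⊤ (genericPoint X) trivial 0) = 0
      rw [map_zero, map_zero]).symm)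
    have h0 : ProjMor.Frame.g 𝒜 b = 0 := hnd (hsec.trans (map_zero
      (((Scheme.Modules.pullbackPushforwardAdjunction ψ).unit.app
        (Twist.twistProjSpace n k 1)).val.app (op ⊤)).hom).symm)
    refine hne0 ?_
    obtain ⟨x⟩ : Nonempty (CohB1.ProjSpace n k) := ⟨ψ (genericPoint X)⟩
    haveI := x.isPrime
    have h0' : Twist.globalOf 𝒜 b = 0 := h0
    have h1 := congrArg (fun s => (s.1 ⟨x, trivial⟩).1) h0'
    change Localization.mk (b : MvPolynomial (Fin (n + 1)) k) _ =
      (0 : Localization x.asHomogeneousIdeal.toIdeal.primeCompl) at h1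
    rw [Localization.mk_eq_mk', IsLocalization.mk'_eq_zero_iff] at h1
    obtain ⟨m, hm⟩ := h1
    rcases mul_eq_zero.1 hm with h2 | h2
    · exact absurd (by rw [h2]; exact zero_mem _) m.2
    · exact Subtype.ext h2
  have h2 := congrArg (fun t : 𝒜 1 => MvPolynomial.coeff (Finsupp.single i 1)
    (t : MvPolynomial (Fin (n + 1)) k)) hb0
  simpa [b, MvPolynomial.coeff_sum, MvPolynomial.coeff_C_mul, MvPolynomial.coeff_X', Finset.sum_ite_eq',
    Finsupp.single_eq_single_iff] using h2

end Groth.Agent.Lib.CurveFF.NondegSections
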