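import Groth.Agent.Lib.CurveFF.GeneralPoints
import Groth.Agent.Lib.CurveFF.Drop

/-!
Open conditions on tuples of rational points given by independence of values.
-/

noncomputable section
set_option autoImplicit false
set_option linter.style.haveILetI false
universe u

open CategoryTheory CategoryTheory.Limits AlgebraicGeometry TopologicalSpace WithZero

namespace Groth.Agent.Lib.CurveFF.OpenCond

attribute [local instance] Curv2.stalkAlgebra

open Groth.Agent.Lib.Curves.PolePoint (cst)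
open Groth.Agent.Lib.CurveFF.GeneralPoints

variable {k : Type u} [Field k]

/-- Injectivity of a matrix of sections is an open condition. -/
theorem exists_open_injective {Y : Scheme.{u}} [Y.Over (Spec (CommRingCat.of k))] {U₀ : Y.Opens}
    {ι κ : Type*} [Fintype ι] [Fintype κ] [DecidableEq ι] [DecidableEq κ] (A : Matrix ι κ Γ(Y, U₀))
    (x₀ : Spec (CommRingCat.of k) ⟶ Y) (h₀ : x₀ ≫ (Y ↘ Spec (CommRingCat.of k)) = 𝟙 _)
    (hx₀ : ⊤ ≤ x₀ ⁻¹ᵁ U₀)
    (hA : Function.Injective ((A.map (ev x₀ hx₀)).mulVec)) :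
    ∃ U : Y.Opens, U ≤ U₀ ∧ x₀ (IsLocalRing.closedPoint k) ∈ U ∧
      ∀ (x : Spec (CommRingCat.of k) ⟶ Y) (_ : x ≫ (Y ↘ Spec (CommRingCat.of k)) = 𝟙 _)
        (hx : ⊤ ≤ x ⁻¹ᵁ U₀), x (IsLocalRing.closedPoint k) ∈ U →
        Function.Injective ((A.map (ev x hx)).mulVec) := by
  obtain ⟨l, hl⟩ := (Matrix.toLin' (A.map (ev x₀ hx₀))).exists_leftInverse_of_injective
    (LinearMap.ker_eq_bot.2 hA)
  let G : Matrix κ ι k := LinearMap.toMatrix' l
  have hG : G * A.map (ev x₀ hx₀) = 1 := by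
    rw [← LinearMap.toMatrix'_id, ← hl, LinearMap.toMatrix'_comp, LinearMap.toMatrix'_toLin']
  let d := (G.map (cst k U₀) * A).det
  have hd : ∀ (x : Spec (CommRingCat.of k) ⟶ Y) (_ : x ≫ (Y ↘ Spec (CommRingCat.of k)) = 𝟙 _)
      (hx : ⊤ ≤ x ⁻¹ᵁ U₀), ev x hx d = (G * A.map (ev x hx)).det := by
    intro x hx' hx
    rw [RingHom.map_det, RingHom.mapMatrix_apply, Matrix.map_mul, Matrix.map_map]
    congr 2
    ext a b
    exact ev_cst x hx' hx _
  refine ⟨Y.basicOpen d, Y.basicOpen_le d, (ev_ne_zero_iff x₀ hx₀ d).1 ?_, fun x hx' hx hm v w hvw => ?_⟩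
  · rw [hd x₀ h₀ hx₀, hG, Matrix.det_one]; exact one_ne_zero
  · have h1 := (ev_ne_zero_iff x hx d).2 hm
    rw [hd x hx' hx] at h1
    refine sub_eq_zero.1 (Matrix.eq_zero_of_mulVec_eq_zero h1 ?_)
    rw [← Matrix.mulVec_mulVec, Matrix.mulVec_sub, sub_eq_zero.2 hvw, Matrix.mulVec_zero]

variable {X : Scheme.{u}} [X.Over (Spec (CommRingCat.of k))]

omit [X.Over (Spec (CommRingCat.of k))] in
theorem ev_res {V W : X.Opens} (hle : W ≤ V) (p : Spec (CommRingCat.of k) ⟶ X) (hW : ⊤ ≤ p ⁻¹ᵁ W)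
    (hV : ⊤ ≤ p ⁻¹ᵁ V) (s : Γ(X, V)) : ev p hW (X.presheaf.map (homOfLE hle).op s) = ev p hV s := by
  show (Scheme.ΓSpecIso (CommRingCat.of k)).hom (p.appLE W ⊤ hW (X.presheaf.map (homOfLE hle).op s)) = _
  rw [← CommRingCat.comp_apply (f := X.presheaf.map (homOfLE hle).op), Scheme.Hom.map_appLE]
  rfl

variable [IsIntegral X]

theorem germ_comb {V : X.Opens} (hη : genericPoint X ∈ V) {n : ℕ} (s : Fin n → Γ(X, V)) (c : Fin n → k) :
    X.presheaf.germ V (genericPoint X) hη (comb s c) =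
      ∑ a, algebraMap k X.functionField (c a) * X.presheaf.germ V (genericPoint X) hη (s a) := by
  simp only [comb, map_sum, map_mul]
  exact Finset.sum_congr rfl fun a _ => congrArg (· * _) (germ_cst hη (c a))

omit [IsIntegral X] in
theorem mem_L_mul {K : Type u} [Field K] [Algebra k K] {A B : _root_.FunFld.Divisor k K} {f g : K}
    (hf : f ∈ _root_.FunFld.L A) (hg : g ∈ _root_.FunFld.L B) : f * g ∈ _root_.FunFld.L (A + B) :=
  Drop.mem_L_iff_val.2 fun P => by
    rw [map_mul, Finsupp.add_apply, exp_add]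
    exact mul_le_mul' (Drop.mem_L_iff_val.1 hf P) (Drop.mem_L_iff_val.1 hg P)

variable [IsProper (X ↘ Spec (CommRingCat.of k))] (h : CurveHyp X)
  (hK : _root_.FunFld.IsFunctionField k X.functionField)

include h in
/-- An open set avoiding the support of a divisor. -/
theorem exists_avoid (E : _root_.FunFld.Divisor k X.functionField) :
    ∃ V : X.Opens, genericPoint X ∈ V ∧ ∀ y : CPt X, y.1 ∈ V → E (placeOf k h y) = 0 := by
  let Bad : Set X := Subtype.val '' ((placeOf k h : CPt X → _) ⁻¹' (E.support : Set _))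
  have hBadc : IsClosed Bad := by
    rw [← Set.biUnion_of_singleton Bad]
    exact ((E.support.finite_toSet.preimage (placeOf_injective (k := k) h).injOn).image _).isClosed_biUnion
      fun z hz => by obtain ⟨w, -, rfl⟩ := hz; exact w.2
  refine ⟨⟨Badᶜ, hBadc.isOpen_compl⟩, ?_, fun y hy => ?_⟩
  · rintro ⟨w, -, hw⟩
    exact SmoothCurve.Stalk.ne_genericPoint_of_isClosed (by rw [h.dim]; exact one_ne_zero) w.2 hw
  · by_contra hne
    exact hy ⟨y, Finsupp.mem_support_iff.2 hne, rfl⟩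

include hK in
/-- A basis of a Riemann-Roch space by sections on an open set. -/
theorem exists_sections (E : _root_.FunFld.Divisor k X.functionField) {n : ℕ} (hn : _root_.FunFld.ell E = n)
    (W₀ : X.Opens) (hW₀ : genericPoint X ∈ W₀) :
    ∃ (V : X.Opens) (hη : genericPoint X ∈ V) (s : Fin n → Γ(X, V)), V ≤ W₀ ∧
      (∀ c : Fin n → k, X.presheaf.germ V (genericPoint X) hη (comb s c) ∈ _root_.FunFld.L E) ∧
      (∀ f ∈ _root_.FunFld.L E, ∃ c : Fin n → k, X.presheaf.germ V (genericPoint X) hη (comb s c) = f) ∧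
      ∀ c : Fin n → k, comb s c = 0 → c = 0 := by
  haveI := FunFld.Degree.finiteDimensional_L hK E
  let β := Module.finBasisOfFinrankEq k (_root_.FunFld.L E) hn
  choose Va hVa σ hσ using fun a => X.presheaf.exists_germ_eq ((β a : _root_.FunFld.L E) : X.functionField)
  let V : X.Opens := Finset.univ.inf Va ⊓ W₀
  have hη : genericPoint X ∈ V := by
    refine ⟨?_, hW₀⟩
    show genericPoint X ∈ ((Finset.univ.inf Va : X.Opens) : Set X)
    rw [Opens.coe_finset_inf, Finset.inf_eq_iInf]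
    simpa using fun a => hVa a
  have hle : ∀ a, V ≤ Va a := fun a => inf_le_left.trans (Finset.inf_le (Finset.mem_univ a))
  let s := fun a => X.presheaf.map (homOfLE (hle a)).op (σ a)
  have hs : ∀ c : Fin n → k, X.presheaf.germ V (genericPoint X) hη (comb s c) =
      ((∑ a, c a • β a : _root_.FunFld.L E) : X.functionField) := by
    intro c
    rw [germ_comb hη s c]
    simp only [Submodule.coe_sum, Submodule.coe_smul, Algebra.smul_def]
    exact Finset.sum_congr rfl fun a _ => congrArg (_ * ·)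
      ((X.presheaf.germ_res_apply (homOfLE (hle a)) _ hη (σ a)).trans (hσ a))
  refine ⟨V, hη, s, inf_le_right, fun c => by rw [hs]; exact Submodule.coe_mem _, fun f hf => ?_, fun c hc => ?_⟩
  · refine ⟨fun a => β.repr ⟨f, hf⟩ a, (hs _).trans ?_⟩
    rw [β.sum_repr]
  · have h1 : (∑ a, c a • β a : _root_.FunFld.L E) = 0 := Subtype.ext (by rw [← hs, hc, map_zero]; rfl)
    exact funext fun a => Fintype.linearIndependent_iff.1 β.linearIndependent c h1 a

variable [IsAlgClosed k]

/-- The closed point of a rational point. -/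
def pt (p : Spec (CommRingCat.of k) ⟶ X) (hp : p ≫ (X ↘ Spec (CommRingCat.of k)) = 𝟙 _) : CPt X :=
  ⟨p (IsLocalRing.closedPoint k), (pointEquivClosedPoint (X ↘ Spec (CommRingCat.of k)) ⟨p, hp⟩).2⟩

include h in
/-- A value vanishes exactly when the function has a zero. -/
theorem ev_eq_zero_iff {V : X.Opens} (hη : genericPoint X ∈ V) (t : Γ(X, V))
    (p : Spec (CommRingCat.of k) ⟶ X) (hp' : p ≫ (X ↘ Spec (CommRingCat.of k)) = 𝟙 _) (hp : ⊤ ≤ p ⁻¹ᵁ V) :
    ev p hp t = 0 ↔
      (placeOf k h (pt p hp')).1 (X.presheaf.germ V (genericPoint X) hη t) < 1 := by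
  have hyV : (pt p hp').1 ∈ V := hp (show IsLocalRing.closedPoint k ∈ (⊤ : (Spec (CommRingCat.of k)).Opens) from trivial)
  rw [show X.presheaf.germ V (genericPoint X) hη t =
      algebraMap (X.presheaf.stalk (pt p hp').1) X.functionField (X.presheaf.germ V _ hyV t) from
    (RefHull.Generic.algebraMap_germ hyV t).symm,
    ClosedImmersionCrit.val_lt_one_iff h (pt p hp'), ← not_iff_not, not_not, ← ne_eq, ev_ne_zero_iff,
    X.mem_basicOpen' t ⟨_, hyV⟩ |>.symm]
  rfl

include h in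
/-- A function in a space with smaller bound at the point vanishes there. -/
theorem ev_eq_zero_of_mem {V : X.Opens} (hη : genericPoint X ∈ V) (t : Γ(X, V))
    {E : _root_.FunFld.Divisor k X.functionField}
    (ht : X.presheaf.germ V (genericPoint X) hη t ∈ _root_.FunFld.L E)
    (p : Spec (CommRingCat.of k) ⟶ X) (hp' : p ≫ (X ↘ Spec (CommRingCat.of k)) = 𝟙 _) (hp : ⊤ ≤ p ⁻¹ᵁ V)
    (hE : E (placeOf k h (pt p hp')) < 0) : ev p hp t = 0 := by
  rw [ev_eq_zero_iff h hη t p hp' hp]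
  refine (Drop.mem_L_iff_val.1 ht _).trans_lt ?_
  rw [← exp_zero, exp_lt_exp]
  exact hE

include h in
/-- A function of a space vanishing at distinct points lies in the smaller space. -/
theorem mem_sub_of_ev {V : X.Opens} (hη : genericPoint X ∈ V) (t : Γ(X, V))
    {E : _root_.FunFld.Divisor k X.functionField}
    (ht : X.presheaf.germ V (genericPoint X) hη t ∈ _root_.FunFld.L E)
    {r : ℕ} (p : Fin r → (Spec (CommRingCat.of k) ⟶ X)) (hp' : ∀ b, p b ≫ (X ↘ Spec (CommRingCat.of k)) = 𝟙 _)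
    (hp : ∀ b, ⊤ ≤ p b ⁻¹ᵁ V) (hinj : Function.Injective fun b => pt (p b) (hp' b))
    (hE : ∀ b, 0 ≤ E (placeOf k h (pt (p b) (hp' b)))) (hz : ∀ b, ev (p b) (hp b) t = 0) :
    X.presheaf.germ V (genericPoint X) hη t ∈
      _root_.FunFld.L (E - ∑ b, Finsupp.single (placeOf k h (pt (p b) (hp' b))) 1) := by
  classical
  refine Drop.mem_L_iff_val.2 fun P => ?_
  rw [Finsupp.sub_apply, Finsupp.finsetSum_apply]
  by_cases hP : ∃ b, placeOf k h (pt (p b) (hp' b)) = P
  · obtain ⟨b, rfl⟩ := hP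
    rw [Finset.sum_eq_single b (fun c _ hc => Finsupp.single_eq_of_ne fun e =>
      hc (hinj (placeOf_injective (k := k) h e)).symm) (fun hb => absurd (Finset.mem_univ b) hb),
      Finsupp.single_eq_same]
    have h1 := (ev_eq_zero_iff h hη t (p b) (hp' b) (hp b)).1 (hz b)
    by_cases hf : X.presheaf.germ V (genericPoint X) hη t = 0
    · rw [hf, map_zero]; exact zero_le'
    rw [FunFld.Place.val_eq_exp _ hf, ← exp_zero, exp_lt_exp] at h1
    rw [FunFld.Place.val_eq_exp _ hf, exp_le_exp]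
    have := hE b
    omega
  · rw [Finset.sum_eq_zero fun c _ => Finsupp.single_eq_of_ne fun e => hP ⟨c, e.symm⟩, sub_zero]
    exact Drop.mem_L_iff_val.1 ht P

end Groth.Agent.Lib.CurveFF.OpenCond
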