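import Groth.Agent.Lib.CurveFF.DoubleInvol
import Groth.Agent.Lib.CurveFF.GenusZeroSub
import Groth.Agent.Lib.CurveFF.PencilDim
import Groth.Agent.Lib.FunFld.Galois
import Groth.Agent.H81.Quadratic

/-!
The involution of a separable pencil of degree two.
-/

noncomputable section
set_option autoImplicit false
set_option linter.style.haveILetI false
universe u v

open IntermediateField
open Groth.Agent.Lib.FunFld Groth.Agent.Lib.FunFld.Degree

namespace Groth.Agent.Lib.CurveFF.PencilInvol

variable {k : Type u} {K : Type v} [Field k] [Field K] [Algebra k K]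

/-- A separable quadratic extension has a nontrivial automorphism. -/
theorem exists_aut {t : K} (h2 : Module.finrank (adjoin k ({t} : Set K)) K = 2)
    (hsep : Algebra.IsSeparable (adjoin k ({t} : Set K)) K) :
    ∃ φ : K ≃ₐ[k] K, φ t = t ∧ (∀ z, φ (φ z) = z) ∧ ∃ z, φ z ≠ z := by
  let E := adjoin k ({t} : Set K)
  haveI : FiniteDimensional E K := Module.finite_of_finrank_eq_succ h2
  haveI : Algebra.IsQuadraticExtension E K := { finrank_eq_two' := h2 }
  have hcard : Nat.card (K ≃ₐ[E] K) = 2 := (IsGalois.card_aut_eq_finrank E K).trans h2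
  obtain ⟨ψ, hψ⟩ : ∃ ψ : K ≃ₐ[E] K, ψ ≠ 1 := by
    by_contra hc
    push Not at hc
    haveI : Subsingleton (K ≃ₐ[E] K) := ⟨fun a b => (hc a).trans (hc b).symm⟩
    rw [Nat.card_of_subsingleton (1 : K ≃ₐ[E] K)] at hcard
    omega
  have hsq : ψ * ψ = 1 := by
    have := pow_card_eq_one' (x := ψ)
    rwa [hcard, sq] at this
  refine ⟨ψ.restrictScalars k, ψ.commutes ⟨t, mem_adjoin_simple_self k t⟩,
    fun z => AlgEquiv.congr_fun hsq z, ?_⟩
  by_contra hc
  push Not at hc
  exact hψ (AlgEquiv.ext hc)

variable [IsAlgClosed k]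

/-- Each fibre of a pencil of degree two is an orbit of its involution. -/
theorem orbit_equiv (hK : _root_.FunFld.IsFunctionField k K) {t : K}
    (h2 : Module.finrank (adjoin k ({t} : Set K)) K = 2) (φ : K ≃ₐ[k] K) (hφt : φ t = t)
    (hφ : ∃ z, φ z ≠ z) (R R' : _root_.FunFld.Place k K) (hR : ∀ z, R'.1 z = R.1 (φ z)) :
    (∃ f : K, f ≠ 0 ∧ Finsupp.single R (1 : ℤ) + Finsupp.single R' 1 =
      poleDiv (k := k) t + _root_.FunFld.div k f) ∧
    (R.ord t < 0 → Finsupp.single R (1 : ℤ) + Finsupp.single R' 1 = poleDiv (k := k) t) := by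
  classical
  let E := adjoin k ({t} : Set K)
  have ht := H81.DoubleCover.transcendental_of_finrank hK h2
  haveI : FiniteDimensional E K := Module.finite_of_finrank_eq_succ h2
  have hE : _root_.FunFld.IsFunctionField k E :=
    (H81.FunFldSub.finiteDimensional_over hK E ⟨t, mem_adjoin_simple_self k t, ht⟩).2
  let g : E := ⟨t, mem_adjoin_simple_self k t⟩
  have hgtop : adjoin k ({g} : Set E) = ⊤ := by
    apply IntermediateField.map_injective E.val
    rw [adjoin_map, Set.image_singleton, ← AlgHom.fieldRange_eq_map, IntermediateField.fieldRange_val]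
    rfl
  have hgt := Rational.transcendental_of_adjoin_eq_top hE hgtop
  -- the automorphisms
  let φE : K ≃ₐ[E] K := AlgEquiv.ofRingEquiv (f := φ.toRingEquiv) fun c =>
    DoubleInvol.fix_adjoin φ.toAlgHom hφt c.2
  haveI : Algebra.IsQuadraticExtension E K := { finrank_eq_two' := h2 }
  have hne : φE ≠ 1 := fun e => by
    obtain ⟨z, hz⟩ := hφ
    exact hz (AlgEquiv.congr_fun e z)
  -- below
  obtain ⟨P, e, -, he⟩ := Ext.exists_place_below hE R
  have he' : _root_.FunFld.IsOverWith R' P e := fun x => by
    rw [hR, ← he x]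
    exact congrArg R.1 (DoubleInvol.fix_adjoin φ.toAlgHom hφt x.2)
  have hd : ∀ Q : _root_.FunFld.Place k K, Q.deg = 1 := Rational.deg_eq_one hK
  obtain ⟨hfin, hsum⟩ := Ext.sum_ramIdx_mul_deg (K' := K) hE P
  rw [h2, Rational.deg_eq_one hE, mul_one, Finset.sum_congr rfl
    (fun Q _ => show _root_.FunFld.ramIdx Q P * Q.deg = _root_.FunFld.ramIdx Q P by rw [hd, mul_one])] at hsum
  -- only `R` and `R'` lie over `P`
  have hover : ∀ Q, _root_.FunFld.IsOver Q P → Q = R ∨ Q = R' := by
    intro Q hQ
    by_cases hsp : Algebra.IsSeparable E K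
    · haveI := hsp
      obtain ⟨ψ, hψ⟩ := Galois.exists_comapAut_eq (Q₁ := R) (Q₂ := Q) (P := P) ⟨e, he⟩ hQ
      have hcard : Nat.card (K ≃ₐ[E] K) = 2 := (IsGalois.card_aut_eq_finrank E K).trans h2
      haveI := Fintype.ofFinite (K ≃ₐ[E] K)
      have huniv : ({1, φE} : Finset (K ≃ₐ[E] K)) = Finset.univ :=
        Finset.eq_univ_of_card _ (by rw [Finset.card_pair hne.symm, ← Nat.card_eq_fintype_card, hcard])
      have hψm : ψ ∈ ({1, φE} : Finset (K ≃ₐ[E] K)) := huniv ▸ Finset.mem_univ ψ
      rcases Finset.mem_insert.1 hψm with rfl | hψ1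
      · exact Or.inl (hψ.symm.trans (Subtype.ext (Valuation.ext fun z => Galois.comapAut_apply R 1 z)))
      · rw [Finset.mem_singleton.1 hψ1] at hψ
        exact Or.inr (hψ.symm.trans (Subtype.ext (Valuation.ext fun z =>
          (Galois.comapAut_apply R φE z).trans (hR z).symm)))
    · exfalso
      refine hsp (Algebra.isSeparable_def E K |>.2 fun z => ?_)
      by_cases hz : φ z = z
      · -- `z` is fixed, so it lies in `E`
        have hzE : z ∈ E := by
          by_contra hzE
          have htop : adjoin E ({z} : Set K) = ⊤ :=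
            H81.Quadratic.adjoin_eq_top h2 fun ⟨c, hc⟩ => hzE (hc ▸ c.2)
          refine hne (AlgEquiv.ext fun w => ?_)
          have hw : w ∈ adjoin E ({z} : Set K) := htop ▸ mem_top
          induction hw using IntermediateField.adjoin_induction with
          | mem v hv => rw [Set.mem_singleton_iff.1 hv]; exact hz
          | algebraMap c => exact φE.commutes c
          | add a b _ _ ha hb => rw [map_add, ha, hb]; rfl
          | mul a b _ _ ha hb => rw [map_mul, ha, hb]; rfl
          | inv a _ ha => rw [map_inv₀, ha]; rfl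
        exact isSeparable_algebraMap (⟨z, hzE⟩ : E)
      · have hint : IsIntegral E z := Algebra.IsIntegral.isIntegral z
        refine Polynomial.separable_map (algebraMap E K) |>.1 ?_
        have h1 : (Polynomial.X - Polynomial.C z) * (Polynomial.X - Polynomial.C (φ z)) =
            (minpoly E z).map (algebraMap E K) := by
          have hm : ((minpoly E z).map (algebraMap E K)).Monic := (minpoly.monic hint).map _
          have hr1 : Polynomial.IsRoot ((minpoly E z).map (algebraMap E K)) z := by
            rw [Polynomial.IsRoot, Polynomial.eval_map_algebraMap, minpoly.aeval]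
          have hr2 : Polynomial.IsRoot ((minpoly E z).map (algebraMap E K)) (φ z) := by
            rw [Polynomial.IsRoot, Polynomial.eval_map_algebraMap,
              show φ z = φE.toAlgHom z from rfl, Polynomial.aeval_algHom_apply, minpoly.aeval, map_zero]
          have hdvd : (Polynomial.X - Polynomial.C z) * (Polynomial.X - Polynomial.C (φ z)) ∣
              (minpoly E z).map (algebraMap E K) :=
            IsCoprime.mul_dvd (Polynomial.isCoprime_X_sub_C_of_isUnit_sub
              (sub_ne_zero.2 (Ne.symm hz)).isUnit)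
              (Polynomial.dvd_iff_isRoot.2 hr1) (Polynomial.dvd_iff_isRoot.2 hr2)
          refine Polynomial.eq_of_monic_of_dvd_of_natDegree_le
            ((Polynomial.monic_X_sub_C z).mul (Polynomial.monic_X_sub_C (φ z))) hm hdvd ?_ |>.symm
          rw [Polynomial.natDegree_map, (Polynomial.monic_X_sub_C z).natDegree_mul
            (Polynomial.monic_X_sub_C (φ z)), Polynomial.natDegree_X_sub_C, Polynomial.natDegree_X_sub_C]
          exact (minpoly.natDegree_le z).trans h2.le
        rw [← h1]
        exact (Polynomial.separable_X_sub_C (x := z)).mul (Polynomial.separable_X_sub_C (x := φ z))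
          (Polynomial.isCoprime_X_sub_C_of_isUnit_sub (sub_ne_zero.2 (Ne.symm hz)).isUnit)
  have hsub : hfin.toFinset ⊆ {R, R'} := fun Q hQ => by
    rcases hover Q (hfin.mem_toFinset.1 hQ) with rfl | rfl <;> simp
  have hsup : ({R, R'} : Finset _) ⊆ hfin.toFinset := fun Q hQ => by
    rcases Finset.mem_insert.1 hQ with rfl | hQ
    · exact hfin.mem_toFinset.2 ⟨e, he⟩
    · rw [Finset.mem_singleton.1 hQ]; exact hfin.mem_toFinset.2 ⟨e, he'⟩
  rw [hsub.antisymm hsup] at hsum
  have hcon : Finsupp.single R (1 : ℤ) + Finsupp.single R' 1 =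
      _root_.FunFld.conorm K (Finsupp.single P 1) := by
    ext Q
    obtain ⟨P', e', -, heQ⟩ := Ext.exists_place_below hE Q
    rw [Ext.conorm_apply hE _ heQ]
    by_cases hP : P' = P
    · subst hP
      rw [Finsupp.single_eq_same, mul_one, Finsupp.add_apply]
      rcases eq_or_ne R R' with hRR | hRR
      · subst hRR
        rw [Finset.pair_eq_singleton, Finset.sum_singleton, Ext.ramIdx_eq he] at hsum
        rcases hover Q ⟨e', heQ⟩ with hQ | hQ <;> subst hQ <;>
          (rw [Finsupp.single_eq_same, (Ext.place_below_unique heQ he).2, hsum]; rfl)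
      · rw [Finset.sum_pair hRR, Ext.ramIdx_eq he, Ext.ramIdx_eq he'] at hsum
        have he1 : e = 1 := by omega
        rcases hover Q ⟨e', heQ⟩ with hQ | hQ <;> subst hQ
        · rw [Finsupp.single_eq_same, Finsupp.single_eq_of_ne hRR,
            (Ext.place_below_unique heQ he).2, he1]; rfl
        · rw [Finsupp.single_eq_same, Finsupp.single_eq_of_ne (Ne.symm hRR),
            (Ext.place_below_unique heQ he').2, he1]; rfl
    · rw [Finsupp.single_eq_of_ne hP, mul_zero, Finsupp.add_apply,
        Finsupp.single_eq_of_ne fun hQ => hP (by subst hQ; exact (Ext.place_below_unique heQ he).1),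
        Finsupp.single_eq_of_ne fun hQ => hP (by subst hQ; exact (Ext.place_below_unique heQ he').1)]
      rfl
  have hpole : poleDiv (k := k) t = _root_.FunFld.conorm K (poleDiv (k := k) g) := by
    ext Q
    obtain ⟨P', e', -, heQ⟩ := Ext.exists_place_below hE Q
    have h := Ext.ord_map heQ g
    change Q.ord t = _ at h
    rw [Ext.conorm_apply hE _ heQ, poleDiv_apply hK, poleDiv_apply hE, h,
      mul_max_of_nonneg _ _ (Int.natCast_nonneg e'), mul_zero, mul_neg]
  have hgd : (poleDiv (k := k) g).deg = 1 := by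
    rw [deg_poleDiv hE hgt, hgtop, IntermediateField.finrank_top]; rfl
  have hg0 : _root_.FunFld.genus k E = 0 := Rational.genus_eq_zero_of_adjoin_eq_top hE hgtop
  constructor
  · have hdz : _root_.FunFld.Divisor.deg (Finsupp.single P (1 : ℤ) - poleDiv (k := k) g) = 0 := by
      rw [deg_sub, deg_single, Rational.deg_eq_one hE, hgd]; rfl
    obtain ⟨f, hf, hfe⟩ := SmallGenus.exists_div_of_deg_zero hE
      (by have := GenusZeroSub.ell_eq_of_genus_zero hE hg0 (D := Finsupp.single P (1 : ℤ) - poleDiv (k := k) g) (by omega); omega)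
      hdz
    refine ⟨(f : K), fun h => hf (Subtype.ext h), ?_⟩
    rw [hcon, show _root_.FunFld.div k (f : K) = _root_.FunFld.div k (algebraMap E K f) from rfl,
      Ext.div_map hE, hpole]
    ext Q
    obtain ⟨P', e', -, heQ⟩ := Ext.exists_place_below hE Q
    rw [Finsupp.add_apply, Ext.conorm_apply hE _ heQ, Ext.conorm_apply hE _ heQ,
      Ext.conorm_apply hE _ heQ, ← mul_add, ← Finsupp.add_apply, ← hfe, add_sub_cancel]
  · intro hneg
    rw [hcon, hpole]
    congr 1
    have hPneg : P.ord g < 0 := by
      have h := Ext.ord_map he g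
      change R.ord t = _ at h
      by_contra h0
      push Not at h0
      rw [h] at hneg
      nlinarith [Int.natCast_nonneg e]
    obtain ⟨Pi0, -, hP1, hP0⟩ := Rational.exists_place_deg_one_of_adjoin_eq_top hE hgtop
    have : P = Pi0 := by
      by_contra hne
      have := hP0 P hne
      omega
    subst this
    ext Q
    rw [poleDiv_apply hE]
    rcases eq_or_ne Q P with rfl | hQ
    · rw [Finsupp.single_eq_same, hP1]; rfl
    · rw [Finsupp.single_eq_of_ne hQ, max_eq_right (by have := hP0 Q hQ; omega)]

end Groth.Agent.Lib.CurveFF.PencilInvol
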