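import Groth.Agent.Lib.GeomConn.SepClosed
import Mathlib.FieldTheory.IntermediateField.Adjoin.Basic
import Mathlib.FieldTheory.IntermediateField.Adjoin.Algebra
import Mathlib.FieldTheory.IsAlgClosed.AlgebraicClosure
import Mathlib.FieldTheory.Separable
import Mathlib.RingTheory.Algebraic.Integral
import Mathlib.Algebra.Polynomial.Lifts

/-!
The general member `x + l y` of a pencil of functions has no intermediate field: the pairs of
points in its fibres form an irreducible family.
-/

noncomputable section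
set_option autoImplicit false
universe u

open Polynomial IntermediateField TensorProduct
open IntermediateField.algebraAdjoinAdjoin

namespace Groth.Agent.Lib.CurveFF.PencilPairs

/-- Homogeneous evaluation of a polynomial at a fraction. -/
def homog {T : Type u} [CommRing T] (p : T[X]) (a b : T) : T :=
  ∑ i ∈ Finset.range (p.natDegree + 1), p.coeff i * a ^ i * b ^ (p.natDegree - i)

theorem map_homog {T R : Type u} [CommRing T] [CommRing R] (ψ : T →+* R) (p : T[X]) (a b : T) (l : R)
    (h : ψ a = l * ψ b) :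
    ψ (homog p a b) = p.eval₂ ψ l * ψ b ^ p.natDegree := by
  rw [homog, map_sum, eval₂_eq_sum_range, Finset.sum_mul]
  refine Finset.sum_congr rfl fun i hi => ?_
  rw [map_mul, map_mul, map_pow, map_pow, h, mul_pow,
    show ψ (p.coeff i) * (l ^ i * ψ b ^ i) * ψ b ^ (p.natDegree - i) =
      ψ (p.coeff i) * l ^ i * (ψ b ^ i * ψ b ^ (p.natDegree - i)) by ring,
    ← pow_add, Nat.add_sub_cancel' (Nat.le_of_lt_succ (Finset.mem_range.1 hi))]

variable {k K N : Type u} [Field k] [IsAlgClosed k] [Field K] [Algebra k K] [Field N] [Algebra K N]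
  [Algebra k N] [IsScalarTower k K N]

/-- The two copies of the field, mapped by the inclusion and by an embedding. -/
def pairMap {Ω : Type u} [Field Ω] [Algebra K Ω] [Algebra k Ω] [IsScalarTower k K Ω] (s : K →ₐ[k] Ω) :
    K ⊗[k] K →ₐ[K] Ω :=
  Algebra.TensorProduct.lift (Algebra.ofId K Ω) s fun _ _ => Commute.all _ _

theorem pairMap_tmul {Ω : Type u} [Field Ω] [Algebra K Ω] [Algebra k Ω] [IsScalarTower k K Ω]
    (s : K →ₐ[k] Ω) (a b : K) : pairMap s (a ⊗ₜ[k] b) = algebraMap K Ω a * s b := by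
  simp [pairMap, Algebra.ofId_apply]

theorem isAlgebraic_image {T : Type u} [CommRing T] [Algebra K T] [Algebra k T] [IsScalarTower k K T]
    (g : K →ₐ[k] T) (hg : Function.Injective g) {x : K}
    (halg : Algebra.IsAlgebraic (adjoin k ({x} : Set K)) K) (b : K) :
    IsAlgebraic (Algebra.adjoin K ({g x} : Set T)) (g b) := by
  have hA : ∀ a ∈ Algebra.adjoin k ({x} : Set K), g a ∈ Algebra.adjoin K ({g x} : Set T) := fun a ha => by
    have h1 : g a ∈ (Algebra.adjoin k ({x} : Set K)).map g := ⟨a, ha, rfl⟩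
    rw [AlgHom.map_adjoin, Set.image_singleton] at h1
    have h2 : Algebra.adjoin k ({g x} : Set T) ≤
        (Algebra.adjoin K ({g x} : Set T)).restrictScalars k :=
      Algebra.adjoin_le (Set.singleton_subset_iff.2 (Algebra.self_mem_adjoin_singleton K (g x)))
    exact h2 h1
  let f : Algebra.adjoin k ({x} : Set K) →+* Algebra.adjoin K ({g x} : Set T) :=
    RingHom.codRestrict (g.toRingHom.comp (Algebra.adjoin k ({x} : Set K)).val.toRingHom) _
      fun a => hA _ a.2
  have halgb : IsAlgebraic (Algebra.adjoin k ({x} : Set K)) b :=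
    (IsFractionRing.isAlgebraic_iff _ (adjoin k ({x} : Set K)) K).2 (halg.isAlgebraic b)
  exact halgb.ringHom_of_comp_eq f g.toRingHom
    (fun p q hpq => Subtype.ext (hg (congrArg Subtype.val hpq))) (RingHom.ext fun _ => rfl)

theorem pairMap_injective {Ω : Type u} [Field Ω] [Algebra K Ω] [Algebra k Ω] [IsScalarTower k K Ω]
    (s : K →ₐ[k] Ω) {x : K} (halg : Algebra.IsAlgebraic (adjoin k ({x} : Set K)) K)
    (ht : Transcendental K (s x)) : Function.Injective (pairMap s) := by
  haveI : Nontrivial (K ⊗[k] K) :=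
    (Algebra.TensorProduct.includeLeft_injective (S := k)
      (FaithfulSMul.algebraMap_injective k K)).nontrivial
  haveI : NoZeroDivisors (K ⊗[k] K) :=
    ⟨fun {a b} h => GeomConn.SepClosed.eq_zero_or_eq_zero a b h⟩
  haveI : IsDomain (K ⊗[k] K) := NoZeroDivisors.to_isDomain _
  let e : K ⊗[k] K := 1 ⊗ₜ[k] x
  let R0 : Subalgebra K (K ⊗[k] K) := Algebra.adjoin K ({e} : Set (K ⊗[k] K))
  have hR : ∀ r ∈ R0, pairMap s r = 0 → r = 0 := by
    intro r hr h0
    have hr' : r ∈ Algebra.adjoin K ({e} : Set (K ⊗[k] K)) := hr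
    rw [Algebra.adjoin_singleton_eq_range_aeval] at hr'
    obtain ⟨p, rfl⟩ := hr'
    have he : pairMap s (e) = s x := by rw [pairMap_tmul]; simp
    change pairMap s (aeval e p) = 0 at h0
    rw [← aeval_algHom_apply, he] at h0
    rw [transcendental_iff.1 ht p h0]
    exact map_zero _
  have hinc : ∀ b : K, IsAlgebraic R0 ((1 : K) ⊗ₜ[k] b) := fun b =>
    isAlgebraic_image (Algebra.TensorProduct.includeRight (R := k) (A := K) (B := K))
      (Algebra.TensorProduct.includeRight_injective (FaithfulSMul.algebraMap_injective k K)) halg b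
  have hall : ∀ z : K ⊗[k] K, IsAlgebraic R0 z := by
    intro z
    induction z using TensorProduct.induction_on with
    | zero => exact isAlgebraic_zero
    | tmul a b =>
      have h : (a ⊗ₜ[k] b) = (a ⊗ₜ[k] (1 : K)) * ((1 : K) ⊗ₜ[k] b) := by simp
      rw [h]
      refine IsAlgebraic.mul ?_ (hinc b)
      exact isAlgebraic_algebraMap (R := R0) (A := K ⊗[k] K)
        ⟨a ⊗ₜ[k] (1 : K), R0.algebraMap_mem a⟩
    | add p q hp hq => exact hp.add hq
  rw [injective_iff_map_eq_zero]
  intro z hz
  by_contra hz0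
  obtain ⟨r, hr0, q, hq⟩ := (hall z).exists_nonzero_dvd (mem_nonZeroDivisors_of_ne_zero hz0)
  refine hr0 (Subtype.ext (hR r r.2 ?_))
  change pairMap s (algebraMap R0 (K ⊗[k] K) r) = 0
  rw [hq, map_mul, hz, zero_mul]

variable {F : Type u} [Field F] [Algebra F N] [FiniteDimensional F N] [Algebra.IsSeparable F N]
  [Algebra k F] [IsScalarTower k F N]

/-- There is no field strictly between `k(l, x + l y)` and `K(l)`. -/
theorem eq_bot_or_top {x y : K} {l : N} (halg : Algebra.IsAlgebraic (IntermediateField.adjoin k ({x} : Set K)) K)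
    (hl : Transcendental K l) (hlF : l ∈ (algebraMap F N).range)
    (hcF : algebraMap K N x + l * algebraMap K N y ∈ (algebraMap F N).range)
    (hy : IntermediateField.adjoin F ({algebraMap K N y} : Set N) = ⊤)
    (hgen : ∀ u : N, ∃ A B : K[X], aeval l B ≠ 0 ∧ u = aeval l A / aeval l B)
    (E : IntermediateField F N) : E = ⊥ ∨ E = ⊤ := by
  classical
  rw [or_iff_not_imp_right]
  intro hEt
  let Ω := AlgebraicClosure N
  let ι : N →ₐ[F] Ω := IsScalarTower.toAlgHom F N Ω
  let ιK : K →ₐ[k] Ω := IsScalarTower.toAlgHom k K Ω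
  have hιK : ∀ a : K, algebraMap K Ω a = ι (algebraMap K N a) := fun a =>
    IsScalarTower.algebraMap_apply K N Ω a
  set lΩ := ι l with hlΩ
  have hlt : Transcendental K lΩ :=
    (transcendental_algebraMap_iff (algebraMap N Ω).injective).2 hl
  obtain ⟨cF, hcF⟩ := hcF
  obtain ⟨lF, hlF⟩ := hlF
  -- restriction of an embedding to the constants and the field below
  let res : (N →ₐ[F] Ω) → (K →+* Ω) := fun τ => τ.toRingHom.comp (algebraMap K N)
  have hτl : ∀ τ : N →ₐ[F] Ω, τ l = lΩ := fun τ => by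
    rw [hlΩ, ← hlF, τ.commutes, ι.commutes]
  have hτc : ∀ τ : N →ₐ[F] Ω, res τ x + lΩ * res τ y = algebraMap K Ω x + lΩ * algebraMap K Ω y := by
    intro τ
    have h := τ.commutes cF
    rw [hcF, ← ι.commutes cF, hcF, map_add, map_add, map_mul, map_mul, hτl] at h
    rw [hιK, hιK]
    exact h
  have hext : ∀ τ τ' : N →ₐ[F] Ω, τ (algebraMap K N y) = τ' (algebraMap K N y) → τ = τ' := by
    intro τ τ' h
    refine AlgHom.ext_of_adjoin_eq_top (s := ({algebraMap K N y} : Set N)) ?_ (by
      rintro z rfl; exact h)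
    rw [← adjoin_toSubalgebra_of_isAlgebraic (fun b _ => Algebra.IsAlgebraic.isAlgebraic b), hy,
      IntermediateField.top_toSubalgebra]
  by_contra hE
  -- two embeddings: one over the intermediate field, one moving it
  have hcard : Fintype.card (N →ₐ[E] Ω) = Module.finrank E N := AlgHom.card E N Ω
  have h2 : 1 < Module.finrank E N := by
    by_contra hle
    refine hEt (IntermediateField.finrank_eq_one_iff_eq_top.1 ?_)
    have := Module.finrank_pos (R := E) (M := N)
    omega
  obtain ⟨σE, hσE⟩ := Fintype.exists_ne_of_one_lt_card (hcard ▸ h2) (IsScalarTower.toAlgHom E N Ω)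
  let σ : N →ₐ[F] Ω := σE.restrictScalars F
  have hσne : σ ≠ ι := fun h => hσE (AlgHom.ext fun z => DFunLike.congr_fun h z)
  suffices hfix : ∀ τ : N →ₐ[F] Ω, τ ≠ ι → ∀ u ∈ E, τ u = ι u by
    refine hE ?_
    rw [← IntermediateField.finrank_eq_one_iff]
    have hc2 : Fintype.card (N →ₐ[F] Ω) ≤ Fintype.card (N →ₐ[E] Ω) := by
      let lift : (N →ₐ[F] Ω) → (N →ₐ[E] Ω) := fun τ =>
        { τ.toRingHom with
          commutes' := fun u => by
            change τ (u : N) = ι (u : N)
            rcases eq_or_ne τ ι with rfl | h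
            · rfl
            · exact hfix τ h u u.2 }
      refine Fintype.card_le_of_injective lift fun a b h => AlgHom.ext fun z => ?_
      exact DFunLike.congr_fun h z
    rw [AlgHom.card, hcard, ← Module.finrank_mul_finrank F E N] at hc2
    have h0 := Module.finrank_pos (R := F) (M := E)
    have := Module.finrank_pos (R := E) (M := N)
    nlinarith
  intro τ hτ u hu
  have hconst : ∀ (ρ : N →ₐ[F] Ω) (a : k), res ρ (algebraMap k K a) = algebraMap k Ω a := by
    intro ρ a
    change ρ (algebraMap K N (algebraMap k K a)) = _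
    rw [← IsScalarTower.algebraMap_apply, IsScalarTower.algebraMap_apply k F N, ρ.commutes,
      IsScalarTower.algebraMap_apply F N Ω, ← IsScalarTower.algebraMap_apply k F N,
      ← IsScalarTower.algebraMap_apply k N Ω]
  let s : (N →ₐ[F] Ω) → (K →ₐ[k] Ω) := fun ρ => { res ρ with commutes' := hconst ρ }
  have hyne : ∀ ρ : N →ₐ[F] Ω, ρ ≠ ι → res ρ y - algebraMap K Ω y ≠ 0 := by
    intro ρ hρ h
    exact hρ (hext ρ ι ((sub_eq_zero.1 h).trans (hιK y)))
  have htr : ∀ ρ : N →ₐ[F] Ω, ρ ≠ ι → Transcendental K (s ρ x) := by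
    intro ρ hρ halgx
    let AC := algebraicClosure K Ω
    have hsx : s ρ x ∈ AC := mem_algebraicClosure_iff.2 halgx
    have hsy : s ρ y ∈ AC := by
      obtain ⟨p, hp0, hp⟩ := halg.isAlgebraic y
      have hmem : ∀ a ∈ IntermediateField.adjoin k ({x} : Set K), s ρ a ∈ AC := by
        intro a ha
        have h1 : s ρ a ∈ (IntermediateField.adjoin k ({x} : Set K)).map (s ρ) := ⟨a, ha, rfl⟩
        rw [IntermediateField.adjoin_map, Set.image_singleton] at h1
        exact (IntermediateField.adjoin_le_iff (T := AC.restrictScalars k)).2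
          (Set.singleton_subset_iff.2 hsx) h1
      let f : IntermediateField.adjoin k ({x} : Set K) →+* AC :=
        RingHom.codRestrict ((s ρ).toRingHom.comp (algebraMap _ K)) AC fun a => hmem _ a.2
      have h1 : IsAlgebraic AC (s ρ y) := by
        refine ⟨p.map f, (Polynomial.map_ne_zero_iff f.injective).2 hp0, ?_⟩
        rw [aeval_def, eval₂_map, show (algebraMap AC Ω).comp f =
          (s ρ).toRingHom.comp (algebraMap _ K) from RingHom.ext fun a => rfl,
          show s ρ y = (s ρ).toRingHom y from rfl, ← hom_eval₂]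
        rw [aeval_def] at hp
        rw [hp, map_zero]
      exact mem_algebraicClosure_iff.2 (IsAlgebraic.restrictScalars_of_isIntegral K h1)
    refine hlt (mem_algebraicClosure_iff.1 ?_)
    have heq : lΩ = (algebraMap K Ω x - s ρ x) / (s ρ y - algebraMap K Ω y) := by
      rw [eq_div_iff (show s ρ y - algebraMap K Ω y ≠ 0 from hyne ρ hρ)]
      have := hτc ρ
      change lΩ * (res ρ y - _) = algebraMap K Ω x - res ρ x
      linear_combination this
    rw [heq]
    exact div_mem (sub_mem (AC.algebraMap_mem x) hsx) (sub_mem hsy (AC.algebraMap_mem y))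
  obtain ⟨A, B, hB, hAB⟩ := hgen u
  let L : K →+* K ⊗[k] K := algebraMap K _
  let R : K →+* K ⊗[k] K := (Algebra.TensorProduct.includeRight (R := k) (A := K) (B := K)).toRingHom
  let Z := A.map L * B.map R - A.map R * B.map L
  let a : K ⊗[k] K := x ⊗ₜ[k] 1 - 1 ⊗ₜ[k] x
  let b : K ⊗[k] K := 1 ⊗ₜ[k] y - y ⊗ₜ[k] 1
  have heval : ∀ ρ : N →ₐ[F] Ω, ∀ p : K[X],
      p.eval₂ ((pairMap (s ρ)).toRingHom.comp R) lΩ = ρ (aeval l p) := by
    intro ρ p
    rw [aeval_def, show ρ (p.eval₂ (algebraMap K N) l) = ρ.toRingHom (p.eval₂ (algebraMap K N) l) from rfl,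
      hom_eval₂, show ρ.toRingHom l = lΩ from hτl ρ]
    refine eval₂_congr (RingHom.ext fun c => ?_) rfl rfl
    change pairMap (s ρ) ((1 : K) ⊗ₜ[k] c) = _
    rw [pairMap_tmul, map_one, one_mul]
    rfl
  have hevalL : ∀ ρ : N →ₐ[F] Ω, ∀ p : K[X],
      p.eval₂ ((pairMap (s ρ)).toRingHom.comp L) lΩ = ι (aeval l p) := by
    intro ρ p
    rw [aeval_def, show ι (p.eval₂ (algebraMap K N) l) = ι.toRingHom (p.eval₂ (algebraMap K N) l) from rfl,
      hom_eval₂]
    refine eval₂_congr (RingHom.ext fun c => ?_) rfl rfl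
    change pairMap (s ρ) (algebraMap K _ c) = _
    rw [AlgHom.commutes]
    exact hιK c
  have hkey : ∀ ρ : N →ₐ[F] Ω, ρ ≠ ι → (ρ u = ι u ↔ pairMap (s ρ) (homog Z a b) = 0) := by
    intro ρ hρ
    have hab : pairMap (s ρ) a = lΩ * pairMap (s ρ) b := by
      simp only [a, b, map_sub, pairMap_tmul, map_one, one_mul, mul_one]
      have := hτc ρ
      change algebraMap K Ω x - res ρ x = lΩ * (res ρ y - algebraMap K Ω y)
      linear_combination -this
    have hb : pairMap (s ρ) b ≠ 0 := by
      simp only [b, map_sub, pairMap_tmul, map_one, one_mul, mul_one]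
      exact hyne ρ hρ
    have hm := map_homog (pairMap (s ρ)).toRingHom Z a b lΩ hab
    simp only [AlgHom.toRingHom_eq_coe, RingHom.coe_coe] at hm
    rw [hm, mul_eq_zero, or_iff_left (pow_ne_zero _ hb)]
    simp only [Z, eval₂_sub, eval₂_mul, eval₂_map]
    have e1 := heval ρ
    have e2 := hevalL ρ
    simp only [AlgHom.toRingHom_eq_coe] at e1 e2
    rw [e1, e1, e2, e2, sub_eq_zero, hAB, map_div₀, map_div₀,
      div_eq_div_iff ((_root_.map_ne_zero _).2 hB) ((_root_.map_ne_zero _).2 hB)]
    exact eq_comm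
  have h0 : homog Z a b = 0 :=
    pairMap_injective (s σ) halg (htr σ hσne)
      (((hkey σ hσne).1 (σE.commutes ⟨u, hu⟩)).trans (map_zero _).symm)
  exact (hkey τ hτ).2 (by rw [h0, map_zero])

end Groth.Agent.Lib.CurveFF.PencilPairs
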