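import Groth.Agent.Lib.CurveFF.BirationalBound
import Groth.Agent.Lib.CurveFF.CanonRatio
import Groth.Agent.Lib.Modules.TensorAffine
import Groth.Prelude.Def_SecTwist

/-!
Noether's theorem: the canonical series generates its multiples, and the passage from products of
Riemann-Roch spaces to products of sections.
-/

noncomputable section
set_option autoImplicit false
set_option linter.style.haveILetI false
universe u

open CategoryTheory CategoryTheory.Limits AlgebraicGeometry Opposite
open scoped Pointwise TensorProduct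

namespace Groth.Agent.Lib.CurveFF.ProjNormal

open Groth.Agent.Lib.Modules

section Field

open FunFld.Degree

variable {k : Type u} [Field k] [IsAlgClosed k] {K : Type u} [Field K] [Algebra k K]

local notation "Dv" => _root_.FunFld.Divisor k K
local notation "Pl" => _root_.FunFld.Place k K

theorem canonical_mul (hK : _root_.FunFld.IsFunctionField k K) {W : Dv}
    (hW : _root_.FunFld.IsCanonical k K W) (hW0 : 0 ≤ W)
    (hgen : IntermediateField.adjoin k (_root_.FunFld.L W : Set K) = ⊤)
    (hg : 3 ≤ _root_.FunFld.genus k K) (m : ℕ) :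
    _root_.FunFld.L ((m : ℤ) • W) * _root_.FunFld.L W = _root_.FunFld.L (((m + 1 : ℕ) : ℤ) • W) := by
  classical
  set g := _root_.FunFld.genus k K with hgdef
  obtain ⟨hell, hdeg⟩ := (FunFld.Weil.isCanonical_iff hK W).1 hW
  have hbpf : ∀ P : Pl, W P ≠ 0 →
      ¬ _root_.FunFld.L W ≤ _root_.FunFld.L (W - Finsupp.single P 1) := by
    intro P _ hle
    haveI := finiteDimensional_L hK (W - Finsupp.single P (1 : ℤ))
    have h1 : _root_.FunFld.ell W ≤ _root_.FunFld.ell (W - Finsupp.single P (1 : ℤ)) :=
      Submodule.finrank_mono hle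
    have hd : _root_.FunFld.Divisor.deg (Finsupp.single P (1 : ℤ) : Dv) = 1 := by
      rw [deg_single, FunFld.Rational.deg_eq_one hK P]; rfl
    have hrr := FunFld.Weil.riemann_roch hK hW (Finsupp.single P (1 : ℤ))
    rw [hd] at hrr
    have hpos : 0 < _root_.FunFld.ell (Finsupp.single P (1 : ℤ) : Dv) := by
      haveI := finiteDimensional_L hK (Finsupp.single P (1 : ℤ) : Dv)
      refine Submodule.one_le_finrank_iff.2 ((Submodule.ne_bot_iff _).2
        ⟨1, CastelnuovoBound.one_mem_L (fun Q => ?_), one_ne_zero⟩)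
      rw [Finsupp.coe_zero, Pi.zero_apply, Finsupp.single_apply]
      split_ifs <;> omega
    have hcl := CliffordField.clifford hK hW hpos (by omega)
    rw [hd] at hcl
    omega
  have hpow : ∀ n : ℕ, _root_.FunFld.L W ^ (n + 2) = _root_.FunFld.L (((n + 2 : ℕ) : ℤ) • W) := by
    intro n
    haveI := finiteDimensional_L hK (((n + 2 : ℕ) : ℤ) • W)
    refine Submodule.eq_of_le_of_finrank_le (CastelnuovoBound.pow_le_L hK W (n + 2)) ?_
    refine le_trans ?_ (CastelnuovoR.sum_min_le_finrank_pow hK hW0 hgen hbpf (n + 2))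
    have hN : (((n + 2 : ℕ) : ℤ) • W).deg = ((n + 2 : ℕ) : ℤ) * W.deg := deg_smul _ _
    have he := FunFld.Weil.ell_eq_of_deg_ge hK (D := ((n + 2 : ℕ) : ℤ) • W) (by
      rw [hN, hdeg]; push_cast; nlinarith)
    rw [hN, hdeg] at he
    change _root_.FunFld.ell _ ≤ _
    have hd : W.deg.toNat = 2 * g - 2 := by omega
    rw [hd, hell, Finset.range_eq_Ico,
      ← Finset.sum_Ico_consecutive _ (show 0 ≤ 3 by omega) (show 3 ≤ n + 2 + 1 by omega)]
    have htail : ∀ j ∈ Finset.Ico 3 (n + 2 + 1), min (2 * g - 2) (j * (g - 2) + 1) = 2 * g - 2 := by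
      intro j hj
      have h3j : 3 * (g - 2) ≤ j * (g - 2) := Nat.mul_le_mul_right _ (Finset.mem_Ico.1 hj).1
      omega
    rw [Finset.sum_congr rfl htail, Finset.sum_const, Nat.card_Ico, smul_eq_mul, ← Finset.range_eq_Ico]
    simp only [Finset.sum_range_succ, Finset.sum_range_zero, zero_add, zero_mul, one_mul]
    rw [show n + 2 + 1 - 3 = n by omega]
    have hp : ((n * (2 * g - 2) : ℕ) : ℤ) = (n : ℤ) * (2 * (g : ℤ) - 2) := by
      rw [Nat.cast_mul, Nat.cast_sub (by omega)]; push_cast; ring
    have he' : (_root_.FunFld.ell (((n + 2 : ℕ) : ℤ) • W) : ℤ) =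
        (n : ℤ) * (2 * (g : ℤ) - 2) + 3 * (g : ℤ) - 3 := by
      rw [he]; push_cast; ring
    rw [← hp] at he'
    omega
  refine le_antisymm (Submodule.mul_le.2 fun a ha b hb P => ?_) ?_
  · rw [map_mul]
    refine (mul_le_mul' (ha P) (hb P)).trans_eq ?_
    rw [← WithZero.exp_add]
    congr 1
    rw [Finsupp.smul_apply, Finsupp.smul_apply, smul_eq_mul, smul_eq_mul]
    push_cast
    ring
  · rcases m with _ | m
    · rw [Nat.cast_zero, zero_smul, L_zero hK, one_mul, Nat.cast_one, one_smul]
    · rw [← hpow m, pow_succ]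
      exact mul_le_mul' (CastelnuovoBound.pow_le_L hK W (m + 1)) le_rfl

end Field

attribute [local instance] Curv2.stalkAlgebra

variable {k : Type u} [Field k] [IsAlgClosed k] {X : Scheme.{u}}
  [X.Over (Spec (CommRingCat.of k))] [IsIntegral X] [IsProper (X ↘ Spec (CommRingCat.of k))]

omit [IsAlgClosed k] in
theorem secCoord_zero {L : X.Modules} (R : LineDiv.Rep L) :
    R.coord (L.presheaf.germ ⊤ (genericPoint X) trivial (0 : Γ(L, ⊤))) = 0 := by
  rw [map_zero, map_zero]

omit [IsAlgClosed k] in
/-- The coordinate of a product of sections. -/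
theorem coord_tmul {L M : X.Modules} (R : LineDiv.Rep L) (S : LineDiv.Rep M)
    (a : Γ(L, ⊤)) (b : Γ(M, ⊤)) :
    (R.mul S).coord ((CohB1.tensorMod L M).presheaf.germ ⊤ (genericPoint X) trivial
        (show Γ(CohB1.tensorMod L M, ⊤) from SecTwist.tmul L M ⊤ a b)) =
      R.coord (L.presheaf.germ ⊤ (genericPoint X) trivial a) *
        S.coord (M.presheaf.germ ⊤ (genericPoint X) trivial b) := by
  change TensorProduct.lid (X.presheaf.stalk (genericPoint X)) (X.presheaf.stalk (genericPoint X))
    (TensorProduct.congr R.coord S.coord (DerivedOX.TensorSheaf.tensorStalk (genericPoint X) L M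
      ((CohB1.tensorMod L M).presheaf.germ ⊤ (genericPoint X) trivial (TensorSec.tens a b)))) = _
  refine (congrArg (fun z => TensorProduct.lid (X.presheaf.stalk (genericPoint X)) (X.presheaf.stalk (genericPoint X))
    (TensorProduct.congr R.coord S.coord z))
    (TensorAffine.tensorStalk_germ_tens (U := ⊤) (x := genericPoint X) trivial a b)).trans ?_
  rw [TensorProduct.congr_tmul, TensorProduct.lid_tmul]
  rfl

/-- Every element of the Riemann-Roch space is the coordinate of a section. -/
theorem exists_section (h : CurveHyp X) (hK : _root_.FunFld.IsFunctionField k X.functionField)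
    {L : X.Modules} (R : LineDiv.Rep L) {a : X.functionField}
    (ha : a ∈ _root_.FunFld.L (R.div h hK)) : ∃ s : Γ(L, ⊤), CanonRatio.secCoord R s = a := by
  letI := Curves.GlobalSections.secModule k L
  have h1 := CanonRatio.mem_span h hK R (fun s : Γ(L, ⊤) => s) (by
    rw [eq_top_iff]
    exact fun t _ => Submodule.subset_span ⟨t, rfl⟩) ha
  clear ha
  induction h1 using Submodule.span_induction with
  | mem x hx => exact hx
  | zero => exact ⟨0, secCoord_zero R⟩
  | add x y _ _ hx hy =>
    obtain ⟨s, rfl⟩ := hx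
    obtain ⟨t, rfl⟩ := hy
    exact ⟨s + t, CanonRatio.secCoord_add R s t⟩
  | smul c x _ hx =>
    obtain ⟨s, rfl⟩ := hx
    exact ⟨c • (show (L.val.obj (op ⊤) : Type u) from s), CanonRatio.secCoord_smul R c s⟩

/-- A basis for which the divisor is effective. -/
theorem exists_effective_rep (h : CurveHyp X) (hK : _root_.FunFld.IsFunctionField k X.functionField)
    {L : X.Modules} (hL : PicF.IsInvertible L) (h0 : 0 < Module.finrank k (Coh.HH X L 0)) :
    ∃ R : LineDiv.Rep L, 0 ≤ R.div (k := k) h hK := by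
  obtain ⟨R₀⟩ := LineDiv.nonempty_rep hL
  obtain ⟨e₀⟩ := R₀.nonempty_h0_equiv (k := k) h hK
  obtain ⟨s₀, hs₀⟩ : ∃ s : Γ(L, ⊤), s ≠ 0 := by
    by_contra hcon
    push Not at hcon
    haveI : Subsingleton (Γ(L, ⊤)) := ⟨fun a b => (hcon a).trans (hcon b).symm⟩
    letI := Curves.GlobalSections.secModule k L
    haveI : Subsingleton (L.val.obj (op ⊤) : Type u) := inferInstanceAs (Subsingleton Γ(L, ⊤))
    have := (Curves.GlobalSections.h0Linear k L).finrank_eq
    rw [Module.finrank_zero_of_subsingleton (M := (L.val.obj (op ⊤) : Type u))] at this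
    omega
  set c := R₀.coord (L.presheaf.germ ⊤ (genericPoint X) trivial s₀) with hc
  have hc0 : c ≠ 0 := BirationalBound.germ_ne_zero R₀ hs₀
  let R : LineDiv.Rep L := ⟨hL, R₀.coord.trans
    (LinearEquiv.smulOfUnit (R := X.presheaf.stalk (genericPoint X)) (Units.mk0 c⁻¹ (inv_ne_zero hc0)))⟩
  have hcoord : ∀ v, R.coord v = c⁻¹ * R₀.coord v := fun v => rfl
  have hmem := CanonicalEmb.coord_germ_mem h R hK
  have hone : (1 : X.functionField) ∈ _root_.FunFld.L (R.div (k := k) h hK) := by
    have := hmem s₀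
    rwa [hcoord, ← hc, inv_mul_cancel₀ hc0] at this
  have hD : 0 ≤ R.div (k := k) h hK := fun P => by
    have h1 := hone P
    rwa [map_one, ← WithZero.exp_zero, WithZero.exp_le_exp] at h1
  exact ⟨R, hD⟩

end Groth.Agent.Lib.CurveFF.ProjNormal
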