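import Groth.Agent.Lib.CurveFF.Drop
import Mathlib.LinearAlgebra.QuadraticForm.IsometryEquiv
import Mathlib.LinearAlgebra.Matrix.BilinearForm

/-!
A quadric of rank at most four through the image of a linear series splits it into two pencils.
-/

noncomputable section
set_option autoImplicit false
universe u v

open Groth.Agent.Lib.FunFld Groth.Agent.Lib.FunFld.Degree

namespace Groth.Agent.Lib.CurveFF.QuadricPencils

variable {k : Type u} {K : Type v} [Field k] [Field K] [Algebra k K]

local notation "Dv" => _root_.FunFld.Divisor k K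
local notation "ℓ" => _root_.FunFld.ell

theorem two_le_ell_poleDiv (hK : _root_.FunFld.IsFunctionField k K) {f : K}
    (hf : ∀ c : k, f ≠ algebraMap k K c) : 2 ≤ ℓ (poleDiv (k := k) f) := by
  have := finiteDimensional_L hK (poleDiv (k := k) f)
  have hpole : ∀ z : K, (z = 1 ∨ z = f) → z ∈ _root_.FunFld.L (poleDiv (k := k) f) := by
    intro z hz
    refine mem_L_iff_ord.2 (Or.inr fun P => ?_)
    rw [poleDiv_apply hK]
    rcases hz with rfl | rfl
    · rw [Place.ord_one]; omega
    · omega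
  have hli : LinearIndependent k (fun i : Fin 2 => (⟨![(1 : K), f] i, hpole _ (by
      fin_cases i <;> simp)⟩ : _root_.FunFld.L (poleDiv (k := k) f))) := by
    refine LinearIndependent.of_comp (Submodule.subtype _) (linearIndependent_fin2.2 ⟨?_, ?_⟩)
    · show f ≠ 0
      exact fun e => hf 0 (by rw [e, map_zero])
    · intro c hc
      change c • f = (1 : K) at hc
      rcases eq_or_ne c 0 with rfl | hc0
      · rw [zero_smul] at hc; exact zero_ne_one hc
      · exact hf c⁻¹ (by rw [Algebra.algebraMap_eq_smul_one, ← hc, inv_smul_smul₀ hc0])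
  have h := hli.fintype_card_le_finrank
  rwa [Fintype.card_fin] at h

/-- A relation `xy = zw` splits a series into two pencils. -/
theorem split (hK : _root_.FunFld.IsFunctionField k K) {D : Dv} {x y z w : K}
    (hx : x ∈ _root_.FunFld.L D) (hy : y ∈ _root_.FunFld.L D) (hz : z ∈ _root_.FunFld.L D)
    (hw : w ∈ _root_.FunFld.L D) (hx0 : x ≠ 0) (hz0 : z ≠ 0) (hw0 : w ≠ 0)
    (hxz : ∀ c : k, x ≠ c • z) (hxw : ∀ c : k, x ≠ c • w) (he : x * y = z * w) :
    ∃ F G : Dv, 2 ≤ ℓ F ∧ 2 ≤ ℓ G ∧ F.deg + G.deg ≤ D.deg := by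
  have hy0 : y ≠ 0 := fun e => mul_ne_zero hz0 hw0 (by rw [← he, e, mul_zero])
  refine ⟨poleDiv (k := k) (x / z), poleDiv (k := k) (x / w),
    two_le_ell_poleDiv hK fun c e => hxz c (by rw [Algebra.smul_def, ← e, div_mul_cancel₀ _ hz0]),
    two_le_ell_poleDiv hK fun c e => hxw c (by rw [Algebra.smul_def, ← e, div_mul_cancel₀ _ hw0]), ?_⟩
  have hle : poleDiv (k := k) (x / z) + poleDiv (k := k) (x / w) ≤ D + _root_.FunFld.div k y := by
    intro P
    rw [Finsupp.add_apply, Finsupp.add_apply, poleDiv_apply hK, poleDiv_apply hK, div_apply hK,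
      Place.ord_div P hx0 hz0, Place.ord_div P hx0 hw0]
    have h1 := ((mem_L_iff_ord.1 hx).resolve_left hx0) P
    have h2 := ((mem_L_iff_ord.1 hy).resolve_left hy0) P
    have h3 := ((mem_L_iff_ord.1 hz).resolve_left hz0) P
    have h4 := ((mem_L_iff_ord.1 hw).resolve_left hw0) P
    have h5 : P.ord x + P.ord y = P.ord z + P.ord w := by
      rw [← Place.ord_mul P hx0 hy0, ← Place.ord_mul P hz0 hw0, he]
    omega
  have h := deg_mono hle
  rwa [deg_add, deg_add, deg_div hK, add_zero] at h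

/-- Too few sections in the double give two pencils. -/
theorem exists_pencils [IsAlgClosed k] [CharZero k] (hK : _root_.FunFld.IsFunctionField k K) {D : Dv}
    {m : ℕ} (hm : m = 3 ∨ m = 4) (hl : ℓ D = m)
    (hsmall : ℓ (D + D) < Fintype.card {p : Fin m × Fin m // p.1 ≤ p.2}) :
    ∃ F G : Dv, 2 ≤ ℓ F ∧ 2 ≤ ℓ G ∧ F.deg + G.deg ≤ D.deg := by
  classical
  have := finiteDimensional_L hK D
  let bD := Module.finBasisOfFinrankEq k (_root_.FunFld.L D) hl
  let f : Fin m → K := fun i => (bD i : K)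
  have hf : LinearIndependent k f := bD.linearIndependent.map' (Submodule.subtype _) (Submodule.ker_subtype _)
  have hfD : ∀ i, f i ∈ _root_.FunFld.L D := fun i => (bD i).2
  have hprod : ∀ i j, f i * f j ∈ _root_.FunFld.L (D + D) := fun i j P => by
    rw [map_mul, Finsupp.add_apply, WithZero.exp_add]
    exact mul_le_mul' (hfD i P) (hfD j P)
  have := finiteDimensional_L hK (D + D)
  have hdep : ¬ LinearIndependent k (fun p : {p : Fin m × Fin m // p.1 ≤ p.2} =>
      (⟨_, hprod p.1.1 p.1.2⟩ : _root_.FunFld.L (D + D))) := fun h => by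
    have := h.fintype_card_le_finrank
    exact absurd hsmall (not_lt.2 this)
  obtain ⟨a, ha, p₀, hp₀⟩ := Fintype.not_linearIndependent_iff.1 hdep
  have ha' : ∑ p : {p : Fin m × Fin m // p.1 ≤ p.2}, a p • (f p.1.1 * f p.1.2) = 0 := by
    have := congrArg (Submodule.subtype _) ha
    simpa using this
  let S : Matrix (Fin m) (Fin m) k := fun i j =>
    (if h : i ≤ j then a ⟨(i, j), h⟩ else 0) + (if h : j ≤ i then a ⟨(j, i), h⟩ else 0)
  have hS : S.IsSymm := Matrix.IsSymm.ext fun i j => add_comm _ _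
  have hS0 : S p₀.1.1 p₀.1.2 ≠ 0 := by
    obtain ⟨⟨i, j⟩, hij⟩ := p₀
    show (if h : i ≤ j then a ⟨(i, j), h⟩ else 0) + (if h : j ≤ i then a ⟨(j, i), h⟩ else 0) ≠ 0
    rw [dif_pos hij]
    by_cases h : j ≤ i
    · obtain rfl : i = j := le_antisymm hij h
      rw [dif_pos h, ← two_mul]
      exact mul_ne_zero two_ne_zero hp₀
    · rw [dif_neg h, add_zero]; exact hp₀
  have hSf : ∑ i, ∑ j, S i j • (f i * f j) = 0 := by
    have e : ∀ g : Fin m × Fin m → K,
        ∑ i, ∑ j, (if h : i ≤ j then a ⟨(i, j), h⟩ else 0) • g (i, j) =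
          ∑ p : {p : Fin m × Fin m // p.1 ≤ p.2}, a p • g p.1 := by
      intro g
      rw [← Fintype.sum_prod_type' (fun i j => (if h : i ≤ j then a ⟨(i, j), h⟩ else 0) • g (i, j))]
      rw [← Finset.sum_filter_of_ne (p := fun p : Fin m × Fin m => p.1 ≤ p.2) (fun p _ hp => by
        by_contra h; exact hp (by rw [dif_neg h, zero_smul]))]
      rw [Finset.sum_subtype (Finset.univ.filter fun p : Fin m × Fin m => p.1 ≤ p.2)
        (p := fun p : Fin m × Fin m => p.1 ≤ p.2) (fun p => by simp)]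
      exact Finset.sum_congr rfl fun p _ => by rw [dif_pos p.2]
    simp only [S, add_smul, Finset.sum_add_distrib]
    rw [e (fun p => f p.1 * f p.2), ha', zero_add, Finset.sum_comm, e (fun p => f p.2 * f p.1)]
    refine Eq.trans ?_ ha'
    exact Finset.sum_congr rfl fun p _ => by rw [mul_comm]
  -- diagonal form
  have : Invertible (2 : k) := invertibleOfNonzero two_ne_zero
  obtain ⟨v₀, hv₀⟩ := LinearMap.BilinForm.exists_orthogonal_basis
    (B := Matrix.toBilin' S) (LinearMap.BilinForm.isSymm_iff.1 (Matrix.isSymm_toBilin'_iff_isSymm.2 hS))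
  let v := v₀.reindex (finCongr (Module.finrank_fin_fun k))
  let wt : Fin m → k := fun l => Matrix.toBilin' S (v l) (v l)
  let c : Fin m → Fin m → k := fun i l => v.repr (Pi.single i 1) l
  have horth : ∀ l l', l ≠ l' → Matrix.toBilin' S (v l) (v l') = 0 := fun l l' h => by
    simp only [v, Module.Basis.reindex_apply]
    exact hv₀ fun e => h ((finCongr (Module.finrank_fin_fun k)).symm.injective e)
  have hSc : ∀ i j, S i j = ∑ l, c i l * c j l * wt l := by
    intro i j
    rw [← Matrix.toBilin'_single S i j, ← v.sum_repr (Pi.single i 1), ← v.sum_repr (Pi.single j 1)]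
    simp only [map_sum, map_smul, LinearMap.sum_apply, LinearMap.smul_apply, smul_eq_mul]
    refine Finset.sum_congr rfl fun l _ => ?_
    rw [Finset.sum_eq_single l (fun l' _ h => by rw [horth _ _ h]; ring) (fun h => absurd (Finset.mem_univ l) h)]
    simp only [c, wt, v.sum_repr]
    ring
  let g : Fin m → K := fun l => ∑ i, c i l • f i
  have hg : LinearIndependent k g := by
    refine Fintype.linearIndependent_iff.2 fun μ hμ => ?_
    have h1 : ∀ i, ∑ l, μ l * c i l = 0 := by
      refine Fintype.linearIndependent_iff.1 hf _ ?_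
      rw [← hμ]
      simp only [g, Finset.smul_sum, smul_smul, Finset.sum_smul]
      rw [Finset.sum_comm]
    let φ : (Fin m → k) →ₗ[k] k := ∑ l, μ l • v.coord l
    have hφ : φ = 0 := (Pi.basisFun k (Fin m)).ext fun i => by
      simp only [φ, LinearMap.sum_apply, LinearMap.smul_apply, Pi.basisFun_apply,
        Module.Basis.coord_apply, smul_eq_mul, LinearMap.zero_apply]
      exact h1 i
    intro l
    have h2 := LinearMap.congr_fun hφ (v l)
    simpa [φ, Finsupp.single_apply] using h2
  have hgD : ∀ l, g l ∈ _root_.FunFld.L D := fun l =>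
    Submodule.sum_mem _ fun i _ => Submodule.smul_mem _ _ (hfD i)
  have hquad : ∑ l, wt l • (g l * g l) = 0 := by
    rw [← hSf]
    simp only [g, hSc, Finset.sum_mul, Finset.mul_sum, Finset.smul_sum, Finset.sum_smul,
      smul_mul_assoc, mul_smul_comm, smul_smul]
    rw [Finset.sum_comm]
    refine Finset.sum_congr rfl fun i _ => ?_
    rw [Finset.sum_comm]
    refine Finset.sum_congr rfl fun j _ => Finset.sum_congr rfl fun l _ => ?_
    rw [mul_comm (f j) (f i)]
    congr 1
    ring
  obtain ⟨l₁, hl₁⟩ : ∃ l, wt l ≠ 0 := by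
    by_contra h
    simp only [not_exists, not_not] at h
    exact hS0 (by rw [hSc]; simp [h])
  obtain ⟨l₂, hl₂, hne⟩ : ∃ l, wt l ≠ 0 ∧ l ≠ l₁ := by
    by_contra h
    simp only [not_exists, not_and, not_not] at h
    rw [Finset.sum_eq_single l₁ (fun l _ hne => by
      rw [show wt l = 0 from by_contra fun h' => hne (h l h'), zero_smul])
      (fun h => absurd (Finset.mem_univ l₁) h)] at hquad
    rcases smul_eq_zero.1 hquad with h | h
    · exact hl₁ h
    · exact hg.ne_zero l₁ (mul_self_eq_zero.1 h)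
  -- square roots
  choose s hs using fun l => IsAlgClosed.exists_pow_nat_eq (wt l) (n := 2) (by norm_num)
  obtain ⟨ι, hι⟩ := IsAlgClosed.exists_pow_nat_eq (-1 : k) (n := 2) (by norm_num)
  have key : ∀ a b c d : Fin m, wt a ≠ 0 → wt c ≠ 0 → a ≠ b → a ≠ c → a ≠ d → c ≠ b → c ≠ d →
      ∀ t : k, (wt a • (g a * g a) + wt b • (g b * g b) + wt c • (g c * g c) +
        (t * t) • (g d * g d)) = 0 →
      ∃ F G : Dv, 2 ≤ ℓ F ∧ 2 ≤ ℓ G ∧ F.deg + G.deg ≤ D.deg := by
    intro a b c d hwa hwc hab hac had hcb hcd t heq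
    have hsa : s a ≠ 0 := fun e => hwa (by rw [← hs a, e]; ring)
    have hsc : s c ≠ 0 := fun e => hwc (by rw [← hs c, e]; ring)
    have hmem : ∀ (p q : Fin m) (α β : k), α • g p + β • g q ∈ _root_.FunFld.L D := fun p q α β =>
      add_mem (Submodule.smul_mem _ _ (hgD p)) (Submodule.smul_mem _ _ (hgD q))
    have hnz : ∀ (p q : Fin m) (α β : k), p ≠ q → α ≠ 0 → α • g p + β • g q ≠ 0 := by
      intro p q α β hpq hα h
      have := Fintype.linearIndependent_iff.1 hg (Pi.single p α + Pi.single q β) (by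
        simpa [Pi.single_apply, add_smul, Finset.sum_add_distrib, ite_smul] using h) p
      simp [hpq] at this
      exact hα this
    have hindep : ∀ (e : k) (β β' : k), s a • g a + β • g b ≠ e • ((s c) • g c + β' • g d) := by
      intro e β β' h
      have h' : s a • g a + β • g b + (-(e * s c)) • g c + (-(e * β')) • g d = 0 := by
        rw [h]; simp only [smul_add, smul_smul, neg_smul]; abel
      have := Fintype.linearIndependent_iff.1 hg
        (Pi.single a (s a) + Pi.single b β + Pi.single c (-(e * s c)) + Pi.single d (-(e * β'))) (by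
        simpa [Pi.single_apply, add_smul, Finset.sum_add_distrib, ite_smul, -neg_smul] using h') a
      simp [hab, hac, had] at this
      exact hsa this
    refine split hK (x := s a • g a + (ι * s b) • g b) (y := s a • g a + (-(ι * s b)) • g b)
      (z := s c • g c + (ι * t) • g d) (w := (-1 : k) • (s c • g c + (-(ι * t)) • g d))
      (hmem _ _ _ _) (hmem _ _ _ _) (hmem _ _ _ _) (Submodule.smul_mem _ _ (hmem _ _ _ _))
      (hnz _ _ _ _ hab hsa) (hnz _ _ _ _ hcd hsc)
      (smul_ne_zero (by norm_num) (hnz _ _ _ _ hcd hsc)) (fun e => hindep e _ _)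
      (fun e => by rw [smul_smul]; exact hindep _ _ _) ?_
    rw [← sub_eq_zero, ← heq, ← hs a, ← hs b, ← hs c]
    simp only [Algebra.smul_def, map_mul, map_neg, map_pow, map_one]
    have hι' : algebraMap k K ι ^ 2 = -1 := by rw [← map_pow, hι, map_neg, map_one]
    linear_combination (-(algebraMap k K (s b) * g b) ^ 2 - (algebraMap k K t * g d) ^ 2) * hι'
  rcases hm with rfl | rfl
  · obtain ⟨σ, h0, h1⟩ : ∃ σ : Equiv.Perm (Fin 3), σ 0 = l₁ ∧ σ 2 = l₂ :=
      (by decide : ∀ a b : Fin 3, a ≠ b → ∃ σ : Equiv.Perm (Fin 3), σ 0 = a ∧ σ 2 = b) l₁ l₂ hne.symm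
    refine key (σ 0) (σ 1) (σ 2) (σ 1) (h0 ▸ hl₁) (h1 ▸ hl₂) (σ.injective.ne (by decide))
      (σ.injective.ne (by decide)) (σ.injective.ne (by decide)) (σ.injective.ne (by decide))
      (σ.injective.ne (by decide)) 0 ?_
    rw [← hquad, ← Equiv.sum_comp σ, Fin.sum_univ_three]
    simp
  · obtain ⟨σ, h0, h1⟩ : ∃ σ : Equiv.Perm (Fin 4), σ 0 = l₁ ∧ σ 2 = l₂ :=
      (by decide : ∀ a b : Fin 4, a ≠ b → ∃ σ : Equiv.Perm (Fin 4), σ 0 = a ∧ σ 2 = b) l₁ l₂ hne.symm
    refine key (σ 0) (σ 1) (σ 2) (σ 3) (h0 ▸ hl₁) (h1 ▸ hl₂) (σ.injective.ne (by decide))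
      (σ.injective.ne (by decide)) (σ.injective.ne (by decide)) (σ.injective.ne (by decide))
      (σ.injective.ne (by decide)) (s (σ 3)) ?_
    rw [← hquad, ← Equiv.sum_comp σ, Fin.sum_univ_four, show s (σ 3) * s (σ 3) = wt (σ 3) by rw [← pow_two, hs]]

end Groth.Agent.Lib.CurveFF.QuadricPencils
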