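import Groth.Agent.Lib.CurveFF.Hurwitz
import Groth.Agent.Lib.CurveFF.IdealInv
import Groth.Agent.Lib.CurveFF.OmegaRep
import Groth.Agent.Lib.CurveFF.LineTensor
import Groth.Agent.Lib.FittSheaf.Omega
import Groth.Agent.Lib.DerivedOX.PullbackStalk

/-!
For a separable cover of curves, the inverse image of the differentials of the base is the sheaf of
differentials twisted by the ideal of the ramification divisor.
-/

noncomputable section
set_option autoImplicit false
set_option linter.style.haveILetI false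
universe u

open CategoryTheory AlgebraicGeometry TopologicalSpace WithZero
open scoped TensorProduct
open Groth.Agent

namespace Groth.Agent.Lib.CurveFF.RamDivisor

attribute [local instance] Curv2.stalkAlgebra Curv2.resAlgebra SkySections.stalkMod

open OmegaDer (derivation stalkD)
open Modules.StalkModule (stalkMapₗ stalkModFunctor)

section

variable {k : Type u} [Field k] {X : Scheme.{u}} [X.Over (Spec (CommRingCat.of k))] [IsIntegral X]
  (h : CurveHyp X) {L M : X.Modules}

/-- The divisor of a submodule whose stalk is `r` times the ambient stalk. -/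
theorem e_src_of_image (S : LineDiv.Rep M) (hL : PicF.IsInvertible L) {φ : L ⟶ M} (hφ : φ ≠ 0)
    (x : CPt X) (r : X.presheaf.stalk x.1) (hr : algebraMap _ X.functionField r ≠ 0)
    (him : ∀ w, (∃ v, stalkMapₗ φ x.1 v = w) ↔ ∃ w', r • w' = w) :
    (S.src hL hφ).e k h x = S.e k h x + log ((placeOf k h x).1 (algebraMap _ X.functionField r)) := by
  have hr' := (Valuation.ne_zero_iff (placeOf k h x).1).2 hr
  refine (S.src hL hφ).e_unique h x fun f => ?_
  rw [exp_add, exp_log hr']
  constructor
  · rintro ⟨v, rfl⟩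
    rw [← S.src_pr hL hφ x.1 v]
    obtain ⟨w', hw'⟩ := (him _).1 ⟨v, rfl⟩
    rw [← hw', S.pr_smul, map_mul, mul_comm]
    exact mul_le_mul' ((S.mem_iff h x _).1 ⟨w', rfl⟩) le_rfl
  · intro hf
    obtain ⟨w', hw'⟩ := (S.mem_iff (k := k) h x (f / algebraMap _ X.functionField r)).2 (by
      rw [map_div₀]
      exact (div_le_iff₀ (zero_lt_iff.2 hr')).2 hf)
    obtain ⟨v, hv⟩ := (him (r • w')).2 ⟨w', rfl⟩
    refine ⟨v, ?_⟩
    rw [← S.src_pr hL hφ x.1 v, hv, S.pr_smul, hw', mul_div_cancel₀ _ hr]

end

variable {k : Type u} [Field k] [IsAlgClosed k] {X : Scheme.{u}}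
  [X.Over (Spec (CommRingCat.of k))] [IsIntegral X] [IsProper (X ↘ Spec (CommRingCat.of k))]
  {Y : Scheme.{u}} [Y.Over (Spec (CommRingCat.of k))] [IsIntegral Y]
  [IsProper (Y ↘ Spec (CommRingCat.of k))] (f : X ⟶ Y) [IsFinite f]
  (hf : f ≫ (Y ↘ Spec (CommRingCat.of k)) = X ↘ Spec (CommRingCat.of k))
  (e : f (genericPoint X) = genericPoint Y)

include hf e in
theorem tower_kMap :
    letI := (FieldExt.kMap f e).toAlgebra
    IsScalarTower k Y.functionField X.functionField := by
  letI := (FieldExt.kMap f e).toAlgebra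
  refine .of_algebraMap_eq fun c => ?_
  rw [← algebraMap_const (f (genericPoint X)) c, ← algebraMap_const (genericPoint X) c]
  refine ((FieldExt.kMap_algebraMap f e (genericPoint X) _).trans ?_).symm
  exact congrArg _ (OmegaStalk.stalkMap_const f hf (genericPoint X) c)

include hf e in
/-- Local generators at a closed point. -/
theorem local_data (hX : CurveHyp X) (hY : CurveHyp Y)
    (hsep : letI := (FieldExt.kMap f e).toAlgebra
      Algebra.IsSeparable Y.functionField X.functionField) (x : CPt X) :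
    ∃ (s r : X.presheaf.stalk x.1) (t : Y.presheaf.stalk (f x.1)) (m : ℕ),
      Submodule.span (X.presheaf.stalk x.1) {KaehlerDifferential.D k (X.presheaf.stalk x.1) s} = ⊤ ∧
      algebraMap _ X.functionField r ≠ 0 ∧
      KaehlerDifferential.D k (X.presheaf.stalk x.1) (f.stalkMap x.1 t) =
        r • KaehlerDifferential.D k (X.presheaf.stalk x.1) s ∧
      (∀ a : Y.presheaf.stalk (f x.1),
        KaehlerDifferential.D k (X.presheaf.stalk x.1) (f.stalkMap x.1 a) ∈
          Submodule.span (X.presheaf.stalk x.1) {r • KaehlerDifferential.D k (X.presheaf.stalk x.1) s}) ∧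
      Nonempty ((X.presheaf.stalk x.1 ⧸ Ideal.span {r}) ≃ₗ[k] (Fin m → k)) ∧
      Nonempty ((Omega.sheaf f).presheaf.stalk x.1 ≃ₗ[k] X.presheaf.stalk x.1 ⧸ Ideal.span {r}) := by
  letI := (FieldExt.kMap f e).toAlgebra
  haveI : Algebra.IsSeparable Y.functionField X.functionField := hsep
  haveI := tower_kMap f hf e
  haveI : FiniteDimensional Y.functionField X.functionField := (FieldExt.finrank_eq f e).2
  have hKX := isFunctionField (k := k) hX (Curves.GlobalSections.finrank_h0_structure k X)
  have hKY := isFunctionField (k := k) hY (Curves.GlobalSections.finrank_h0_structure k Y)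
  have hsY := FunFld.Hasse.Separable.exists_isSep hKY
  have hyc : IsClosed ({f x.1} : Set Y) := by
    rw [← Set.image_singleton (f := f)]; exact f.isClosedMap _ x.2
  let y : CPt Y := ⟨f x.1, hyc⟩
  obtain ⟨s, hs, hsspan, hsinj⟩ := Hurwitz.local_facts hX hKX x
  obtain ⟨t, ht, htspan, -⟩ := Hurwitz.local_facts hY hKY y
  let Ox := X.presheaf.stalk x.1
  let Oy := Y.presheaf.stalk (f x.1)
  letI : Algebra Oy Ox := (f.stalkMap x.1).hom.toAlgebra
  haveI : IsScalarTower k Oy Ox :=
    .of_algebraMap_eq fun c => (OmegaStalk.stalkMap_const f hf x.1 c).symm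
  obtain ⟨r, hr⟩ := Submodule.mem_span_singleton.1 (hsspan ▸ Submodule.mem_top :
    KaehlerDifferential.D k Ox (f.stalkMap x.1 t) ∈ Submodule.span Ox {KaehlerDifferential.D k Ox s})
  have hle (a : Oy) : KaehlerDifferential.D k Ox (f.stalkMap x.1 a) ∈
      Submodule.span Ox {r • KaehlerDifferential.D k Ox s} := by
    obtain ⟨b, hb⟩ := Submodule.mem_span_singleton.1 (htspan ▸ Submodule.mem_top :
      KaehlerDifferential.D k Oy a ∈ Submodule.span Oy {KaehlerDifferential.D k Oy t})
    have h1 := congrArg (KaehlerDifferential.map k k Oy Ox) hb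
    rw [map_smul, KaehlerDifferential.map_D, KaehlerDifferential.map_D, ← algebraMap_smul Ox b] at h1
    change _ = KaehlerDifferential.D k Ox (f.stalkMap x.1 a) at h1
    rw [← h1, hr]
    exact Submodule.smul_mem _ _ (Submodule.subset_span rfl)
  haveI := Hurwitz.isScalarTower_K (k := k) x.1
  obtain ⟨ψ, hψ, hψs⟩ := FunFld.Hasse.Param.exists_expansion hKX hs
  obtain ⟨ψY, hψY, hψYt⟩ := FunFld.Hasse.Param.exists_expansion hKY ht
  have hts := H81.Diff.Basic.isSep_uniformizer hKY hsY hψY ht
  have htX := H81.Diff.Hilbert.isSep_map (K' := X.functionField) hts.2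
  have hr0 : algebraMap Ox X.functionField r ≠ 0 := fun h0 => by
    have hk := congrArg (KaehlerDifferential.map k k Ox X.functionField) hr
    rw [map_smul, Hurwitz.mapD, Hurwitz.mapD, ← algebraMap_smul X.functionField r, h0, zero_smul] at hk
    have hnat : algebraMap Ox X.functionField (f.stalkMap x.1 t) = algebraMap Y.functionField
        X.functionField (algebraMap Oy Y.functionField t) := (FieldExt.kMap_algebraMap f e x.1 t).symm
    rw [hnat] at hk
    exact FunFld.Res.SepRes.D_ne_zero_of_isSep hψ htX (FunFld.Res.SepRes.D_eq_zero_of_kaehler ψ hk.symm)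
  let P := placeOf k hX x
  have hle1 : P.1 (algebraMap Ox X.functionField r) ≤ 1 := (mem_O_placeOf hX x).2 ⟨r, rfl⟩
  have hP0 := (Valuation.ne_zero_iff P.1).2 hr0
  have hlog : log (P.1 (algebraMap Ox X.functionField r)) ≤ 0 :=
    exp_le_exp.1 (by rw [exp_log hP0, exp_zero]; exact hle1)
  obtain ⟨e2⟩ := LocalDiff.finrank_quot (P := P) (fun z => mem_O_placeOf hX x) hs hψ hψs r
    (m := (-log (P.1 (algebraMap Ox X.functionField r))).toNat) (by
      rw [Int.toNat_of_nonneg (by omega), neg_neg, exp_log hP0])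
  exact ⟨s, r, t, _, hsspan, hr0, hr.symm, hle, ⟨e2⟩,
    OmegaStalk.nonempty_equiv f hf x.1 s r hsspan hsinj hle t hr.symm⟩

include hf e in
/-- The relative differentials vanish at the generic point. -/
theorem subsingleton_generic (hX : CurveHyp X) (hY : CurveHyp Y)
    (hsep : letI := (FieldExt.kMap f e).toAlgebra
      Algebra.IsSeparable Y.functionField X.functionField) :
    Subsingleton ((Omega.sheaf f).presheaf.stalk (genericPoint X)) := by
  letI := (FieldExt.kMap f e).toAlgebra
  haveI : Algebra.IsSeparable Y.functionField X.functionField := hsep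
  haveI := tower_kMap f hf e
  haveI : FiniteDimensional Y.functionField X.functionField := (FieldExt.finrank_eq f e).2
  have hKX := isFunctionField (k := k) hX (Curves.GlobalSections.finrank_h0_structure k X)
  have hKY := isFunctionField (k := k) hY (Curves.GlobalSections.finrank_h0_structure k Y)
  have hsY := FunFld.Hasse.Separable.exists_isSep hKY
  obtain ⟨v, hvs⟩ := hsY
  let vX : X.functionField := algebraMap Y.functionField X.functionField v
  have hvXs : FunFld.Hasse.Separable.IsSep k vX := H81.Diff.Hilbert.isSep_map hvs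
  have hDvX : KaehlerDifferential.D k X.functionField vX ≠ 0 := fun h0 => by
    obtain ⟨Q, -⟩ := Lib.FunFld.Existence.exists_zero hKX
      (Lib.FunFld.Riemann.exists_transcendental hKX).choose_spec
    obtain ⟨u, -, hu⟩ := Lib.FunFld.Place.exists_uniformizer Q
    obtain ⟨Φ, hΦ, -⟩ := FunFld.Hasse.Param.exists_expansion hKX hu
    exact FunFld.Res.SepRes.D_ne_zero_of_isSep hΦ hvXs (FunFld.Res.SepRes.D_eq_zero_of_kaehler Φ h0)
  letI := (Field.toIsField X.functionField).toField
  obtain ⟨a, ha⟩ : ∃ a : Y.presheaf.stalk (f (genericPoint X)),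
      algebraMap (Y.presheaf.stalk (f (genericPoint X))) Y.functionField a = v := by
    refine ⟨(Y.presheaf.stalkSpecializes (specializes_of_eq e)) v, ?_⟩
    obtain ⟨U, hU, s, hs⟩ := Y.presheaf.exists_germ_eq v
    haveI : Nonempty U := ⟨⟨_, hU⟩⟩
    have hU' : f (genericPoint X) ∈ U := by rw [e]; exact hU
    rw [← hs, TopCat.Presheaf.germ_stalkSpecializes_apply]
    exact Scheme.algebraMap_germ_eq_germToFunctionField (X := Y) hU' s
  have hav : f.stalkMap (genericPoint X) a = vX := by
    have h1 := (FieldExt.kMap_algebraMap f e (genericPoint X) a).symm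
    rw [ha] at h1
    refine Eq.trans ?_ h1
    simp [RingHom.algebraMap_toAlgebra]
  have hspan := FunFld.Hasse.Separable.span_D_eq_top hvXs
  have hinj : ∀ b : X.functionField, b • KaehlerDifferential.D k X.functionField vX = 0 → b = 0 :=
    fun b hb => (smul_eq_zero.1 hb).resolve_right hDvX
  obtain ⟨e1⟩ := OmegaStalk.nonempty_equiv f hf (genericPoint X) vX 1 hspan hinj
    (fun b => by rw [one_smul, hspan]; exact Submodule.mem_top) a (by rw [hav, one_smul])
  haveI : Subsingleton ((X.presheaf.stalk (genericPoint X)) ⧸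
      (Ideal.span {1} : Ideal (X.presheaf.stalk (genericPoint X)))) :=
    Ideal.Quotient.subsingleton_iff.2 Ideal.span_singleton_one
  exact e1.toEquiv.subsingleton

include hf in
omit [IsAlgClosed k] [IsIntegral X] [IsIntegral Y] [IsProper (X ↘ Spec (CommRingCat.of k))]
  [IsProper (Y ↘ Spec (CommRingCat.of k))] in
/-- The derivation of `X/Y` on a stalk, as a derivation over the constants. -/
theorem exists_rel_derivation (x : X) :
    ∃ D : Derivation k (X.presheaf.stalk x) ((Omega.sheaf f).presheaf.stalk x),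
      (∀ a, D a = stalkD (OmegaSh.dOmega f) x a) ∧ ∀ b, D (f.stalkMap x b) = 0 := by
  have hb : ∀ b, stalkD (OmegaSh.dOmega f) x (f.stalkMap x b) = 0 := fun b => by
    obtain ⟨U, hU, s, rfl⟩ := Y.presheaf.exists_germ_eq b
    rw [Scheme.Hom.germ_stalkMap_apply, OmegaDer.stalkD_germ, Kaehler.Basic.der_app_app, map_zero]
  have hc : ∀ c : k, stalkD (OmegaSh.dOmega f) x (algebraMap k (X.presheaf.stalk x) c) = 0 := fun c => by
    exact (congrArg _ (OmegaStalk.stalkMap_const f hf x c)).symm.trans (hb _)
  refine ⟨Derivation.mk'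
    { toFun := stalkD (OmegaSh.dOmega f) x
      map_add' := OmegaDer.stalkD_add _ x
      map_smul' := fun c a => by
        rw [Algebra.smul_def, OmegaDer.stalkD_mul, hc, smul_zero, add_zero, RingHom.id_apply]
        rfl }
    fun a b => OmegaDer.stalkD_mul _ x a b, fun a => rfl, hb⟩

omit [IsAlgClosed k] [IsIntegral X] [IsIntegral Y] in
/-- The image of the map of differentials is spanned by pulled back differentials. -/
theorem mem_span_of_compat [LocallyOfFiniteType (Y ↘ Spec (CommRingCat.of k))]
    {c : (Scheme.Modules.pullback f).obj (Omega.sheaf (Y ↘ Spec (CommRingCat.of k))) ⟶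
      Omega.sheaf (X ↘ Spec (CommRingCat.of k))}
    (hc : OmegaSh.IsDiffCompat f (OmegaSh.dOmega (Y ↘ Spec (CommRingCat.of k)))
      (OmegaSh.dOmega (X ↘ Spec (CommRingCat.of k))) c) (x : X) :
    LinearMap.range (stalkMapₗ c x) = Submodule.span (X.presheaf.stalk x) (Set.range fun a =>
      stalkD (OmegaSh.dOmega (X ↘ Spec (CommRingCat.of k))) x (f.stalkMap x a)) := by
  let ΩY := Omega.sheaf (Y ↘ Spec (CommRingCat.of k))
  let dY := OmegaSh.dOmega (Y ↘ Spec (CommRingCat.of k))
  let un : ΩY.presheaf.stalk (f x) → ((Scheme.Modules.pullback f).obj ΩY).presheaf.stalk x := fun v =>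
    DerivedOX.PullbackStalk.pushStalkMap f x _
      (stalkMapₗ ((Scheme.Modules.pullbackPushforwardAdjunction f).unit.app ΩY) (f.base x) v)
  have hun : ∀ a, stalkMapₗ c x (un (stalkD dY (f x) a)) =
      stalkD (OmegaSh.dOmega (X ↘ Spec (CommRingCat.of k))) x (f.stalkMap x a) := fun a => by
    obtain ⟨U, hU, s, rfl⟩ := Y.presheaf.exists_germ_eq a
    simp only [un]
    rw [OmegaDer.stalkD_germ]
    erw [Modules.StalkModule.stalkMapₗ_germ, DerivedOX.PullbackStalk.pushStalkMap_germ,
      Modules.StalkModule.stalkMapₗ_germ]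
    rw [Scheme.Hom.germ_stalkMap_apply, OmegaDer.stalkD_germ]
    exact congrArg _ (hc U s)
  have hun_smul : ∀ (b : Y.presheaf.stalk (f x)) v, un (b • v) = f.stalkMap x b • un v := fun b v => by
    simp only [un]
    rw [map_smul]
    exact DerivedOX.PullbackStalk.pushStalkMap_smul f x _ b _
  have hun_add : ∀ v w, un (v + w) = un v + un w := fun v w => by
    simp only [un, map_add]
  refine le_antisymm ?_ (Submodule.span_le.2 fun z hz => ?_)
  · rintro _ ⟨z, rfl⟩
    let C := ((DerivedOX.PullbackStalk.comparison f x).app ΩY).hom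
    letI : Algebra (Y.presheaf.stalk (f x)) (X.presheaf.stalk x) := (f.stalkMap x).hom.toAlgebra
    obtain ⟨w, rfl⟩ : ∃ w : TensorProduct (Y.presheaf.stalk (f x)) (X.presheaf.stalk x)
        (ΩY.presheaf.stalk (f x)),
        (DerivedOX.PullbackStalk.comparison f x).app ΩY w = z :=
      ((DerivedOX.PullbackStalk.pullbackStalkIso f x).app ΩY).toLinearEquiv.surjective z
    induction w using TensorProduct.induction_on with
    | zero => exact (((congrArg (stalkMapₗ c x) (map_zero C)).trans (map_zero _)).symm ▸ zero_mem _)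
    | add p q hp hq => exact (((congrArg (stalkMapₗ c x) (map_add C p q)).trans (map_add _ _ _)).symm ▸ add_mem hp hq)
    | tmul b v =>
      have hb : (DerivedOX.PullbackStalk.comparison f x).app ΩY (b ⊗ₜ v) = b • un v := by
        refine Eq.trans ?_ ((map_smul ((DerivedOX.PullbackStalk.comparison f x).app ΩY).hom b _).trans
          (congrArg (b • ·) (DerivedOX.PullbackStalk.comparison_one_tmul f x ΩY v)))
        exact congrArg _ (show b ⊗ₜ v = b • ((1 : X.presheaf.stalk x) ⊗ₜ[Y.presheaf.stalk (f x)] v) by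
          rw [TensorProduct.smul_tmul', smul_eq_mul, mul_one])
      refine ((congrArg (stalkMapₗ c x) hb).trans (map_smul _ _ _)).symm ▸ Submodule.smul_mem _ _ ?_
      have hv : v ∈ Submodule.span (Y.presheaf.stalk (f x)) (Set.range (stalkD dY (f x))) :=
        OmegaDer.span_range (Y ↘ Spec (CommRingCat.of k)) (f x) ▸ Submodule.mem_top
      clear hb
      induction hv using Submodule.span_induction with
      | mem z hz =>
        obtain ⟨a, rfl⟩ := hz
        exact Submodule.subset_span ⟨a, (hun a).symm⟩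
      | zero =>
        rw [show un 0 = 0 by simp [un], map_zero]; exact zero_mem _
      | add p q _ _ hp hq => rw [hun_add, map_add]; exact add_mem hp hq
      | smul a z _ hz => rw [hun_smul, map_smul]; exact Submodule.smul_mem _ _ hz
  · obtain ⟨a, rfl⟩ := hz
    exact ⟨_, hun a⟩

include hf e in
/-- `Ω_X ⊗ R ≅ f^* Ω_Y`, where `R` is the ideal of the ramification divisor. -/
theorem main (hX : CurveHyp X) (hY : CurveHyp Y)
    (hsep : letI := (FieldExt.kMap f e).toAlgebra
      Algebra.IsSeparable Y.functionField X.functionField) :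
    Nonempty (CohB1.tensorMod (Omega.sheaf (X ↘ Spec (CommRingCat.of k)))
      (ClSub.idealMod (Fitt.sheafIdeal (Omega.sheaf f) 0)) ≅
        (Scheme.Modules.pullback f).obj (Omega.sheaf (Y ↘ Spec (CommRingCat.of k)))) := by
  obtain ⟨hq, hft⟩ := FittSheaf.qcoh_ft_omega f
  haveI := hq
  haveI := hft
  let dX := OmegaSh.dOmega (X ↘ Spec (CommRingCat.of k))
  let I := Fitt.sheafIdeal (Omega.sheaf f) 0
  have hΩX := OmegaRep.isInvertible (k := k) hX
  have hΩY := OmegaRep.isInvertible (k := k) hY
  obtain ⟨c, hc, -⟩ := Kaehler.Basic.existsUnique_diffCompat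
    (h := f) (b := 𝟙 _) (f := Y ↘ Spec (CommRingCat.of k)) (f' := X ↘ Spec (CommRingCat.of k))
    (by rw [Category.comp_id, hf])
    (Kaehler.DOmega.isUniversal_dOmega _) dX
  choose s r t m hs hr0 hrt hle hm hΩ using local_data f hf e hX hY hsep
  have himc : ∀ (x : CPt X) w, (∃ v, stalkMapₗ c x.1 v = w) ↔ ∃ w', r x • w' = w := fun x w => by
    haveI : IsScalarTower k (X.presheaf.stalk x.1)
        ((Omega.sheaf (X ↘ Spec (CommRingCat.of k))).presheaf.stalk x.1) :=
      .of_algebraMap_smul fun _ _ => rfl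
    let L := (derivation dX x.1).liftKaehlerDifferential
    have hL : ∀ a, L (KaehlerDifferential.D k _ a) = stalkD dX x.1 a := fun a =>
      Derivation.liftKaehlerDifferential_comp_D (derivation dX x.1) a
    let g := stalkD dX x.1 (s x)
    have hg : Submodule.span (X.presheaf.stalk x.1) {g} = ⊤ := by
      rw [eq_top_iff, ← OmegaDer.span_range (X ↘ Spec (CommRingCat.of k)) x.1, Submodule.span_le]
      rintro _ ⟨a, rfl⟩
      obtain ⟨b, hb⟩ := Submodule.mem_span_singleton.1 (hs x ▸ Submodule.mem_top :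
        KaehlerDifferential.D k _ a ∈ Submodule.span _ {KaehlerDifferential.D k _ (s x)})
      refine Submodule.mem_span_singleton.2 ⟨b, ?_⟩
      rw [← hL a, ← hb, map_smul, hL]
    have hrange : LinearMap.range (stalkMapₗ c x.1) = Submodule.span _ {r x • g} := by
      rw [mem_span_of_compat f hc x.1]
      refine le_antisymm (Submodule.span_le.2 ?_) (Submodule.span_le.2 ?_)
      · rintro _ ⟨a, rfl⟩
        obtain ⟨b, hb⟩ := Submodule.mem_span_singleton.1 (hle x a)
        refine Submodule.mem_span_singleton.2 ⟨b, ?_⟩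
        change b • r x • g = stalkD dX x.1 (f.stalkMap x.1 a)
        rw [← hL, ← hb, map_smul, map_smul, hL]
      · rintro _ rfl
        refine Submodule.subset_span ⟨t x, ?_⟩
        change stalkD dX x.1 (f.stalkMap x.1 (t x)) = r x • g
        rw [← hL, hrt, map_smul, hL]
    change w ∈ LinearMap.range (stalkMapₗ c x.1) ↔ _
    rw [hrange, Submodule.mem_span_singleton]
    constructor
    · rintro ⟨b, rfl⟩
      exact ⟨b • g, smul_comm _ _ _⟩
    · rintro ⟨w', rfl⟩
      obtain ⟨b, rfl⟩ := Submodule.mem_span_singleton.1 (hg ▸ Submodule.mem_top :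
        w' ∈ Submodule.span _ {g})
      exact ⟨b, smul_comm _ _ _⟩
  have himI : ∀ (x : CPt X), Fitt.ideal (X.presheaf.stalk x.1) ((Omega.sheaf f).presheaf.stalk x.1) 0 =
      Ideal.span {r x} := fun x => by
    obtain ⟨D, hD, hD0⟩ := exists_rel_derivation f hf x.1
    obtain ⟨e1⟩ := hm x
    obtain ⟨e2⟩ := hΩ x
    haveI : IsScalarTower k (X.presheaf.stalk x.1) ((Omega.sheaf f).presheaf.stalk x.1) :=
      .of_algebraMap_smul fun _ _ => rfl
    let g := stalkD (OmegaSh.dOmega f) x.1 (s x)
    have hL : ∀ a, D.liftKaehlerDifferential (KaehlerDifferential.D k _ a) =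
        stalkD (OmegaSh.dOmega f) x.1 a := fun a =>
      (Derivation.liftKaehlerDifferential_comp_D D a).trans (hD a)
    have hg : Submodule.span (X.presheaf.stalk x.1) {g} = ⊤ := by
      rw [eq_top_iff, ← OmegaDer.span_range f x.1, Submodule.span_le]
      rintro _ ⟨a, rfl⟩
      obtain ⟨b, hb⟩ := Submodule.mem_span_singleton.1 (hs x ▸ Submodule.mem_top :
        KaehlerDifferential.D k _ a ∈ Submodule.span _ {KaehlerDifferential.D k _ (s x)})
      refine Submodule.mem_span_singleton.2 ⟨b, ?_⟩
      rw [← hL a, ← hb, map_smul, hL]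
    have hrg : r x • g = 0 := by
      have h1 := congrArg D.liftKaehlerDifferential (hrt x)
      rw [map_smul, hL, hL, ← hD, hD0] at h1
      exact h1.symm
    let φ : (X.presheaf.stalk x.1 ⧸ Ideal.span {r x}) →ₗ[X.presheaf.stalk x.1]
        (Omega.sheaf f).presheaf.stalk x.1 :=
      (Ideal.span {r x}).liftQ (LinearMap.toSpanSingleton _ _ g)
        (Submodule.span_le.2 (by rintro _ rfl; exact hrg))
    have hφs : Function.Surjective φ := fun v => by
      obtain ⟨b, rfl⟩ := Submodule.mem_span_singleton.1 (hg ▸ Submodule.mem_top :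
        v ∈ Submodule.span _ {g})
      exact ⟨Submodule.Quotient.mk b, rfl⟩
    haveI : FiniteDimensional k (X.presheaf.stalk x.1 ⧸ Ideal.span {r x}) :=
      Module.Finite.equiv e1.symm
    haveI : FiniteDimensional k ((Omega.sheaf f).presheaf.stalk x.1) :=
      Module.Finite.equiv e2.symm
    have hφi : Function.Injective φ :=
      (LinearMap.injective_iff_surjective_of_finrank_eq_finrank (f := φ.restrictScalars k)
        e2.finrank_eq.symm).2 hφs
    have hann : ∀ a : X.presheaf.stalk x.1, a • g = 0 → a ∈ Ideal.span {r x} := fun a ha =>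
      (Submodule.Quotient.mk_eq_zero _).1 (hφi (ha.trans (map_zero φ).symm))
    haveI : Module.Finite (X.presheaf.stalk x.1) ((Omega.sheaf f).presheaf.stalk x.1) :=
      Module.Finite.of_surjective _ hφs
    refine le_antisymm (fun a ha => hann a ?_) ?_
    · exact Module.mem_annihilator.1 (H25.Fitting.ideal_zero_le_annihilator ha) g
    · rw [Ideal.span_le, Set.singleton_subset_iff]
      have h1 := H25.Fitting.pow_mem_ideal_zero (R := X.presheaf.stalk x.1) (fun _ : Fin 1 => g)
        (by rw [Set.range_const]; exact hg) (r x) fun v => by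
          obtain ⟨b, rfl⟩ := Submodule.mem_span_singleton.1 (hg ▸ Submodule.mem_top :
            v ∈ Submodule.span _ {g})
          rw [smul_comm, hrg, smul_zero]
      rwa [pow_one] at h1
  have hgen : genericPoint X ∉ (I.support : Set X) := fun h =>
    (FittSheaf.mem_support_fitt_zero_iff (Omega.sheaf f) _).1 h
      (subsingleton_generic f hf e hX hY hsep)
  have hI : PicF.IsInvertible (ClSub.idealMod I) := IdealInv.isInvertible (k := k) hX I hgen
  have hP : PicF.IsInvertible ((Scheme.Modules.pullback f).obj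
      (Omega.sheaf (Y ↘ Spec (CommRingCat.of k)))) := PicLoc.isInvertible_pullback f hΩY
  obtain ⟨R⟩ := LineDiv.nonempty_rep hΩX
  let T := LineDiv.trivRep (PicLoc.isInvertible_structureModule X)
  have himι : ∀ (x : CPt X) w, (∃ v, stalkMapₗ (ClSub.idealModι I) x.1 v = w) ↔ ∃ w', r x • w' = w := by
    intro x w
    obtain ⟨U, hU, hxU, -⟩ := exists_isAffineOpen_mem_and_subset
      (show x.1 ∈ (⊤ : X.Opens) from trivial)
    have hst : LinearMap.range (SurfInt.Stalk.idealStalk I x.1) = Ideal.span {r x} := by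
      rw [SurfInt.Stalk.range_idealStalk, Ideal.Prime.stalkIdeal_eq I ⟨U, hU⟩ hxU,
        FittSheaf.map_sheafIdeal (Omega.sheaf f) ⟨U, hU⟩ hxU 0, himI x]
    let o := SurfInt.Stalk.oStalk (X := X) x.1
    constructor
    · rintro ⟨v, rfl⟩
      obtain ⟨b, hb⟩ := Ideal.mem_span_singleton'.1 (hst.le (LinearMap.mem_range_self _ v))
      refine ⟨o.symm b, o.injective ?_⟩
      rw [map_smul, o.apply_symm_apply, smul_eq_mul, mul_comm, hb]
      rfl
    · rintro ⟨w', rfl⟩
      obtain ⟨v, hv⟩ := hst.ge (Ideal.mem_span_singleton'.2 ⟨o w', rfl⟩)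
      refine ⟨v, o.injective ?_⟩
      rw [map_smul, smul_eq_mul, mul_comm]
      exact hv
  obtain ⟨P₀, -⟩ := Lib.FunFld.Existence.exists_zero
    (isFunctionField (k := k) hX (Curves.GlobalSections.finrank_h0_structure k X))
    (Lib.FunFld.Riemann.exists_transcendental
      (isFunctionField (k := k) hX (Curves.GlobalSections.finrank_h0_structure k X))).choose_spec
  obtain ⟨x₀, -⟩ := placeOf_surjective (k := k) hX P₀
  have hne : ∀ {L M : X.Modules} (S : LineDiv.Rep M) (φ : L ⟶ M),
      (∀ w, (∃ v, stalkMapₗ φ x₀.1 v = w) ↔ ∃ w', r x₀ • w' = w) → φ ≠ 0 := by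
    intro L M S φ him h0
    obtain ⟨v, hv⟩ := (him (r x₀ • S.gen x₀.1)).2 ⟨_, rfl⟩
    rw [h0, Modules.StalkModule.stalkMapₗ_zero, LinearMap.zero_apply] at hv
    have h1 := congrArg (S.pr x₀.1) hv
    rw [map_zero, S.pr_smul] at h1
    exact mul_ne_zero (hr0 x₀) (S.gen_ne _) h1.symm
  refine LineDiv.nonempty_iso (k := k) hX (R.mul (T.src hI (hne T _ (himι x₀))))
    (R.src hP (hne R c (himc x₀))) (one_ne_zero (α := X.functionField)) fun x => ?_
  rw [map_one, one_mul, LineDiv.Rep.e_mul, e_src_of_image hX T hI _ x (r x) (hr0 x) (himι x),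
    e_src_of_image hX R hP _ x (r x) (hr0 x) (himc x), LineDiv.trivRep_e, zero_add]

end Groth.Agent.Lib.CurveFF.RamDivisor
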