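import Groth.Agent.Lib.CurveFF.OpenCond

/-!
Sums and differences of general effective divisors of degree the genus.
-/

noncomputable section
set_option autoImplicit false
set_option linter.style.haveILetI false
set_option maxHeartbeats 1000000
universe u

open CategoryTheory CategoryTheory.Limits AlgebraicGeometry TopologicalSpace WithZero

namespace Groth.Agent.Lib.CurveFF.SumDiff

attribute [local instance] Curv2.stalkAlgebra

open Groth.Agent.Lib.Curves.PolePoint (cst)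
open Groth.Agent.Lib.CurveFF.GeneralPoints Groth.Agent.Lib.CurveFF.OpenCond

variable {k : Type u} [Field k] [IsAlgClosed k] {X : Scheme.{u}} [X.Over (Spec (CommRingCat.of k))]
  [IsIntegral X] [IsProper (X ↘ Spec (CommRingCat.of k))] (h : CurveHyp X)
  (hK : _root_.FunFld.IsFunctionField k X.functionField) {g : ℕ}
  (hg : _root_.FunFld.genus k X.functionField = g)
  {W : _root_.FunFld.Divisor k X.functionField} (hW : _root_.FunFld.IsCanonical k X.functionField W)
  (P₀ : _root_.FunFld.Place k X.functionField)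
  {Y : Scheme.{u}} [Y.Over (Spec (CommRingCat.of k))]

/-- The divisor of a tuple of rational points. -/
def divOf {r : ℕ} (p : Fin r → (Spec (CommRingCat.of k) ⟶ X))
    (hp : ∀ b, p b ≫ (X ↘ Spec (CommRingCat.of k)) = 𝟙 _) : _root_.FunFld.Divisor k X.functionField :=
  ∑ b, Finsupp.single (placeOf k h (pt (p b) (hp b))) 1

omit [IsAlgClosed k] [X.Over (Spec (CommRingCat.of k))] [IsIntegral X]
  [IsProper (X ↘ Spec (CommRingCat.of k))] [Y.Over (Spec (CommRingCat.of k))] in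
theorem mem_of_top {U : Y.Opens} {x : Spec (CommRingCat.of k) ⟶ Y}
    (h : ⊤ ≤ x ⁻¹ᵁ U) : x (IsLocalRing.closedPoint k) ∈ U :=
  h (show IsLocalRing.closedPoint k ∈ (⊤ : (Spec (CommRingCat.of k)).Opens) from trivial)

omit [IsAlgClosed k] [X.Over (Spec (CommRingCat.of k))] [IsIntegral X]
  [IsProper (X ↘ Spec (CommRingCat.of k))] [Y.Over (Spec (CommRingCat.of k))] in
theorem top_le_inf {ι : Type*} [Fintype ι] {x : Spec (CommRingCat.of k) ⟶ Y} {q : ι → (Y ⟶ X)} {V : X.Opens}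
    (hxq : ∀ b, ⊤ ≤ (x ≫ q b) ⁻¹ᵁ V) : ⊤ ≤ x ⁻¹ᵁ Finset.univ.inf fun b => q b ⁻¹ᵁ V := fun z _ => by
  show x z ∈ ((Finset.univ.inf (fun b => q b ⁻¹ᵁ V) : Y.Opens) : Set _)
  rw [Opens.coe_finset_inf, Finset.inf_eq_iInf]
  simpa using fun b => hxq b (show z ∈ (⊤ : (Spec (CommRingCat.of k)).Opens) from trivial)

omit [IsAlgClosed k] [X.Over (Spec (CommRingCat.of k))] [IsIntegral X]
  [IsProper (X ↘ Spec (CommRingCat.of k))] [Y.Over (Spec (CommRingCat.of k))] in
theorem ev_appLE (x : Spec (CommRingCat.of k) ⟶ Y) (q : Y ⟶ X) {V : X.Opens} {U : Y.Opens}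
    (hU : U ≤ q ⁻¹ᵁ V) (hx : ⊤ ≤ x ⁻¹ᵁ U) (hxq : ⊤ ≤ (x ≫ q) ⁻¹ᵁ V) (t : Γ(X, V)) :
    ev x hx (q.appLE V U hU t) = ev (x ≫ q) hxq t := by
  show (Scheme.ΓSpecIso (CommRingCat.of k)).hom (x.appLE U ⊤ hx (q.appLE V U hU t)) = _
  rw [← CommRingCat.comp_apply (f := q.appLE V U hU), Scheme.Hom.appLE_comp_appLE]
  rfl

omit [IsProper (X ↘ Spec (CommRingCat.of k))] in
theorem deg_divOf [IsProper (X ↘ Spec (CommRingCat.of k))]
    (hK : _root_.FunFld.IsFunctionField k X.functionField) {r : ℕ}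
    (p : Fin r → (Spec (CommRingCat.of k) ⟶ X))
    (hp : ∀ b, p b ≫ (X ↘ Spec (CommRingCat.of k)) = 𝟙 _) : (divOf h p hp).deg = r := by
  classical
  have key : ∀ S : Finset (Fin r), _root_.FunFld.Divisor.deg
      (∑ b ∈ S, Finsupp.single (placeOf k h (pt (p b) (hp b))) (1 : ℤ)) = S.card := by
    intro S
    induction S using Finset.induction with
    | empty => rw [Finset.sum_empty, Finset.card_empty, FunFld.Degree.deg_zero]; rfl
    | insert b S hb ih =>
      rw [Finset.sum_insert hb, Finset.card_insert_of_notMem hb, FunFld.Degree.deg_add,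
        FunFld.Degree.deg_single, FunFld.Rational.deg_eq_one hK]
      omega
  simpa [divOf] using key Finset.univ

theorem divOf_nonneg {r : ℕ} (p : Fin r → (Spec (CommRingCat.of k) ⟶ X))
    (hp : ∀ b, p b ≫ (X ↘ Spec (CommRingCat.of k)) = 𝟙 _) : 0 ≤ divOf h p hp :=
  Finset.sum_nonneg fun _ _ => Finsupp.single_nonneg.2 zero_le_one

theorem one_le_divOf {r : ℕ} (p : Fin r → (Spec (CommRingCat.of k) ⟶ X))
    (hp : ∀ b, p b ≫ (X ↘ Spec (CommRingCat.of k)) = 𝟙 _) (b : Fin r) :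
    1 ≤ divOf h p hp (placeOf k h (pt (p b) (hp b))) := by
  classical
  rw [divOf, Finsupp.finsetSum_apply]
  refine le_trans ?_ (Finset.single_le_sum (fun c _ => ?_) (Finset.mem_univ b))
  · simp
  · rw [Finsupp.single_apply]; split_ifs <;> omega

include hK hg hW in
/-- General `2g`-tuples: nothing of the canonical class plus `g` times a point vanishes at all of them. -/
theorem exists_open_sum (hg1 : 1 ≤ g) {r : ℕ} (hr : 2 * g - 1 ≤ r) (q : Fin r → (Y ⟶ X))
    (hlift : ∀ P : Fin r → (Spec (CommRingCat.of k) ⟶ X),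
      (∀ b, P b ≫ (X ↘ Spec (CommRingCat.of k)) = 𝟙 _) →
      ∃ x : Spec (CommRingCat.of k) ⟶ Y, x ≫ (Y ↘ Spec (CommRingCat.of k)) = 𝟙 _ ∧ ∀ b, x ≫ q b = P b) :
    ∃ U : Y.Opens, (U : Set Y).Nonempty ∧
      ∀ (x : Spec (CommRingCat.of k) ⟶ Y) (_ : x ≫ (Y ↘ Spec (CommRingCat.of k)) = 𝟙 _)
        (hq : ∀ b, (x ≫ q b) ≫ (X ↘ Spec (CommRingCat.of k)) = 𝟙 _),
        (∀ z, x z ∈ U) →
        _root_.FunFld.ell (W + Finsupp.single P₀ (g : ℤ) - divOf h (fun b => x ≫ q b) hq) = 0 := by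
  classical
  set T := W + Finsupp.single P₀ (g : ℤ) with hTdef
  have hT : _root_.FunFld.ell T = 2 * g - 1 := by
    have h1 := FunFld.Weil.ell_eq_of_deg_ge hK (D := T) (by
      rw [hTdef, FunFld.Degree.deg_add, FunFld.Weil.deg_canonical hK hW, FunFld.Degree.deg_single,
        FunFld.Rational.deg_eq_one hK, hg]
      push_cast
      omega)
    rw [hTdef, FunFld.Degree.deg_add, FunFld.Weil.deg_canonical hK hW, FunFld.Degree.deg_single,
      FunFld.Rational.deg_eq_one hK, hg] at h1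
    push_cast at h1
    rw [← hTdef] at h1
    simp only [mul_one] at h1
    omega
  obtain ⟨V₀, hη₀, hV₀⟩ := exists_avoid h T
  obtain ⟨V, hη, s, hVle, hsL, hsS, hind⟩ := exists_sections hK T hT V₀ hη₀
  obtain ⟨P, hP, hP', hspan⟩ := exists_points s hind (2 * g - 1) le_rfl
  obtain ⟨p₀, hp₀', hp₀⟩ : ∃ p : Spec (CommRingCat.of k) ⟶ X, p ≫ (X ↘ Spec (CommRingCat.of k)) = 𝟙 _ ∧
      ⊤ ≤ p ⁻¹ᵁ V := ⟨P ⟨0, by omega⟩, hP' _, hP _⟩
  let P' : Fin r → (Spec (CommRingCat.of k) ⟶ X) := fun b =>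
    if hb : (b : ℕ) < 2 * g - 1 then P ⟨b, hb⟩ else p₀
  obtain ⟨x₀, hx₀', hx₀q⟩ := hlift P' fun b => by
    by_cases hb : (b : ℕ) < 2 * g - 1 <;> simp [P', hb, hP', hp₀']
  let e : Fin (2 * g - 1) → Fin r := Fin.castLE hr
  let U₀ := Finset.univ.inf fun b => q (e b) ⁻¹ᵁ V
  have hU₀ : ∀ b, U₀ ≤ q (e b) ⁻¹ᵁ V := fun b => Finset.inf_le (Finset.mem_univ b)
  let A : Matrix (Fin (2 * g - 1)) (Fin (2 * g - 1)) Γ(Y, U₀) :=
    fun b a => (q (e b)).appLE V U₀ (hU₀ b) (s a)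
  have hev : ∀ (x : Spec (CommRingCat.of k) ⟶ Y) (hx : ⊤ ≤ x ⁻¹ᵁ U₀)
      (hxq : ∀ b, ⊤ ≤ (x ≫ q (e b)) ⁻¹ᵁ V) (hxo : ∀ b, (x ≫ q (e b)) ≫ (X ↘ Spec (CommRingCat.of k)) = 𝟙 _)
      (c : Fin (2 * g - 1) → k) (b : Fin (2 * g - 1)),
      (A.map (ev x hx)).mulVec c b = ev (x ≫ q (e b)) (hxq b) (comb s c) := by
    intro x hx hxq hxo c b
    rw [ev_comb s c _ (hxo b) (hxq b)]
    simp only [Matrix.mulVec, dotProduct]
    exact Finset.sum_congr rfl fun a _ =>
      (congrArg (· * c a) (ev_appLE x (q (e b)) (hU₀ b) hx (hxq b) (s a))).trans (mul_comm _ _)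
  have hx₀e : ∀ b, x₀ ≫ q (e b) = P b := fun b => by
    rw [hx₀q]; simp [P', e, b.2]
  have hxq₀ : ∀ b, ⊤ ≤ (x₀ ≫ q (e b)) ⁻¹ᵁ V := fun b => by rw [hx₀e]; exact hP b
  obtain ⟨U, hUle, hxU, hU⟩ := exists_open_injective A x₀ hx₀' (top_le_inf hxq₀) (by
    refine (Matrix.toLin' (A.map (ev x₀ (top_le_inf hxq₀)))).injective_iff_surjective.2 fun y => ?_
    obtain ⟨c, hc⟩ := hspan y
    refine ⟨c, funext fun b => ?_⟩
    show (A.map (ev x₀ (top_le_inf hxq₀))).mulVec c b = y b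
    rw [hev x₀ (top_le_inf hxq₀) hxq₀ (fun b => by rw [hx₀e]; exact hP' b) c b]
    simp only [hx₀e]
    rw [ev_comb s c _ (hP' b) (hP b)]
    exact hc b)
  refine ⟨U, ⟨_, hxU⟩, fun x hx' hq hxmem => ?_⟩
  have hx : ⊤ ≤ x ⁻¹ᵁ U₀ := fun z _ => hUle (hxmem z)
  have hxq : ∀ b, ⊤ ≤ (x ≫ q (e b)) ⁻¹ᵁ V := fun b z hz => hU₀ b (hx hz)
  haveI := FunFld.Degree.finiteDimensional_L hK (T - divOf h (fun b => x ≫ q b) hq)
  rw [_root_.FunFld.ell, Submodule.finrank_eq_zero, Submodule.eq_bot_iff]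
  intro f hf
  obtain ⟨c, hc⟩ := hsS f (FunFld.Degree.L_mono (sub_le_self _ (divOf_nonneg h _ _)) hf)
  have hc0 : c = 0 := hU x hx' hx (hxmem _) (funext fun b => by
    rw [Matrix.mulVec_zero, hev x hx hxq (fun b => hq (e b)) c b]
    refine ev_eq_zero_of_mem h hη (comb s c) (by rw [hc]; exact hf) _ (hq (e b)) (hxq b) ?_
    have := one_le_divOf h (fun b => x ≫ q b) hq (e b)
    have hT0 := hV₀ (pt (x ≫ q (e b)) (hq (e b))) (hVle (mem_of_top (hxq b)))
    rw [Finsupp.sub_apply]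
    omega)
  rw [← hc, hc0]
  simp [comb]

include hK hg hW in
/-- General pairs of `g`-tuples: the difference plus `g` times a point is not special. -/
theorem exists_open_diff (hg1 : 1 ≤ g) (qD qE : Fin g → (Y ⟶ X))
    (hlift : ∀ P Q : Fin g → (Spec (CommRingCat.of k) ⟶ X),
      (∀ b, P b ≫ (X ↘ Spec (CommRingCat.of k)) = 𝟙 _) →
      (∀ b, Q b ≫ (X ↘ Spec (CommRingCat.of k)) = 𝟙 _) →
      ∃ x : Spec (CommRingCat.of k) ⟶ Y, x ≫ (Y ↘ Spec (CommRingCat.of k)) = 𝟙 _ ∧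
        (∀ b, x ≫ qD b = P b) ∧ ∀ b, x ≫ qE b = Q b) :
    ∃ U : Y.Opens, (U : Set Y).Nonempty ∧
      ∀ (x : Spec (CommRingCat.of k) ⟶ Y) (_ : x ≫ (Y ↘ Spec (CommRingCat.of k)) = 𝟙 _)
        (hD : ∀ b, (x ≫ qD b) ≫ (X ↘ Spec (CommRingCat.of k)) = 𝟙 _)
        (hE : ∀ b, (x ≫ qE b) ≫ (X ↘ Spec (CommRingCat.of k)) = 𝟙 _),
        (∀ z, x z ∈ U) →
        _root_.FunFld.ell (W + divOf h (fun b => x ≫ qD b) hD - divOf h (fun b => x ≫ qE b) hE -
          Finsupp.single P₀ (g : ℤ)) = 0 := by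
  classical
  set B : _root_.FunFld.Divisor k X.functionField := Finsupp.single P₀ (3 * g : ℤ) with hB
  set G := W + Finsupp.single P₀ (2 * g : ℤ) with hG
  have hdegB : B.deg = 3 * g := by
    rw [hB, FunFld.Degree.deg_single, FunFld.Rational.deg_eq_one hK]; simp
  obtain ⟨n, hn⟩ : ∃ n, _root_.FunFld.ell B = n := ⟨_, rfl⟩
  obtain ⟨m, hm⟩ : ∃ m, _root_.FunFld.ell G = m := ⟨_, rfl⟩
  obtain ⟨p, hp⟩ : ∃ p, _root_.FunFld.ell (G + B) = p := ⟨_, rfl⟩
  have hgn : g < n := by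
    have := FunFld.Weil.ell_eq_of_deg_ge hK (D := B) (by rw [hg, hdegB]; omega)
    rw [hg, hdegB, hn] at this
    omega
  obtain ⟨V₀, hη₀, hV₀⟩ := exists_avoid h (B + G)
  obtain ⟨V₁, hη₁, hV₁⟩ := exists_avoid h B
  obtain ⟨V₂, hη₂, β, hV₂, hβL, hβS, hβi⟩ := exists_sections hK B hn (V₀ ⊓ V₁) ⟨hη₀, hη₁⟩
  obtain ⟨V₃, hη₃, γ', hV₃, hγL, hγS, hγi⟩ := exists_sections hK G hm V₂ hη₂
  obtain ⟨V, hη, ε, hV, hεL, hεS, hεi⟩ := exists_sections hK (G + B) hp V₃ hη₃
  let sB := fun a => X.presheaf.map (homOfLE (hV.trans hV₃)).op (β a)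
  let sG := fun a => X.presheaf.map (homOfLE hV).op (γ' a)
  have gB : ∀ c : Fin n → k, X.presheaf.germ V (genericPoint X) hη (comb sB c) =
      X.presheaf.germ V₂ (genericPoint X) hη₂ (comb β c) := fun c => by
    rw [germ_comb, germ_comb]
    exact Finset.sum_congr rfl fun a _ => congrArg (_ * ·) (X.presheaf.germ_res_apply _ _ hη (β a))
  have gG : ∀ c : Fin m → k, X.presheaf.germ V (genericPoint X) hη (comb sG c) =
      X.presheaf.germ V₃ (genericPoint X) hη₃ (comb γ' c) := fun c => by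
    rw [germ_comb, germ_comb]
    exact Finset.sum_congr rfl fun a _ => congrArg (_ * ·) (X.presheaf.germ_res_apply _ _ hη (γ' a))
  have germ_inj : ∀ {V' : X.Opens} (hη' : genericPoint X ∈ V') (t : Γ(X, V')),
      X.presheaf.germ V' (genericPoint X) hη' t = 0 → t = 0 := fun {V'} hη' t ht => by
    haveI : Nonempty V' := ⟨⟨_, hη'⟩⟩
    exact X.germToFunctionField_injective V' (ht.trans (map_zero _).symm)
  have hV0' : ∀ y : CPt X, y.1 ∈ V → B (placeOf k h y) = 0 ∧ G (placeOf k h y) = 0 := fun y hy => by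
    have h1 := hV₀ y (hV₂ (hV₃ (hV hy))).1
    have h2 := hV₁ y (hV₂ (hV₃ (hV hy))).2
    rw [Finsupp.add_apply, h2, zero_add] at h1
    exact ⟨h2, h1⟩
  -- sample points
  obtain ⟨Z, hZ, hZ', hZs⟩ := exists_points ε hεi p le_rfl
  have hsample : ∀ t : Γ(X, V), X.presheaf.germ V (genericPoint X) hη t ∈ _root_.FunFld.L (G + B) →
      (∀ l, ev (Z l) (hZ l) t = 0) → t = 0 := by
    intro t ht hz
    obtain ⟨c, hc⟩ := hεS _ ht
    have htc : t = comb ε c := sub_eq_zero.1 (germ_inj hη _ (by rw [map_sub, hc, sub_self]))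
    subst htc
    let L : (Fin p → k) →ₗ[k] (Fin p → k) := LinearMap.pi fun l => ∑ a, (ev (Z l) (hZ l) (ε a)) • LinearMap.proj a
    have hL : ∀ c l, L c l = ev (Z l) (hZ l) (comb ε c) := fun c l => by
      rw [ev_comb ε c _ (hZ' l) (hZ l)]; simp [L, LinearMap.sum_apply, mul_comm]
    have hs : Function.Surjective L := fun y => by
      obtain ⟨c, hc⟩ := hZs y
      exact ⟨c, funext fun l => by rw [hL, ev_comb ε c _ (hZ' l) (hZ l)]; exact hc l⟩
    have : c = 0 := L.injective_iff_surjective.2 hs (by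
      rw [map_zero]; funext l; rw [hL]; exact hz l)
    rw [this]; simp [comb]
  -- the first tuple
  obtain ⟨P, hP, hP', hspan⟩ := exists_points sB (fun c hc => hβi c (germ_inj hη₂ _ (by
    rw [← gB, hc, map_zero]))) g (by omega)
  choose C₀ hC₀ using fun b : Fin g => hspan (Pi.single b 1)
  let Q : Fin g → Fin n → k := fun b i => ev (P b) (hP b) (sB i)
  -- generic opens for the tuples
  let U₁ := Finset.univ.inf fun b : Fin g => qD b ⁻¹ᵁ V
  let U₂ := Finset.univ.inf fun b : Fin g => qE b ⁻¹ᵁ V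
  let U₀ := U₁ ⊓ U₂
  have hU₁ : ∀ b, U₀ ≤ qD b ⁻¹ᵁ V := fun b => inf_le_left.trans (Finset.inf_le (Finset.mem_univ b))
  have hU₂ : ∀ b, U₀ ≤ qE b ⁻¹ᵁ V := fun b => inf_le_right.trans (Finset.inf_le (Finset.mem_univ b))
  let A : Matrix (Fin g) (Fin n) Γ(Y, U₀) := fun b a => (qD b).appLE V U₀ (hU₁ b) (sB a)
  let C : Matrix (Fin n) (Fin g) Γ(Y, U₀) := fun a b => cst k U₀ (C₀ b a)
  let H : Fin n → Fin n → Γ(Y, U₀) := fun i a =>
    (A * C).det * (if a = i then 1 else 0) - (C * (A * C).adjugate * A) a i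
  let M : Matrix ((Fin n × Fin g) ⊕ (Fin n × Fin n × Fin p)) (Fin n × Fin m) Γ(Y, U₀) :=
    Matrix.of (Sum.elim
      (fun r c => if r.1 = c.1 then (qE r.2).appLE V U₀ (hU₂ r.2) (sG c.2) else 0)
      (fun r c => cst k U₀ (ev (Z r.2.2) (hZ r.2.2) (sG c.2)) *
        ((if r.1 = c.1 then ∑ a, H r.2.1 a * cst k U₀ (ev (Z r.2.2) (hZ r.2.2) (sB a)) else 0) -
          (if r.2.1 = c.1 then ∑ a, H r.1 a * cst k U₀ (ev (Z r.2.2) (hZ r.2.2) (sB a)) else 0))))
  -- the data at a point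
  have key : ∀ (x : Spec (CommRingCat.of k) ⟶ Y) (hx' : x ≫ (Y ↘ Spec (CommRingCat.of k)) = 𝟙 _)
      (hx : ⊤ ≤ x ⁻¹ᵁ U₀) (hxD : ∀ b, ⊤ ≤ (x ≫ qD b) ⁻¹ᵁ V) (hxE : ∀ b, ⊤ ≤ (x ≫ qE b) ⁻¹ᵁ V)
      (hD : ∀ b, (x ≫ qD b) ≫ (X ↘ Spec (CommRingCat.of k)) = 𝟙 _)
      (hE : ∀ b, (x ≫ qE b) ≫ (X ↘ Spec (CommRingCat.of k)) = 𝟙 _),
      ev x hx (A * C).det ≠ 0 →
      ∃ Hx : Fin n → Γ(X, V),
        (∀ i, X.presheaf.germ V (genericPoint X) hη (Hx i) ∈ _root_.FunFld.L (B - divOf h (fun b => x ≫ qD b) hD)) ∧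
        (∀ f ∈ _root_.FunFld.L (B - divOf h (fun b => x ≫ qD b) hD),
          ∃ d : Fin n → k, ∑ i, algebraMap k X.functionField (d i) *
            X.presheaf.germ V (genericPoint X) hη (Hx i) = f) ∧
        (∀ v, (M.map (ev x hx)).mulVec v = 0 ↔
          (∀ i b, ev (x ≫ qE b) (hxE b) (comb sG fun a => v (i, a)) = 0) ∧
          ∀ i j l, ev (Z l) (hZ l) (comb sG (fun a => v (i, a)) * Hx j - comb sG (fun a => v (j, a)) * Hx i) = 0) := by
    intro x hx' hx hxD hxE hD hE hdet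
    set φ := ev x hx with hφ
    have hc : ∀ c, φ (cst k U₀ c) = c := ev_cst x hx' hx
    let Hk : Fin n → Fin n → k := fun i a => φ (H i a)
    have hA : ∀ b a, φ (A b a) = ev (x ≫ qD b) (hxD b) (sB a) := fun b a =>
      ev_appLE x (qD b) (hU₁ b) hx (hxD b) (sB a)
    have hAH : ∀ b i, ∑ a, φ (A b a) * Hk i a = 0 := by
      intro b i
      have hz : ∑ a, A b a * H i a = 0 := by
        have h1 : (A * (C * (A * C).adjugate * A)) b i = (A * C).det * A b i := by
          rw [← Matrix.mul_assoc, ← Matrix.mul_assoc, Matrix.mul_adjugate, Matrix.smul_mul, Matrix.one_mul,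
            Matrix.smul_apply, smul_eq_mul]
        rw [Matrix.mul_apply] at h1
        simp only [H, mul_sub, Finset.sum_sub_distrib, mul_ite, mul_one, mul_zero, Finset.sum_ite_eq',
          Finset.mem_univ, if_true]
        rw [h1, mul_comm (A b i), sub_self]
      have := congrArg φ hz
      rw [map_sum, map_zero] at this
      simpa only [map_mul] using this
    have hinj : Function.Injective fun b => pt (x ≫ qD b) (hD b) := by
      intro b b' e
      by_contra hne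
      refine hdet ?_
      rw [RingHom.map_det]
      refine Matrix.det_zero_of_row_eq hne (funext fun c => ?_)
      simp only [RingHom.mapMatrix_apply, Matrix.map_apply, Matrix.mul_apply, map_sum, map_mul]
      refine Finset.sum_congr rfl fun a _ => ?_
      congr 1
      rw [hA, hA]
      have he : x ≫ qD b = x ≫ qD b' := congrArg Subtype.val
        ((pointEquivClosedPoint (X ↘ Spec (CommRingCat.of k))).injective
          (a₁ := ⟨x ≫ qD b, hD b⟩) (a₂ := ⟨x ≫ qD b', hD b'⟩) (Subtype.ext (congrArg Subtype.val e)))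
      simp only [he]
    refine ⟨fun i => comb sB (Hk i), fun i => ?_, fun f hf => ?_, fun v => ?_⟩
    · exact mem_sub_of_ev h hη _ (by rw [gB]; exact hβL _) _ hD hxD hinj
        (fun b => ((hV0' _ (mem_of_top (hxD b))).1).ge) fun b => by
          rw [ev_comb sB _ _ (hD b) (hxD b)]
          refine Eq.trans (Finset.sum_congr rfl fun a _ => ?_) (hAH b i)
          rw [hA, mul_comm]
    · obtain ⟨c, hcf⟩ := hβS f (FunFld.Degree.L_mono (sub_le_self _ (divOf_nonneg h _ _)) hf)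
      rw [← gB] at hcf
      have hzero : ∀ b, ∑ i, φ (A b i) * c i = 0 := fun b => by
        have h1 := ev_eq_zero_of_mem h hη (comb sB c) (by rw [hcf]; exact hf) _ (hD b) (hxD b) (by
          have := one_le_divOf h (fun b => x ≫ qD b) hD b
          rw [Finsupp.sub_apply, (hV0' _ (mem_of_top (hxD b))).1]
          omega)
        rw [ev_comb sB _ _ (hD b) (hxD b)] at h1
        simpa only [hA, mul_comm] using h1
      refine ⟨fun i => c i / φ (A * C).det, ?_⟩
      rw [← hcf]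
      simp only [germ_comb, Finset.mul_sum]
      rw [Finset.sum_comm]
      refine Finset.sum_congr rfl fun a _ => ?_
      simp only [← mul_assoc, ← map_mul, ← Finset.sum_mul, ← map_sum]
      congr 2
      have h2 : ∑ i, c i * Hk i a = φ (A * C).det * c a := by
        have h3 : ∑ i, φ ((C * (A * C).adjugate * A) a i) * c i = 0 := by
          have hq : ∀ i, φ ((C * (A * C).adjugate * A) a i) =
              ∑ b, φ ((C * (A * C).adjugate) a b) * φ (A b i) := fun i =>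
            (congrArg φ Matrix.mul_apply).trans ((map_sum φ _ _).trans
              (Finset.sum_congr rfl fun b _ => map_mul φ _ _))
          simp only [hq, Finset.sum_mul]
          rw [Finset.sum_comm]
          refine Finset.sum_eq_zero fun b _ => ?_
          simp only [mul_assoc, ← Finset.mul_sum, hzero b, mul_zero]
        simp only [Hk, H, map_sub, map_mul, mul_sub, Finset.sum_sub_distrib]
        rw [show ∑ i, c i * φ ((C * (A * C).adjugate * A) a i) = 0 from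
          (Finset.sum_congr rfl fun i _ => mul_comm _ _).trans h3, sub_zero]
        rw [Finset.sum_eq_single a (fun i _ hi => by simp [Ne.symm hi]) (by simp)]
        simp [mul_comm]
      simp only [div_mul_eq_mul_div, ← Finset.sum_div]
      rw [h2, mul_div_assoc, mul_comm, div_mul_cancel₀ _ hdet]
    · have hl : ∀ i b, (M.map φ).mulVec v (Sum.inl (i, b)) =
          ev (x ≫ qE b) (hxE b) (comb sG fun a => v (i, a)) := by
        intro i b
        rw [ev_comb sG _ _ (hE b) (hxE b)]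
        simp only [Matrix.mulVec, dotProduct, Matrix.map_apply, M, Matrix.of_apply, Sum.elim_inl, Fintype.sum_prod_type]
        rw [Finset.sum_eq_single i (fun c _ hc => by simp [Ne.symm hc]) (by simp)]
        refine Finset.sum_congr rfl fun a _ => ?_
        rw [if_pos rfl, mul_comm]
        exact congrArg (v (i, a) * ·) (ev_appLE x (qE b) (hU₂ b) hx (hxE b) (sG a))
      have hr : ∀ i j l, (M.map φ).mulVec v (Sum.inr (i, j, l)) =
          ev (Z l) (hZ l) (comb sG (fun a => v (i, a)) * comb sB (Hk j) -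
            comb sG (fun a => v (j, a)) * comb sB (Hk i)) := by
        intro i j l
        simp only [map_sub, map_mul, ev_comb _ _ _ (hZ' l) (hZ l)]
        simp only [Matrix.mulVec, dotProduct, Matrix.map_apply, M, Matrix.of_apply, Sum.elim_inr, Fintype.sum_prod_type, map_mul, map_sub,
          apply_ite φ, map_zero, map_sum, hc, mul_sub, sub_mul, Finset.sum_sub_distrib, mul_ite, ite_mul,
          mul_zero, zero_mul, Finset.sum_ite_irrel, Finset.sum_const_zero, Finset.sum_ite_eq,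
          Finset.mem_univ, if_true, Finset.sum_mul]
        congr 1 <;>
        · refine Finset.sum_congr rfl fun a _ => ?_
          simp only [Hk, Finset.mul_sum, Finset.sum_mul]
          refine Finset.sum_congr rfl fun b _ => ?_
          ring
      constructor
      · intro hv
        exact ⟨fun i b => (hl i b).symm.trans (congrFun hv _), fun i j l => (hr i j l).symm.trans (congrFun hv _)⟩
      · rintro ⟨h1, h2⟩
        funext r
        rcases r with ⟨i, b⟩ | ⟨i, j, l⟩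
        exacts [(hl i b).trans (h1 i b), (hr i j l).trans (h2 i j l)]
  -- sections at the first tuple
  obtain ⟨pv, hpv', -, -⟩ : ∃ (pv : Spec (CommRingCat.of k) ⟶ X), pv ≫ (X ↘ Spec (CommRingCat.of k)) = 𝟙 _ ∧
      True ∧ True := ⟨P ⟨0, by omega⟩, hP' _, trivial, trivial⟩
  obtain ⟨x₁, hx₁', hx₁D, hx₁E⟩ := hlift P P hP' hP'
  have hD₁ : ∀ b, (x₁ ≫ qD b) ≫ (X ↘ Spec (CommRingCat.of k)) = 𝟙 _ := fun b => by rw [hx₁D]; exact hP' b
  set D₀ := divOf h (fun b => x₁ ≫ qD b) hD₁ with hD₀def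
  have hdegD : D₀.deg = g := deg_divOf h hK _ hD₁
  have hBD : _root_.FunFld.ell (B - D₀) ≠ 0 := by
    have := FunFld.Weil.ell_eq_of_deg_ge hK (D := B - D₀) (by
      rw [hg, FunFld.Degree.deg_sub, hdegB, hdegD]; omega)
    rw [hg, FunFld.Degree.deg_sub, hdegB, hdegD] at this
    omega
  set S := W + D₀ - Finsupp.single P₀ (g : ℤ) with hSdef
  obtain ⟨t, ht⟩ : ∃ t, _root_.FunFld.ell S = t := ⟨_, rfl⟩
  have htg : t ≤ g := by
    have h1 := FunFld.Weil.riemann_roch hK hW S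
    have h2 : _root_.FunFld.ell (Finsupp.single P₀ (g : ℤ) - D₀) ≤ 1 := by
      set E := Finsupp.single P₀ (g : ℤ) - D₀ with hEdef
      refine (Drop.ell_le_sub_single hK E P₀).trans ?_
      rw [FunFld.Weil.ell_eq_zero_of_deg_neg hK]
      rw [FunFld.Degree.deg_sub E (Finsupp.single P₀ (1 : ℤ)), hEdef, FunFld.Degree.deg_sub, hdegD,
        FunFld.Degree.deg_single, FunFld.Degree.deg_single, FunFld.Rational.deg_eq_one hK]
      push_cast
      omega
    rw [show W - S = Finsupp.single P₀ (g : ℤ) - D₀ by rw [hSdef]; abel] at h1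
    rw [hSdef, FunFld.Degree.deg_sub, FunFld.Degree.deg_add, hdegD, FunFld.Weil.deg_canonical hK hW,
      FunFld.Degree.deg_single, FunFld.Rational.deg_eq_one hK, hg, ← hSdef, ht] at h1
    push_cast at h1
    omega
  -- the base point of the open set
  have hxD₁ : ∀ b, ⊤ ≤ (x₁ ≫ qD b) ⁻¹ᵁ V := fun b => by rw [hx₁D]; exact hP b
  have hxE₁ : ∀ b, ⊤ ≤ (x₁ ≫ qE b) ⁻¹ᵁ V := fun b => by rw [hx₁E]; exact hP b
  have hx₁ : ⊤ ≤ x₁ ⁻¹ᵁ U₀ := fun z hz => ⟨top_le_inf hxD₁ hz, top_le_inf hxE₁ hz⟩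
  have hdetP : ∀ (x : Spec (CommRingCat.of k) ⟶ Y) (hx' : x ≫ (Y ↘ Spec (CommRingCat.of k)) = 𝟙 _)
      (hx : ⊤ ≤ x ⁻¹ᵁ U₀), (∀ b, x ≫ qD b = P b) → ev x hx (A * C).det = 1 := by
    intro x hx' hx hq
    rw [RingHom.map_det]
    convert Matrix.det_one (n := Fin g) (R := k)
    ext b c
    simp only [RingHom.mapMatrix_apply, Matrix.map_apply, Matrix.mul_apply, map_sum, map_mul]
    rw [Matrix.one_apply]
    have hterm : ∀ a, ev x hx (A b a) * ev x hx (C a c) = C₀ c a * ev (P b) (hP b) (sB a) := fun a => by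
      rw [show ev x hx (C a c) = C₀ c a from ev_cst x hx' hx _,
        show ev x hx (A b a) = ev (x ≫ qD b) (by rw [hq]; exact hP b) (sB a) from
          ev_appLE x (qD b) (hU₁ b) hx (by rw [hq]; exact hP b) (sB a), mul_comm]
      simp only [hq]
    rw [Finset.sum_congr rfl fun a _ => hterm a, hC₀ c b, Pi.single_apply]
  have hdet₁ : ev x₁ hx₁ (A * C).det ≠ 0 := by rw [hdetP x₁ hx₁' hx₁ hx₁D]; exact one_ne_zero
  obtain ⟨H₁, hH₁L, hH₁S, -⟩ := key x₁ hx₁' hx₁ hxD₁ hxE₁ hD₁ (fun b => by rw [hx₁E]; exact hP' b) hdet₁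
  obtain ⟨i₀, hi₀⟩ : ∃ i, H₁ i ≠ 0 := by
    by_contra hall
    push Not at hall
    refine hBD ?_
    haveI := FunFld.Degree.finiteDimensional_L hK (B - D₀)
    rw [_root_.FunFld.ell, Submodule.finrank_eq_zero, Submodule.eq_bot_iff]
    intro f hf
    obtain ⟨d, rfl⟩ := hH₁S f hf
    simp [hall]
  -- the second tuple
  obtain ⟨V₄, hη₄, hV₄⟩ := exists_avoid h S
  have hηH : genericPoint X ∈ X.basicOpen (H₁ i₀) := by
    rw [X.mem_basicOpen (H₁ i₀) _ hη]
    exact isUnit_iff_ne_zero.2 fun h0 => hi₀ (germ_inj hη _ h0)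
  obtain ⟨V₅, hη₅, δ, hV₅, hδL, hδS, hδi⟩ := exists_sections hK S ht (V₄ ⊓ X.basicOpen (H₁ i₀))
    ⟨hη₄, hηH⟩
  obtain ⟨R, hR, hR', hRs⟩ := exists_points δ hδi t le_rfl
  obtain ⟨r₀, hr₀, hr₀', -⟩ : ∃ (r₀ : Spec (CommRingCat.of k) ⟶ X) (_ : ⊤ ≤ r₀ ⁻¹ᵁ V₅),
      r₀ ≫ (X ↘ Spec (CommRingCat.of k)) = 𝟙 _ ∧ True := by
    have hne : (1 : Γ(X, V₅)) ≠ 0 := fun e => one_ne_zero
      ((map_one (X.presheaf.germ V₅ (genericPoint X) hη₅).hom).symm.trans
        ((congrArg _ e).trans (map_zero _)))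
    obtain ⟨r₀, hr₀, hr₀', -⟩ := exists_point (k := k) hne
    exact ⟨r₀, hr₀, hr₀', trivial⟩
  let Q' : Fin g → (Spec (CommRingCat.of k) ⟶ X) := fun b => if hb : (b : ℕ) < t then R ⟨b, hb⟩ else r₀
  have hQ' : ∀ b, Q' b ≫ (X ↘ Spec (CommRingCat.of k)) = 𝟙 _ := fun b => by
    by_cases hb : (b : ℕ) < t <;> simp [Q', hb, hR', hr₀']
  have hQV : ∀ b, ⊤ ≤ Q' b ⁻¹ᵁ V₅ := fun b => by
    by_cases hb : (b : ℕ) < t <;> simp only [Q', hb, dite_true, dite_false]
    exacts [hR _, hr₀]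
  have hle5 : V₅ ≤ V := fun z hz => X.basicOpen_le (H₁ i₀) (hV₅ hz).2
  obtain ⟨x₀, hx₀', hx₀D, hx₀E⟩ := hlift P Q' hP' hQ'
  have hxD₀ : ∀ b, ⊤ ≤ (x₀ ≫ qD b) ⁻¹ᵁ V := fun b => by rw [hx₀D]; exact hP b
  have hxE₀ : ∀ b, ⊤ ≤ (x₀ ≫ qE b) ⁻¹ᵁ V := fun b z hz => hle5 (by
    have := hQV b hz
    rw [← hx₀E] at this
    exact this)
  have hx₀ : ⊤ ≤ x₀ ⁻¹ᵁ U₀ := fun z hz => ⟨top_le_inf hxD₀ hz, top_le_inf hxE₀ hz⟩
  have hD₀o : ∀ b, (x₀ ≫ qD b) ≫ (X ↘ Spec (CommRingCat.of k)) = 𝟙 _ := fun b => by rw [hx₀D]; exact hP' b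
  have hE₀o : ∀ b, (x₀ ≫ qE b) ≫ (X ↘ Spec (CommRingCat.of k)) = 𝟙 _ := fun b => by rw [hx₀E]; exact hQ' b
  have hdet₀ : ev x₀ hx₀ (A * C).det ≠ 0 := by rw [hdetP x₀ hx₀' hx₀ hx₀D]; exact one_ne_zero
  obtain ⟨H₀, hH₀L, hH₀S, hM₀⟩ := key x₀ hx₀' hx₀ hxD₀ hxE₀ hD₀o hE₀o hdet₀
  have hDeq : divOf h (fun b => x₀ ≫ qD b) hD₀o = D₀ := by
    rw [hD₀def]
    simp only [divOf, hx₀D, hx₁D]
  rw [hDeq] at hH₀L hH₀S
  have hinj : Function.Injective ((M.map (ev x₀ hx₀)).mulVec) := by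
    intro v w hvw
    rw [← sub_eq_zero]
    obtain ⟨hz, heq⟩ := (hM₀ (v - w)).1 (by rw [Matrix.mulVec_sub, hvw, sub_self])
    set u := v - w
    let F : Fin n → X.functionField := fun i =>
      X.presheaf.germ V (genericPoint X) hη (comb sG fun a => u (i, a))
    let E : Fin n → X.functionField := fun i => X.presheaf.germ V (genericPoint X) hη (H₀ i)
    have hFL : ∀ i, F i ∈ _root_.FunFld.L G := fun i => by
      simp only [F, gG]; exact hγL _
    have hrel : ∀ i j, F i * E j = F j * E i := by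
      intro i j
      have hmem : X.presheaf.germ V (genericPoint X) hη
          (comb sG (fun a => u (i, a)) * H₀ j - comb sG (fun a => u (j, a)) * H₀ i) ∈
            _root_.FunFld.L (G + B) := by
        rw [map_sub, map_mul, map_mul]
        refine Submodule.sub_mem _ ?_ ?_ <;>
          refine mem_L_mul (hFL _) (FunFld.Degree.L_mono (sub_le_self _ (divOf_nonneg h _ hD₁)) (hH₀L _))
      have h0 := congrArg (X.presheaf.germ V (genericPoint X) hη) (hsample _ hmem (heq i j))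
      rw [map_sub, map_mul, map_mul, map_zero, sub_eq_zero] at h0
      exact h0
    -- a function with the pole bound of `S`
    obtain ⟨j₀, hj₀⟩ : ∃ j, E j ≠ 0 := by
      by_contra hall
      push Not at hall
      refine hBD ?_
      haveI := FunFld.Degree.finiteDimensional_L hK (B - D₀)
      rw [_root_.FunFld.ell, Submodule.finrank_eq_zero, Submodule.eq_bot_iff]
      intro f hf
      obtain ⟨d, rfl⟩ := hH₀S f hf
      exact Finset.sum_eq_zero fun i _ => by rw [show X.presheaf.germ V (genericPoint X) hη (H₀ i) = 0 from hall i, mul_zero]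
    set f := F j₀ / E j₀ with hfdef
    have hFf : ∀ i, F i = f * E i := fun i => by
      rw [hfdef, div_mul_eq_mul_div, hrel j₀ i, mul_div_assoc, div_self hj₀, mul_one]
    have hfS : f ∈ _root_.FunFld.L S := by
      refine Drop.mem_L_iff_val.2 fun Q => ?_
      obtain ⟨i, hi⟩ : ∃ i, E i ∉ _root_.FunFld.L (B - D₀ - Finsupp.single Q (1 : ℤ)) := by
        by_contra hall
        push Not at hall
        have hle : _root_.FunFld.L (B - D₀) ≤ _root_.FunFld.L (B - D₀ - Finsupp.single Q (1 : ℤ)) := by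
          intro f hf
          obtain ⟨d, rfl⟩ := hH₀S f hf
          exact Submodule.sum_mem _ fun i _ => by
            rw [← Algebra.smul_def]; exact Submodule.smul_mem _ _ (hall i)
        haveI := FunFld.Degree.finiteDimensional_L hK (B - D₀ - Finsupp.single Q (1 : ℤ))
        have h1 : _root_.FunFld.ell (B - D₀) ≤ _root_.FunFld.ell (B - D₀ - Finsupp.single Q (1 : ℤ)) :=
          Submodule.finrank_mono hle
        have h2 := FunFld.Weil.ell_eq_of_deg_ge hK (D := B - D₀) (by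
          rw [hg, FunFld.Degree.deg_sub, hdegB, hdegD]; omega)
        have h3 := FunFld.Weil.ell_eq_of_deg_ge hK (D := B - D₀ - Finsupp.single Q (1 : ℤ)) (by
          rw [hg, FunFld.Degree.deg_sub (B - D₀), FunFld.Degree.deg_sub, hdegB, hdegD,
            FunFld.Degree.deg_single, FunFld.Rational.deg_eq_one hK]; push_cast; omega)
        rw [hg, FunFld.Degree.deg_sub, hdegB, hdegD] at h2
        rw [hg, FunFld.Degree.deg_sub (B - D₀), FunFld.Degree.deg_sub, hdegB, hdegD,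
          FunFld.Degree.deg_single, FunFld.Rational.deg_eq_one hK] at h3
        push_cast at h3
        omega
      have hval : Q.1 (E i) = exp ((B - D₀) Q) := by
        refine le_antisymm (Drop.mem_L_iff_val.1 (hH₀L i) Q) (le_of_not_gt fun hlt => hi ?_)
        refine Drop.mem_L_iff_val.2 fun Q' => ?_
        rw [Finsupp.sub_apply, Finsupp.single_apply]
        by_cases hQ : Q = Q'
        · subst hQ
          rw [if_pos rfl]
          by_cases h0 : E i = 0
          · rw [h0, map_zero]; exact zero_le'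
          rw [FunFld.Place.val_eq_exp _ h0, exp_lt_exp] at hlt
          rw [FunFld.Place.val_eq_exp _ h0, exp_le_exp]
          omega
        · rw [if_neg hQ, sub_zero]
          exact Drop.mem_L_iff_val.1 (hH₀L i) Q'
      have h1 := Drop.mem_L_iff_val.1 (hFL i) Q
      rw [hFf i, map_mul, hval] at h1
      have hsum : G Q = S Q + (B - D₀) Q := by
        simp only [hSdef, hG, hB, Finsupp.sub_apply, Finsupp.add_apply, Finsupp.single_apply]
        split_ifs <;> omega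
      rw [hsum, exp_add] at h1
      exact le_of_mul_le_mul_right h1 (zero_lt_iff.2 exp_ne_zero)
    obtain ⟨c, hc⟩ := hδS f hfS
    -- it vanishes at the second tuple
    have hH5 : ∀ (r : Spec (CommRingCat.of k) ⟶ X) (hr5 : ⊤ ≤ r ⁻¹ᵁ V₅) (hrV : ⊤ ≤ r ⁻¹ᵁ V),
        ev r hrV (H₁ i₀) ≠ 0 := fun r hr5 hrV =>
      (ev_ne_zero_iff r hrV (H₁ i₀)).2 (hV₅ (mem_of_top hr5)).2
    obtain ⟨d, hd⟩ := hH₀S _ (hH₁L i₀)
    let hv : Fin n → Γ(X, V) := H₀
    have hHeq : H₁ i₀ = comb hv d := sub_eq_zero.1 (germ_inj hη _ (by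
      rw [map_sub, germ_comb]
      exact sub_eq_zero.2 hd.symm))
    have hzero : ∀ b, ∑ a, c a * ev (Q' b) (hQV b) (δ a) = 0 := by
      intro b
      rw [← ev_comb δ c _ (hQ' b) (hQV b)]
      have hQb : ⊤ ≤ Q' b ⁻¹ᵁ V := fun z hz => hle5 (hQV b hz)
      -- the product with `H₁ i₀` vanishes
      have hprod : X.presheaf.map (homOfLE hle5).op (comb sG fun a => ∑ i, d i * u (i, a)) =
          comb δ c * X.presheaf.map (homOfLE hle5).op (H₁ i₀) := by
        refine sub_eq_zero.1 (germ_inj hη₅ _ ?_)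
        rw [map_sub, map_mul, hc, X.presheaf.germ_res_apply, X.presheaf.germ_res_apply,
          hHeq, germ_comb, germ_comb, sub_eq_zero, Finset.mul_sum]
        simp only [map_sum, map_mul, Finset.sum_mul]
        rw [Finset.sum_comm]
        refine Finset.sum_congr rfl fun i _ => ?_
        rw [mul_left_comm, show X.presheaf.germ V (genericPoint X) hη (hv i) = E i from rfl, ← hFf i,
          show F i = _ from germ_comb hη sG _, Finset.mul_sum]
        exact Finset.sum_congr rfl fun a _ => by ring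
      have h1 := congrArg (ev (Q' b) (hQV b)) hprod
      rw [map_mul, ev_res hle5 _ (hQV b) hQb, ev_res hle5 _ (hQV b) hQb, ev_comb sG _ _ (hQ' b) hQb] at h1
      refine (mul_eq_zero.1 (h1.symm.trans ?_)).resolve_right (hH5 _ (hQV b) hQb)
      simp only [Finset.sum_mul]
      rw [Finset.sum_comm]
      refine Finset.sum_eq_zero fun i _ => ?_
      have h2 : ∀ z : Spec (CommRingCat.of k) ⟶ X, z = Q' b → ∀ hzV : ⊤ ≤ z ⁻¹ᵁ V,
          ev z hzV (comb sG fun a => u (i, a)) = 0 →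
          ev (Q' b) hQb (comb sG fun a => u (i, a)) = 0 := by
        rintro z rfl hzV h; exact h
      have h3 := h2 _ (hx₀E b) (hxE₀ b) (hz i b)
      rw [ev_comb sG _ _ (hQ' b) hQb] at h3
      simp only [mul_assoc, ← Finset.mul_sum, h3, mul_zero]
    have hc0 : c = 0 := by
      let L : (Fin t → k) →ₗ[k] (Fin t → k) :=
        LinearMap.pi fun l => ∑ a, (ev (R l) (hR l) (δ a)) • LinearMap.proj a
      have hL : ∀ c l, L c l = ∑ a, c a * ev (R l) (hR l) (δ a) := fun c l => by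
        simp [L, LinearMap.sum_apply, mul_comm]
      have hs : Function.Surjective L := fun y => by
        obtain ⟨c, hc⟩ := hRs y
        exact ⟨c, funext fun l => (hL c l).trans (hc l)⟩
      refine L.injective_iff_surjective.2 hs (funext fun l => ?_)
      rw [map_zero, hL]
      have := hzero ⟨l, by omega⟩
      simpa [Q', l.2] using this
    have hf0 : f = 0 := by rw [← hc, hc0]; simp [comb]
    funext ia
    obtain ⟨i, a⟩ := ia
    have hcomb : comb γ' (fun a => u (i, a)) = 0 := germ_inj hη₃ _ (by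
      rw [← gG]
      show F i = 0
      rw [hFf i, hf0, zero_mul])
    exact congrFun (hγi _ hcomb) a
  obtain ⟨U, hUle, hxU, hU⟩ := exists_open_injective M x₀ hx₀' hx₀ hinj
  refine ⟨U ⊓ Y.basicOpen (A * C).det, ⟨_, hxU, (ev_ne_zero_iff x₀ hx₀ _).1 hdet₀⟩,
    fun x hx' hD hE hmem => ?_⟩
  have hx : ⊤ ≤ x ⁻¹ᵁ U₀ := fun z _ => hUle (hmem z).1
  have hxD : ∀ b, ⊤ ≤ (x ≫ qD b) ⁻¹ᵁ V := fun b z hz => hU₁ b (hx hz)
  have hxE : ∀ b, ⊤ ≤ (x ≫ qE b) ⁻¹ᵁ V := fun b z hz => hU₂ b (hx hz)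
  have hdet := (ev_ne_zero_iff x hx _).2 (hmem (IsLocalRing.closedPoint k)).2
  obtain ⟨Hx, hHL, hHS, hM⟩ := key x hx' hx hxD hxE hD hE hdet
  haveI := FunFld.Degree.finiteDimensional_L hK
    (W + divOf h (fun b => x ≫ qD b) hD - divOf h (fun b => x ≫ qE b) hE - Finsupp.single P₀ (g : ℤ))
  rw [_root_.FunFld.ell, Submodule.finrank_eq_zero, Submodule.eq_bot_iff]
  intro f hf
  have hprodL : ∀ i, f * X.presheaf.germ V (genericPoint X) hη (Hx i) ∈
      _root_.FunFld.L (G - divOf h (fun b => x ≫ qE b) hE) := fun i => by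
    refine FunFld.Degree.L_mono (le_of_eq ?_) (mem_L_mul hf (hHL i))
    rw [hG, hB, show (3 * (g : ℤ)) = 2 * (g : ℤ) + g by ring, Finsupp.single_add]
    abel
  choose v hv using fun i => hγS _ (FunFld.Degree.L_mono (sub_le_self _ (divOf_nonneg h _ hE)) (hprodL i))
  have hv' : ∀ i, X.presheaf.germ V (genericPoint X) hη (comb sG (v i)) =
      f * X.presheaf.germ V (genericPoint X) hη (Hx i) := fun i => (gG (v i)).trans (hv i)
  have hv0 : (fun ia : Fin n × Fin m => v ia.1 ia.2) = 0 := by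
    refine hU x hx' hx (hmem _).1 (Eq.trans ?_ (Matrix.mulVec_zero _).symm)
    refine (hM _).2 ⟨fun i b => ?_, fun i j l => ?_⟩
    · refine ev_eq_zero_of_mem h hη _ (E := G - divOf h (fun b => x ≫ qE b) hE) ?_ _ (hE b) (hxE b) ?_
      · rw [hv']; exact hprodL i
      · have := one_le_divOf h (fun b => x ≫ qE b) hE b
        rw [Finsupp.sub_apply, (hV0' _ (mem_of_top (hxE b))).2]
        omega
    · rw [show comb sG (v i) * Hx j - comb sG (v j) * Hx i = 0 from germ_inj hη _ (by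
        rw [map_sub, map_mul, map_mul, hv', hv']; ring), map_zero]
  have hfH : ∀ i, f * X.presheaf.germ V (genericPoint X) hη (Hx i) = 0 := fun i => by
    rw [← hv', show v i = 0 from funext fun a => congrFun hv0 (i, a)]
    simp [comb]
  have hBD' : _root_.FunFld.ell (B - divOf h (fun b => x ≫ qD b) hD) ≠ 0 := by
    have hdd := deg_divOf h hK (fun b => x ≫ qD b) hD
    have := FunFld.Weil.ell_eq_of_deg_ge hK (D := B - divOf h (fun b => x ≫ qD b) hD) (by
      rw [hg, FunFld.Degree.deg_sub, hdegB, hdd]; omega)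
    rw [hg, FunFld.Degree.deg_sub, hdegB, hdd] at this
    omega
  by_contra hf0
  refine hBD' ?_
  haveI := FunFld.Degree.finiteDimensional_L hK (B - divOf h (fun b => x ≫ qD b) hD)
  rw [_root_.FunFld.ell, Submodule.finrank_eq_zero, Submodule.eq_bot_iff]
  intro e he
  obtain ⟨d, rfl⟩ := hHS e he
  exact Finset.sum_eq_zero fun i _ => by rw [(mul_eq_zero.1 (hfH i)).resolve_left hf0, mul_zero]

end Groth.Agent.Lib.CurveFF.SumDiff
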