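import Groth.Agent.Lib.CurveFF.Embedded
import Groth.Agent.Lib.CurveFF.LineExist
import Groth.Agent.Lib.CurveFF.DoubleCover
import Groth.Agent.Lib.FunFld.Degree
import Groth.Agent.Lib.FunFld.Riemann

/-!
The divisor of the pullback of `O(1)` along a map to the line is the pole divisor of the coordinate.
-/

noncomputable section
set_option autoImplicit false
set_option linter.style.haveILetI false
universe u

open CategoryTheory CategoryTheory.Limits AlgebraicGeometry TopologicalSpace Opposite WithZero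
open Groth.Agent.Lib.TensorMod Groth.Agent.Lib.TensorMod.Gen
open Groth.Agent.Lib.ProjSpace Groth.Agent.Lib.Ample.GenLocus Groth.Agent.Lib.ProjMor.Sec
open Groth.Agent.Lib.TensorMod.Dual Groth.Agent.Lib.TensorMod.Basic

namespace Groth.Agent.Lib.CurveFF.TwistDiv

attribute [local instance] Curv2.stalkAlgebra

variable {k : Type u} [Field k] {C : Scheme.{u}} [C.Over (Spec (CommRingCat.of k))] [IsIntegral C]

/-- A generator near a point gives the order of the module there. -/
theorem e_eq_of_isGen (h : CurveHyp C) {L : C.Modules} (R : LineDiv.Rep L) {U : C.Opens} {e' : Γ(L, U)}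
    (he : IsGen L U e') (x : CPt C) (hx : x.1 ∈ U) :
    R.coord (L.presheaf.germ U (genericPoint C) ((genericPoint_specializes x.1).mem_open U.2 hx) e') ≠ 0 ∧
    R.e k h x = -(placeOf k h x).ord (R.coord
      (L.presheaf.germ U (genericPoint C) ((genericPoint_specializes x.1).mem_open U.2 hx) e')) := by
  set φ := R.coord (L.presheaf.germ U (genericPoint C) ((genericPoint_specializes x.1).mem_open U.2 hx) e')
  have hgen : ∀ v : L.presheaf.stalk x.1, ∃ a : C.presheaf.stalk x.1,
      a • L.presheaf.germ U x.1 hx e' = v := fun v => by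
    obtain ⟨W, hyW, m, rfl⟩ := TopCat.Presheaf.germ_exist (F := L.presheaf) v
    obtain ⟨c, hc⟩ := (he (W ⊓ U) inf_le_right).2 (rs L inf_le_left m)
    simp only at hc
    have hxWU : x.1 ∈ W ⊓ U := ⟨hyW, hx⟩
    refine ⟨C.presheaf.germ _ x.1 hxWU c, ?_⟩
    rw [← TopCat.Presheaf.germ_res_apply L.presheaf (homOfLE (inf_le_right : W ⊓ U ≤ U)) x.1 hxWU e',
      ← Modules.StalkModule.germ_smul]
    exact (congrArg _ hc).trans (TopCat.Presheaf.germ_res_apply L.presheaf
      (homOfLE (inf_le_left : W ⊓ U ≤ W)) x.1 hxWU m)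
  have hφ0 : φ ≠ 0 := by
    intro hφ
    have : R.pr x.1 (L.presheaf.germ U x.1 hx e') = 0 := (R.pr_germ hx e').trans hφ
    obtain ⟨a, ha⟩ := hgen (R.gen x.1)
    exact R.gen_ne x.1 (by rw [← ha, R.pr_smul, this, mul_zero])
  refine ⟨hφ0, R.e_unique (k := k) h x fun f => ?_⟩
  rw [← FunFld.Place.val_eq_exp _ hφ0]
  constructor
  · rintro ⟨v, rfl⟩
    obtain ⟨a, rfl⟩ := hgen v
    rw [R.pr_smul, R.pr_germ, map_mul]
    exact mul_le_of_le_one_left' ((mem_O_placeOf h x).2 ⟨a, rfl⟩)
  · intro hf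
    obtain ⟨a, ha⟩ := (mem_O_placeOf h x).1 (show (placeOf k h x).1 (f / φ) ≤ 1 by
      rw [map_div₀]
      exact (div_le_one₀ (zero_lt_iff.2 ((Valuation.ne_zero_iff _).2 hφ0))).2 hf)
    exact ⟨a • L.presheaf.germ U x.1 hx e', by
      rw [R.pr_smul, R.pr_germ, ha]; exact div_mul_cancel₀ _ hφ0⟩

variable [IsProper (C ↘ Spec (CommRingCat.of k))]

local notation "𝒜" => CohB1.polyGrading 1 k

/-- The pullback of `O(1)` has the class of the pole divisor of the coordinate. -/
theorem exists_pullback_div (h : CurveHyp C) (hK : _root_.FunFld.IsFunctionField k C.functionField)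
    (f : C ⟶ H34.SplitP1.P1 k) [IsFinite f]
    (hη : f (genericPoint C) = genericPoint (H34.SplitP1.P1 k))
    (R : LineDiv.Rep ((Scheme.Modules.pullback f).obj (Twist.twistProjSpace 1 k 1))) :
    ∃ a : C.functionField, a ≠ 0 ∧ R.div h hK =
      FunFld.Degree.poleDiv (k := k) (DoubleCover.coord f 0 (DoubleCover.generic_mem f hη 0)) +
        _root_.FunFld.div k a := by
  classical
  let el : Fin 2 → 𝒜 1 := fun i => ⟨MvPolynomial.X i, MvPolynomial.isHomogeneous_X k i⟩
  let L := (Scheme.Modules.pullback f).obj (Twist.twistProjSpace 1 k 1)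
  let D : Fin 2 → (CohB1.ProjSpace 1 k).Opens := fun l => Proj.basicOpen 𝒜 (MvPolynomial.X l)
  let U : Fin 2 → C.Opens := fun l => f ⁻¹ᵁ D l
  have hmU : ∀ l, genericPoint C ∈ U l := fun l => DoubleCover.generic_mem f hη l
  let s : Fin 2 → Γ(L, ⊤) := fun i => ProjUP.pullSec f (Twist.twistProjSpace 1 k 1) (ProjUP.coord 1 k i)
  let g : Fin 2 → C.functionField := fun i =>
    R.coord (L.presheaf.germ ⊤ (genericPoint C) trivial (s i))
  have hinv : PicF.IsInvertible (Twist.twist 𝒜 1) :=
    ProjTilde.Invertible.twist_isInvertible_of_cover (fun y => by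
      obtain ⟨c, hc⟩ := ProjMor.Main.cover (ProjMor.Poly.lin_mem 1 k) (ProjMor.Poly.adjoin_lin 1 k) y
      exact ⟨c, c.2, hc⟩) 1
  -- the ratio
  set x := DoubleCover.coord f 0 (DoubleCover.generic_mem f hη 0) with hx
  have hrel : g 1 = x * g 0 := by
    have h1 := ProjMor.Embed.ratio_of_iso (a := el 0) (b := el 1) (va := s 0) (vb := s 1) (Iso.refl L) rfl rfl
      (U := U 0) le_rfl
    have h2 := congrArg (fun v => R.coord (L.presheaf.germ (U 0) (genericPoint C) (hmU 0) v)) h1
    refine Eq.trans ?_ (h2.trans ?_)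
    · exact congrArg R.coord (TopCat.Presheaf.germ_res_apply L.presheaf _ _ (hmU 0) (s 1)).symm
    · rw [Modules.StalkModule.germ_smul, map_smul, smul_eq_mul]
      refine congrArg₂ (fun a b : C.functionField => a * b) ?_
        (congrArg R.coord (TopCat.Presheaf.germ_res_apply L.presheaf _ _ (hmU 0) (s 0)))
      have hfr : ProjMor.Frame.fr 𝒜 (el 0) (el 1) = H34.SplitP1.φ k 0 Polynomial.X := by
        refine congrArg (Proj.awayToSection 𝒜 (MvPolynomial.X (0 : Fin 2))) ?_
        refine HomogeneousLocalization.val_injective _ ?_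
        rw [HomogeneousLocalization.Away.val_mk]
        simp [Charts.chartEquiv, MvPolynomial.uniqueAlgEquiv, Charts.fromPoly_X, Charts.val_coord]
        rfl
      refine (congrArg (fun φ => C.presheaf.germ (U 0) (genericPoint C) (hmU 0)
        (φ (ProjMor.Frame.fr 𝒜 (el 0) (el 1)))) (Scheme.Hom.appLE_eq_app f)).trans ?_
      rw [hfr]
      rfl
  -- the generators
  have hgen : ∀ (l : Fin 2) (P : CPt C), P.1 ∈ U l →
      g l ≠ 0 ∧ R.e k h P = -(placeOf k h P).ord (g l) := by
    intro l P hP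
    have hle : U l ≤ locus (s l) := by
      rw [show U l = f ⁻¹ᵁ Proj.basicOpen 𝒜 (el l : MvPolynomial (Fin 2) k) from rfl,
        ← ProjMor.Frame.locus_g (ProjMor.Main.cover (ProjMor.Poly.lin_mem 1 k) (ProjMor.Poly.adjoin_lin 1 k)) (el l)]
      exact (locus_pullback hinv f _).ge
    have hg : IsGen L (U l) (rs L le_top (s l)) := by
      have h' := (isGen_locus (s l)).res hle
      rwa [rs_rs] at h'
    have h' := e_eq_of_isGen (k := k) h R hg P hP
    have heq : R.coord (L.presheaf.germ (U l) (genericPoint C)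
        ((genericPoint_specializes P.1).mem_open (U l).2 hP) (rs L le_top (s l))) = g l :=
      congrArg R.coord (TopCat.Presheaf.germ_res_apply L.presheaf _ _ _ (s l))
    rwa [heq] at h'
  have hcov : ∀ P : CPt C, P.1 ∈ U 0 ∨ P.1 ∈ U 1 := fun P => by
    obtain ⟨l, hl⟩ : ∃ l, f P.1 ∈ Proj.basicOpen 𝒜 (MvPolynomial.X l) :=
      Opens.mem_iSup.mp ((Basic.iSup_basicOpen_X_eq_top 1 k).ge trivial)
    fin_cases l
    exacts [Or.inl hl, Or.inr hl]
  have hg0 : g 0 ≠ 0 := by
    obtain ⟨Q⟩ := (show Nonempty (_root_.FunFld.Place k C.functionField) from Groth.Agent.Lib.FunFld.Riemann.nonempty_place hK)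
    obtain ⟨P, rfl⟩ := placeOf_surjective (k := k) h Q
    rcases hcov P with hP | hP
    · exact (hgen 0 P hP).1
    · exact fun h0 => (hgen 1 P hP).1 (by rw [hrel, h0, mul_zero])
  refine ⟨(g 0)⁻¹, inv_ne_zero hg0, ?_⟩
  ext Q
  obtain ⟨P, rfl⟩ := placeOf_surjective (k := k) h Q
  rw [R.div_placeOf, Finsupp.add_apply, FunFld.Degree.div_apply hK, FunFld.Place.ord_inv,
    FunFld.Degree.poleDiv_apply hK]
  have hsec : ∀ i, g i ≠ 0 → -(placeOf k h P).ord (g i) ≤ R.e k h P := fun i hi => by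
    have := (R.mem_iff (k := k) h P (g i)).1 ⟨_, R.pr_germ (U := ⊤) (x := P.1) trivial (s i)⟩
    rwa [FunFld.Place.val_eq_exp _ hi, exp_le_exp] at this
  by_cases hP : P.1 ∈ U 0
  · rcases eq_or_ne x 0 with h0 | h0
    · rw [h0, FunFld.Place.ord_zero, (hgen 0 P hP).2]
      omega
    · have h1 : g 1 ≠ 0 := by rw [hrel]; exact mul_ne_zero h0 hg0
      have h2 := hsec 1 h1
      rw [(hgen 0 P hP).2, hrel, FunFld.Place.ord_mul _ h0 hg0] at h2
      rw [(hgen 0 P hP).2]
      omega
  · have hP1 := (hcov P).resolve_left hP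
    have h1 := hgen 1 P hP1
    have hx0 : x ≠ 0 := fun h0 => h1.1 (by rw [hrel, h0, zero_mul])
    have h2 := hsec 0 hg0
    rw [h1.2, hrel, FunFld.Place.ord_mul _ hx0 hg0] at h2
    rw [h1.2, hrel, FunFld.Place.ord_mul _ hx0 hg0]
    omega

end Groth.Agent.Lib.CurveFF.TwistDiv
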