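import Groth.Agent.Lib.CurveFF.CoverPlaces
import Groth.Agent.Lib.CurveFF.Hyp

/-!
Curves with two bielliptic-type involutions attaining the Castelnuovo-Severi bound.
-/

noncomputable section
set_option autoImplicit false
set_option linter.style.haveILetI false
universe u

open CategoryTheory CategoryTheory.Limits AlgebraicGeometry IntermediateField WithZero

namespace Groth.Agent.Lib.CurveFF.TwoInvolutions

attribute [local instance] Curv2.stalkAlgebra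

variable {k : Type u} [Field k] [IsAlgClosed k] [CharZero k] {X P₁ P₂ : Scheme.{u}}
  [X.Over (Spec (CommRingCat.of k))] [P₁.Over (Spec (CommRingCat.of k))]
  [P₂.Over (Spec (CommRingCat.of k))] [IsIntegral X] [IsIntegral P₁] [IsIntegral P₂]
  [IsProper (X ↘ Spec (CommRingCat.of k))] [IsProper (P₁ ↘ Spec (CommRingCat.of k))]
  [IsProper (P₂ ↘ Spec (CommRingCat.of k))]
  (hX : CurveHyp X) (h₁ : CurveHyp P₁) (h₂ : CurveHyp P₂)
  (f₁ : X ⟶ P₁) (hf₁ : f₁ ≫ (P₁ ↘ Spec (CommRingCat.of k)) = X ↘ Spec (CommRingCat.of k))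
  [IsFinite f₁] [Flat f₁] (hr₁ : ∀ y : P₁, Scheme.Hom.finrank f₁ y = 2)
  (f₂ : X ⟶ P₂) (hf₂ : f₂ ≫ (P₂ ↘ Spec (CommRingCat.of k)) = X ↘ Spec (CommRingCat.of k))
  [IsFinite f₂] [Flat f₂] (hr₂ : ∀ y : P₂, Scheme.Hom.finrank f₂ y = 2)
  (hne : ¬ ∃ e : P₁ ≅ P₂, e.hom ≫ (P₂ ↘ Spec (CommRingCat.of k)) = (P₁ ↘ Spec (CommRingCat.of k)) ∧
    f₁ ≫ e.hom = f₂)

include hX h₁ h₂ hf₁ hr₁ hf₂ hr₂ hne

theorem data :
    let e₁ := CoverField.generic_eq hX.dim h₁.dim f₁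
    let e₂ := CoverField.generic_eq hX.dim h₂.dim f₂
    let F := (CoverField.field f₁ hf₁ e₁).fieldRange
    let G := (CoverField.field f₂ hf₂ e₂).fieldRange
    _root_.FunFld.IsFunctionField k X.functionField ∧
    FiniteDimensional F X.functionField ∧ FiniteDimensional G X.functionField ∧
    _root_.FunFld.IsFunctionField k F ∧ _root_.FunFld.IsFunctionField k G ∧
    Module.finrank F X.functionField = 2 ∧ Module.finrank G X.functionField = 2 ∧ F ≠ G ∧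
    _root_.FunFld.genus k F = Curv2.genus k P₁ ∧ _root_.FunFld.genus k G = Curv2.genus k P₂ := by
  intro e₁ e₂ F G
  have hK := isFunctionField (k := k) hX (Curves.GlobalSections.finrank_h0_structure k X)
  obtain ⟨a1, a2, a3, a4⟩ := CoverField.facts hK h₁ (Curves.GlobalSections.finrank_h0_structure k P₁) f₁ hf₁ hr₁ e₁
  obtain ⟨b1, b2, b3, b4⟩ := CoverField.facts hK h₂ (Curves.GlobalSections.finrank_h0_structure k P₂) f₂ hf₂ hr₂ e₂
  refine ⟨hK, a1, b1, a2, b2, a4, b4, fun heq => hne ?_, a3, b3⟩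
  exact CoverField.exists_iso h₁ h₂ f₁ hf₁ e₁ f₂ hf₂ e₂ heq

theorem genus_eq (γ : ℕ) (hg : Curv2.genus k X = 4 * γ + 1) (hγ₁ : Curv2.genus k P₁ ≤ γ)
    (hγ₂ : Curv2.genus k P₂ ≤ γ) : Curv2.genus k P₁ = γ ∧ Curv2.genus k P₂ = γ := by
  obtain ⟨hK, a1, b1, a2, b2, a4, b4, hFG, a3, b3⟩ := data hX h₁ h₂ f₁ hf₁ hr₁ f₂ hf₂ hr₂ hne
  haveI := a1
  haveI := b1
  have h := TwoQuotients.genus_le hK two_ne_zero a2 b2 a4 b4 hFG
  rw [← CurveFF.genus_eq hX (Curves.GlobalSections.finrank_h0_structure k X), a3, b3] at h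
  omega

theorem closedImmersion (γ : ℕ) (hg : Curv2.genus k X = 4 * γ + 1) (hγ₁ : Curv2.genus k P₁ ≤ γ)
    (hγ₂ : Curv2.genus k P₂ ≤ γ) :
    IsClosedImmersion (pullback.lift f₁ f₂ (hf₁.trans hf₂.symm) :
      X ⟶ pullback (P₁ ↘ Spec (CommRingCat.of k)) (P₂ ↘ Spec (CommRingCat.of k))) := by
  obtain ⟨hK, a1, b1, a2, b2, a4, b4, hFG, a3, b3⟩ := data hX h₁ h₂ f₁ hf₁ hr₁ f₂ hf₂ hr₂ hne
  haveI := a1
  haveI := b1
  have e₁ := CoverField.generic_eq hX.dim h₁.dim f₁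
  have e₂ := CoverField.generic_eq hX.dim h₂.dim f₂
  have hno : ∀ x x' : CPt X, ∀ (y₁ : CPt P₁) (y₂ : CPt P₂), f₁ x.1 = y₁.1 → f₁ x'.1 = y₁.1 →
      f₂ x.1 = y₂.1 → f₂ x'.1 = y₂.1 →
      (x = x' → ∀ w, (placeOf k h₁ y₁).1 w < 1 → (placeOf k hX x).1 (FieldExt.kMap f₁ e₁ w) ≠ exp (-1)) →
      (x = x' → ∀ w, (placeOf k h₂ y₂).1 w < 1 → (placeOf k hX x).1 (FieldExt.kMap f₂ e₂ w) ≠ exp (-1)) →
      False := by
    intro x x' y₁ y₂ p1 p1' p2 p2' t1 t2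
    have h := TwoQuotientsSharp.genus_le_of_glued hK two_ne_zero a2 b2 a4 b4 hFG
      (CoverPlaces.glued hX h₁ f₁ e₁ hf₁ x x' y₁ p1 p1' t1)
      (CoverPlaces.glued hX h₂ f₂ e₂ hf₂ x x' y₂ p2 p2' t2)
    rw [← CurveFF.genus_eq hX (Curves.GlobalSections.finrank_h0_structure k X), a3, b3] at h
    omega
  let p₁ := pullback.fst (P₁ ↘ Spec (CommRingCat.of k)) (P₂ ↘ Spec (CommRingCat.of k))
  let p₂ := pullback.snd (P₁ ↘ Spec (CommRingCat.of k)) (P₂ ↘ Spec (CommRingCat.of k))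
  set r : X ⟶ pullback (P₁ ↘ Spec (CommRingCat.of k)) (P₂ ↘ Spec (CommRingCat.of k)) :=
    pullback.lift f₁ f₂ (hf₁.trans hf₂.symm)
  have hr1 : r ≫ p₁ = f₁ := pullback.lift_fst _ _ _
  have hr2 : r ≫ p₂ = f₂ := pullback.lift_snd _ _ _
  letI : (pullback (P₁ ↘ Spec (CommRingCat.of k)) (P₂ ↘ Spec (CommRingCat.of k))).Over
      (Spec (CommRingCat.of k)) := ⟨p₁ ≫ (P₁ ↘ Spec (CommRingCat.of k))⟩
  haveI : LocallyOfFiniteType ((pullback (P₁ ↘ Spec (CommRingCat.of k)) (P₂ ↘ Spec (CommRingCat.of k))) ↘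
      Spec (CommRingCat.of k)) :=
    inferInstanceAs (LocallyOfFiniteType (p₁ ≫ (P₁ ↘ Spec (CommRingCat.of k))))
  haveI : IsFinite (r ≫ p₁) := by rw [hr1]; infer_instance
  haveI : IsFinite r := MorphismProperty.of_postcomp @IsFinite r p₁ (W' := @IsSeparated) inferInstance ‹_›
  have hcl₁ : ∀ x : CPt X, IsClosed ({f₁ x.1} : Set P₁) := fun x =>
    CurveMaps.Basic.isClosed_image_singleton _ _ f₁ hf₁ x.2
  have hcl₂ : ∀ x : CPt X, IsClosed ({f₂ x.1} : Set P₂) := fun x =>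
    CurveMaps.Basic.isClosed_image_singleton _ _ f₂ hf₂ x.2
  refine ClosedImmersionCrit.isClosedImmersion hX r
    (show r ≫ p₁ ≫ (P₁ ↘ Spec (CommRingCat.of k)) = _ by rw [← Category.assoc, hr1, hf₁])
    (fun x x' hxx => ?_) (fun x => ?_)
  · by_contra hne'
    have q1 : f₁ x'.1 = f₁ x.1 := by rw [← hr1, Scheme.Hom.comp_apply, Scheme.Hom.comp_apply, hxx]
    have q2 : f₂ x'.1 = f₂ x.1 := by rw [← hr2, Scheme.Hom.comp_apply, Scheme.Hom.comp_apply, hxx]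
    exact hno x x' ⟨_, hcl₁ x⟩ ⟨_, hcl₂ x⟩ rfl q1 rfl q2 (fun h => absurd h hne') (fun h => absurd h hne')
  · by_contra hcon
    simp only [not_exists] at hcon
    refine hno x x ⟨_, hcl₁ x⟩ ⟨_, hcl₂ x⟩ rfl rfl rfl rfl (fun _ w hw he => ?_) (fun _ w hw he => ?_)
    · obtain ⟨a, ha⟩ := CoverPlaces.exists_stalk r p₁ f₁ hr1 e₁ h₁ x.1 ⟨_, hcl₁ x⟩ rfl w hw.le
      exact hcon a (by rw [ha]; exact he)
    · obtain ⟨a, ha⟩ := CoverPlaces.exists_stalk r p₂ f₂ hr2 e₂ h₂ x.1 ⟨_, hcl₂ x⟩ rfl w hw.le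
      exact hcon a (by rw [ha]; exact he)

/-- The second quotient is hyperelliptic. -/
theorem hyperelliptic (γ : ℕ) (hγ : 1 ≤ γ) (hg : Curv2.genus k X = 4 * γ + 1)
    (hγ₁ : Curv2.genus k P₁ ≤ γ) (hγ₂ : Curv2.genus k P₂ ≤ γ) :
    ∃ M : P₂.Modules, PicF.IsInvertible M ∧ Curv2.deg k P₂ M 1 = 2 ∧
      2 ≤ Module.finrank k (Coh.HH P₂ M 0) := by
  obtain ⟨-, hG2⟩ := genus_eq hX h₁ h₂ f₁ hf₁ hr₁ f₂ hf₂ hr₂ hne γ hg hγ₁ hγ₂
  obtain ⟨hK, a1, b1, a2, b2, a4, b4, hFG, a3, b3⟩ := data hX h₁ h₂ f₁ hf₁ hr₁ f₂ hf₂ hr₂ hne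
  haveI := a1
  haveI := b1
  have h0 := Curves.GlobalSections.finrank_h0_structure k P₂
  have hKP := isFunctionField (k := k) h₂ h0
  obtain ⟨D, hDd, hDl⟩ : ∃ D : _root_.FunFld.Divisor k P₂.functionField, D.deg = 2 ∧
      2 ≤ _root_.FunFld.ell D := by
    rcases eq_or_lt_of_le hγ with h1 | h1
    · obtain ⟨P⟩ := FunFld.Riemann.nonempty_place hKP
      refine ⟨Finsupp.single P 2, by rw [FunFld.Degree.deg_single, FunFld.Rational.deg_eq_one hKP P]; rfl, ?_⟩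
      have hr := FunFld.Riemann.riemann hKP (Finsupp.single P (2 : ℤ))
      rw [FunFld.Degree.deg_single, FunFld.Rational.deg_eq_one hKP P,
        ← CurveFF.genus_eq h₂ h0, hG2] at hr
      push_cast at hr
      omega
    · by_contra hno
      have h := TwoQuotientsSharp.genus_le_of_not_hyperelliptic hK two_ne_zero a2 b2 a4 b4 hFG
        (by omega) (fun E hEd => by
          by_contra hlt
          exact hno (CoverPlaces.exists_g12 hKP b2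
            (AlgEquiv.ofInjectiveField (CoverField.field f₂ hf₂ (CoverField.generic_eq hX.dim h₂.dim f₂)))
            hEd (by omega)))
      rw [← CurveFF.genus_eq hX (Curves.GlobalSections.finrank_h0_structure k X), a3, b3] at h
      omega
  obtain ⟨L, R, hR, hLd⟩ := LineDiv.exists_line h₂ hKP D
  exact ⟨L, R.inv, hLd.trans hDd, by rw [R.finrank_h0 h₂ hKP, hR]; exact hDl⟩

end Groth.Agent.Lib.CurveFF.TwoInvolutions
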