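import Groth.Agent.Lib.CurveFF.InvolutionFF
import Groth.Agent.Lib.CurveFF.GenusOneInvol
import Groth.Agent.Lib.FunFld.SmallGenus
import Groth.Agent.Lib.FunFld.LinSer.Basic
import Groth.Agent.H81.Quadratic

/-!
The genus inequality for a field with two subfields of index two.
-/

noncomputable section
set_option autoImplicit false
set_option linter.style.haveILetI false
universe u v

open IntermediateField
open Groth.Agent.Lib.FunFld Groth.Agent.Lib.FunFld.Degree

namespace Groth.Agent.Lib.CurveFF.TwoQuotients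

variable {k : Type u} [Field k] {K : Type v} [Field K] [Algebra k K]

/-- A quadratic separable subextension comes with an involution. -/
theorem exists_invol {F : IntermediateField k K} (h2 : Module.finrank F K = 2)
    [Algebra.IsSeparable F K] :
    ∃ φ : K ≃ₐ[k] K, (∀ z, φ z = z ↔ z ∈ F) ∧ ∀ z, φ (φ z) = z := by
  haveI : FiniteDimensional F K := Module.finite_of_finrank_eq_succ h2
  haveI : Algebra.IsQuadraticExtension F K := { finrank_eq_two' := h2 }
  have hcard : Nat.card (K ≃ₐ[F] K) = 2 := (IsGalois.card_aut_eq_finrank F K).trans h2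
  obtain ⟨ψ, hψ⟩ : ∃ ψ : K ≃ₐ[F] K, ψ ≠ 1 := by
    by_contra hc
    push Not at hc
    haveI : Subsingleton (K ≃ₐ[F] K) := ⟨fun a b => (hc a).trans (hc b).symm⟩
    rw [Nat.card_of_subsingleton (1 : K ≃ₐ[F] K)] at hcard
    omega
  have hsq : ψ * ψ = 1 := by
    have := pow_card_eq_one' (x := ψ)
    rwa [hcard, sq] at this
  refine ⟨ψ.restrictScalars k, fun z => ⟨fun hz => ?_, fun hz => ψ.commutes ⟨z, hz⟩⟩,
    fun z => AlgEquiv.congr_fun hsq z⟩
  by_contra hzF
  have htop : adjoin F ({z} : Set K) = ⊤ :=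
    H81.Quadratic.adjoin_eq_top h2 fun ⟨c, hc⟩ => hzF (hc ▸ c.2)
  refine hψ (AlgEquiv.ext fun w => ?_)
  have hw : w ∈ adjoin F ({z} : Set K) := htop ▸ mem_top
  induction hw using IntermediateField.adjoin_induction with
  | mem v hv => rw [Set.mem_singleton_iff.1 hv]; exact hz
  | algebraMap c => exact ψ.commutes c
  | add a b _ _ ha hb => rw [map_add, ha, hb]; rfl
  | mul a b _ _ ha hb => rw [map_mul, ha, hb]; rfl
  | inv a _ ha => rw [map_inv₀, ha]; rfl

/-- A nonspecial divisor of degree `g - 1` avoiding finitely many places. -/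
theorem exists_nonspecial [IsAlgClosed k] (hK : _root_.FunFld.IsFunctionField k K)
    (s : Finset (_root_.FunFld.Place k K)) :
    ∃ B : _root_.FunFld.Divisor k K, B.deg = (_root_.FunFld.genus k K : ℤ) - 1 ∧
      _root_.FunFld.ell B = 0 ∧ ∀ Q ∈ s, B Q = 0 := by
  classical
  obtain ⟨W, hW⟩ := Weil.exists_isCanonical hK
  have hd : ∀ P : _root_.FunFld.Place k K, P.deg = 1 := Rational.deg_eq_one hK
  have key : ∀ n, n ≤ _root_.FunFld.genus k K → ∃ E : _root_.FunFld.Divisor k K, 0 ≤ E ∧
      E.deg = n ∧ _root_.FunFld.ell (W - E) + n ≤ _root_.FunFld.genus k K ∧ ∀ Q ∈ s, E Q = 0 := by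
    intro n
    induction n with
    | zero =>
      exact fun _ => ⟨0, le_rfl, deg_zero, by rw [sub_zero, Weil.ell_canonical hK hW]; omega,
        fun _ _ => rfl⟩
    | succ n ih =>
      intro hn
      obtain ⟨E, hE, hEd, hEl, hEs⟩ := ih (by omega)
      have hadd : ∀ Q, Q ∉ s → ∀ m, _root_.FunFld.ell (W - (E + Finsupp.single Q 1)) + m ≤
          _root_.FunFld.genus k K → m = n + 1 → ∃ E' : _root_.FunFld.Divisor k K, 0 ≤ E' ∧
            E'.deg = (n + 1 : ℕ) ∧ _root_.FunFld.ell (W - E') + (n + 1) ≤ _root_.FunFld.genus k K ∧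
            ∀ Q ∈ s, E' Q = 0 := fun Q hQ m hm hmn =>
        ⟨E + Finsupp.single Q 1, add_nonneg hE (Finsupp.single_nonneg.2 zero_le_one),
          by rw [deg_add, deg_single, hd, hEd]; push_cast; ring, by omega, fun R hR => by
            rw [Finsupp.add_apply, hEs R hR, Finsupp.single_eq_of_ne (show R ≠ Q by rintro rfl; exact hQ hR), add_zero]⟩
      rcases Nat.eq_zero_or_pos (_root_.FunFld.ell (W - E)) with h0 | hpos
      · obtain ⟨Q, hQ⟩ := LinSer.Basic.exists_place_notMem hK s
        refine hadd Q hQ (n + 1) ?_ rfl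
        have : _root_.FunFld.ell (W - (E + Finsupp.single Q 1)) ≤ _root_.FunFld.ell (W - E) := by
          haveI := finiteDimensional_L hK (W - E)
          refine Submodule.finrank_mono (L_mono fun P => ?_)
          rw [Finsupp.sub_apply, Finsupp.sub_apply, Finsupp.add_apply]
          have : (0 : ℤ) ≤ (Finsupp.single Q (1 : ℤ)) P := Finsupp.single_nonneg.2 zero_le_one P
          omega
        omega
      · obtain ⟨z, hz0, hz⟩ := Riemann.exists_ne_zero_of_ell_pos hpos
        obtain ⟨Q, hQ⟩ := LinSer.Basic.exists_place_notMem hK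
          (s ∪ (W - E).support ∪ (_root_.FunFld.div k z).support)
        simp only [Finset.mem_union, not_or, Finsupp.mem_support_iff, not_not] at hQ
        refine hadd Q hQ.1.1 (n + 1) ?_ rfl
        haveI := finiteDimensional_L hK (W - E)
        have hlt : _root_.FunFld.L (W - (E + Finsupp.single Q 1)) < _root_.FunFld.L (W - E) := by
          refine lt_of_le_of_ne (L_mono fun P => ?_) fun e => ?_
          · rw [Finsupp.sub_apply, Finsupp.sub_apply, Finsupp.add_apply]
            have : (0 : ℤ) ≤ (Finsupp.single Q (1 : ℤ)) P := Finsupp.single_nonneg.2 zero_le_one P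
            omega
          · rw [← e] at hz
            have h1 := (mem_L_iff_ord.1 hz).resolve_left hz0 Q
            rw [← sub_sub, Finsupp.sub_apply, hQ.1.2, Finsupp.single_eq_same] at h1
            have h2 := hQ.2
            rw [div_apply hK] at h2
            omega
        have := Submodule.finrank_lt_finrank_of_lt hlt
        change _root_.FunFld.ell _ < _root_.FunFld.ell _ at this
        omega
  obtain ⟨E, hE, hEd, hEl, hEs⟩ := key _ le_rfl
  have h1 := Weil.riemann_roch hK hW E
  rw [hEd] at h1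
  obtain ⟨R, hR⟩ := LinSer.Basic.exists_place_notMem hK (s ∪ E.support)
  simp only [Finset.mem_union, not_or, Finsupp.mem_support_iff, not_not] at hR
  refine ⟨E - Finsupp.single R 1, by rw [deg_sub, deg_single, hd, hEd]; push_cast; ring, ?_,
    fun Q hQ => ?_⟩
  · haveI := finiteDimensional_L hK E
    have hlt : _root_.FunFld.L (E - Finsupp.single R 1) < _root_.FunFld.L E := by
      refine lt_of_le_of_ne (L_mono fun P => ?_) fun e => ?_
      · rw [Finsupp.sub_apply]
        have : (0 : ℤ) ≤ (Finsupp.single R (1 : ℤ)) P := Finsupp.single_nonneg.2 zero_le_one P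
        omega
      · have h2 : (1 : K) ∈ _root_.FunFld.L E :=
          mem_L_iff_ord.2 (Or.inr fun P => by rw [Place.ord_one]; linarith [(show (0 : ℤ) ≤ E P from hE P)])
        rw [← e] at h2
        have h3 := (mem_L_iff_ord.1 h2).resolve_left one_ne_zero R
        rw [Place.ord_one, Finsupp.sub_apply, hR.2, Finsupp.single_eq_same] at h3
        omega
    have := Submodule.finrank_lt_finrank_of_lt hlt
    change _root_.FunFld.ell _ < _root_.FunFld.ell _ at this
    omega
  · rw [Finsupp.sub_apply, hEs Q hQ, Finsupp.single_eq_of_ne (show Q ≠ R by rintro rfl; exact hR.1 hQ), sub_zero]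

variable [IsAlgClosed k]

/-- Two subfields of index two bound the genus. -/
theorem genus_le (hK : _root_.FunFld.IsFunctionField k K) (h2 : (2 : k) ≠ 0)
    {F G : IntermediateField k K} [FiniteDimensional F K] [FiniteDimensional G K]
    (hF : _root_.FunFld.IsFunctionField k F) (hG : _root_.FunFld.IsFunctionField k G)
    (hF2 : Module.finrank F K = 2) (hG2 : Module.finrank G K = 2) (hne : F ≠ G) :
    _root_.FunFld.genus k K ≤ 2 * _root_.FunFld.genus k F + 2 * _root_.FunFld.genus k G + 1 := by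
  classical
  haveI := GenusOneInvol.isSeparable_of_two_ne_zero (E := F) (L := K)
    (fun e => h2 ((algebraMap k F).injective ((map_ofNat _ 2).trans (e.trans (map_zero _).symm)))) hF2
  obtain ⟨φ, hfix, hφφ⟩ := exists_invol hF2
  obtain ⟨y, hyG, hyφ⟩ : ∃ y ∈ G, φ y ≠ y := by
    by_contra hc
    push Not at hc
    exact hne (IntermediateField.eq_of_le_of_finrank_eq' (fun z hz => (hfix z).1 (hc z hz))
      (hG2.trans hF2.symm)).symm
  -- the place
  obtain ⟨R, hR⟩ := LinSer.Basic.exists_place_notMem hK ((_root_.FunFld.div k y).support ∪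
    (_root_.FunFld.div k (φ y)).support ∪ (_root_.FunFld.div k (y - φ y)).support)
  simp only [Finset.mem_union, not_or, Finsupp.mem_support_iff, not_not, div_apply hK] at hR
  obtain ⟨R', hR'⟩ := InvolFF.exists_conj φ R
  obtain ⟨P, e, -, he⟩ := Ext.exists_place_below hF R
  have he' : _root_.FunFld.IsOverWith R' P e := fun x => by
    rw [hR', ← he x]
    exact congrArg R.1 ((hfix (x : K)).2 x.2)
  obtain ⟨Q₁, e₁, -, he₁⟩ := Ext.exists_place_below hG R
  obtain ⟨Q₂, e₂, -, he₂⟩ := Ext.exists_place_below hG R'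
  have hQ : Q₁ ≠ Q₂ := by
    intro hQQ
    subst hQQ
    let yG : G := ⟨y, hyG⟩
    have hy1 : R.1 y ≤ 1 := (Place.val_le_one_iff R).2 hR.1.1.ge
    have hfinres := FunFld.Existence.finiteDimensional_residueField hK R
    haveI : Algebra.IsIntegral k (IsLocalRing.ResidueField R.O) :=
      @Algebra.IsIntegral.of_finite k (IsLocalRing.ResidueField R.O) _ _ _ hfinres
    obtain ⟨c, hc⟩ := (IsAlgClosed.algebraMap_bijective_of_isIntegral (k := k)
      (K := IsLocalRing.ResidueField R.O)).2 (IsLocalRing.residue R.O ⟨y, hy1⟩)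
    have hdiff : R.1 (y - algebraMap k K c) < 1 := by
      have h0 : IsLocalRing.residue R.O (⟨y, hy1⟩ - algebraMap k R.O c) = 0 := by
        rw [map_sub, ← FunFld.Place.algebraMap_residue, hc, sub_self]
      exact (FunFld.Place.res_eq_zero_iff R _).1 h0
    have h1 : R.1 (y - algebraMap k K c) = Q₁.1 (yG - algebraMap k G c) ^ e₁ :=
      (congrArg R.1 (map_sub (algebraMap G K) yG (algebraMap k G c)).symm).trans (he₁ _)
    have hQlt : Q₁.1 (yG - algebraMap k G c) < 1 := by
      by_contra hge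
      push Not at hge
      exact absurd (h1 ▸ hdiff) (not_lt.2 (one_le_pow₀ hge))
    have h3 : R.1 (φ y - algebraMap k K c) < 1 := by
      have h4 : R'.1 (y - algebraMap k K c) = Q₁.1 (yG - algebraMap k G c) ^ e₂ :=
        (congrArg R'.1 (map_sub (algebraMap G K) yG (algebraMap k G c)).symm).trans (he₂ _)
      have h5 : R'.1 (y - algebraMap k K c) < 1 :=
        h4 ▸ pow_lt_one₀ zero_le hQlt (Ext.pos_of_isOverWith he₂).ne'
      rwa [hR', map_sub, φ.commutes] at h5
    have h6 : R.1 (y - φ y) < 1 := by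
      rw [show y - φ y = (y - algebraMap k K c) - (φ y - algebraMap k K c) by ring]
      exact R.1.map_sub_lt hdiff h3
    rcases (Place.val_lt_one_iff R).1 h6 with h7 | h7
    · exact hyφ (sub_eq_zero.1 h7).symm
    · omega
  -- the functions of the second field
  obtain ⟨B, hBd, hB0, hBs⟩ := exists_nonspecial hG {Q₁, Q₂}
  have hBQ : B Q₁ = 0 ∧ B Q₂ = 0 := ⟨hBs _ (by simp), hBs _ (by simp)⟩
  have hfun : ∀ Q Q' : _root_.FunFld.Place k G, Q ≠ Q' → B Q = 0 → B Q' = 0 →
      ∃ z : G, z ≠ 0 ∧ Q.ord z = -1 ∧ 0 ≤ Q'.ord z ∧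
        z ∈ _root_.FunFld.L (B + Finsupp.single Q 1) := by
    intro Q Q' hQQ hBQ hBQ'
    have hl := Riemann.riemann hG (B + Finsupp.single Q 1)
    rw [deg_add, deg_single, Rational.deg_eq_one hG, hBd] at hl
    push_cast at hl
    obtain ⟨z, hz0, hz⟩ := Riemann.exists_ne_zero_of_ell_pos
      (D := B + Finsupp.single Q 1) (by omega)
    have h1 := (mem_L_iff_ord.1 hz).resolve_left hz0
    refine ⟨z, hz0, le_antisymm ?_ ?_, ?_, hz⟩
    · by_contra hlt
      have hzB : z ∈ _root_.FunFld.L B := mem_L_iff_ord.2 (Or.inr fun T => by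
        rcases eq_or_ne T Q with rfl | hT
        · rw [hBQ]; omega
        · have := h1 T
          rw [Finsupp.add_apply, Finsupp.single_eq_of_ne hT, add_zero] at this
          exact this)
      haveI := finiteDimensional_L hG B
      have hbot : _root_.FunFld.L B = ⊥ := Submodule.finrank_eq_zero.1 hB0
      rw [hbot] at hzB
      exact hz0 ((Submodule.mem_bot k).1 hzB)
    · have := h1 Q
      rw [Finsupp.add_apply, hBQ, Finsupp.single_eq_same] at this
      omega
    · have := h1 Q'
      rw [Finsupp.add_apply, hBQ', Finsupp.single_eq_of_ne hQQ.symm] at this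
      omega
  obtain ⟨z₁, hz₁0, hz₁1, hz₁2, hz₁L⟩ := hfun Q₁ Q₂ hQ hBQ.1 hBQ.2
  obtain ⟨z₂, hz₂0, hz₂1, hz₂2, hz₂L⟩ := hfun Q₂ Q₁ hQ.symm hBQ.2 hBQ.1
  -- the count
  let gF := _root_.FunFld.genus k F
  let gG := _root_.FunFld.genus k G
  let gK := _root_.FunFld.genus k K
  let m : ℕ := 2 * gF + gK
  let A : _root_.FunFld.Divisor k F := Finsupp.single P (m : ℤ)
  let BG : _root_.FunFld.Divisor k G := B + Finsupp.single Q₁ 1 + Finsupp.single Q₂ 1
  let D : _root_.FunFld.Divisor k K := _root_.FunFld.conorm K A + _root_.FunFld.conorm K BG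
  have hmem : ∀ (f : F) (z : G), f ∈ _root_.FunFld.L A → z ∈ _root_.FunFld.L BG →
      (f : K) * (z : K) ∈ _root_.FunFld.L D := by
    intro f z hf hz
    rcases eq_or_ne f 0 with rfl | hf0
    · simp
    rcases eq_or_ne z 0 with rfl | hz0
    · simp
    refine mem_L_iff_ord.2 (Or.inr fun S => ?_)
    obtain ⟨PS, eS, -, hS⟩ := Ext.exists_place_below hF S
    obtain ⟨QS, dS, -, hS'⟩ := Ext.exists_place_below hG S
    have hf1 := (mem_L_iff_ord.1 hf).resolve_left hf0 PS
    have hz1 := (mem_L_iff_ord.1 hz).resolve_left hz0 QS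
    have e1 := Ext.ord_map hS f
    have e2 := Ext.ord_map hS' z
    change S.ord (f : K) = _ at e1
    change S.ord (z : K) = _ at e2
    rw [Finsupp.add_apply, Ext.conorm_apply hF A hS, Ext.conorm_apply hG BG hS',
      Place.ord_mul S (fun e => hf0 (Subtype.ext e)) (fun e => hz0 (Subtype.ext e)), e1, e2]
    have h1 : (eS : ℤ) * -A PS ≤ (eS : ℤ) * PS.ord f := mul_le_mul_of_nonneg_left hf1 (by positivity)
    have h2 : (dS : ℤ) * -BG QS ≤ (dS : ℤ) * QS.ord z := mul_le_mul_of_nonneg_left hz1 (by positivity)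
    linarith
  have hzmem : ∀ {z : G} {Q : _root_.FunFld.Place k G}, (Q = Q₁ ∨ Q = Q₂) →
      z ∈ _root_.FunFld.L (B + Finsupp.single Q 1) → z ∈ _root_.FunFld.L BG := by
    intro z Q hQ' hz
    refine L_mono (fun T => ?_) hz
    simp only [BG, Finsupp.add_apply]
    have h1 : (0 : ℤ) ≤ (Finsupp.single Q₁ (1 : ℤ)) T := Finsupp.single_nonneg.2 zero_le_one T
    have h2 : (0 : ℤ) ≤ (Finsupp.single Q₂ (1 : ℤ)) T := Finsupp.single_nonneg.2 zero_le_one T
    rcases hQ' with rfl | rfl <;> omega
  haveI := finiteDimensional_L hF A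
  haveI := finiteDimensional_L hK D
  let Φ : (_root_.FunFld.L A × _root_.FunFld.L A) →ₗ[k] _root_.FunFld.L D :=
    { toFun := fun p => ⟨((p.1.1 : F) : K) * (z₁ : K) + ((p.2.1 : F) : K) * (z₂ : K),
        add_mem (hmem _ _ p.1.2 (hzmem (Or.inl rfl) hz₁L)) (hmem _ _ p.2.2 (hzmem (Or.inr rfl) hz₂L))⟩
      map_add' := fun p q => Subtype.ext (by
        change ((p.1.1 + q.1.1 : F) : K) * (z₁ : K) + ((p.2.1 + q.2.1 : F) : K) * (z₂ : K) = _
        push_cast
        ring)
      map_smul' := fun c p => Subtype.ext (by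
        change ((c • p.1.1 : F) : K) * (z₁ : K) + ((c • p.2.1 : F) : K) * (z₂ : K) = c • _
        rw [IntermediateField.coe_smul, IntermediateField.coe_smul, smul_mul_assoc, smul_mul_assoc,
          ← smul_add]) }
  have hΦ : Function.Injective Φ := by
    refine (injective_iff_map_eq_zero Φ).2 fun p hp => ?_
    have h0 : ((p.1.1 : F) : K) * (z₁ : K) = -(((p.2.1 : F) : K) * (z₂ : K)) :=
      eq_neg_of_add_eq_zero_left (congrArg Subtype.val hp)
    have hz₁K : (z₁ : K) ≠ 0 := fun e => hz₁0 (Subtype.ext e)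
    have hz₂K : (z₂ : K) ≠ 0 := fun e => hz₂0 (Subtype.ext e)
    have hp2 : p.2.1 = 0 := by
      by_contra hne2
      have hp2K : ((p.2.1 : F) : K) ≠ 0 := fun e => hne2 (Subtype.ext e)
      have hp1K : ((p.1.1 : F) : K) ≠ 0 := fun e => by
        rw [e, zero_mul, eq_comm, neg_eq_zero] at h0
        exact mul_ne_zero hp2K hz₂K h0
      have a1 := congrArg R.ord h0
      have a2 := congrArg R'.ord h0
      rw [Place.ord_neg, Place.ord_mul R hp1K hz₁K, Place.ord_mul R hp2K hz₂K] at a1
      rw [Place.ord_neg, Place.ord_mul R' hp1K hz₁K, Place.ord_mul R' hp2K hz₂K] at a2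
      have b1 := Ext.ord_map he p.1.1
      have b2 := Ext.ord_map he p.2.1
      have b3 := Ext.ord_map he' p.1.1
      have b4 := Ext.ord_map he' p.2.1
      have c1 := Ext.ord_map he₁ z₁
      have c2 := Ext.ord_map he₁ z₂
      have c3 := Ext.ord_map he₂ z₁
      have c4 := Ext.ord_map he₂ z₂
      change R.ord ((p.1.1 : F) : K) = _ at b1
      change R.ord ((p.2.1 : F) : K) = _ at b2
      change R'.ord ((p.1.1 : F) : K) = _ at b3
      change R'.ord ((p.2.1 : F) : K) = _ at b4
      change R.ord (z₁ : K) = _ at c1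
      change R.ord (z₂ : K) = _ at c2
      change R'.ord (z₁ : K) = _ at c3
      change R'.ord (z₂ : K) = _ at c4
      rw [hz₁1] at c1
      rw [hz₂1] at c4
      have p1 : (1 : ℤ) ≤ e₁ := by exact_mod_cast Ext.pos_of_isOverWith he₁
      have p2 : (1 : ℤ) ≤ e₂ := by exact_mod_cast Ext.pos_of_isOverWith he₂
      have q1 : (0 : ℤ) ≤ (e₁ : ℤ) * Q₁.ord z₂ := mul_nonneg (by positivity) hz₂2
      have q2 : (0 : ℤ) ≤ (e₂ : ℤ) * Q₂.ord z₁ := mul_nonneg (by positivity) hz₁2
      linarith
    have hp1 : p.1.1 = 0 := by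
      rw [hp2] at h0
      have : ((p.1.1 : F) : K) * (z₁ : K) = 0 := h0.trans (by simp)
      exact Subtype.ext ((mul_eq_zero.1 this).resolve_right hz₁K)
    exact Prod.ext (Subtype.ext hp1) (Subtype.ext hp2)
  have hcount := LinearMap.finrank_le_finrank_of_injective hΦ
  rw [Module.finrank_prod] at hcount
  change _root_.FunFld.ell A + _root_.FunFld.ell A ≤ _root_.FunFld.ell D at hcount
  have hAd : A.deg = m := by rw [deg_single, Rational.deg_eq_one hF]; simp
  have hA := Weil.ell_eq_of_deg_ge hF (D := A) (by rw [hAd]; push_cast [m]; omega)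
  have hBGd : BG.deg = (gG : ℤ) + 1 := by
    rw [deg_add, deg_add, deg_single, deg_single, Rational.deg_eq_one hG, Rational.deg_eq_one hG, hBd]
    ring
  have hDd : D.deg = 2 * (m : ℤ) + 2 * ((gG : ℤ) + 1) := by
    rw [deg_add, Ext.deg_conorm hF, Ext.deg_conorm hG, hF2, hG2, hAd, hBGd]; rfl
  have hD := Weil.ell_eq_of_deg_ge hK (D := D) (by rw [hDd]; push_cast [m]; omega)
  rw [hAd] at hA
  rw [hDd] at hD
  omega

end Groth.Agent.Lib.CurveFF.TwoQuotients
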