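import Mathlib.RingTheory.OrderOfVanishing.Noetherian
import Mathlib.LinearAlgebra.Dimension.Constructions
import Mathlib.LinearAlgebra.FiniteDimensional.Lemmas

/-!
The valuations of the nonzero members of a finite-dimensional space of elements of a discrete
valuation ring with residue field `k` take exactly as many values as the dimension.
-/

noncomputable section
set_option autoImplicit false
universe u v w

namespace Groth.Agent.Lib.CurveFF.ValueCount

open IsDiscreteValuationRing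

variable {k : Type u} [Field k] {O : Type v} [CommRing O] [IsDomain O] [IsDiscreteValuationRing O]
  [Algebra k O] (hres : ∀ a : O, ∃ c : k, a - algebraMap k O c ∈ IsLocalRing.maximalIdeal O)

include hres in
theorem ncard_values : ∀ (d : ℕ) (V : Submodule k O) [FiniteDimensional k V],
    Module.finrank k V = d → (addVal O '' {v | v ∈ V ∧ v ≠ 0}).Finite ∧
      (addVal O '' {v | v ∈ V ∧ v ≠ 0}).ncard = d := by
  classical
  obtain ⟨ϖ, hϖ⟩ := exists_irreducible O
  intro d
  induction d with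
  | zero =>
    intro V _ hd
    have hV : V = ⊥ := Submodule.finrank_eq_zero.1 hd
    have : {v | v ∈ V ∧ v ≠ 0} = (∅ : Set O) := by
      ext v; simp [hV]
    simp [this]
  | succ d ih =>
    intro V _ hd
    have hne : ∃ v, v ∈ V ∧ v ≠ 0 := by
      by_contra hc
      push Not at hc
      have : V = ⊥ := (Submodule.eq_bot_iff V).2 hc
      rw [this, finrank_bot] at hd
      omega
    have hex : ∃ n : ℕ, ∃ v, v ∈ V ∧ v ≠ 0 ∧ addVal O v = n := by
      obtain ⟨v, hv, hv0⟩ := hne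
      obtain ⟨n, u, rfl⟩ := eq_unit_mul_pow_irreducible hv0 hϖ
      exact ⟨n, _, hv, hv0, addVal_def' u hϖ n⟩
    obtain ⟨v₀, hv₀, hv₀0, hv₀n⟩ := Nat.find_spec hex
    set n := Nat.find hex with hn
    have hmin : ∀ v ∈ V, ϖ ^ n ∣ v := by
      intro v hv
      by_cases hv0 : v = 0
      · subst hv0; exact dvd_zero _
      obtain ⟨m, u, rfl⟩ := eq_unit_mul_pow_irreducible hv0 hϖ
      exact dvd_mul_of_dvd_right (pow_dvd_pow ϖ (Nat.find_le ⟨_, hv, hv0, addVal_def' u hϖ m⟩)) _
    let W : Submodule k O := V ⊓ (Ideal.span {ϖ ^ (n + 1)}).restrictScalars k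
    have hvW : ∀ v, v ∈ V → v ≠ 0 → (v ∈ W ↔ addVal O v ≠ n) := by
      intro v hv hv0
      obtain ⟨m, u, rfl⟩ := eq_unit_mul_pow_irreducible hv0 hϖ
      have hnm : n ≤ m := Nat.find_le ⟨_, hv, hv0, addVal_def' u hϖ m⟩
      rw [addVal_def' u hϖ m, Ne, Nat.cast_inj]
      constructor
      · rintro ⟨-, h⟩ rfl
        have h1 := Ideal.mem_span_singleton.1 h
        rw [mul_comm, Units.dvd_mul_right] at h1
        exact absurd ((pow_dvd_pow_iff hϖ.ne_zero hϖ.not_isUnit).1 h1) (by omega)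
      · intro h
        exact ⟨hv, Ideal.mem_span_singleton.2 (dvd_mul_of_dvd_right (pow_dvd_pow ϖ (by omega)) _)⟩
    have hv₀W : v₀ ∉ W := fun h => (hvW v₀ hv₀ hv₀0).1 h hv₀n
    have hdec : ∀ v ∈ V, ∃ c : k, v - c • v₀ ∈ W := by
      intro v hv
      obtain ⟨a, ha⟩ := hmin v hv
      obtain ⟨m, u, hu⟩ := eq_unit_mul_pow_irreducible hv₀0 hϖ
      have hm : m = n := by
        rw [hu, addVal_def' u hϖ m] at hv₀n
        exact_mod_cast hv₀n
      subst hm
      obtain ⟨c, hc⟩ := hres (a * (↑u⁻¹ : O))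
      refine ⟨c, sub_mem hv (Submodule.smul_mem _ _ hv₀), ?_⟩
      obtain ⟨b, hb⟩ := Ideal.mem_span_singleton.1 (hϖ.maximalIdeal_eq ▸ hc)
      refine Ideal.mem_span_singleton.2 ⟨(u : O) * b, ?_⟩
      rw [ha, Algebra.smul_def, hu, pow_succ]
      have h2 : a * (↑u⁻¹ : O) * (u : O) = a := by rw [mul_assoc, Units.inv_mul, mul_one]
      linear_combination (u : O) * ϖ ^ n * hb - ϖ ^ n * h2
    haveI : FiniteDimensional k W := Submodule.finiteDimensional_of_le inf_le_left
    have hsup : W ⊔ (k ∙ v₀) = V := by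
      refine le_antisymm (sup_le inf_le_left ((Submodule.span_singleton_le_iff_mem _ _).2 hv₀)) fun v hv => ?_
      obtain ⟨c, hc⟩ := hdec v hv
      exact Submodule.mem_sup.2 ⟨_, hc, _, Submodule.smul_mem _ c (Submodule.mem_span_singleton_self _),
        by abel⟩
    have hinf : W ⊓ (k ∙ v₀) = ⊥ := by
      refine (Submodule.eq_bot_iff _).2 fun v hv => ?_
      obtain ⟨c, rfl⟩ := Submodule.mem_span_singleton.1 hv.2
      by_contra hne'
      have hc : c ≠ 0 := fun h => hne' (by rw [h, zero_smul])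
      exact hv₀W (by simpa [smul_smul, hc] using Submodule.smul_mem W c⁻¹ hv.1)
    have hWd : Module.finrank k W = d := by
      have h := Submodule.finrank_sup_add_finrank_inf_eq W (k ∙ v₀)
      rw [hsup, hinf, finrank_bot, finrank_span_singleton hv₀0, hd] at h
      omega
    obtain ⟨hfin, hcard⟩ := ih W hWd
    have hset : addVal O '' {v | v ∈ V ∧ v ≠ 0} =
        insert (n : ℕ∞) (addVal O '' {v | v ∈ W ∧ v ≠ 0}) := by
      refine Set.Subset.antisymm ?_ (Set.insert_subset ⟨v₀, ⟨hv₀, hv₀0⟩, hv₀n⟩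
        (Set.image_mono fun v hv => ⟨hv.1.1, hv.2⟩))
      rintro _ ⟨v, ⟨hv, hv0⟩, rfl⟩
      by_cases h : v ∈ W
      · exact Or.inr ⟨v, ⟨h, hv0⟩, rfl⟩
      · exact Or.inl (not_not.1 (mt (hvW v hv hv0).2 h))
    have hnot : (n : ℕ∞) ∉ addVal O '' {v | v ∈ W ∧ v ≠ 0} := by
      rintro ⟨v, ⟨hv, hv0⟩, h⟩
      exact (hvW v hv.1 hv0).1 hv h
    rw [hset]
    exact ⟨hfin.insert _, by rw [Set.ncard_insert_of_notMem hnot hfin, hcard]⟩

end Groth.Agent.Lib.CurveFF.ValueCount
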